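import Mathlib

/-!
# Geometric irreducibility and connectedness over algebraically closed fields

Tensor products of domains over an algebraically closed field are domains; consequently irreducible
(resp. connected) schemes over an algebraically closed field are geometrically irreducible
(resp. connected).
-/

set_option autoImplicit false
set_option linter.style.haveILetI false

universe u v w

open CategoryTheory Limits AlgebraicGeometry TensorProduct

namespace Groth.Agent.H19Grp

section algebra

/-- Over an algebraically closed field, a nonzero element of a finitely generated domain does not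
vanish at some rational point. -/
theorem exists_algHom_ne_zero {k : Type u} {A : Type v} [Field k] [IsAlgClosed k] [CommRing A]
    [IsDomain A] [Algebra k A] [Algebra.FiniteType k A] {a : A} (ha : a ≠ 0) :
    ∃ φ : A →ₐ[k] k, φ a ≠ 0 := by
  haveI : IsJacobsonRing A := isJacobsonRing_of_finiteType (A := k)
  have h : a ∉ Ideal.jacobson (⊥ : Ideal A) := by
    rw [← Ideal.radical_eq_jacobson, (Ideal.isPrime_bot (α := A)).isRadical.radical,
      Ideal.mem_bot]
    exact ha
  rw [Ideal.jacobson, Ideal.mem_sInf] at h
  push Not at h
  obtain ⟨m, ⟨-, hm⟩, ham⟩ := h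
  haveI := hm
  letI := Ideal.Quotient.field m
  haveI : Algebra.FiniteType k (A ⧸ m) :=
    Algebra.FiniteType.of_surjective (Ideal.Quotient.mkₐ k m) Ideal.Quotient.mk_surjective
  haveI := finite_of_finite_type_of_isJacobsonRing k (A ⧸ m)
  let e : k ≃ₐ[k] (A ⧸ m) := AlgEquiv.ofBijective (Algebra.ofId k (A ⧸ m))
    IsAlgClosed.algebraMap_bijective_of_isIntegral
  refine ⟨e.symm.toAlgHom.comp (Ideal.Quotient.mkₐ k m), fun h0 => ham ?_⟩
  simpa [Ideal.Quotient.eq_zero_iff_mem] using h0

/-- Auxiliary case of finitely generated algebras. -/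
theorem tensor_eq_zero_or_of_finiteType {k : Type u} {A : Type v} {B : Type w} [Field k]
    [IsAlgClosed k] [CommRing A] [IsDomain A] [Algebra k A] [Algebra.FiniteType k A]
    [CommRing B] [IsDomain B] [Algebra k B] (x y : A ⊗[k] B) (hxy : x * y = 0) :
    x = 0 ∨ y = 0 := by
  classical
  by_contra! h
  obtain ⟨hx, hy⟩ := h
  let b := Module.Basis.ofVectorSpace k B
  let co := TensorProduct.equivFinsuppOfBasisRight (M := A) b
  have key : ∀ (φ : A →ₐ[k] k) (z : A ⊗[k] B) i,
      b.repr (Algebra.TensorProduct.lift ((Algebra.ofId k B).comp φ) (AlgHom.id k B)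
        (fun _ _ => Commute.all _ _) z) i = φ (co z i) := by
    intro φ z i
    induction z using TensorProduct.induction_on with
    | zero => simp
    | tmul a c =>
      rw [Algebra.TensorProduct.lift_tmul,
        TensorProduct.equivFinsuppOfBasisRight_apply_tmul_apply, map_smul]
      simp only [AlgHom.comp_apply, Algebra.ofId_apply, AlgHom.id_apply, smul_eq_mul]
      rw [← Algebra.smul_def, map_smul, Finsupp.smul_apply, smul_eq_mul, mul_comm]
    | add z w hz hw => simp [hz, hw]
  obtain ⟨i, hi⟩ : ∃ i, co x i ≠ 0 := Finsupp.ne_iff.mp fun hc => hx (co.map_eq_zero_iff.mp hc)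
  obtain ⟨j, hj⟩ : ∃ j, co y j ≠ 0 := Finsupp.ne_iff.mp fun hc => hy (co.map_eq_zero_iff.mp hc)
  obtain ⟨φ, hφ⟩ := exists_algHom_ne_zero (k := k) (mul_ne_zero hi hj)
  rw [map_mul] at hφ
  let L := Algebra.TensorProduct.lift ((Algebra.ofId k B).comp φ) (AlgHom.id k B)
    (fun _ _ => Commute.all _ _)
  have hL : L x * L y = 0 := by rw [← map_mul, hxy, map_zero]
  rcases mul_eq_zero.mp hL with h0 | h0
  · exact left_ne_zero_of_mul hφ (by rw [← key φ x i]; simp [L] at h0; simp [h0])
  · exact right_ne_zero_of_mul hφ (by rw [← key φ y j]; simp [L] at h0; simp [h0])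

/-- The tensor product of two domains over an algebraically closed field is a domain. -/
theorem isDomain_tensorProduct {k : Type u} (A : Type v) (B : Type w) [Field k] [IsAlgClosed k]
    [CommRing A] [IsDomain A] [Algebra k A] [CommRing B] [IsDomain B] [Algebra k B] :
    IsDomain (A ⊗[k] B) := by
  classical
  haveI : NoZeroDivisors (A ⊗[k] B) := by
    refine ⟨fun {x y} hxy => ?_⟩
    obtain ⟨s, hs⟩ := TensorProduct.exists_finset x
    obtain ⟨t, ht⟩ := TensorProduct.exists_finset y
    let S : Subalgebra k A := Algebra.adjoin k ↑((s ∪ t).image Prod.fst)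
    haveI : Algebra.FiniteType k S :=
      (Subalgebra.fg_iff_finiteType S).mp ⟨_, rfl⟩
    let ι' : S ⊗[k] B →ₐ[k] A ⊗[k] B := Algebra.TensorProduct.map S.val (AlgHom.id k B)
    have hinj : Function.Injective ι' :=
      Module.Flat.rTensor_preserves_injective_linearMap (M := B) S.val.toLinearMap
        Subtype.val_injective
    have mem : ∀ p ∈ s ∪ t, (p : A × B).1 ∈ S := fun p hp =>
      Algebra.subset_adjoin (Finset.mem_coe.mpr (Finset.mem_image_of_mem _ hp))
    have lift : ∀ u : Finset (A × B), u ⊆ s ∪ t → ∃ z, ι' z = ∑ p ∈ u, p.1 ⊗ₜ[k] p.2 := by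
      intro u
      induction u using Finset.induction_on with
      | empty => exact fun _ => ⟨0, by simp⟩
      | insert p u hp ih =>
        intro hu
        obtain ⟨z, hz⟩ := ih (fun q hq => hu (Finset.mem_insert_of_mem hq))
        exact ⟨(⟨p.1, mem p (hu (Finset.mem_insert_self p u))⟩ : S) ⊗ₜ p.2 + z,
          by simp [Finset.sum_insert hp, hz, ι']⟩
    obtain ⟨x', hx'⟩ := lift s Finset.subset_union_left
    obtain ⟨y', hy'⟩ := lift t Finset.subset_union_right
    rw [← hs] at hx'
    rw [← ht] at hy'
    have : x' * y' = 0 := hinj (by rw [map_mul, hx', hy', hxy, map_zero])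
    rcases tensor_eq_zero_or_of_finiteType x' y' this with h | h
    · left; rw [← hx', h, map_zero]
    · right; rw [← hy', h, map_zero]
  haveI : Nontrivial (A ⊗[k] B) := inferInstance
  exact NoZeroDivisors.to_isDomain _

end algebra

section scheme

variable {k : Type u} [Field k] [IsAlgClosed k]

/-- The product of the spectra of two domains over an algebraically closed field is irreducible. -/
theorem irreducibleSpace_pullback_Spec {A B : CommRingCat.{u}} [IsDomain A] [IsDomain B]
    (f : Spec A ⟶ Spec (CommRingCat.of k)) (g : Spec B ⟶ Spec (CommRingCat.of k)) :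
    IrreducibleSpace ↥(pullback f g) := by
  obtain ⟨φ, rfl⟩ := Spec.map_surjective f
  obtain ⟨ψ, rfl⟩ := Spec.map_surjective g
  letI := φ.hom.toAlgebra
  letI := ψ.hom.toAlgebra
  haveI := isDomain_tensorProduct (k := k) A B
  let e := pullbackSpecIso k A B
  rw [show φ = CommRingCat.ofHom (algebraMap k A) from rfl,
    show ψ = CommRingCat.ofHom (algebraMap k B) from rfl]
  exact e.hom.homeomorph.irreducibleSpace_iff.mpr inferInstance

variable {X : Scheme.{u}} (f : X ⟶ Spec (CommRingCat.of k)) {K : Type u} [Field K]
  (g : Spec (CommRingCat.of K) ⟶ Spec (CommRingCat.of k))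

/-- The fibres of the projection `X_K ⟶ X` over an algebraically closed field are irreducible. -/
theorem isIrreducible_preimage_fst (x : X) : IsIrreducible (pullback.fst f g ⁻¹' {x}) := by
  haveI := irreducibleSpace_pullback_Spec (X.fromSpecResidueField x ≫ f) g
  haveI : IrreducibleSpace ↥((pullback.fst f g).fiber x) :=
    (pullbackSymmetry _ _ ≪≫ pullbackRightPullbackFstIso f g
      (X.fromSpecResidueField x)).hom.homeomorph.irreducibleSpace_iff.mpr inferInstance
  rw [← (pullback.fst f g).range_fiberι, ← Set.image_univ]
  exact (IrreducibleSpace.isIrreducible_univ _).image _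
    ((pullback.fst f g).fiberι x).continuous.continuousOn

omit [IsAlgClosed k] in
theorem isOpenMap_pullback_fst : IsOpenMap (pullback.fst f g) := by
  exact (pullback.fst f g).isOpenMap

theorem surjective_pullback_fst : Function.Surjective (pullback.fst f g) := fun x => by
  obtain ⟨z, hz⟩ := (isIrreducible_preimage_fst f g x).nonempty
  exact ⟨z, hz⟩

theorem irreducibleSpace_of_isPullback [IrreducibleSpace X] :
    IrreducibleSpace ↥(pullback f g) := by
  rw [irreducibleSpace_def]
  simpa using (IrreducibleSpace.isIrreducible_univ X).preimage_of_isPreirreducible_fiber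
    (pullback.fst f g) (isOpenMap_pullback_fst f g)
    (fun x => (isIrreducible_preimage_fst f g x).isPreirreducible)
    (by rw [(surjective_pullback_fst f g).range_eq, Set.inter_univ]; exact Set.univ_nonempty)

theorem connectedSpace_of_isPullback [ConnectedSpace X] : ConnectedSpace ↥(pullback f g) := by
  have hq := ((isOpenMap_pullback_fst f g).isQuotientMap (pullback.fst f g).continuous
    (surjective_pullback_fst f g)).isCoinducing
  simpa [connectedSpace_iff_univ] using hq.isConnected_preimage_of_isClosed
    (fun x => (isIrreducible_preimage_fst f g x).isConnected) isClosed_univ isConnected_univ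

/-- An irreducible scheme over an algebraically closed field is geometrically irreducible. -/
theorem geometricallyIrreducible_of_irreducibleSpace [IrreducibleSpace X] :
    GeometricallyIrreducible f := by
  refine ⟨fun K _ y Z fst snd h => ?_⟩
  haveI := irreducibleSpace_of_isPullback f y
  exact h.isoPullback.hom.homeomorph.irreducibleSpace_iff.mpr inferInstance

/-- A connected scheme over an algebraically closed field is geometrically connected. -/
theorem geometricallyConnected_of_connectedSpace [ConnectedSpace X] :
    GeometricallyConnected f := by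
  refine ⟨fun K _ y Z fst snd h => ?_⟩
  haveI := connectedSpace_of_isPullback f y
  exact h.isoPullback.hom.homeomorph.connectedSpace_iff.mpr inferInstance

end scheme

end Groth.Agent.H19Grp
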