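import Groth.Agent.H11Proj.ProjSpace
import Mathlib.RingTheory.MvPolynomial.Homogeneous
import Mathlib.AlgebraicGeometry.Cover.Open

/-!
# Points of projective space given by unimodular vectors
-/

set_option autoImplicit false
set_option maxHeartbeats 1000000
set_option linter.style.haveILetI false
set_option backward.isDefEq.respectTransparency false

universe u

open CategoryTheory AlgebraicGeometry MvPolynomial HomogeneousLocalization CohB1

namespace Groth.Agent.H19Grp.ProjPoint

open Groth.Agent.H11Proj.ProjSpace (X_mem irrelevant_le_span)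

variable {k : Type u} [CommRing k] {n : ℕ}
variable {B B' : Type u} [CommRing B] [CommRing B'] [Algebra k B] [Algebra k B']

/-- Evaluation of homogeneous fractions with denominator a power of `X i` at a vector whose `i`-th
coordinate is a unit. -/
noncomputable def evalAway (i : Fin (n + 1)) (s : Fin (n + 1) → B) (h : IsUnit (s i)) :
    Away (polyGrading n k) (X i) →+* B :=
  (IsLocalization.Away.lift (S := Localization.Away (X i : MvPolynomial (Fin (n + 1)) k)) (X i)
    (g := (aeval (R := k) s).toRingHom) (by simpa using h)).comp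
      (algebraMap (Away (polyGrading n k) (X i)) (Localization.Away (X i : MvPolynomial (Fin (n + 1)) k)))

theorem evalAway_mk_mul (i : Fin (n + 1)) (s : Fin (n + 1) → B) (h : IsUnit (s i)) {m : ℕ}
    {a : MvPolynomial (Fin (n + 1)) k} (ha : a ∈ polyGrading n k (m • 1)) :
    evalAway i s h (Away.mk (polyGrading n k) (X_mem n k i) m a ha) * s i ^ m = aeval s a := by
  let l : Localization.Away (X i : MvPolynomial (Fin (n + 1)) k) →+* B :=
    IsLocalization.Away.lift (X i) (g := (aeval (R := k) s).toRingHom) (by simpa using h)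
  have hl : ∀ z, l (algebraMap (MvPolynomial (Fin (n + 1)) k) _ z) = aeval s z := fun z =>
    IsLocalization.Away.lift_eq _ _ z
  show l (Away.mk (polyGrading n k) (X_mem n k i) m a ha).val * s i ^ m = _
  rw [Away.val_mk, ← hl a, show s i ^ m = l (algebraMap (MvPolynomial (Fin (n + 1)) k) _ (X i ^ m)) by
    rw [hl, map_pow, aeval_X], ← map_mul, Localization.mk_eq_mk', IsLocalization.mk'_spec_mk]

theorem evalAway_congr {i : Fin (n + 1)} {s t : Fin (n + 1) → B} (e : s = t) (hs : IsUnit (s i)) :
    evalAway (k := k) i s hs = evalAway i t (e ▸ hs) := by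
  subst e; rfl

theorem evalAway_smul (i : Fin (n + 1)) (s : Fin (n + 1) → B) (h : IsUnit (s i)) (c : B) (hc : IsUnit c) :
    evalAway (k := k) i (fun j => c * s j) (hc.mul h) = evalAway i s h := by
  refine RingHom.ext fun z => ?_
  obtain ⟨m, a, ha, rfl⟩ := Away.mk_surjective (polyGrading n k) (X_mem n k i) z
  apply (h.pow m).mul_right_cancel
  apply (hc.pow m).mul_left_cancel
  rw [evalAway_mk_mul, mul_left_comm, ← mul_pow, evalAway_mk_mul]
  have hh : a.IsHomogeneous m := by simpa using ha
  rw [aeval_def, aeval_def, eval₂_eq, eval₂_eq, Finset.mul_sum]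
  refine Finset.sum_congr rfl fun d hd => ?_
  have hdeg := hh (mem_support_iff.mp hd)
  have e : ∏ j ∈ d.support, (c * s j) ^ d j = c ^ m * ∏ j ∈ d.support, s j ^ d j := by
    rw [Finset.prod_congr rfl fun j _ => mul_pow c (s j) (d j), Finset.prod_mul_distrib,
      Finset.prod_pow_eq_pow_sum]
    congr 2
    rw [← hdeg, Finsupp.weight_apply, Finsupp.sum]
    simp
  rw [e]
  ring

theorem comp_evalAway (φ : B →ₐ[k] B') (i : Fin (n + 1)) (s : Fin (n + 1) → B) (h : IsUnit (s i)) :
    (φ : B →+* B').comp (evalAway (k := k) i s h) = evalAway i (fun j => φ (s j)) (h.map φ) := by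
  refine RingHom.ext fun z => ?_
  obtain ⟨m, a, ha, rfl⟩ := Away.mk_surjective (polyGrading n k) (X_mem n k i) z
  apply ((h.map φ).pow m).mul_right_cancel
  rw [evalAway_mk_mul, RingHom.comp_apply, RingHom.coe_coe, ← map_pow, ← map_mul, evalAway_mk_mul,
    ← MvPolynomial.comp_aeval_apply]

theorem mul_eq_of_evalAway_eq (i : Fin (n + 1)) (s t : Fin (n + 1) → B) (hs : IsUnit (s i))
    (ht : IsUnit (t i)) (e : evalAway (k := k) i s hs = evalAway i t ht) (j : Fin (n + 1)) :
    s j * t i = t j * s i := by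
  have ha : (X j : MvPolynomial (Fin (n + 1)) k) ∈ polyGrading n k (1 • 1) := by
    rw [one_smul]; exact X_mem n k j
  have h1 := evalAway_mk_mul i s hs ha
  have h2 := evalAway_mk_mul i t ht ha
  rw [pow_one, aeval_X] at h1 h2
  rw [← h1, ← h2, e]
  ring

variable (k) in
/-- A vector is unimodular when its coordinates generate the unit ideal. -/
def IsUnimod (s : Fin (n + 1) → B) : Prop := Ideal.span (Set.range s) = ⊤

theorem IsUnimod.map {s : Fin (n + 1) → B} (h : IsUnimod s) (φ : B →+* B') : IsUnimod fun j => φ (s j) := by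
  have := congrArg (Ideal.map φ) h
  rw [Ideal.map_span, Ideal.map_top, ← Set.range_comp] at this
  exact this

/-- The evaluation map on global sections. -/
noncomputable def evalΓ (k : Type u) [CommRing k] [Algebra k B] (s : Fin (n + 1) → B) :
    MvPolynomial (Fin (n + 1)) k →+* Γ(Spec (CommRingCat.of B), ⊤) :=
  (Scheme.ΓSpecIso (CommRingCat.of B)).inv.hom.comp (aeval (R := k) s).toRingHom

theorem map_irrelevant (s : Fin (n + 1) → B) (h : IsUnimod s) :
    (HomogeneousIdeal.irrelevant (polyGrading n k)).toIdeal.map (evalΓ k s) = ⊤ := by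
  have hsp : Ideal.span (Set.range (X : Fin (n + 1) → MvPolynomial (Fin (n + 1)) k)) ≤
      (HomogeneousIdeal.irrelevant (polyGrading n k)).toIdeal := by
    refine Ideal.span_le.mpr ?_
    rintro _ ⟨i, rfl⟩
    exact HomogeneousIdeal.mem_irrelevant_of_mem _ one_pos (X_mem n k i)
  rw [eq_top_iff]
  refine le_trans ?_ (Ideal.map_mono hsp)
  rw [evalΓ, ← Ideal.map_map, Ideal.map_span, ← Set.range_comp]
  have : Ideal.span (Set.range ((aeval (R := k) s).toRingHom ∘ X)) = ⊤ := by
    refine Eq.trans ?_ h
    congr 2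
    funext i
    simp
  rw [this, Ideal.map_top]

/-- The point of projective space with the given coordinates. -/
noncomputable def pt (k : Type u) [CommRing k] [Algebra k B] (s : Fin (n + 1) → B) (h : IsUnimod s) :
    Spec (CommRingCat.of B) ⟶ ProjSpace n k :=
  Proj.fromOfGlobalSections (polyGrading n k) (evalΓ k s) (map_irrelevant s h)

/-- The point in the `i`-th chart. -/
noncomputable def chartPt (i : Fin (n + 1)) (s : Fin (n + 1) → B) (h : IsUnit (s i)) :
    Spec (CommRingCat.of B) ⟶ ProjSpace n k :=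
  Spec.map (CommRingCat.ofHom (evalAway (k := k) i s h)) ≫
    Proj.awayι (polyGrading n k) (X i) (X_mem n k i) one_pos

theorem preimage_basicOpen (s : Fin (n + 1) → B) (h : IsUnimod s) (i : Fin (n + 1)) :
    pt k s h ⁻¹ᵁ Proj.basicOpen (polyGrading n k) (X i) =
      (Spec (CommRingCat.of B)).basicOpen ((Scheme.ΓSpecIso (CommRingCat.of B)).inv (s i)) := by
  rw [pt, Proj.fromOfGlobalSections_preimage_basicOpen (polyGrading n k) _ _ one_pos (X_mem n k i)]
  simp [evalΓ]

theorem toSpecΓ_restrict_fac (Y : Scheme.{u}) (x : Γ(Y, ⊤)) :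
    ((Scheme.isoOfEq _ (Y.toSpecΓ_preimage_basicOpen x)).inv ≫ (Y.toSpecΓ ∣_ PrimeSpectrum.basicOpen x) ≫
      (basicOpenIsoSpecAway x).hom) ≫ Spec.map (CommRingCat.ofHom (algebraMap Γ(Y, ⊤) (Localization.Away x))) =
      (Y.basicOpen x).ι ≫ Y.toSpecΓ := by
  simp only [Category.assoc]
  have e : (basicOpenIsoSpecAway x).hom ≫
      Spec.map (CommRingCat.ofHom (algebraMap Γ(Y, ⊤) (Localization.Away x))) =
      Scheme.Opens.ι (X := Spec Γ(Y, ⊤)) (PrimeSpectrum.basicOpen x) := IsOpenImmersion.isoOfRangeEq_hom_fac _ _ _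
  rw [e]
  rw [morphismRestrict_ι, Scheme.isoOfEq_inv, Scheme.homOfLE_ι_assoc]

theorem map_pt_of_isUnit (φ : B →ₐ[k] B') (s : Fin (n + 1) → B) (h : IsUnimod s) (i : Fin (n + 1))
    (hu : IsUnit (φ (s i))) :
    Spec.map (CommRingCat.ofHom (φ : B →+* B')) ≫ pt k s h = chartPt i (fun j => φ (s j)) hu := by
  let x : Γ(Spec (CommRingCat.of B), ⊤) := evalΓ k s (X i)
  let φ' : Γ(Spec (CommRingCat.of B), ⊤) →+* B' :=
    (φ : B →+* B').comp (Scheme.ΓSpecIso (CommRingCat.of B)).hom.hom
  have hφ' : φ'.comp (evalΓ k s) = (aeval (R := k) fun j => φ (s j)).toRingHom := by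
    refine RingHom.ext fun p => ?_
    show φ ((Scheme.ΓSpecIso (CommRingCat.of B)).hom ((Scheme.ΓSpecIso (CommRingCat.of B)).inv (aeval s p))) = _
    rw [(Scheme.ΓSpecIso (CommRingCat.of B)).inv_hom_id_apply (aeval s p), MvPolynomial.comp_aeval_apply]
    rfl
  have hx : IsUnit (φ' x) := by
    have := RingHom.congr_fun hφ' (X i)
    rw [RingHom.comp_apply] at this
    rw [this]
    simpa using hu
  let g := (Scheme.isoOfEq _ ((Spec (CommRingCat.of B)).toSpecΓ_preimage_basicOpen x)).inv ≫
    ((Spec (CommRingCat.of B)).toSpecΓ ∣_ PrimeSpectrum.basicOpen x) ≫ (basicOpenIsoSpecAway x).hom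
  have hg := toSpecΓ_restrict_fac (Spec (CommRingCat.of B)) x
  let ψ₀ : Localization.Away x →+* B' := IsLocalization.Away.lift x (g := φ') hx
  have hr : Set.range (Spec.map (CommRingCat.ofHom (φ : B →+* B'))).base ⊆
      Set.range ((Spec (CommRingCat.of B)).basicOpen x).ι.base := by
    rw [Scheme.Opens.range_ι]
    rintro _ ⟨y, rfl⟩
    show y ∈ Spec.map (CommRingCat.ofHom (φ : B →+* B')) ⁻¹ᵁ (Spec (CommRingCat.of B)).basicOpen x
    rw [Scheme.preimage_basicOpen, Scheme.basicOpen_of_isUnit]
    · trivial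
    · have e := DFunLike.congr_fun (congrArg CommRingCat.Hom.hom
        (Scheme.ΓSpecIso_inv_naturality (CommRingCat.ofHom (φ : B →+* B')))) ((Scheme.ΓSpecIso (CommRingCat.of B)).hom x)
      simp only [CommRingCat.hom_comp, RingHom.comp_apply] at e
      rw [show (Scheme.ΓSpecIso (CommRingCat.of B)).inv ((Scheme.ΓSpecIso (CommRingCat.of B)).hom x) = x from
        (Scheme.ΓSpecIso (CommRingCat.of B)).hom_inv_id_apply x] at e
      show IsUnit ((Spec.map (CommRingCat.ofHom (φ : B →+* B'))).appTop x)
      rw [← e]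
      exact hx.map _
  let l := IsOpenImmersion.lift ((Spec (CommRingCat.of B)).basicOpen x).ι
    (Spec.map (CommRingCat.ofHom (φ : B →+* B'))) hr
  have hlg : l ≫ g = Spec.map (CommRingCat.ofHom ψ₀) := by
    rw [← cancel_mono (Spec.map (CommRingCat.ofHom (algebraMap Γ(Spec (CommRingCat.of B), ⊤) (Localization.Away x)))), Category.assoc]
    erw [hg]
    rw [
      IsOpenImmersion.lift_fac_assoc, ← Spec.map_comp, ← SpecMap_ΓSpecIso_hom, ← Spec.map_comp,
      ← CommRingCat.ofHom_comp]
    congr 1
    refine CommRingCat.hom_ext (RingHom.ext fun z => ?_)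
    exact (IsLocalization.Away.lift_eq x hx z).symm
  have hpre : pt k s h ⁻¹ᵁ Proj.basicOpen (polyGrading n k) (X i) = (Spec (CommRingCat.of B)).basicOpen x :=
    Proj.fromOfGlobalSections_preimage_basicOpen (polyGrading n k) _ _ one_pos (X_mem n k i)
  have hι : ((Spec (CommRingCat.of B)).basicOpen x).ι ≫ pt k s h =
      g ≫ Spec.map (CommRingCat.ofHom ((IsLocalization.map (M := Submonoid.powers (X i : MvPolynomial (Fin (n + 1)) k))
        (T := Submonoid.powers x) (Localization.Away x) (evalΓ k s) (by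
          rw [← Submonoid.map_le_iff_le_comap, Submonoid.map_powers])).comp
        (algebraMap (Away (polyGrading n k) (X i)) (Localization.Away (X i : MvPolynomial (Fin (n + 1)) k))))) ≫
        Proj.awayι (polyGrading n k) (X i) (X_mem n k i) one_pos := by
    have e := Proj.fromOfGlobalSections_morphismRestrict (polyGrading n k) (evalΓ k s) (map_irrelevant s h)
      one_pos (X_mem n k i)
    have e' := congrArg (· ≫ (Proj.basicOpen (polyGrading n k) (X i)).ι) e
    simp only [morphismRestrict_ι, Category.assoc] at e'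
    rw [← Scheme.homOfLE_ι (Spec (CommRingCat.of B)) (hpre.ge), Category.assoc]
    erw [e']
    simp only [Proj.toBasicOpenOfGlobalSections, Category.assoc, Proj.basicOpenIsoSpec_inv_ι,
      Scheme.isoOfEq_hom, Scheme.isoOfEq_inv, Scheme.homOfLE_homOfLE_assoc, g]
    rfl
  calc Spec.map (CommRingCat.ofHom (φ : B →+* B')) ≫ pt k s h
      = l ≫ ((Spec (CommRingCat.of B)).basicOpen x).ι ≫ pt k s h := by
        rw [IsOpenImmersion.lift_fac_assoc]
    _ = chartPt i (fun j => φ (s j)) hu := by
        rw [hι, ← Category.assoc, hlg, ← Category.assoc, ← Spec.map_comp, ← CommRingCat.ofHom_comp, chartPt]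
        congr 3
        rw [evalAway, ← RingHom.comp_assoc]
        congr 1
        refine IsLocalization.ringHom_ext (Submonoid.powers (X i : MvPolynomial (Fin (n + 1)) k)) ?_
        refine RingHom.ext fun p => ?_
        simp only [RingHom.comp_apply, IsLocalization.map_eq]
        rw [show ψ₀ _ = φ' (evalΓ k s p) from IsLocalization.Away.lift_eq x hx _, IsLocalization.Away.lift_eq]
        exact RingHom.congr_fun hφ' p

/-- The localisations at the coordinates cover. -/
noncomputable def cover (s : Fin (n + 1) → B) (h : IsUnimod s) : (Spec (CommRingCat.of B)).OpenCover :=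
  (Scheme.affineOpenCoverOfSpanRangeEqTop (R := CommRingCat.of B) s h).openCover

theorem hom_ext_cover (k : Type u) [CommRing k] [Algebra k B] (s : Fin (n + 1) → B) (h : IsUnimod s)
    {Y : Scheme.{u}} (f g : Spec (CommRingCat.of B) ⟶ Y)
    (e : ∀ (i : Fin (n + 1)) (a : B →ₐ[k] Localization.Away (s i)), IsUnit (a (s i)) →
      Spec.map (CommRingCat.ofHom (a : B →+* Localization.Away (s i))) ≫ f =
      Spec.map (CommRingCat.ofHom (a : B →+* Localization.Away (s i))) ≫ g) : f = g := by
  refine (cover s h).hom_ext _ _ fun i => ?_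
  have := e i (IsScalarTower.toAlgHom k B (Localization.Away (s i)))
    (IsLocalization.Away.algebraMap_isUnit (s i))
  rw [IsScalarTower.coe_toAlgHom] at this
  exact this

theorem map_pt (φ : B →ₐ[k] B') (s : Fin (n + 1) → B) (h : IsUnimod s) :
    Spec.map (CommRingCat.ofHom (φ : B →+* B')) ≫ pt k s h = pt k (fun j => φ (s j)) (h.map (φ : B →+* B')) := by
  refine hom_ext_cover k (fun j => φ (s j)) (h.map (φ : B →+* B')) _ _ fun i a hu => ?_
  rw [map_pt_of_isUnit a _ _ i hu, ← Category.assoc, ← Spec.map_comp, ← CommRingCat.ofHom_comp]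
  exact map_pt_of_isUnit (a.comp φ) s h i hu

theorem pt_smul (s : Fin (n + 1) → B) (h : IsUnimod s) (c : B) (hc : IsUnit c)
    (h' : IsUnimod fun j => c * s j) : pt k (fun j => c * s j) h' = pt k s h := by
  refine hom_ext_cover k s h _ _ fun i a hu => ?_
  rw [map_pt_of_isUnit a _ h' i (by rw [map_mul]; exact (hc.map a).mul hu), map_pt_of_isUnit a _ h i hu]
  unfold chartPt
  rw [evalAway_congr (funext fun j => map_mul a c (s j)), evalAway_smul i (fun j => a (s j)) hu (a c) (hc.map a)]

theorem eq_of_forall_algebraMap_eq (s : Fin (n + 1) → B) (h : IsUnimod s) {x y : B}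
    (e : ∀ i, algebraMap B (Localization.Away (s i)) x = algebraMap B (Localization.Away (s i)) y) : x = y := by
  have hN : ∀ i, ∃ N : ℕ, s i ^ N * x = s i ^ N * y := fun i => by
    obtain ⟨⟨_, N, rfl⟩, hN⟩ := (IsLocalization.eq_iff_exists (Submonoid.powers (s i)) _).mp (e i)
    exact ⟨N, hN⟩
  choose N hN using hN
  have htop : Ideal.span (Set.range fun i => s i ^ N i) = ⊤ := by
    rw [eq_top_iff, ← Ideal.span_range_pow_eq_top (Set.range s) h (fun z => N z.2.choose), Ideal.span_le]
    rintro _ ⟨⟨z, hz⟩, rfl⟩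
    refine Ideal.subset_span ⟨hz.choose, ?_⟩
    show s hz.choose ^ N hz.choose = z ^ N hz.choose
    rw [hz.choose_spec]
  obtain ⟨a, ha⟩ := Ideal.mem_span_range_iff_exists_fun.mp
    (htop.symm ▸ Submodule.mem_top : (1 : B) ∈ Ideal.span (Set.range fun i => s i ^ N i))
  rw [← one_mul x, ← one_mul y, ← ha, Finset.sum_mul, Finset.sum_mul]
  exact Finset.sum_congr rfl fun i _ => by rw [mul_assoc, hN i, mul_assoc]

theorem exists_smul_of_pt_eq (s t : Fin (n + 1) → B) (hs : IsUnimod s) (ht : IsUnimod t)
    (e : pt k s hs = pt k t ht) : ∃ c : B, IsUnit c ∧ ∀ j, t j = c * s j := by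
  have key : ∀ (i : Fin (n + 1)) (j m : Fin (n + 1)),
      algebraMap B (Localization.Away (s i)) (s j * t m) = algebraMap B (Localization.Away (s i)) (t j * s m) := by
    intro i
    let a : B →ₐ[k] Localization.Away (s i) := IsScalarTower.toAlgHom k B _
    have hu : IsUnit (a (s i)) := IsLocalization.Away.algebraMap_isUnit (s i)
    have hut : IsUnit (a (t i)) := by
      have h1 := preimage_basicOpen (k := k) s hs i
      have h2 := preimage_basicOpen (k := k) t ht i
      rw [e, h2, basicOpen_eq_of_affine', basicOpen_eq_of_affine'] at h1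
      simp only [Iso.inv_hom_id_apply] at h1
      obtain ⟨N, hN⟩ := (PrimeSpectrum.basicOpen_le_basicOpen_iff (s i) (t i)).mp h1.ge
      obtain ⟨z, hz⟩ := Ideal.mem_span_singleton'.mp hN
      exact isUnit_of_mul_isUnit_right (by rw [← map_mul, hz, map_pow]; exact hu.pow N)
    have h3 := congrArg (Spec.map (CommRingCat.ofHom (a : B →+* Localization.Away (s i))) ≫ ·) e
    simp only [map_pt_of_isUnit a s hs i hu, map_pt_of_isUnit a t ht i hut, chartPt, cancel_mono] at h3
    have h4 := mul_eq_of_evalAway_eq i _ _ hu hut (congrArg CommRingCat.Hom.hom (Spec.map_injective h3))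
    intro j m
    change a (s j * t m) = a (t j * s m)
    rw [map_mul, map_mul]
    apply hu.mul_right_cancel
    calc a (s j) * a (t m) * a (s i) = a (s j) * (a (t m) * a (s i)) := by ring
      _ = a (s j) * (a (s m) * a (t i)) := by rw [h4 m]
      _ = a (s m) * (a (s j) * a (t i)) := by ring
      _ = a (s m) * (a (t j) * a (s i)) := by rw [h4 j]
      _ = a (t j) * a (s m) * a (s i) := by ring
  have minor : ∀ j m, s j * t m = t j * s m := by
    intro j m
    refine eq_of_forall_algebraMap_eq s hs fun i => key i j m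
  obtain ⟨a, ha⟩ := Ideal.mem_span_range_iff_exists_fun.mp (hs.symm ▸ Submodule.mem_top : (1 : B) ∈ Ideal.span (Set.range s))
  have hc : ∀ j, t j = (∑ i, a i * t i) * s j := fun j => by
    calc t j = (∑ i, a i * s i) * t j := by rw [ha, one_mul]
      _ = ∑ i, a i * (s i * t j) := by rw [Finset.sum_mul]; exact Finset.sum_congr rfl fun i _ => by ring
      _ = ∑ i, a i * (t i * s j) := Finset.sum_congr rfl fun i _ => by rw [minor i j]
      _ = _ := by rw [Finset.sum_mul]; exact Finset.sum_congr rfl fun i _ => by ring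
  refine ⟨∑ i, a i * t i, ?_, hc⟩
  obtain ⟨b, hb⟩ := Ideal.mem_span_range_iff_exists_fun.mp (ht.symm ▸ Submodule.mem_top : (1 : B) ∈ Ideal.span (Set.range t))
  refine IsUnit.of_mul_eq_one (∑ i, b i * s i) ?_
  rw [← hb, Finset.mul_sum]
  exact Finset.sum_congr rfl fun i _ => by rw [hc i]; ring

theorem pt_toSpec (s : Fin (n + 1) → B) (h : IsUnimod s) :
    pt k s h ≫ ProjSpace.toSpec n k = Spec.map (CommRingCat.ofHom (algebraMap k B)) := by
  rw [pt, ProjSpace.toSpec]
  erw [Proj.fromOfGlobalSections_toSpecZero_assoc]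
  rw [← Spec.map_comp, ← SpecMap_ΓSpecIso_hom, ← Spec.map_comp]
  congr 1
  refine CommRingCat.hom_ext (RingHom.ext fun r => ?_)
  simp [evalΓ]

theorem lft_toSpec {K : Type u} [CommRing K] (n : ℕ) : LocallyOfFiniteType (ProjSpace.toSpec n K) := by
  refine IsZariskiLocalAtSource.of_openCover
    (Proj.affineOpenCoverOfIrrelevantLESpan (A := MvPolynomial (Fin (n + 1)) K) (polyGrading n K) (X : Fin (n + 1) → MvPolynomial (Fin (n + 1)) K) (fun i => X_mem n K i)
      (fun _ => one_pos) (irrelevant_le_span n K)).openCover fun i => ?_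
  have e := Groth.Agent.H11Proj.ProjSpace.awayι_toSpec n K i
  refine (congrArg (fun q => LocallyOfFiniteType q) e).mpr ?_
  rw [HasRingHomProperty.Spec_iff (P := @LocallyOfFiniteType)]
  simp only [CommRingCat.hom_ofHom]
  exact RingHom.FiniteType.comp
    (RingHom.FiniteType.of_surjective _ (Groth.Agent.H11Proj.ProjSpace.chartMap_bijective n K i).2)
    (RingHom.finiteType_algebraMap.mpr inferInstance)

end Groth.Agent.H19Grp.ProjPoint
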