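import Groth.Prelude.Def_AlgGrp

/-!
# Basic lemmas on group schemes and their actions: points, shear isomorphisms
-/

universe v u

open CategoryTheory CategoryTheory.Limits MonoidalCategory CartesianMonoidalCategory MonObj GrpObj
  AlgebraicGeometry

namespace Groth.Agent.H19Grp

variable {S : Scheme.{u}} {G X T T' : Over S} [GrpObj G]

/-- The action on points. -/
noncomputable def smulPt (a : AlgGrp.Action G X) (g : T ⟶ G) (x : T ⟶ X) : T ⟶ X :=
  lift g x ≫ a.act

lemma comp_smulPt (a : AlgGrp.Action G X) (f : T' ⟶ T) (g : T ⟶ G) (x : T ⟶ X) :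
    f ≫ smulPt a g x = smulPt a (f ≫ g) (f ≫ x) := by
  rw [smulPt, smulPt, comp_lift_assoc]

lemma one_smulPt (a : AlgGrp.Action G X) (x : T ⟶ X) : smulPt a (1 : T ⟶ G) x = x := by
  have : lift (1 : T ⟶ G) x = lift (toUnit T) x ≫ (η[G] ▷ X) := by
    rw [lift_whiskerRight, Hom.one_def]
  rw [smulPt, this, Category.assoc, a.one_act]
  simp

lemma mul_smulPt (a : AlgGrp.Action G X) (g h : T ⟶ G) (x : T ⟶ X) :
    smulPt a (g * h) x = smulPt a g (smulPt a h x) := by
  have : lift (g * h) x = lift (lift g h) x ≫ (μ[G] ▷ X) := by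
    rw [lift_whiskerRight, Hom.mul_def]
  rw [smulPt, this, Category.assoc, a.mul_act]
  simp [smulPt, lift_lift_associator_hom_assoc]

lemma act_eq_smulPt (a : AlgGrp.Action G X) : a.act = smulPt a (fst G X) (snd G X) := by
  simp [smulPt, lift_fst_snd]

lemma inv_smulPt_smulPt (a : AlgGrp.Action G X) (g : T ⟶ G) (x : T ⟶ X) :
    smulPt a g⁻¹ (smulPt a g x) = x := by
  rw [← mul_smulPt, inv_mul_cancel, one_smulPt]

lemma smulPt_inv_smulPt (a : AlgGrp.Action G X) (g : T ⟶ G) (x : T ⟶ X) :
    smulPt a g (smulPt a g⁻¹ x) = x := by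
  rw [← mul_smulPt, mul_inv_cancel, one_smulPt]

/-- The shear isomorphism (t, x) ↦ (t, ψ(t) · x) of T ⊗ X. -/
noncomputable def shearAlong (a : AlgGrp.Action G X) (ψ : T ⟶ G) : T ⊗ X ≅ T ⊗ X where
  hom := lift (fst T X) (smulPt a (fst T X ≫ ψ) (snd T X))
  inv := lift (fst T X) (smulPt a (fst T X ≫ ψ)⁻¹ (snd T X))
  hom_inv_id := by
    ext
    · simp
    · simp only [Category.assoc, lift_snd, comp_smulPt, GrpObj.comp_inv, lift_fst_assoc,
        inv_smulPt_smulPt, Category.id_comp]
  inv_hom_id := by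
    ext
    · simp
    · simp only [Category.assoc, lift_snd, comp_smulPt, lift_fst_assoc, smulPt_inv_smulPt,
        Category.id_comp]

@[reassoc]
lemma shearAlong_hom_fst (a : AlgGrp.Action G X) (ψ : T ⟶ G) :
    (shearAlong a ψ).hom ≫ fst T X = fst T X := by simp [shearAlong]

@[reassoc]
lemma shearAlong_hom_snd (a : AlgGrp.Action G X) (ψ : T ⟶ G) :
    (shearAlong a ψ).hom ≫ snd T X = (ψ ▷ X) ≫ a.act := by
  simp only [shearAlong, lift_snd, smulPt]
  congr 1


lemma whiskerRight_act_left_iff (a : AlgGrp.Action G X) (ψ : T ⟶ G)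
    (P : MorphismProperty Scheme.{u}) [P.RespectsIso] :
    P ((ψ ▷ X) ≫ a.act).left ↔ P (pullback.snd T.hom X.hom) := by
  rw [← shearAlong_hom_snd, Over.comp_left, P.cancel_left_of_respectsIso, Over.snd_left]

/-- A property stable under base change passes from T to (t, x) ↦ ψ(t) · x. -/
lemma whiskerRight_act_left_of (a : AlgGrp.Action G X) (ψ : T ⟶ G)
    (P : MorphismProperty Scheme.{u}) [P.IsStableUnderBaseChange] (h : P T.hom) :
    P ((ψ ▷ X) ≫ a.act).left :=
  (whiskerRight_act_left_iff a ψ P).mpr (P.pullback_snd _ _ h)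

lemma act_left_iff (a : AlgGrp.Action G X) (P : MorphismProperty Scheme.{u}) [P.RespectsIso] :
    P a.act.left ↔ P (pullback.snd G.hom X.hom) := by
  simpa using whiskerRight_act_left_iff a (𝟙 G) P

lemma act_left_of (a : AlgGrp.Action G X) (P : MorphismProperty Scheme.{u})
    [P.IsStableUnderBaseChange] (h : P G.hom) : P a.act.left :=
  (act_left_iff a P).mpr (P.pullback_snd _ _ h)

/-- The left translation action of a group scheme on itself. -/
noncomputable def selfAction (G : Over S) [GrpObj G] : AlgGrp.Action G G where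
  act := μ[G]
  one_act := MonObj.one_mul G
  mul_act := MonObj.mul_assoc G

lemma selfAction_act (G : Over S) [GrpObj G] : (selfAction G).act = μ[G] := rfl

lemma mul_left_of (G : Over S) [GrpObj G] (P : MorphismProperty Scheme.{u})
    [P.IsStableUnderBaseChange] (h : P G.hom) : P μ[G].left :=
  act_left_of (selfAction G) P h

instance : Mono (η[G]).left :=
  have : IsSplitMono (η[G]).left := ⟨⟨⟨G.hom, Over.w η[G]⟩⟩⟩
  inferInstance

/-- The unit section is a closed immersion when the structure map is separated. -/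
lemma isClosedImmersion_one_left (G : Over S) [GrpObj G] [IsSeparated G.hom] :
    IsClosedImmersion (η[G]).left := by
  have : IsClosedImmersion ((η[G]).left ≫ G.hom) := by
    rw [Over.w η[G]]; exact inferInstanceAs (IsClosedImmersion (𝟙 S))
  exact .of_comp _ G.hom

end Groth.Agent.H19Grp
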