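import Groth.Agent.H19Grp.GrpdBasic
import Groth.Agent.H19Grp.Basic

/-!
# The groupoid scheme attached to a group scheme
-/

set_option autoImplicit false
set_option backward.isDefEq.respectTransparency false

universe u

open CategoryTheory CategoryTheory.Limits MonoidalCategory CartesianMonoidalCategory MonObj GrpObj
  AlgebraicGeometry

namespace Groth.Agent.H19Grp

variable {S : Scheme.{u}} (G : Over S) [GrpObj G]

/-- A morphism into G.left as a point of G. -/
abbrev asPt {T : Scheme.{u}} (α : T ⟶ G.left) : Over.mk (α ≫ G.hom) ⟶ G := Over.homMk α rfl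

lemma lift_mul_left {T : Over S} (a b : T ⟶ G) :
    pullback.lift a.left b.left ((Over.w a).trans (Over.w b).symm) ≫ μ[G].left = (a * b).left := by
  rw [Hom.mul_def, Over.comp_left, Over.lift_left]

/-- A group scheme as a groupoid scheme with objects the base. -/
noncomputable abbrev grpToGrpd : Grpd.GroupoidScheme S where
  U := S
  R := G.left
  pU := 𝟙 S
  pR := G.hom
  s := G.hom
  t := G.hom
  e := η[G].left
  i := ι[G].left
  c := μ[G].left
  s_over := Category.comp_id _
  t_over := Category.comp_id _
  comp_s := by
    intro T α β h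
    have := lift_mul_left G (asPt G α) (Over.homMk β h.symm)
    simp only [Over.homMk_left] at this
    rw [this, Over.w]
    exact h
  comp_t := by
    intro T α β h
    have := lift_mul_left G (asPt G α) (Over.homMk β h.symm)
    simp only [Over.homMk_left] at this
    rw [this, Over.w]
    rfl
  assoc := by
    intro T α β γ h₁ h₂
    let a := asPt G α
    let b : Over.mk (α ≫ G.hom) ⟶ G := Over.homMk β h₁.symm
    let d : Over.mk (α ≫ G.hom) ⟶ G := Over.homMk γ (h₂.symm.trans h₁.symm)
    have e1 : pullback.lift α β h₁ ≫ μ[G].left = (a * b).left := lift_mul_left G a b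
    have e2 : pullback.lift β γ h₂ ≫ μ[G].left = (b * d).left := lift_mul_left G b d
    simp only [e1, e2]
    exact (lift_mul_left G (a * b) d).trans
      ((congrArg (·.left) (_root_.mul_assoc a b d)).trans (lift_mul_left G a (b * d)).symm)
  e_s := Over.w η[G]
  e_t := Over.w η[G]
  comp_e := by
    intro T α
    refine Eq.trans ?_ (congrArg (·.left) (_root_.mul_one (asPt G α)))
    rw [← lift_mul_left]
    congr 1
  e_comp := by
    intro T α
    refine Eq.trans ?_ (congrArg (·.left) (_root_.one_mul (asPt G α)))
    rw [← lift_mul_left]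
    congr 1
  i_s := Over.w ι[G]
  i_t := Over.w ι[G]
  comp_i := by
    intro T α
    refine Eq.trans ?_ ((congrArg (·.left) (mul_inv_cancel (asPt G α))).trans ?_)
    · rw [← lift_mul_left]
      simp [Hom.inv_def] <;> rfl
    · simp [Hom.one_def]
  i_comp := by
    intro T α
    refine Eq.trans ?_ ((congrArg (·.left) (inv_mul_cancel (asPt G α))).trans ?_)
    · rw [← lift_mul_left]
      simp [Hom.inv_def] <;> rfl
    · simp [Hom.one_def]

end Groth.Agent.H19Grp
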