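import Groth.Agent.H19Grp.Components
import Groth.Agent.H19Grp.GrpToGrpd
import Mathlib

/-!
# Geometrically connected group schemes are geometrically irreducible
-/

set_option autoImplicit false
set_option linter.style.haveILetI false
set_option backward.isDefEq.respectTransparency false

universe u

open CategoryTheory CategoryTheory.Limits MonoidalCategory CartesianMonoidalCategory MonObj GrpObj
  AlgebraicGeometry

namespace Groth.Agent.H19Grp

/-- A group scheme with geometrically connected fibres, locally of finite type, has geometrically
irreducible fibres. -/
theorem geometricallyIrreducible_of_geometricallyConnected {S : Scheme.{u}} (G : Over S) [GrpObj G]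
    [LocallyOfFiniteType G.hom] [GeometricallyConnected G.hom] :
    GeometricallyIrreducible G.hom := by
  refine ⟨fun L _ y P fst snd hP => ?_⟩
  haveI hc : ConnectedSpace (pullback G.hom y : Scheme) :=
    GeometricallyConnected.geometrically_connectedSpace y _ _ (.of_hasPullback _ _)
  let GLy : Over (Spec (CommRingCat.of L)) := (Over.pullback y).obj G
  letI : GrpObj GLy := Functor.grpObjObj
  haveI : LocallyOfFiniteType GLy.hom := inferInstanceAs (LocallyOfFiniteType (pullback.snd G.hom y))
  haveI : LocallyOfFiniteType (grpToGrpd GLy).s := inferInstanceAs (LocallyOfFiniteType GLy.hom)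
  haveI : LocallyOfFiniteType (grpToGrpd GLy).t := inferInstanceAs (LocallyOfFiniteType GLy.hom)
  haveI : ConnectedSpace (grpToGrpd GLy).R := hc
  haveI hi : IrreducibleSpace (pullback G.hom y : Scheme) :=
    irreducibleSpace_of_connected (grpToGrpd GLy) (Iso.refl _)
  exact (Scheme.Hom.homeomorph hP.isoPullback.inv).surjective.irreducibleSpace
    (Scheme.Hom.homeomorph hP.isoPullback.inv).continuous

end Groth.Agent.H19Grp
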