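import Groth.Agent.H19Grp.Cartier

/-!
# A group scheme over a field is smooth as soon as it is smooth somewhere
-/

universe u

open CategoryTheory CategoryTheory.Limits MonoidalCategory CartesianMonoidalCategory MonObj GrpObj
  AlgebraicGeometry

namespace Groth.Agent.H19Grp

set_option backward.isDefEq.respectTransparency false

variable {K : Type u} [Field K] (G : Over (Spec (CommRingCat.of K))) [GrpObj G]
  [LocallyOfFiniteType G.hom]

theorem smooth_of_smoothLocus_nonempty [IsAlgClosed K]
    (h : (G.hom.smoothLocus : Set G.left).Nonempty) : Smooth G.hom := by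
  have := LocallyOfFiniteType.jacobsonSpace G.hom
  rw [← Scheme.Hom.smoothLocus_eq_top_iff, ← TopologicalSpace.Opens.coe_eq_univ,
    ← not_ne_iff, ← Set.nonempty_compl]
  intro H
  obtain ⟨x, hx, hxc⟩ :=
    nonempty_inter_closedPoints H G.hom.smoothLocus.2.isClosed_compl.isLocallyClosed
  obtain ⟨y, hy, hyc⟩ := nonempty_inter_closedPoints h G.hom.smoothLocus.2.isLocallyClosed
  obtain ⟨α, hα⟩ := exists_iso_unitPt G x hxc
  obtain ⟨β, hβ⟩ := exists_iso_unitPt G y hyc
  have hy' : (α.symm ≪≫ β).hom.left x = y := by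
    rw [← hα, ← hβ, ← Scheme.Hom.comp_apply, ← Over.comp_left]
    simp
  let γ := α.symm ≪≫ β
  change γ.hom.left x = y at hy'
  have : IsOpenImmersion γ.hom.left :=
    have : IsIso γ.hom.left := inferInstanceAs (IsIso ((Over.forget _).map γ.hom))
    inferInstance
  apply hx
  have h1 : x ∈ γ.hom.left ⁻¹ᵁ G.hom.smoothLocus := by rw [Scheme.Hom.mem_preimage, hy']; exact hy
  rw [Scheme.Hom.preimage_smoothLocus_eq] at h1
  simp only [Over.w γ.hom] at h1
  exact h1

/-- The base change of G to an algebraic closure of K. -/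
noncomputable abbrev geomG : Over (Spec (CommRingCat.of (AlgebraicClosure K))) :=
  (Over.pullback (Spec.map (CommRingCat.ofHom (algebraMap K (AlgebraicClosure K))))).obj G

noncomputable instance : GrpObj (geomG G) := Functor.grpObjObj

instance : LocallyOfFiniteType (geomG G).hom := by dsimp; infer_instance

theorem smooth_of_smooth_geom (h : Smooth (geomG G).hom) : Smooth G.hom := by
  apply MorphismProperty.of_pullback_snd_of_descendsAlong
    (Q := @Surjective ⊓ @Flat ⊓ @QuasiCompact)
    (g := Spec.map (CommRingCat.ofHom (algebraMap K (AlgebraicClosure K))))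
  · exact ⟨⟨inferInstance, inferInstance⟩, inferInstance⟩
  · exact h

theorem smooth_of_smooth_open (U : G.left.Opens) (hU : (U : Set G.left).Nonempty)
    (h : Smooth (U.ι ≫ G.hom)) : Smooth G.hom := by
  apply smooth_of_smooth_geom
  apply smooth_of_smoothLocus_nonempty
  let g := Spec.map (CommRingCat.ofHom (algebraMap K (AlgebraicClosure K)))
  let j : pullback (U.ι ≫ G.hom) g ⟶ pullback G.hom g :=
    pullback.map _ _ _ _ U.ι (𝟙 _) (𝟙 _) (by simp) (by simp)
  have : IsOpenImmersion j :=
    MorphismProperty.pullbackMap (P := @IsOpenImmersion) (inferInstanceAs (IsOpenImmersion U.ι))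
      (inferInstanceAs (IsOpenImmersion (𝟙 _))) rfl (Category.id_comp g).symm
  obtain ⟨u, hu⟩ := hU
  obtain ⟨v, hv⟩ := (inferInstance : Surjective (pullback.fst (U.ι ≫ G.hom) g)).surj ⟨u, hu⟩
  refine ⟨j v, ?_⟩
  show v ∈ j ⁻¹ᵁ (geomG G).hom.smoothLocus
  rw [Scheme.Hom.preimage_smoothLocus_eq]
  have hj : j ≫ (geomG G).hom = pullback.snd (U.ι ≫ G.hom) g :=
    (pullback.lift_snd _ _ _).trans (Category.comp_id _)
  simp only [hj]
  have : Smooth (pullback.snd (U.ι ≫ G.hom) g) := MorphismProperty.pullback_snd _ _ h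
  rw [Scheme.Hom.smoothLocus_eq_top]
  trivial

theorem smooth_of_isReduced_perfect [PerfectField K] [IsReduced G.left] : Smooth G.hom := by
  have hne : Nonempty G.left := ⟨unitPt G⟩
  have hd : Dense (G.hom.smoothLocus : Set G.left) := G.hom.dense_smoothLocus_of_perfectField
  refine smooth_of_smooth_open G G.hom.smoothLocus hd.nonempty ?_
  rw [← Scheme.Hom.smoothLocus_eq_top_iff, ← Scheme.Hom.preimage_smoothLocus_eq]
  exact G.hom.smoothLocus.ι_preimage_self

theorem smooth_of_isReduced_geom (h : _root_.IsReduced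
    ((geomG G).left.presheaf.stalk (unitPt (geomG G)))) : Smooth G.hom := by
  have := isReduced_left_of_isReduced_unit (geomG G) h
  exact smooth_of_smooth_geom G (smooth_of_isReduced_perfect (geomG G))

end Groth.Agent.H19Grp
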