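import Groth.Agent.H19Grp.Dimension
import Groth.Agent.H19Grp.GrpToGrpd
import Groth.Agent.H19Grp.SmoothLocus
import Groth.Agent.H4Depth.Regular

/-!
# Regularity and smoothness

Smooth schemes over fields are regular, and a group scheme locally of finite type over a field
which is regular at the unit is smooth.
-/

set_option autoImplicit false
set_option linter.style.haveILetI false

universe u

open CategoryTheory CategoryTheory.Limits AlgebraicGeometry IsLocalRing

namespace Groth.Agent.H19Grp

/-- Regularity ascends along flat unramified local homomorphisms. -/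
theorem isRegularLocalRing_of_flat_of_map_maximalIdeal {R S : Type u} [CommRing R] [CommRing S]
    [Algebra R S] [IsRegularLocalRing R] [IsLocalRing S] [IsNoetherianRing S]
    (hdim : ringKrullDim R ≤ ringKrullDim S)
    (h : (maximalIdeal R).map (algebraMap R S) = maximalIdeal S) : IsRegularLocalRing S := by
  apply IsRegularLocalRing.of_spanFinrank_maximalIdeal_le
  refine le_trans ?_ ((IsRegularLocalRing.spanFinrank_maximalIdeal (R := R)).le.trans hdim)
  rw [← h]
  exact WithBot.coe_le_coe.mpr (Nat.cast_le.mpr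
    (Ideal.spanFinrank_map_le_of_fg _ (IsNoetherian.noetherian _)))

theorem ringKrullDim_le_of_flat_of_isLocalHom {R S : Type u} [CommRing R] [CommRing S]
    [Algebra R S] [IsLocalRing R] [IsNoetherianRing R] [IsLocalRing S] [IsNoetherianRing S]
    [IsLocalHom (algebraMap R S)] [Module.Flat R S] : ringKrullDim R ≤ ringKrullDim S := by
  haveI : (maximalIdeal S).LiesOver (maximalIdeal R) :=
    ⟨(((local_hom_TFAE (algebraMap R S)).out 0 4 rfl rfl).mp ‹_›).symm⟩
  rw [← maximalIdeal_height_eq_ringKrullDim, ← maximalIdeal_height_eq_ringKrullDim,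
    WithBot.coe_le_coe,
    Ideal.height_eq_height_add_of_liesOver_of_hasGoingDown (maximalIdeal R) (maximalIdeal S)]
  exact le_self_add

/-- Localizations of an étale algebra over a regular ring are regular. -/
theorem isRegularLocalRing_localization_of_etale {R S : Type u} [CommRing R] [CommRing S]
    [Algebra R S] [IsRegularRing R] [Algebra.Etale R S] (P : Ideal S) [P.IsPrime] :
    IsRegularLocalRing (Localization.AtPrime P) := by
  haveI : IsNoetherianRing S := Algebra.FiniteType.isNoetherianRing R S
  let q := P.under R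
  haveI : P.LiesOver q := ⟨rfl⟩
  letI := Localization.AtPrime.algebraOfLiesOver q P
  haveI : Localization.AtPrime.IsLiesOverAlgebra q P := ⟨rfl⟩
  haveI : IsNoetherianRing (Localization.AtPrime P) :=
    IsLocalization.isNoetherianRing P.primeCompl _ inferInstance
  haveI : IsRegularLocalRing (Localization.AtPrime q) :=
    IsRegularRing.isRegularLocalRing_localization q
  haveI : Module.Flat (Localization.AtPrime q) (Localization.AtPrime P) := inferInstance
  refine isRegularLocalRing_of_flat_of_map_maximalIdeal
    (ringKrullDim_le_of_flat_of_isLocalHom (R := Localization.AtPrime q)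
      (S := Localization.AtPrime P)) ?_
  haveI : Algebra.IsUnramifiedAt R P := inferInstance
  have h := ((Algebra.isUnramifiedAt_iff_map_eq R q P).mp inferInstance).2
  rw [← Localization.AtPrime.map_eq_maximalIdeal, Ideal.map_map,
    Localization.AtPrime.IsLiesOverAlgebra.algebraMap_eq, Localization.localRingHom,
    IsLocalization.map_comp, ← IsScalarTower.algebraMap_eq]
  exact h

/-- A scheme smooth over a field is regular. -/
theorem isRegularLocalRing_stalk_of_smooth {k : Type u} [Field k] {X : Scheme.{u}}
    (f : X ⟶ Spec (CommRingCat.of k)) [Smooth f] (x : X) :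
    IsRegularLocalRing (X.presheaf.stalk x) := by
  obtain ⟨U, hU, V, hV, hxV, e, hstd⟩ := Smooth.exists_isStandardSmooth f x
  obtain ⟨n, g, -, hg⟩ := hstd.exists_etale_mvPolynomial
  have hUtop : U = ⊤ := by
    refine eq_top_iff.mpr fun z _ => ?_
    rw [Subsingleton.elim (α := PrimeSpectrum k) z (f x)]
    exact e hxV
  subst hUtop
  have hfield : IsField Γ(Spec (CommRingCat.of k), ⊤) :=
    MulEquiv.isField (Field.toIsField k)
      (Scheme.ΓSpecIso (CommRingCat.of k)).commRingCatIsoToRingEquiv.toMulEquiv
  letI := hfield.toField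
  haveI : IsRegularRing Γ(Spec (CommRingCat.of k), ⊤) := inferInstance
  haveI : IsRegularRing (MvPolynomial (Fin n) Γ(Spec (CommRingCat.of k), ⊤)) := inferInstance
  letI := g.toAlgebra
  haveI : Algebra.Etale (MvPolynomial (Fin n) Γ(Spec (CommRingCat.of k), ⊤)) Γ(X, V) := hg
  have hreg := isRegularLocalRing_localization_of_etale
    (R := MvPolynomial (Fin n) Γ(Spec (CommRingCat.of k), ⊤)) (hV.primeIdealOf ⟨x, hxV⟩).asIdeal
  letI : Algebra Γ(X, V) (X.presheaf.stalk x) := (X.presheaf.germ V x hxV).hom.toAlgebra
  haveI : IsLocalization.AtPrime (X.presheaf.stalk x) (hV.primeIdealOf ⟨x, hxV⟩).asIdeal :=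
    hV.isLocalization_stalk ⟨x, hxV⟩
  exact IsRegularLocalRing.of_ringEquiv
    (IsLocalization.algEquiv (hV.primeIdealOf ⟨x, hxV⟩).asIdeal.primeCompl
      (Localization.AtPrime (hV.primeIdealOf ⟨x, hxV⟩).asIdeal) (X.presheaf.stalk x)).toRingEquiv

open TensorProduct in
/-- The kernel of the extension of a rational point is generated by the kernel of the point. -/
theorem ker_point_baseChange {k A L : Type u} [Field k] [CommRing A] [Field L] [Algebra k A]
    [Algebra k L] (ψ : A →ₐ[k] k) :
    RingHom.ker (Algebra.TensorProduct.lift ((Algebra.ofId k L).comp ψ) (AlgHom.id k L)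
      (fun _ _ => Commute.all _ _)) =
      (RingHom.ker ψ).map (Algebra.TensorProduct.includeLeft : A →ₐ[k] A ⊗[k] L) := by
  set Ψ := Algebra.TensorProduct.lift ((Algebra.ofId k L).comp ψ) (AlgHom.id k L)
    (fun _ _ => Commute.all _ _)
  refine le_antisymm (fun z hz => ?_) ?_
  · have key : ∀ z, z - 1 ⊗ₜ[k] Ψ z ∈
        (RingHom.ker ψ).map (Algebra.TensorProduct.includeLeft : A →ₐ[k] A ⊗[k] L) := by
      intro z
      induction z using TensorProduct.induction_on with
      | zero => simp
      | tmul a l =>
        have h1 : a ⊗ₜ[k] l - 1 ⊗ₜ[k] Ψ (a ⊗ₜ l) =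
            (1 ⊗ₜ[k] l) * ((a - algebraMap k A (ψ a)) ⊗ₜ[k] 1) := by
          have h2 : (1 : A) ⊗ₜ[k] (algebraMap k L (ψ a) * l) = algebraMap k A (ψ a) ⊗ₜ[k] l := by
            rw [← Algebra.smul_def, TensorProduct.tmul_smul, TensorProduct.smul_tmul',
              Algebra.smul_def, mul_one]
          simp only [Ψ, Algebra.TensorProduct.lift_tmul, AlgHom.comp_apply, AlgHom.id_apply,
            Algebra.ofId_apply]
          rw [h2, TensorProduct.sub_tmul, mul_sub, Algebra.TensorProduct.tmul_mul_tmul,
            Algebra.TensorProduct.tmul_mul_tmul, one_mul, one_mul, mul_one]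
        rw [h1]
        refine Ideal.mul_mem_left _ _ (Ideal.mem_map_of_mem _ ?_)
        simp [RingHom.mem_ker]
      | add z w hz hw =>
        rw [map_add, TensorProduct.tmul_add, add_sub_add_comm]
        exact Ideal.add_mem _ hz hw
    have := key z
    rw [RingHom.mem_ker] at hz
    rwa [hz, TensorProduct.tmul_zero, sub_zero] at this
  · rw [Ideal.map_le_iff_le_comap]
    intro a ha
    rw [RingHom.mem_ker] at ha
    simp [Ideal.mem_comap, RingHom.mem_ker, Ψ, ha]

set_option backward.isDefEq.respectTransparency false in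
/-- The base change of a scheme over a field at a regular rational point is regular. -/
theorem exists_regular_point_baseChange {k : Type u} [Field k] {X : Scheme.{u}}
    (f : X ⟶ Spec (CommRingCat.of k)) [LocallyOfFiniteType f]
    (σ : Spec (CommRingCat.of k) ⟶ X) (hσ : σ ≫ f = 𝟙 _) {L : Type u} [Field L] [Algebra k L]
    [Algebra.IsAlgebraic k L]
    (hreg : IsRegularLocalRing (X.presheaf.stalk (σ (IsLocalRing.closedPoint k)))) :
    IsRegularLocalRing ((pullback f (Spec.map (CommRingCat.ofHom (algebraMap k L)))).presheaf.stalk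
      ((pullback.lift (Spec.map (CommRingCat.ofHom (algebraMap k L)) ≫ σ) (𝟙 _)
        (by simp [hσ]) : Spec (CommRingCat.of L) ⟶ _) (IsLocalRing.closedPoint L))) := by
  set b := Spec.map (CommRingCat.ofHom (algebraMap k L)) with hb
  set x := σ (IsLocalRing.closedPoint k)
  obtain ⟨_, ⟨(V : X.Opens), (hV : IsAffineOpen V), rfl⟩, hxV, -⟩ :=
    X.isBasis_affineOpens.exists_subset_of_mem_open (Set.mem_univ x) isOpen_univ
  obtain ⟨φ, hφ⟩ := Spec.map_surjective (hV.fromSpec ≫ f)
  let σ₀ : Spec (CommRingCat.of k) ⟶ Spec Γ(X, V) := IsOpenImmersion.lift hV.fromSpec σ (by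
    rw [hV.range_fromSpec]
    rintro _ ⟨z, rfl⟩
    rw [Subsingleton.elim (α := PrimeSpectrum k) z (IsLocalRing.closedPoint k)]
    exact hxV)
  have hσ₀ : σ₀ ≫ hV.fromSpec = σ := IsOpenImmersion.lift_fac _ _ _
  obtain ⟨ψ₀, hψ₀⟩ := Spec.map_surjective σ₀
  have hψφ : φ ≫ ψ₀ = 𝟙 _ := by
    apply Spec.map_injective
    rw [Spec.map_comp, Spec.map_id, hψ₀, hφ, reassoc_of% hσ₀, hσ]
  letI := φ.hom.toAlgebra
  let ψ : Γ(X, V) →ₐ[k] k :=
    { ψ₀.hom with commutes' := fun r => congr($(hψφ).hom r) }
  let Ψ := Algebra.TensorProduct.lift ((Algebra.ofId k L).comp ψ) (AlgHom.id k L)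
    (fun _ _ => Commute.all _ _)
  let j : Spec (CommRingCat.of (TensorProduct k Γ(X, V) L)) ⟶ pullback f b :=
    (pullbackSpecIso k Γ(X, V) L).inv ≫ pullback.map _ _ _ _ hV.fromSpec (𝟙 _) (𝟙 _)
      (by rw [Category.comp_id, ← hφ]; rfl) (by simp [hb])
  haveI : IsOpenImmersion j := by
    haveI := MorphismProperty.pullbackMap (P := @IsOpenImmersion)
      (inferInstanceAs (IsOpenImmersion hV.fromSpec))
      (inferInstanceAs (IsOpenImmersion (𝟙 (Spec (CommRingCat.of L)))))
      (show Spec.map (CommRingCat.ofHom (algebraMap k Γ(X, V))) = hV.fromSpec ≫ f from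
        hφ.symm.symm)
      (Category.id_comp b).symm
    infer_instance
  have hz : Spec.map (CommRingCat.ofHom Ψ.toRingHom) ≫ j =
      pullback.lift (b ≫ σ) (𝟙 _) (by simp [hσ]) := by
    apply pullback.hom_ext
    · simp only [j, Category.assoc, pullback.lift_fst, pullbackSpecIso_inv_fst_assoc]
      rw [← Spec.map_comp_assoc, ← hσ₀, ← hψ₀, hb, ← Spec.map_comp_assoc]
      congr 2
      ext a
      simp [Ψ, ψ]
    · simp only [j, Category.assoc, pullback.lift_snd, Category.comp_id, pullbackSpecIso_inv_snd]
      rw [← Spec.map_comp, ← Spec.map_id]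
      congr 1
      ext l
      simp [Ψ]
  have hxeq : hV.fromSpec (Spec.map ψ₀ (IsLocalRing.closedPoint k)) = x := by
    rw [← Scheme.Hom.comp_apply, hψ₀, hσ₀]
  set p : Spec Γ(X, V) := Spec.map ψ₀ (IsLocalRing.closedPoint k) with hpdef
  set q : Spec (CommRingCat.of (TensorProduct k Γ(X, V) L)) :=
    Spec.map (CommRingCat.ofHom Ψ.toRingHom) (IsLocalRing.closedPoint L) with hqdef
  have hjq : j q = (pullback.lift (b ≫ σ) (𝟙 _) (by simp [hσ]) :
      Spec (CommRingCat.of L) ⟶ pullback f b) (IsLocalRing.closedPoint L) := by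
    rw [← Scheme.Hom.comp_apply, hz]
  have hp : p.asIdeal = RingHom.ker ψ := by
    show Ideal.comap ψ₀.hom (IsLocalRing.maximalIdeal k) = _
    rw [IsLocalRing.maximalIdeal_eq_bot, ← RingHom.ker_eq_comap_bot]
    rfl
  have hq : q.asIdeal = RingHom.ker Ψ := by
    show Ideal.comap Ψ.toRingHom (IsLocalRing.maximalIdeal L) = _
    rw [IsLocalRing.maximalIdeal_eq_bot, ← RingHom.ker_eq_comap_bot]
    rfl
  haveI : q.asIdeal.LiesOver p.asIdeal := ⟨by
    rw [hp, hq]
    ext a
    simp [Ψ, RingHom.mem_ker, Ideal.under_def]⟩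
  letI := Localization.AtPrime.algebraOfLiesOver p.asIdeal q.asIdeal
  haveI : Localization.AtPrime.IsLiesOverAlgebra p.asIdeal q.asIdeal := ⟨rfl⟩
  -- transfer to the affine charts
  have e₁ : Localization.AtPrime p.asIdeal ≃+* X.presheaf.stalk x := by
    letI : Algebra Γ(X, V) ((Spec Γ(X, V)).presheaf.stalk p) :=
      StructureSheaf.stalkAlgebra Γ(X, V) p
    haveI : IsLocalization.AtPrime ((Spec Γ(X, V)).presheaf.stalk p) p.asIdeal :=
      StructureSheaf.IsLocalization.to_stalk Γ(X, V) p
    exact (IsLocalization.algEquiv p.asIdeal.primeCompl (Localization.AtPrime p.asIdeal)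
      ((Spec Γ(X, V)).presheaf.stalk p)).toRingEquiv.trans
      ((asIso (hV.fromSpec.stalkMap p)).commRingCatIsoToRingEquiv.symm.trans
        (X.presheaf.stalkCongr (.of_eq hxeq)).commRingCatIsoToRingEquiv)
  haveI : IsRegularLocalRing (Localization.AtPrime p.asIdeal) :=
    IsRegularLocalRing.of_ringEquiv e₁.symm
  haveI : IsNoetherianRing Γ(X, V) := by
    haveI : IsLocallyNoetherian X := LocallyOfFiniteType.isLocallyNoetherian f
    exact IsLocallyNoetherian.component_noetherian ⟨V, hV⟩
  haveI : IsNoetherianRing (CommRingCat.of (TensorProduct k Γ(X, V) L)) := by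
    haveI : IsLocallyNoetherian (pullback f b) :=
      LocallyOfFiniteType.isLocallyNoetherian (pullback.snd f b)
    haveI := isLocallyNoetherian_of_isOpenImmersion j
    exact isLocallyNoetherian_Spec.mp inferInstance
  haveI : IsNoetherianRing (Localization.AtPrime q.asIdeal) :=
    IsLocalization.isNoetherianRing q.asIdeal.primeCompl _ inferInstance
  have hreg₂ : IsRegularLocalRing (Localization.AtPrime q.asIdeal) := by
    refine isRegularLocalRing_of_flat_of_map_maximalIdeal
      (ringKrullDim_le_of_flat_of_isLocalHom (R := Localization.AtPrime p.asIdeal)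
        (S := Localization.AtPrime q.asIdeal)) ?_
    rw [← Localization.AtPrime.map_eq_maximalIdeal, ← Localization.AtPrime.map_eq_maximalIdeal,
      Ideal.map_map, Localization.AtPrime.IsLiesOverAlgebra.algebraMap_eq, Localization.localRingHom,
      IsLocalization.map_comp, ← Ideal.map_map]
    refine congrArg (Ideal.map _) (Eq.trans ?_ hq.symm)
    rw [hp, ker_point_baseChange]
    rfl
  letI : Algebra (CommRingCat.of (TensorProduct k Γ(X, V) L))
      ((Spec (CommRingCat.of (TensorProduct k Γ(X, V) L))).presheaf.stalk q) :=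
    StructureSheaf.stalkAlgebra (CommRingCat.of (TensorProduct k Γ(X, V) L)) q
  haveI : IsLocalization.AtPrime
      ((Spec (CommRingCat.of (TensorProduct k Γ(X, V) L))).presheaf.stalk q) q.asIdeal :=
    StructureSheaf.IsLocalization.to_stalk _ q
  exact IsRegularLocalRing.of_ringEquiv
    ((IsLocalization.algEquiv q.asIdeal.primeCompl (Localization.AtPrime q.asIdeal)
      ((Spec (CommRingCat.of (TensorProduct k Γ(X, V) L))).presheaf.stalk q)).toRingEquiv.trans
      ((asIso (j.stalkMap q)).commRingCatIsoToRingEquiv.symm.trans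
        ((pullback f b).presheaf.stalkCongr (.of_eq hjq)).commRingCatIsoToRingEquiv))

section group

open MonObj GrpObj

variable {k : Type u} [Field k] (G : Over (Spec (CommRingCat.of k))) [GrpObj G]
  [LocallyOfFiniteType G.hom]

set_option backward.isDefEq.respectTransparency false in
/-- A group scheme locally of finite type over a field which is regular at the unit is smooth. -/
theorem smooth_of_isRegular_unit
    (h : IsRegularLocalRing (G.left.presheaf.stalk (unitPt G))) : Smooth G.hom := by
  apply smooth_of_isReduced_geom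
  have h1 := exists_regular_point_baseChange G.hom (η[G]).left (Over.w η[G])
    (L := AlgebraicClosure k) h
  have hpt : unitPt (geomG G) =
      (pullback.lift (Spec.map (CommRingCat.ofHom (algebraMap k (AlgebraicClosure k))) ≫ η[G].left)
        (𝟙 _) (by simp) : Spec (CommRingCat.of (AlgebraicClosure k)) ⟶
          pullback G.hom (Spec.map (CommRingCat.ofHom (algebraMap k (AlgebraicClosure k)))))
        (IsLocalRing.closedPoint (AlgebraicClosure k)) := by
    have hu : (η[geomG G]).left = pullback.lift
        (Spec.map (CommRingCat.ofHom (algebraMap k (AlgebraicClosure k))) ≫ η[G].left) (𝟙 _)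
        (by simp) := by
      apply pullback.hom_ext
      · simp [geomG, Functor.obj.η_def]
      · exact (Over.w η[geomG G]).trans (pullback.lift_snd _ _ _).symm
    show (η[geomG G]).left _ = _
    rw [hu]
    rfl
  rw [hpt]
  haveI := h1
  haveI := H4Depth.isDomain_of_isRegularLocalRing
    ((pullback G.hom (Spec.map (CommRingCat.ofHom (algebraMap k (AlgebraicClosure k))))).presheaf.stalk
      ((pullback.lift (Spec.map (CommRingCat.ofHom (algebraMap k (AlgebraicClosure k))) ≫ η[G].left)
        (𝟙 _) _ : Spec (CommRingCat.of (AlgebraicClosure k)) ⟶ _)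
        (IsLocalRing.closedPoint (AlgebraicClosure k))))
  change _root_.IsReduced
    ((pullback G.hom (Spec.map (CommRingCat.ofHom (algebraMap k (AlgebraicClosure k))))).presheaf.stalk _)
  infer_instance

end group

end Groth.Agent.H19Grp
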