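import Mathlib.AlgebraicGeometry.Properties
import Mathlib.AlgebraicGeometry.Morphisms.FiniteType
import Mathlib.AlgebraicGeometry.Morphisms.Flat
import Mathlib.Topology.JacobsonSpace

/-!
# Reducedness via closed points and via flat surjective covers
-/

universe u

open CategoryTheory AlgebraicGeometry

namespace Groth.Agent.H19Grp

lemma isReduced_stalk_of_specializes {X : Scheme.{u}} {x y : X} (h : x ⤳ y)
    [_root_.IsReduced (X.presheaf.stalk y)] : _root_.IsReduced (X.presheaf.stalk x) := by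
  obtain ⟨U, hU, hy, -⟩ : ∃ U : X.Opens, IsAffineOpen U ∧ y ∈ U ∧ U ≤ ⊤ :=
    TopologicalSpace.Opens.isBasis_iff_nbhd.mp X.isBasis_affineOpens (U := ⊤) trivial
  have hx : x ∈ U := h.mem_open U.2 hy
  let := (X.presheaf.germ U x hx).hom.toAlgebra
  let := (X.presheaf.germ U y hy).hom.toAlgebra
  have hlx : IsLocalization.AtPrime (X.presheaf.stalk x) (hU.primeIdealOf ⟨x, hx⟩).asIdeal :=
    hU.isLocalization_stalk ⟨x, hx⟩
  have hly : IsLocalization.AtPrime (X.presheaf.stalk y) (hU.primeIdealOf ⟨y, hy⟩).asIdeal :=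
    hU.isLocalization_stalk ⟨y, hy⟩
  have hle : (hU.primeIdealOf ⟨x, hx⟩).asIdeal ≤ (hU.primeIdealOf ⟨y, hy⟩).asIdeal := by
    refine (PrimeSpectrum.le_iff_specializes _ _).mpr
      (hU.fromSpec.isOpenEmbedding.isInducing.specializes_iff.mp ?_)
    rw [hU.fromSpec_primeIdealOf, hU.fromSpec_primeIdealOf]
    exact h
  refine ⟨fun z hz => ?_⟩
  obtain ⟨a, s, rfl⟩ := IsLocalization.exists_mk'_eq
    (hU.primeIdealOf ⟨x, hx⟩).asIdeal.primeCompl z
  obtain ⟨n, hn⟩ := hz
  rw [← IsLocalization.mk'_pow, IsLocalization.mk'_eq_zero_iff] at hn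
  obtain ⟨t, ht⟩ := hn
  have hnil : IsNilpotent ((t : Γ(X, U)) * a) := ⟨n + 1, by
    rw [mul_pow, pow_succ (t : Γ(X, U)), pow_succ a]
    linear_combination ((t : Γ(X, U)) ^ n * a) * ht⟩
  have h0 := (hnil.map (algebraMap Γ(X, U) (X.presheaf.stalk y))).eq_zero
  obtain ⟨t', ht'⟩ :=
    (IsLocalization.map_eq_zero_iff (hU.primeIdealOf ⟨y, hy⟩).asIdeal.primeCompl
      (X.presheaf.stalk y) _).mp h0
  rw [IsLocalization.mk'_eq_zero_iff]
  exact ⟨⟨t'.1, fun hm => t'.2 (hle hm)⟩ * t, by simpa [mul_assoc] using ht'⟩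

lemma isReduced_of_forall_closedPoint {X : Scheme.{u}} [JacobsonSpace X]
    (h : ∀ x : X, IsClosed {x} → _root_.IsReduced (X.presheaf.stalk x)) : IsReduced X := by
  have (x : X) : _root_.IsReduced (X.presheaf.stalk x) := by
    obtain ⟨y, hy, hyc⟩ := nonempty_inter_closedPoints (Z := closure {x})
      ⟨x, subset_closure rfl⟩ isClosed_closure.isLocallyClosed
    have := h y hyc
    exact isReduced_stalk_of_specializes (specializes_iff_mem_closure.mpr hy)
  exact isReduced_of_isReduced_stalk X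

lemma isReduced_of_flat_surjective {X Y : Scheme.{u}} (f : X ⟶ Y) [Flat f] [Surjective f]
    [IsReduced X] : IsReduced Y := by
  have (y : Y) : _root_.IsReduced (Y.presheaf.stalk y) := by
    obtain ⟨x, rfl⟩ := f.surjective y
    algebraize [(f.stalkMap x).hom]
    have : Module.FaithfullyFlat (Y.presheaf.stalk (f x)) (X.presheaf.stalk x) :=
      @Module.FaithfullyFlat.of_flat_of_isLocalHom _ _ _ _ _ _ _
        (Flat.stalkMap f x) (f.toLRSHom.prop x)
    exact isReduced_of_injective (f.stalkMap x).hom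
      (FaithfulSMul.algebraMap_injective (Y.presheaf.stalk (f x)) (X.presheaf.stalk x))
  exact isReduced_of_isReduced_stalk Y

end Groth.Agent.H19Grp
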