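import Mathlib.AlgebraicGeometry.Morphisms.SchemeTheoreticallyDominant
import Mathlib.AlgebraicGeometry.Morphisms.Separated

/-!
# Morphisms with zero kernel are cancellable against separated targets
-/

universe u

open CategoryTheory CategoryTheory.Limits AlgebraicGeometry

namespace Groth.Agent.H19Grp

lemma ext_of_ker_eq_bot {W X Y Z : Scheme.{u}} (ι : W ⟶ X) (hι : ι.ker = ⊥) {f g : X ⟶ Y}
    (s : Y ⟶ Z) [IsSeparated s] (h : f ≫ s = g ≫ s) (hU : ι ≫ f = ι ≫ g) : f = g := by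
  let X' : Over Z := Over.mk (f ≫ s)
  let Y' : Over Z := Over.mk s
  let U' : Over Z := Over.mk (ι ≫ f ≫ s)
  let f' : X' ⟶ Y' := Over.homMk f
  let g' : X' ⟶ Y' := Over.homMk g
  let ι' : U' ⟶ X' := Over.homMk ι
  have : IsSeparated Y'.hom := ‹_›
  have hcond : ι' ≫ f' = ι' ≫ g' := by ext1; exact hU
  let e := (equalizer.ι f' g').left
  have hle : Scheme.Hom.ker e ≤ ⊥ := by
    have h1 : (equalizer.lift ι' hcond).left ≫ e = ι := by
      rw [← Over.comp_left, equalizer.lift_ι]; rfl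
    calc Scheme.Hom.ker e ≤ Scheme.Hom.ker ((equalizer.lift ι' hcond).left ≫ e) :=
          Scheme.Hom.le_ker_comp _ _
      _ = ⊥ := (congrArg Scheme.Hom.ker h1).trans hι
  have : IsIso e := IsClosedImmersion.isIso_iff_ker_eq_bot.mpr (le_bot_iff.mp hle)
  rw [← cancel_epi e]
  exact congrArg (·.left) (equalizer.condition f' g')

lemma ker_opens_ι_eq_bot {X : Scheme.{u}} (U : X.Opens)
    (hU : ∀ V : X.Opens, Function.Injective (X.presheaf.map (homOfLE (inf_le_left : V ⊓ U ≤ V)).op)) :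
    U.ι.ker = ⊥ := by
  ext1
  funext V
  refine le_bot_iff.mp ((U.ι.ideal_ker_le V).trans ?_)
  intro s hs
  rw [RingHom.mem_ker, Scheme.Opens.ι_app] at hs
  have h0 := congrArg (X.presheaf.map (homOfLE
    (show V.1 ⊓ U ≤ U.ι ''ᵁ U.ι ⁻¹ᵁ V.1 by
      rw [Scheme.Hom.image_preimage_eq_opensRange_inf, Scheme.Opens.opensRange_ι, inf_comm])).op).hom hs
  refine Ideal.mem_bot.mpr (hU V.1 ?_)
  rw [map_zero]
  erw [map_zero] at h0
  refine Eq.trans ?_ h0
  erw [← ConcreteCategory.comp_apply, ← Functor.map_comp]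
  rfl

end Groth.Agent.H19Grp
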