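import Groth.Agent.H19Grp.Cartier
import Groth.Agent.H19Grp.RegularSmooth
import Groth.Agent.H4Depth.Regular
import Groth.Agent.H17.Image
import Groth.Agent.H06Red.Scheme
import Mathlib

/-!
# Reduced images: geometric reducedness and group structure
-/

set_option autoImplicit false
set_option linter.style.haveILetI false
set_option backward.isDefEq.respectTransparency false

universe u

open CategoryTheory CategoryTheory.Limits MonoidalCategory CartesianMonoidalCategory MonObj GrpObj
  AlgebraicGeometry

namespace Groth.Agent.H19Grp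

variable {k : Type u} [Field k]

/-- Smooth schemes over fields are geometrically reduced. -/
theorem geometricallyReduced_of_smooth {X : Scheme.{u}} (f : X ⟶ Spec (CommRingCat.of k))
    [Smooth f] : GeometricallyReduced f := by
  refine ⟨fun L _ y P a b hP => ?_⟩
  haveI : Smooth b := MorphismProperty.of_isPullback (P := @Smooth) hP inferInstance
  haveI : ∀ p, _root_.IsReduced (P.presheaf.stalk p) := fun p => by
    haveI := isRegularLocalRing_stalk_of_smooth b p
    haveI := H4Depth.isDomain_of_isRegularLocalRing (P.presheaf.stalk p)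
    infer_instance
  exact isReduced_of_isReduced_stalk P

/-- Geometric reducedness descends along quasi-compact scheme-theoretically dominant morphisms. -/
theorem geometricallyReduced_of_schDominant {X Y : Scheme.{u}} (f : X ⟶ Y) [QuasiCompact f]
    [IsSchemeTheoreticallyDominant f] (g : Y ⟶ Spec (CommRingCat.of k))
    [GeometricallyReduced (f ≫ g)] : GeometricallyReduced g := by
  refine ⟨fun L _ y P a b hP => ?_⟩
  haveI : Flat y := by
    obtain ⟨φ, rfl⟩ := Spec.map_surjective y
    rw [HasRingHomProperty.Spec_iff (P := @Flat)]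
    algebraize [φ.hom]
    exact (inferInstance : Module.Flat k L)
  haveI : Flat (pullback.fst g y) := inferInstance
  haveI : IsReduced (pullback (f ≫ g) y) :=
    GeometricallyReduced.geometrically_isReduced _ _ _ (.of_hasPullback _ _)
  haveI : IsReduced (pullback f (pullback.fst g y)) :=
    isReduced_of_isOpenImmersion (pullbackRightPullbackFstIso g y f).hom
  haveI : IsReduced (pullback g y) :=
    IsSchemeTheoreticallyDominant.isReduced (pullback.snd f (pullback.fst g y))
  exact isReduced_of_isOpenImmersion hP.isoPullback.hom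

/-- Reduced target of a surjective quasi-compact morphism from a geometrically reduced scheme is
geometrically reduced. -/
theorem geometricallyReduced_of_surjective {X Y : Scheme.{u}} (f : X ⟶ Y) [QuasiCompact f]
    [Surjective f] [IsReduced Y] (g : Y ⟶ Spec (CommRingCat.of k))
    [GeometricallyReduced (f ≫ g)] : GeometricallyReduced g := by
  haveI : IsDominant f := inferInstance
  haveI : IsSchemeTheoreticallyDominant f := .of_isDominant f
  exact geometricallyReduced_of_schDominant f g

variable {G G' : Over (Spec (CommRingCat.of k))} [GrpObj G] [GrpObj G']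

/-- A geometrically reduced closed subscheme carrying the image of a group homomorphism is a
smooth subgroup scheme. -/
theorem smooth_image [LocallyOfFiniteType G'.hom] (f : G ⟶ G') [IsMonHom f]
    (H : Over (Spec (CommRingCat.of k))) [IsReduced H.left] [GeometricallyReduced H.hom]
    (i : H ⟶ G') [IsClosedImmersion i.left] (g : G ⟶ H) (hg : g ≫ i = f) [Surjective g.left] :
    Smooth H.hom := by
  haveI : Mono i := (Over.forget _).mono_of_mono_map (inferInstanceAs (Mono i.left))
  haveI : IsReduced (H ⊗ H).left := by
    show IsReduced (pullback H.hom H.hom)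
    exact H06Red.isReduced_pullback _ _
  haveI hs : Surjective (g ⊗ₘ g).left :=
    MorphismProperty.pullbackMap (P := @Surjective) (inferInstanceAs (Surjective g.left))
      (inferInstanceAs (Surjective g.left)) (Over.w g).symm (Over.w g).symm
  have hmul : Set.range ((i ⊗ₘ i) ≫ μ[G']).left ⊆ Set.range i.left := by
    rintro _ ⟨z, rfl⟩
    obtain ⟨w, rfl⟩ := (g ⊗ₘ g).left.surjective z
    refine ⟨g.left ((μ[G]).left w), ?_⟩
    have h : (g ⊗ₘ g) ≫ (i ⊗ₘ i) ≫ μ[G'] = μ[G] ≫ g ≫ i := by
      rw [← Category.assoc, tensorHom_comp_tensorHom, hg, IsMonHom.mul_hom f]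
    exact (congrArg (fun m => m.left w) h).symm
  have hinv : Set.range (i ≫ ι[G']).left ⊆ Set.range i.left := by
    rintro _ ⟨z, rfl⟩
    obtain ⟨w, rfl⟩ := g.left.surjective z
    refine ⟨g.left ((ι[G]).left w), ?_⟩
    have h : g ≫ i ≫ ι[G'] = ι[G] ≫ g ≫ i := by
      rw [← Category.assoc, hg, GrpObj.inv_hom f]
    exact (congrArg (fun m => m.left w) h).symm
  obtain ⟨m0, hm0⟩ := H17.exists_lift_of_range_subset _ i.left hmul
  obtain ⟨v0, hv0⟩ := H17.exists_lift_of_range_subset _ i.left hinv
  let m : H ⊗ H ⟶ H := Over.homMk m0 ((congrArg (m0 ≫ ·) (Over.w i).symm).trans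
    (((Category.assoc _ _ _).symm.trans (congrArg (· ≫ G'.hom) hm0)).trans (Over.w _)))
  let v : H ⟶ H := Over.homMk v0 ((congrArg (v0 ≫ ·) (Over.w i).symm).trans
    (((Category.assoc _ _ _).symm.trans (congrArg (· ≫ G'.hom) hv0)).trans (Over.w _)))
  have hm : m ≫ i = (i ⊗ₘ i) ≫ μ[G'] := Over.OverMorphism.ext hm0
  have hv : v ≫ i = i ≫ ι[G'] := Over.OverMorphism.ext hv0
  have h1 : (η[G] ≫ g) ≫ i = η[G'] := by rw [Category.assoc, hg, IsMonHom.one_hom f]
  letI : MonObj H :=
    { one := η[G] ≫ g
      mul := m
      one_mul := by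
        rw [← cancel_mono i, Category.assoc, hm, ← Category.assoc, ← tensorHom_id,
          tensorHom_comp_tensorHom, h1, Category.id_comp, leftUnitor_hom]
        rw [MonoidalCategory.tensorHom_def', Category.assoc, MonObj.one_mul, leftUnitor_hom, whiskerLeft_snd]
      mul_one := by
        rw [← cancel_mono i, Category.assoc, hm, ← Category.assoc, ← id_tensorHom,
          tensorHom_comp_tensorHom, h1, Category.id_comp, rightUnitor_hom]
        rw [MonoidalCategory.tensorHom_def, Category.assoc, MonObj.mul_one, rightUnitor_hom, whiskerRight_fst]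
      mul_assoc := by
        have e1 : ((i ⊗ₘ i) ≫ μ[G']) ⊗ₘ i = ((i ⊗ₘ i) ⊗ₘ i) ≫ (μ[G'] ▷ G') := by
          rw [← tensorHom_id, tensorHom_comp_tensorHom, Category.comp_id]
        have e2 : i ⊗ₘ ((i ⊗ₘ i) ≫ μ[G']) = (i ⊗ₘ (i ⊗ₘ i)) ≫ (G' ◁ μ[G']) := by
          rw [← id_tensorHom, tensorHom_comp_tensorHom, Category.comp_id]
        rw [← cancel_mono i, Category.assoc, hm, ← Category.assoc, ← tensorHom_id,
          tensorHom_comp_tensorHom, hm, Category.id_comp, e1, Category.assoc, Category.assoc,
          Category.assoc, hm, ← Category.assoc (H ◁ m), ← id_tensorHom, tensorHom_comp_tensorHom,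
          hm, Category.id_comp, e2, Category.assoc, MonObj.mul_assoc, associator_naturality_assoc] }
  letI : GrpObj H :=
    { inv := v
      left_inv := by
        rw [← cancel_mono i]
        show (lift v (𝟙 H) ≫ m) ≫ i = (toUnit H ≫ η[G] ≫ g) ≫ i
        rw [Category.assoc, hm, lift_map_assoc, hv, Category.id_comp, Category.assoc, h1]
        have h := inv_mul_cancel i
        simpa only [Hom.mul_def, Hom.inv_def, Hom.one_def] using h
      right_inv := by
        rw [← cancel_mono i]
        show (lift (𝟙 H) v ≫ m) ≫ i = (toUnit H ≫ η[G] ≫ g) ≫ i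
        rw [Category.assoc, hm, lift_map_assoc, hv, Category.id_comp, Category.assoc, h1]
        have h := mul_inv_cancel i
        simpa only [Hom.mul_def, Hom.inv_def, Hom.one_def] using h }
  haveI : LocallyOfFiniteType H.hom := by rw [← Over.w i]; infer_instance
  letI hH : GrpObj H := inferInstance
  letI : GrpObj (Over.mk H.hom) := hH
  exact smooth_of_grpObj H.hom

end Groth.Agent.H19Grp
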