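import Groth.Agent.H19Grp.Basic

/-!
# Kernels of morphisms to group schemes, described on points
-/

universe u

open CategoryTheory CategoryTheory.Limits MonoidalCategory CartesianMonoidalCategory MonObj GrpObj
  AlgebraicGeometry

namespace Groth.Agent.H19Grp

variable {S : Scheme.{u}} {N G Q : Over S} [GrpObj Q] {i : N ⟶ G} {q : G ⟶ Q}

lemma kernel_comp_eq_one (h : AlgGrp.IsKernel i q) : i ≫ q = 1 := by
  rw [h.w, Hom.one_def]

lemma kernel_lift (h : AlgGrp.IsKernel i q) {T : Over S} (x : T ⟶ G) (hx : x ≫ q = 1) :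
    ∃ n : T ⟶ N, n ≫ i = x :=
  ⟨h.lift x (toUnit T) (by rw [hx, Hom.one_def]), h.lift_fst _ _ _⟩

lemma kernel_mono (h : AlgGrp.IsKernel i q) : Mono i :=
  ⟨fun a b hab => h.hom_ext hab (Subsingleton.elim _ _)⟩

lemma isKernel_of (h1 : i ≫ q = 1) (hmono : ∀ (T : Over S) (a b : T ⟶ N), a ≫ i = b ≫ i → a = b)
    (hlift : ∀ (T : Over S) (x : T ⟶ G), x ≫ q = 1 → ∃ n : T ⟶ N, n ≫ i = x) :
    AlgGrp.IsKernel i q := by
  have key : ∀ s : PullbackCone q η[Q], ∃ n : s.pt ⟶ N, n ≫ i = s.fst := fun s =>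
    hlift _ s.fst (by rw [s.condition, Subsingleton.elim s.snd (toUnit _), Hom.one_def])
  refine ⟨⟨by rw [h1, Hom.one_def]⟩, ⟨PullbackCone.IsLimit.mk _ (fun s => (key s).choose)
    (fun s => (key s).choose_spec) (fun s => Subsingleton.elim _ _)
    (fun s m hm _ => hmono _ _ _ (hm.trans (key s).choose_spec.symm))⟩⟩

end Groth.Agent.H19Grp
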