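import Groth.Agent.H19Grp.AffineLineLaw
import Groth.Prelude.Def_Red
import Mathlib

/-!
# Group laws on the punctured line over a field
-/

set_option autoImplicit false
set_option linter.style.haveILetI false
set_option backward.isDefEq.respectTransparency false

universe u

open CategoryTheory CategoryTheory.Limits MonoidalCategory CartesianMonoidalCategory AlgebraicGeometry
open LaurentPolynomial
open scoped MonObj

namespace Groth.Agent.H19Grp.PuncturedLineLaw

open AffineLineLaw (T Tmap)

/-- Units of Laurent polynomials over a domain are monomials with unit coefficient. -/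
lemma exists_eq_C_mul_T {D : Type u} [CommRing D] [IsDomain D] {f : D[T;T⁻¹]} (hf : IsUnit f) :
    ∃ (c : Dˣ) (n : ℤ), f = C (c : D) * LaurentPolynomial.T n := by
  obtain ⟨g, hg⟩ := hf.exists_right_inv
  obtain ⟨n, p, hp⟩ := LaurentPolynomial.exists_T_pow f
  obtain ⟨m, q, hq⟩ := LaurentPolynomial.exists_T_pow g
  have hpq : p * q = Polynomial.X ^ (n + m) := by
    apply Polynomial.toLaurent_injective
    rw [map_mul, map_pow, Polynomial.toLaurent_X, hp, hq, LaurentPolynomial.T_pow, mul_one, Nat.cast_add,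
      LaurentPolynomial.T_add, mul_mul_mul_comm, hg, one_mul]
  obtain ⟨i, -, hi⟩ := (dvd_prime_pow Polynomial.prime_X (n + m)).mp ⟨q, hpq.symm⟩
  obtain ⟨u, hu⟩ := hi.symm
  obtain ⟨c, hc, hcu⟩ := Polynomial.isUnit_iff.mp u.isUnit
  refine ⟨hc.unit, (i : ℤ) - n, ?_⟩
  have e : f = Polynomial.toLaurent p * LaurentPolynomial.T (-(n : ℤ)) := by
    rw [hp, mul_assoc, ← LaurentPolynomial.T_add, add_neg_cancel, LaurentPolynomial.T_zero, mul_one]
  rw [e, ← hu, ← hcu, map_mul, map_pow, Polynomial.toLaurent_X, Polynomial.toLaurent_C,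
    LaurentPolynomial.T_pow, mul_one, mul_comm (LaurentPolynomial.T _), mul_assoc,
    ← LaurentPolynomial.T_add, sub_eq_add_neg]
  rfl

variable {k : Type u} [Field k]

local notation "Gm'" => Red.Gm (Spec (CommRingCat.of k))

/-- The coordinate of a point of the multiplicative group. -/
noncomputable def val {R : Type u} [CommRing R] [Algebra k R] (g : T k R ⟶ Gm') : Rˣ :=
  ((Spec.preimage (g.left ≫ pullback.fst _ _)).hom.toMonoidHom.comp
    (MonoidAlgebra.of (ULift.{u} ℤ) (Multiplicative ℤ))).toHomUnits (Multiplicative.ofAdd 1)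

lemma val_comp {R R' : Type u} [CommRing R] [Algebra k R] [CommRing R'] [Algebra k R'] (φ : R →ₐ[k] R')
    (g : T k R ⟶ Gm') : val (Tmap φ ≫ g) = Units.map φ.toRingHom.toMonoidHom (val g) := by
  have : Spec.preimage ((Tmap φ ≫ g).left ≫ pullback.fst _ _) =
      Spec.preimage (g.left ≫ pullback.fst _ _) ≫ CommRingCat.ofHom φ.toRingHom := by
    refine Spec.map_injective ?_
    rw [Spec.map_comp, Spec.map_preimage, Spec.map_preimage, Over.comp_left, Category.assoc]
    rfl
  rw [val, this]
  exact Units.ext rfl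

lemma val_injective {R : Type u} [CommRing R] [Algebra k R] {g g' : T k R ⟶ Gm'}
    (h : val g = val g') : g = g' := by
  ext : 1
  refine pullback.hom_ext ?_ ((Over.w g).trans (Over.w g').symm)
  rw [← Spec.map_preimage (g.left ≫ pullback.fst _ _), ← Spec.map_preimage (g'.left ≫ pullback.fst _ _)]
  congr 1
  ext1
  refine MonoidAlgebra.ringHom_ext (fun r => ?_) fun a => ?_
  · have hsub : ∀ ψ ψ' : ULift.{u} ℤ →+* R, ψ = ψ' := fun ψ ψ' => by
      have := RingHom.ext_int (ψ.comp ULift.ringEquiv.symm.toRingHom) (ψ'.comp ULift.ringEquiv.symm.toRingHom)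
      ext x
      exact RingHom.congr_fun this x.down
    exact RingHom.congr_fun (hsub ((Spec.preimage (g.left ≫ pullback.fst _ _)).hom.comp MonoidAlgebra.singleOneRingHom)
      ((Spec.preimage (g'.left ≫ pullback.fst _ _)).hom.comp MonoidAlgebra.singleOneRingHom)) r
  · have := MonoidHom.ext_mint (f := ((Spec.preimage (g.left ≫ pullback.fst _ _)).hom.toMonoidHom.comp
        (MonoidAlgebra.of (ULift.{u} ℤ) (Multiplicative ℤ))).toHomUnits)
      (g := ((Spec.preimage (g'.left ≫ pullback.fst _ _)).hom.toMonoidHom.comp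
        (MonoidAlgebra.of (ULift.{u} ℤ) (Multiplicative ℤ))).toHomUnits) h
    exact congrArg Units.val (DFunLike.congr_fun this a)

lemma val_surjective {R : Type u} [CommRing R] [Algebra k R] (a : Rˣ) :
    ∃ g : T k R ⟶ Gm', val g = a := by
  let φ : MonoidAlgebra (ULift.{u} ℤ) (Multiplicative ℤ) →+* R :=
    MonoidAlgebra.liftNCRingHom ((Int.castRingHom R).comp ULift.ringEquiv.toRingHom)
      ((Units.coeHom R).comp (zpowersHom Rˣ a)) fun _ _ => Commute.all _ _
  let g : T k R ⟶ Gm' :=
    Over.homMk (pullback.lift (Spec.map (CommRingCat.ofHom φ))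
      (Spec.map (CommRingCat.ofHom (algebraMap k R))) (specULiftZIsTerminal.hom_ext _ _))
      (pullback.lift_snd _ _ _)
  refine ⟨g, Units.ext ?_⟩
  rw [val, show g.left ≫ pullback.fst _ _ = Spec.map (CommRingCat.ofHom φ) from
    pullback.lift_fst _ _ _, Spec.preimage_map]
  simp [φ, MonoidAlgebra.liftNCRingHom]

/-- A point with given coordinate. -/
noncomputable def pt {R : Type u} [CommRing R] [Algebra k R] (a : Rˣ) : T k R ⟶ Gm' :=
  (val_surjective (k := k) a).choose

lemma val_pt {R : Type u} [CommRing R] [Algebra k R] (a : Rˣ) : val (pt (k := k) a) = a :=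
  (val_surjective a).choose_spec

lemma pt_val {R : Type u} [CommRing R] [Algebra k R] (g : T k R ⟶ Gm') : pt (val g) = g :=
  val_injective (val_pt _)

/-- In coordinates a group law on the punctured line with unit `e` is `x y / e`. -/
theorem mul_law (h : GrpObj Gm') :
    ∃ e : kˣ, (∀ (R : Type u) [CommRing R] [Algebra k R],
      val (toUnit (T k R) ≫ h.one) = Units.map (algebraMap k R).toMonoidHom e) ∧
    ∀ (R : Type u) [CommRing R] [Algebra k R] (a b : T k R ⟶ Gm'),
      val (lift a b ≫ h.mul) = val a * val b * (Units.map (algebraMap k R).toMonoidHom e)⁻¹ := by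
  letI := h
  let e : kˣ := val (toUnit (T k k) ≫ h.one)
  have hone : ∀ (R : Type u) [CommRing R] [Algebra k R],
      val (1 : T k R ⟶ Gm') = Units.map (algebraMap k R).toMonoidHom e := by
    intro R _ _
    have := val_comp (Algebra.ofId k R) (toUnit (T k k) ≫ h.one : T k k ⟶ Gm')
    rw [← Category.assoc, toUnit_unique (Tmap _ ≫ toUnit _) (toUnit _)] at this
    exact this
  let L := LaurentPolynomial k
  let Tu : Lˣ := (LaurentPolynomial.isUnit_T (R := k) 1).unit
  let Tu' : (LaurentPolynomial L)ˣ := (LaurentPolynomial.isUnit_T (R := L) 1).unit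
  let Cu : (LaurentPolynomial L)ˣ := Units.map (C : L →+* LaurentPolynomial L).toMonoidHom Tu
  let F : (LaurentPolynomial L)ˣ := val (pt (k := k) Tu' * pt (k := k) Cu)
  obtain ⟨c', q, hF⟩ := exists_eq_C_mul_T F.isUnit
  obtain ⟨c, p, hc'⟩ := exists_eq_C_mul_T c'.isUnit
  have hlaw : ∀ {R : Type u} [CommRing R] [Algebra k R] (a b : Rˣ),
      val (pt (k := k) a * pt b) = Units.map (algebraMap k R).toMonoidHom c * b ^ p * a ^ q := by
    intro R _ _ a b
    let φ : LaurentPolynomial L →ₐ[k] R :=
      { LaurentPolynomial.eval₂ (LaurentPolynomial.eval₂ (algebraMap k R) b) a with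
        commutes' := fun x => by
          show LaurentPolynomial.eval₂ _ a (algebraMap k (LaurentPolynomial L) x) = _
          rw [show algebraMap k (LaurentPolynomial L) x = C (C x) from rfl, LaurentPolynomial.eval₂_C,
            LaurentPolynomial.eval₂_C] }
    have e1 : Tmap φ ≫ pt (k := k) Tu' = pt a := val_injective (by
      rw [val_comp, val_pt, val_pt]; ext; simp [φ, Tu', L])
    have e2 : Tmap φ ≫ pt (k := k) Cu = pt b := val_injective (by
      rw [val_comp, val_pt, val_pt]; ext; simp [φ, Cu, Tu, L])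
    rw [← e1, ← e2, ← MonObj.comp_mul, val_comp]
    ext
    show φ (F : LaurentPolynomial L) = _
    rw [hF, hc']
    simp [φ, L]
  have hq : q = 1 ∧ p = 1 ∧ c = e⁻¹ := by
    have h1 := congrArg Units.val (hlaw (R := L) Tu (Units.map (algebraMap k L).toMonoidHom e))
    rw [show pt (k := k) (Units.map (algebraMap k L).toMonoidHom e) = 1 from val_injective (by rw [val_pt, hone]),
      mul_one, val_pt] at h1
    have h2 := congrArg Units.val (hlaw (R := L) (Units.map (algebraMap k L).toMonoidHom e) Tu)
    rw [show pt (k := k) (Units.map (algebraMap k L).toMonoidHom e) = 1 from val_injective (by rw [val_pt, hone]),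
      one_mul, val_pt] at h2
    have hTq : ∀ n : ℤ, ((Tu ^ n : Lˣ) : L) = LaurentPolynomial.T n := by
      intro n
      induction n with
      | zero => simp
      | succ n ih =>
        rw [zpow_add_one, Units.val_mul, ih, LaurentPolynomial.T_add]; rfl
      | pred n ih =>
        rw [zpow_sub_one, Units.val_mul, ih, LaurentPolynomial.T_sub]
        congr 1
        refine Units.inv_eq_of_mul_eq_one_right ?_
        show LaurentPolynomial.T 1 * LaurentPolynomial.T (-1) = (1 : L)
        rw [← LaurentPolynomial.T_add, add_neg_cancel, LaurentPolynomial.T_zero]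
    have hC : ∀ x : kˣ, ∀ n : ℤ, (((Units.map (algebraMap k L).toMonoidHom x) ^ n : Lˣ) : L) =
        C ((x ^ n : kˣ) : k) := by
      intro x n
      rw [← map_zpow]; rfl
    simp only [Units.val_mul, hTq, hC] at h1 h2
    have h1' : LaurentPolynomial.C (1 : k) * LaurentPolynomial.T 1 =
        C ((c : k) * ((e ^ p : kˣ) : k)) * LaurentPolynomial.T q := by
      rw [map_one, one_mul, map_mul]; exact h1
    have h2' : LaurentPolynomial.C (1 : k) * LaurentPolynomial.T 1 =
        C ((c : k) * ((e ^ q : kˣ) : k)) * LaurentPolynomial.T p := by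
      rw [map_one, one_mul, map_mul, mul_assoc, mul_comm (C _) (LaurentPolynomial.T p), ← mul_assoc]
      exact h2
    rw [← LaurentPolynomial.single_eq_C_mul_T, ← LaurentPolynomial.single_eq_C_mul_T] at h1' h2'
    rcases (Finsupp.single_eq_single_iff _ _ _ _).mp (congrArg AddMonoidAlgebra.coeff h1') with ⟨hq, hv⟩ | ⟨h0, -⟩
    · rcases (Finsupp.single_eq_single_iff _ _ _ _).mp (congrArg AddMonoidAlgebra.coeff h2') with ⟨hp, -⟩ | ⟨h0, -⟩
      · refine ⟨hq.symm, hp.symm, ?_⟩
        rw [← hp, zpow_one] at hv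
        exact eq_inv_of_mul_eq_one_left (Units.ext hv.symm)
      · exact absurd h0 one_ne_zero
    · exact absurd h0 one_ne_zero
  obtain ⟨rfl, rfl, rfl⟩ := hq
  refine ⟨e, hone, fun R _ _ a b => ?_⟩
  have := hlaw (R := R) (val a) (val b)
  rw [pt_val, pt_val] at this
  refine Eq.trans this ?_
  rw [zpow_one, zpow_one, map_inv]
  ac_rfl

end Groth.Agent.H19Grp.PuncturedLineLaw
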