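import Groth.Prelude.Def_Red2
import Mathlib

/-!
# Group laws on the affine line and on the punctured line over a field
-/

set_option autoImplicit false
set_option linter.style.haveILetI false
set_option backward.isDefEq.respectTransparency false

universe u

open CategoryTheory CategoryTheory.Limits MonoidalCategory CartesianMonoidalCategory AlgebraicGeometry Polynomial
open scoped MonObj

namespace Groth.Agent.H19Grp.AffineLineLaw

section General

variable {k : Type u} [Field k]

/-- `Spec R` as a `k`-scheme. -/
noncomputable abbrev T (k : Type u) [Field k] (R : Type u) [CommRing R] [Algebra k R] :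
    Over (Spec (CommRingCat.of k)) :=
  Over.mk (Spec.map (CommRingCat.ofHom (algebraMap k R)))

/-- The map of test schemes given by an algebra map. -/
noncomputable def Tmap {R R' : Type u} [CommRing R] [Algebra k R] [CommRing R'] [Algebra k R']
    (φ : R →ₐ[k] R') : T k R' ⟶ T k R :=
  Over.homMk (Spec.map (CommRingCat.ofHom φ.toRingHom)) (by
    show Spec.map _ ≫ Spec.map _ = Spec.map _
    rw [← Spec.map_comp]
    congr 1
    ext c
    exact φ.commutes c)

/-- An affine `k`-scheme is a test scheme. -/
lemma exists_T_iso (X : Over (Spec (CommRingCat.of k))) [IsAffine X.left] :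
    ∃ (R : Type u) (_ : CommRing R) (_ : Algebra k R), Nonempty (T k R ≅ X) := by
  letI : Algebra k Γ(X.left, ⊤) := (Spec.preimage (X.left.isoSpec.inv ≫ X.hom)).hom.toAlgebra
  refine ⟨Γ(X.left, ⊤), inferInstance, inferInstance, ⟨Over.isoMk X.left.isoSpec.symm ?_⟩⟩
  show X.left.isoSpec.inv ≫ X.hom = Spec.map (Spec.preimage (X.left.isoSpec.inv ≫ X.hom))
  rw [Spec.map_preimage]

/-- Multiplications agree as soon as they agree on points with values in algebras. -/
lemma mul_ext {X : Over (Spec (CommRingCat.of k))} [IsAffine (X ⊗ X).left] (m₁ m₂ : X ⊗ X ⟶ X)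
    (h : ∀ (R : Type u) [CommRing R] [Algebra k R] (a b : T k R ⟶ X), lift a b ≫ m₁ = lift a b ≫ m₂) :
    m₁ = m₂ := by
  obtain ⟨R, _, _, ⟨e⟩⟩ := exists_T_iso (X ⊗ X)
  have := h R (e.hom ≫ fst X X) (e.hom ≫ snd X X)
  rwa [← comp_lift, lift_fst_snd, Category.comp_id, cancel_epi] at this

lemma isAffine_bc_tensor {A : Type u} [CommRing A] [Algebra (ULift.{u} ℤ) A] :
    IsAffine ((Red.bc (Limits.IsTerminal.from specULiftZIsTerminal (Spec (CommRingCat.of k)))
        ((Spec (CommRingCat.of A)).asOver (Spec (CommRingCat.of (ULift.{u} ℤ))))) ⊗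
      (Red.bc (Limits.IsTerminal.from specULiftZIsTerminal (Spec (CommRingCat.of k)))
        ((Spec (CommRingCat.of A)).asOver (Spec (CommRingCat.of (ULift.{u} ℤ)))))).left := by
  haveI : IsAffine ((Spec (CommRingCat.of A)).asOver (Spec (CommRingCat.of (ULift.{u} ℤ)))).left :=
    inferInstanceAs (IsAffine (Spec (CommRingCat.of A)))
  haveI : IsAffine (Red.bc (Limits.IsTerminal.from specULiftZIsTerminal (Spec (CommRingCat.of k)))
      ((Spec (CommRingCat.of A)).asOver (Spec (CommRingCat.of (ULift.{u} ℤ))))).left := by
    dsimp [Red.bc]; infer_instance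
  dsimp
  infer_instance

end General

section Ga

variable {k : Type u} [Field k]

local notation "Ga'" => Red.Ga (Spec (CommRingCat.of k))

/-- The coordinate of a point of the additive group. -/
noncomputable def val {R : Type u} [CommRing R] [Algebra k R] (g : T k R ⟶ Ga') : R :=
  (Spec.preimage (g.left ≫ pullback.fst _ _)).hom
    (SymmetricAlgebra.ι (ULift.{u} ℤ) (ULift.{u} ℤ) (ULift.up 1))

lemma val_comp {R R' : Type u} [CommRing R] [Algebra k R] [CommRing R'] [Algebra k R'] (φ : R →ₐ[k] R')
    (g : T k R ⟶ Ga') : val (Tmap φ ≫ g) = φ (val g) := by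
  have : Spec.preimage ((Tmap φ ≫ g).left ≫ pullback.fst _ _) =
      Spec.preimage (g.left ≫ pullback.fst _ _) ≫ CommRingCat.ofHom φ.toRingHom := by
    refine Spec.map_injective ?_
    rw [Spec.map_comp, Spec.map_preimage, Spec.map_preimage, Over.comp_left, Category.assoc]
    rfl
  rw [val, this]
  rfl

lemma val_injective {R : Type u} [CommRing R] [Algebra k R] {g g' : T k R ⟶ Ga'}
    (h : val g = val g') : g = g' := by
  ext : 1
  refine pullback.hom_ext ?_ ((Over.w g).trans (Over.w g').symm)
  rw [← Spec.map_preimage (g.left ≫ pullback.fst _ _), ← Spec.map_preimage (g'.left ≫ pullback.fst _ _)]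
  congr 1
  ext1
  letI : Algebra (ULift.{u} ℤ) R := ((Int.castRingHom R).comp ULift.ringEquiv.toRingHom).toAlgebra
  letI : Module (ULift.{u} ℤ) R := Algebra.toModule
  have hsub : ∀ ψ ψ' : ULift.{u} ℤ →+* R, ψ = ψ' := fun ψ ψ' => by
    have := RingHom.ext_int (ψ.comp ULift.ringEquiv.symm.toRingHom) (ψ'.comp ULift.ringEquiv.symm.toRingHom)
    ext x
    exact RingHom.congr_fun this x.down
  let F (φ : SymmetricAlgebra (ULift.{u} ℤ) (ULift.{u} ℤ) →+* R) :
      SymmetricAlgebra (ULift.{u} ℤ) (ULift.{u} ℤ) →ₐ[ULift.{u} ℤ] R :=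
    { φ with commutes' := fun r => RingHom.congr_fun (hsub (φ.comp (algebraMap _ _)) (algebraMap _ R)) r }
  have := SymmetricAlgebra.algHom_ext (F := F (Spec.preimage (g.left ≫ pullback.fst _ _)).hom)
    (G := F (Spec.preimage (g'.left ≫ pullback.fst _ _)).hom) (LinearMap.ext_ring h)
  exact RingHom.ext fun x => AlgHom.congr_fun this x

lemma val_surjective {R : Type u} [CommRing R] [Algebra k R] (a : R) :
    ∃ g : T k R ⟶ Ga', val g = a := by
  letI : Algebra (ULift.{u} ℤ) R := ((Int.castRingHom R).comp ULift.ringEquiv.toRingHom).toAlgebra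
  letI : Module (ULift.{u} ℤ) R := Algebra.toModule
  let φ : SymmetricAlgebra (ULift.{u} ℤ) (ULift.{u} ℤ) →ₐ[ULift.{u} ℤ] R :=
    SymmetricAlgebra.lift
      { toFun := fun x => algebraMap (ULift.{u} ℤ) R x * a
        map_add' := fun x y => by simp [add_mul]
        map_smul' := fun c x => by simp [Algebra.smul_def, mul_assoc] }
  let g : T k R ⟶ Ga' :=
    Over.homMk (pullback.lift (Spec.map (CommRingCat.ofHom φ.toRingHom))
      (Spec.map (CommRingCat.ofHom (algebraMap k R))) (specULiftZIsTerminal.hom_ext _ _))
      (pullback.lift_snd _ _ _)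
  refine ⟨g, ?_⟩
  rw [val, show g.left ≫ pullback.fst _ _ = Spec.map (CommRingCat.ofHom φ.toRingHom) from
    pullback.lift_fst _ _ _, Spec.preimage_map]
  show φ (SymmetricAlgebra.ι (ULift.{u} ℤ) (ULift.{u} ℤ) 1) = a
  rw [SymmetricAlgebra.lift_ι_apply]
  show algebraMap (ULift.{u} ℤ) R 1 * a = a
  rw [map_one, one_mul]

/-- A point with given coordinate. -/
noncomputable def pt {R : Type u} [CommRing R] [Algebra k R] (a : R) : T k R ⟶ Ga' :=
  (val_surjective (k := k) a).choose

lemma val_pt {R : Type u} [CommRing R] [Algebra k R] (a : R) : val (pt (k := k) a) = a :=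
  (val_surjective a).choose_spec

lemma pt_val {R : Type u} [CommRing R] [Algebra k R] (g : T k R ⟶ Ga') : pt (val g) = g :=
  val_injective (val_pt _)

/-- In coordinates a group law on the affine line with unit `e` is `x + y - e`. -/
theorem add_law (h : GrpObj Ga') :
    ∃ e : k, (∀ (R : Type u) [CommRing R] [Algebra k R],
      val (toUnit (T k R) ≫ h.one) = algebraMap k R e) ∧
    ∀ (R : Type u) [CommRing R] [Algebra k R] (a b : T k R ⟶ Ga'),
      val (lift a b ≫ h.mul) = val a + val b - algebraMap k R e := by
  letI := h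
  let e : k := val (toUnit (T k k) ≫ h.one)
  have hone : ∀ (R : Type u) [CommRing R] [Algebra k R],
      val (1 : T k R ⟶ Ga') = algebraMap k R e := by
    intro R _ _
    have := val_comp (Algebra.ofId k R) (toUnit (T k k) ≫ h.one : T k k ⟶ Ga')
    rw [← Category.assoc, toUnit_unique (Tmap _ ≫ toUnit _) (toUnit _)] at this
    exact this
  let F : Polynomial (Polynomial k) :=
    val (pt (k := k) (R := Polynomial (Polynomial k)) X * pt (k := k) (R := Polynomial (Polynomial k)) (C X))
  -- evaluation of the universal law
  let P {R : Type u} [CommRing R] [Algebra k R] (t : R) : Polynomial R := F.map (aeval t : k[X] →ₐ[k] R).toRingHom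
  have hlaw : ∀ {R : Type u} [CommRing R] [Algebra k R] (a b : R),
      val (pt (k := k) a * pt b) = (P b).eval a := by
    intro R _ _ a b
    let φ : Polynomial (Polynomial k) →ₐ[k] R :=
      { Polynomial.eval₂RingHom (aeval b : k[X] →ₐ[k] R).toRingHom a with
        commutes' := fun c => by simp [IsScalarTower.algebraMap_apply k k[X] k[X][X]] }
    have e1 : Tmap φ ≫ pt (k := k) (X : k[X][X]) = pt a :=
      val_injective (by rw [val_comp, val_pt, val_pt]; simp [φ])
    have e2 : Tmap φ ≫ pt (k := k) (C X : k[X][X]) = pt b :=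
      val_injective (by rw [val_comp, val_pt, val_pt]; simp [φ])
    rw [← e1, ← e2, ← MonObj.comp_mul, val_comp]
    simp [φ, F, P, Polynomial.eval_map]
  -- associativity in `k[y][z][x]`
  have hassoc := hlaw (R := k[X][X]) X (C X)
  let D := Polynomial (Polynomial k)
  let y : D := C X
  let z : D := X
  have hP : ∀ t : D, Function.Injective (aeval t : k[X] →ₐ[k] D) → (P t).natDegree = F.natDegree :=
    fun t ht => Polynomial.natDegree_map_eq_of_injective ht F
  have hy : Function.Injective (aeval y : k[X] →ₐ[k] D) := fun p q hpq => by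
    have hc : ∀ r : k[X], aeval y r = C r := fun r => by
      rw [show y = (CAlgHom (R := k[X])).restrictScalars k X from rfl, aeval_algHom_apply, aeval_X_left_apply]
      rfl
    rw [hc, hc] at hpq
    exact C_injective hpq
  have hz : Function.Injective (aeval z : k[X] →ₐ[k] D) := fun p q hpq => by
    have := congrArg (mapRingHom (aeval (0 : k) : k[X] →ₐ[k] k).toRingHom) hpq
    have hc : ∀ r : k[X], mapRingHom (aeval (0 : k) : k[X] →ₐ[k] k).toRingHom (aeval z r) = r := fun r => by
      induction r using Polynomial.induction_on' with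
      | add p q hp hq => simp only [map_add, hp, hq]
      | monomial n c =>
        simp [z, D, ← C_mul_X_pow_eq_monomial, Polynomial.algebraMap_apply]
    rwa [hc, hc] at this
  let w : D := val (pt (k := k) y * pt z)
  have hwy : (P z).eval y = w := (hlaw y z).symm
  have hw : Function.Injective (aeval w : k[X] →ₐ[k] D) := by
    -- setting `z = e` sends `w` back to `y`
    let ψ : D →ₐ[k] k[X] := { Polynomial.evalRingHom (C e) with
      commutes' := fun c => by simp [D, Polynomial.algebraMap_apply] }
    have hψ : ψ w = X := by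
      rw [← val_comp, MonObj.comp_mul,
        show Tmap ψ ≫ pt (k := k) z = 1 from val_injective (by
          rw [val_comp, val_pt, hone]; exact eval_X), mul_one, val_comp, val_pt]
      exact eval_C
    intro p q hpq
    have := congrArg ψ hpq
    rwa [← aeval_algHom_apply, ← aeval_algHom_apply, hψ, aeval_X_left_apply, aeval_X_left_apply] at this
  have hassoc : (P z).comp (P y) = P w := by
    have h3 : val (pt (k := k) (R := D[X]) X * pt (C y) * pt (C z)) =
        val (pt (k := k) (R := D[X]) X * (pt (C y) * pt (C z))) := by rw [mul_assoc]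
    have hC : ∀ (t : D) (q : D[X]), (P (C t)).eval q = (P t).comp q := fun t q => by
      simp only [P, Polynomial.comp, Polynomial.eval_map, Polynomial.eval₂_map]
      congr 1
      exact congrArg AlgHom.toRingHom (show (aeval (C t) : k[X] →ₐ[k] D[X]) =
        ((CAlgHom (R := D)).restrictScalars k).comp (aeval t) from Polynomial.algHom_ext (by simp))
    have hCC : val (pt (k := k) (C y : D[X]) * pt (C z)) = C w := by
      let c : D →ₐ[k] D[X] := (CAlgHom (R := D)).restrictScalars k
      rw [show pt (k := k) (C y : D[X]) = Tmap c ≫ pt y from val_injective (by rw [val_comp, val_pt, val_pt]; rfl),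
        show pt (k := k) (C z : D[X]) = Tmap c ≫ pt z from val_injective (by rw [val_comp, val_pt, val_pt]; rfl),
        ← MonObj.comp_mul, val_comp]
      rfl
    rw [← pt_val (pt (k := k) (R := D[X]) X * pt (C y)), hlaw, hlaw, hC, hC,
      ← pt_val (pt (k := k) (C y : D[X]) * pt (C z)), hlaw, hCC, hC, comp_X, comp_X] at h3
    exact h3
  have hex : (P (algebraMap k k[X] e)).eval X = X := by
    rw [← hlaw, show pt (k := k) (algebraMap k k[X] e) = 1 from val_injective (by rw [val_pt, hone]),
      mul_one, val_pt]
  have hm : F.natDegree = 1 := by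
    have := congrArg natDegree hassoc
    rw [natDegree_comp, hP z hz, hP y hy, hP w hw] at this
    rcases Nat.eq_zero_or_pos F.natDegree with h0 | hpos
    · exfalso
      simp only [P] at hex
      rw [eq_C_of_natDegree_eq_zero h0] at hex
      simp only [map_C, eval_C] at hex
      have h1 := congrArg natDegree hex
      rw [natDegree_X] at h1
      have h2 : ∀ r : k[X], (aeval (algebraMap k k[X] e) r).natDegree = 0 := fun r => by
        rw [aeval_algebraMap_apply]; exact natDegree_C _
      exact absurd ((h2 (F.coeff 0)).symm.trans h1) zero_ne_one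
    · exact Nat.eq_of_mul_eq_mul_right hpos (this.trans (one_mul _).symm)
  obtain ⟨A, B, hAB⟩ : ∃ A B : k[X], F = C A * X + C B :=
    ⟨_, _, eq_X_add_C_of_natDegree_le_one hm.le⟩
  have hlaw' : ∀ {R : Type u} [CommRing R] [Algebra k R] (a b : R),
      val (pt (k := k) a * pt b) = aeval b A * a + aeval b B := by
    intro R _ _ a b
    rw [hlaw]
    simp [P, hAB]
  -- the unit
  have hB : B = X - A * C e := by
    have := hlaw' (R := k[X]) (algebraMap k k[X] e) X
    rw [show pt (k := k) (algebraMap k k[X] e) = 1 from val_injective (by rw [val_pt, hone]), one_mul,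
      val_pt, aeval_X_left_apply, aeval_X_left_apply] at this
    exact eq_sub_of_add_eq' this.symm
  have hAe : A.eval e = 1 := by
    have := hlaw' (R := k) (e + 1) e
    rw [show pt (k := k) (R := k) e = 1 from val_injective (by rw [val_pt, hone]; rfl), mul_one, val_pt, hB] at this
    simp at this
    linear_combination (norm := ring) -this
  -- a left inverse of the generic point
  have hA : A = 1 := by
    let j : k[X] := val (pt (k := k) (X : k[X]))⁻¹
    have := hlaw' (R := k[X]) j X
    rw [show pt (k := k) j = (pt (X : k[X]))⁻¹ from pt_val _, inv_mul_cancel, hone, aeval_X_left_apply,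
      aeval_X_left_apply, hB] at this
    have hprod : A * (C e - j) = X - C e := by
      rw [show algebraMap k k[X] e = C e from rfl] at this
      linear_combination this
    rcases (Polynomial.irreducible_X_sub_C e).isUnit_or_isUnit hprod.symm with hu | hu
    · obtain ⟨c, -, hc⟩ := Polynomial.isUnit_iff.mp hu
      rw [← hc, eval_C] at hAe
      rw [← hc, hAe, map_one]
    · obtain ⟨c, -, hc⟩ := Polynomial.isUnit_iff.mp hu
      rw [← hc] at hprod
      have := congrArg (Polynomial.eval e) hprod
      simp [hAe] at this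
      rw [this, map_zero, mul_zero] at hprod
      exact absurd hprod.symm (X_sub_C_ne_zero e)
  refine ⟨e, hone, fun R _ _ a b => ?_⟩
  have := hlaw' (R := R) (val a) (val b)
  rw [pt_val, pt_val, hB, hA] at this
  refine Eq.trans this ?_
  simp only [map_one, one_mul, map_sub, aeval_X, aeval_C]
  ring

end Ga

end Groth.Agent.H19Grp.AffineLineLaw
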