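import Groth.Agent.H19Grp.OrbitIrreducible
import Groth.Agent.H8Props.FibreCriterion
import Groth.Agent.S4656

/-!
# Dominant quasi-compact homomorphisms of group schemes over a field
-/

set_option autoImplicit false
set_option linter.style.haveILetI false
set_option backward.isDefEq.respectTransparency false

universe u

open CategoryTheory CategoryTheory.Limits MonoidalCategory CartesianMonoidalCategory MonObj GrpObj
  AlgebraicGeometry TopologicalSpace

namespace Groth.Agent.H19Grp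

/-- A maximal point lies in the image of a quasi-compact dominant morphism. -/
theorem mem_range_of_isMaxPt_of_dense {X Y : Scheme.{u}} (f : X ⟶ Y) [QuasiCompact f]
    (hf : DenseRange f.base) {mx : Y} (hmx : IsMaxPt mx) : mx ∈ Set.range f := by
  obtain ⟨V, hV, hmxV, -⟩ :=
    exists_isAffineOpen_mem_and_subset (X := Y) (x := mx) (U := ⊤) trivial
  haveI : IsAffine V.toScheme := hV
  haveI : CompactSpace (f ⁻¹ᵁ V).toScheme :=
    isCompact_iff_compactSpace.mp (f.isCompact_preimage hV.isCompact)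
  obtain ⟨A, g, hg⟩ := (compactSpace_iff_exists (X := (f ⁻¹ᵁ V).toScheme)).mp inferInstance
  obtain ⟨φ, hφ⟩ : ∃ φ, Spec.map φ = g ≫ (f ∣_ V) ≫ V.toScheme.isoSpec.hom :=
    ⟨Spec.preimage _, Spec.map_preimage _⟩
  have hd : DenseRange (Spec.map φ).base := by
    haveI : IsDominant f := ⟨hf⟩
    haveI : IsDominant (f ∣_ V) := IsZariskiLocalAtTarget.restrict ‹_› V
    haveI : Surjective g := ⟨hg⟩
    haveI : IsDominant (g ≫ (f ∣_ V) ≫ V.toScheme.isoSpec.hom) := inferInstance
    rw [hφ]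
    exact Scheme.Hom.denseRange _
  obtain ⟨mp', rfl⟩ := V.range_ι.ge hmxV
  set p := V.toScheme.isoSpec.hom mp' with hp
  have hmin : p.asIdeal ∈ minimalPrimes Γ(V.toScheme, ⊤) := by
    refine ⟨⟨p.isPrime, bot_le⟩, fun q ⟨hq, _⟩ hle => ?_⟩
    let q' : PrimeSpectrum Γ(V.toScheme, ⊤) := ⟨q, hq⟩
    have h1 : q' ⤳ p := (PrimeSpectrum.le_iff_specializes q' p).1 hle
    have h2 := h1.map (V.toScheme.isoSpec.inv ≫ V.ι).continuous
    rw [show (V.toScheme.isoSpec.inv ≫ V.ι) p = V.ι mp' by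
      rw [hp, ← Scheme.Hom.comp_apply, Iso.hom_inv_id_assoc]] at h2
    have h3 : (V.toScheme.isoSpec.inv ≫ V.ι) q' = (V.toScheme.isoSpec.inv ≫ V.ι) p := by
      rw [show (V.toScheme.isoSpec.inv ≫ V.ι) p = V.ι mp' by
        rw [hp, ← Scheme.Hom.comp_apply, Iso.hom_inv_id_assoc]]
      exact ((hmx _ h2).antisymm h2).eq.symm
    exact (congrArg PrimeSpectrum.asIdeal
      ((V.toScheme.isoSpec.inv ≫ V.ι).isOpenEmbedding.injective h3)).ge
  obtain ⟨a, ha⟩ : p ∈ Set.range (Spec.map φ).base :=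
    (PrimeSpectrum.denseRange_comap_iff_minimalPrimes φ.hom).1 hd p.asIdeal hmin
  have e : g ≫ (f ⁻¹ᵁ V).ι ≫ f = Spec.map φ ≫ V.toScheme.isoSpec.inv ≫ V.ι := by
    simp [hφ]
  refine ⟨(f ⁻¹ᵁ V).ι (g a), ?_⟩
  rw [← Scheme.Hom.comp_apply, ← Scheme.Hom.comp_apply, e, Scheme.Hom.comp_apply]
  rw [show (Spec.map φ) a = p from ha, hp, ← Scheme.Hom.comp_apply, Iso.hom_inv_id_assoc]

theorem flatAt_congr {X Y : Scheme.{u}} {f g : X ⟶ Y} (e : f = g) (x : X) (h : (f.stalkMap x).hom.Flat) :
    (g.stalkMap x).hom.Flat := by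
  subst e
  exact h

/-- The local ring of a reduced scheme at a maximal point is a field. -/
theorem flat_stalkMap_of_isMaxPt {X Y : Scheme.{u}} [IsReduced Y] (f : X ⟶ Y) {x : X}
    (hx : IsMaxPt (f x)) : (f.stalkMap x).hom.Flat := by
  have hsub : Subsingleton (Spec (Y.presheaf.stalk (f x))) := by
    refine ⟨fun a b => (Y.fromSpecStalk (f x)).isEmbedding.injective ?_⟩
    have : ∀ a, Y.fromSpecStalk (f x) a = f x := fun a => by
      have h : Y.fromSpecStalk (f x) a ⤳ f x :=
        (Scheme.range_fromSpecStalk (x := f x)).le ⟨a, rfl⟩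
      exact ((hx _ h).antisymm h).eq.symm
    rw [this a, this b]
  haveI : Ring.KrullDimLE 0 (Y.presheaf.stalk (f x)) := by
    refine Ring.KrullDimLE.mk₀ fun I hI => ?_
    have h : (⟨I, hI⟩ : PrimeSpectrum (Y.presheaf.stalk (f x))) =
        IsLocalRing.closedPoint (Y.presheaf.stalk (f x)) := hsub.elim _ _
    rw [show I = IsLocalRing.maximalIdeal (Y.presheaf.stalk (f x)) from congrArg PrimeSpectrum.asIdeal h]
    exact IsLocalRing.maximalIdeal.isMaximal _
  have hF : IsField (Y.presheaf.stalk (f x)) := Ring.KrullDimLE.isField_of_isReduced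
  letI := hF.toField
  algebraize [(f.stalkMap x).hom]
  show Module.Flat (Y.presheaf.stalk (f x)) (X.presheaf.stalk x)
  infer_instance

variable {k : Type u} [Field k] {G H : Over (Spec (CommRingCat.of k))}

/-- A point lifts through `f` after extending the field. -/
theorem exists_lift_geometric (f : G ⟶ H) {L : Type u} [Field L]
    {y : Spec (CommRingCat.of L) ⟶ Spec (CommRingCat.of k)} (e : Over.mk y ⟶ H)
    (h : e.left (IsLocalRing.closedPoint L) ∈ Set.range f.left) :
    ∃ (L' : Type u) (_ : Field L') (_ : IsAlgClosed L') (y' : Spec (CommRingCat.of L') ⟶ Spec (CommRingCat.of k))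
      (r : Over.mk y' ⟶ Over.mk y) (b : Over.mk y' ⟶ G), b ≫ f = r ≫ e := by
  obtain ⟨x, hx⟩ := h
  obtain ⟨z, -, -⟩ := Scheme.Pullback.exists_preimage_pullback (f := f.left) (g := e.left) x
    (IsLocalRing.closedPoint L) hx
  let Z : Over (Spec (CommRingCat.of k)) := Over.mk (pullback.snd f.left e.left ≫ y)
  let L' := AlgebraicClosure (Z.left.residueField z)
  let q : Spec (CommRingCat.of L') ⟶ pullback f.left e.left :=
    Spec.map (CommRingCat.ofHom (algebraMap (Z.left.residueField z) L')) ≫ Z.left.fromSpecResidueField z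
  refine ⟨L', inferInstance, inferInstance, q ≫ pullback.snd f.left e.left ≫ y,
    Over.homMk (q ≫ pullback.snd f.left e.left) (Category.assoc _ _ _),
    Over.homMk (q ≫ pullback.fst f.left e.left) ?_, ?_⟩
  · show (q ≫ pullback.fst f.left e.left) ≫ G.hom = q ≫ pullback.snd f.left e.left ≫ y
    rw [← Over.w f, Category.assoc, pullback.condition_assoc, Over.w e]
    rfl
  · apply Over.OverMorphism.ext
    show (q ≫ pullback.fst f.left e.left) ≫ f.left = (q ≫ pullback.snd f.left e.left) ≫ e.left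
    rw [Category.assoc, pullback.condition, ← Category.assoc]

variable [GrpObj G] [GrpObj H] (f : G ⟶ H) [IsMonHom f] [QuasiCompact f.left]

theorem surjective_of_dense_hom (hf : DenseRange f.left.base) : Surjective f.left := by
  refine ⟨fun h₀ => ?_⟩
  let L₀ := AlgebraicClosure (H.left.residueField h₀)
  let q₀ : Spec (CommRingCat.of L₀) ⟶ H.left :=
    Spec.map (CommRingCat.ofHom (algebraMap (H.left.residueField h₀) L₀)) ≫ H.left.fromSpecResidueField h₀
  let P₀ := Over.mk (q₀ ≫ H.hom)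
  let hp : P₀ ⟶ H := Over.homMk q₀ rfl
  have hhp : ∀ t, hp.left t = h₀ := fun t =>
    (Scheme.Hom.comp_apply _ _ _).trans (H.left.fromSpecResidueField_apply h₀ _)
  obtain ⟨mp', -, hmp'⟩ := exists_isMaxPt
    ((lift (1 : P₀ ⟶ H) (𝟙 P₀)).left (IsLocalRing.closedPoint L₀))
  haveI : Flat (q₀ ≫ H.hom) := flat_to_spec_field _
  haveI : Flat (fst H P₀).left := MorphismProperty.pullback_fst H.hom (q₀ ≫ H.hom) inferInstance
  haveI := isIso_transL (G := H) hp
  have h1 := mem_range_of_isMaxPt_of_dense f.left hf (hmp'.map (fst H P₀).left.continuous (Flat.generalizingMap _))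
  have h2 := mem_range_of_isMaxPt_of_dense f.left hf
    ((hmp'.isoImage (transL hp).left).map (fst H P₀).left.continuous (Flat.generalizingMap _))
  let L := AlgebraicClosure ((H ⊗ P₀).left.residueField mp')
  let q : Spec (CommRingCat.of L) ⟶ (H ⊗ P₀).left :=
    Spec.map (CommRingCat.ofHom (algebraMap ((H ⊗ P₀).left.residueField mp') L)) ≫ (H ⊗ P₀).left.fromSpecResidueField mp'
  let P := Over.mk (q ≫ (H ⊗ P₀).hom)
  let p : P ⟶ H ⊗ P₀ := Over.homMk q rfl
  have hpp : ∀ t, p.left t = mp' := fun t =>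
    (Scheme.Hom.comp_apply _ _ _).trans ((H ⊗ P₀).left.fromSpecResidueField_apply mp' _)
  let e : P ⟶ H := p ≫ fst H P₀
  let hh : P ⟶ H := p ≫ snd H P₀ ≫ hp
  obtain ⟨L₁, _, _, y₁, r₁, b₁, hb₁⟩ := exists_lift_geometric f e (by
    rw [Over.comp_left, Scheme.Hom.comp_apply, hpp]; exact h1)
  obtain ⟨L₂, _, _, y₂, r₂, b₂, hb₂⟩ := exists_lift_geometric f (r₁ ≫ (hh * e)) (by
    have : hh * e = p ≫ transL hp ≫ fst H P₀ := by simp [transL, hh, e, MonObj.comp_mul]
    rw [this, Over.comp_left, Scheme.Hom.comp_apply, Over.comp_left, Scheme.Hom.comp_apply,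
      Over.comp_left, Scheme.Hom.comp_apply, hpp]
    exact h2)
  refine ⟨(b₂ * (r₂ ≫ b₁)⁻¹).left (IsLocalRing.closedPoint L₂), ?_⟩
  have key : (b₂ * (r₂ ≫ b₁)⁻¹) ≫ f = r₂ ≫ r₁ ≫ hh := by
    have e2 : (r₂ ≫ b₁) ≫ f = r₂ ≫ r₁ ≫ e := (Category.assoc _ _ _).trans (congrArg (r₂ ≫ ·) hb₁)
    rw [MonObj.mul_comp, GrpObj.inv_comp, hb₂, e2]
    simp only [MonObj.comp_mul, mul_inv_cancel_right]
  rw [← Scheme.Hom.comp_apply, ← Over.comp_left, key]
  simp only [hh, Over.comp_left, Scheme.Hom.comp_apply]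
  exact hhp _

theorem flat_of_dense_hom [IsReduced H.left] (hf : DenseRange f.left.base) : Flat f.left := by
  haveI := surjective_of_dense_hom f hf
  refine Flat.of_stalkMap _ fun x => ?_
  obtain ⟨mx, -, hmx⟩ := exists_isMaxPt (f.left x)
  obtain ⟨β, hβ⟩ := f.left.surjective mx
  obtain ⟨w, hw1, hw2⟩ := Scheme.Pullback.exists_preimage_pullback (f := G.hom) (g := G.hom) x β
    (Subsingleton.elim (α := PrimeSpectrum k) _ _)
  let L := AlgebraicClosure ((G ⊗ G).left.residueField w)
  let q : Spec (CommRingCat.of L) ⟶ (G ⊗ G).left :=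
    Spec.map (CommRingCat.ofHom (algebraMap ((G ⊗ G).left.residueField w) L)) ≫ (G ⊗ G).left.fromSpecResidueField w
  let y := q ≫ (G ⊗ G).hom
  let P := Over.mk y
  let p : P ⟶ G ⊗ G := Over.homMk q rfl
  have hp : ∀ t, p.left t = w := fun t =>
    (Scheme.Hom.comp_apply _ _ _).trans ((G ⊗ G).left.fromSpecResidueField_apply w _)
  let xp : P ⟶ G := p ≫ fst G G
  let bp : P ⟶ G := p ≫ snd G G
  let fL : G ⊗ P ⟶ H ⊗ P := f ▷ P
  have hsq : IsPullback (fst G P).left fL.left f.left (fst H P).left := by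
    refine IsPullback.of_bot (v₂₁ := (snd H P).left) (v₂₂ := H.hom) (h₃₁ := y) ?_
      (congrArg Over.Hom.left (whiskerRight_fst f P).symm) (IsPullback.of_hasPullback H.hom y)
    rw [← Over.comp_left, whiskerRight_snd, Over.w f]
    exact IsPullback.of_hasPullback G.hom y
  let t := IsLocalRing.closedPoint L
  have hb : (fst G P).left ((lift bp (𝟙 P)).left t) = β := by
    rw [← Scheme.Hom.comp_apply, ← Over.comp_left, lift_fst, Over.comp_left, Scheme.Hom.comp_apply, hp]
    exact hw2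
  have hx : (fst G P).left ((lift xp (𝟙 P)).left t) = x := by
    rw [← Scheme.Hom.comp_apply, ← Over.comp_left, lift_fst, Over.comp_left, Scheme.Hom.comp_apply, hp]
    exact hw1
  have hflatb : (fL.left.stalkMap ((lift bp (𝟙 P)).left t)).hom.Flat :=
    H8Props.FibreCriterion.flat_stalkMap_baseChange hsq _ (flat_stalkMap_of_isMaxPt f.left (by
      rw [hb, hβ]; exact hmx))
  haveI := isIso_transL (G := G) (xp * bp⁻¹)
  haveI := isIso_transL (G := H) ((xp * bp⁻¹) ≫ f)
  have hcomm : transL (xp * bp⁻¹) ≫ fL = fL ≫ transL ((xp * bp⁻¹) ≫ f) := by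
    apply CartesianMonoidalCategory.hom_ext
    · simp [fL, transL, MonObj.mul_comp, MonObj.comp_mul]
    · simp [fL, transL]
  have hflatx : (fL.left.stalkMap ((lift xp (𝟙 P)).left t)).hom.Flat := by
    have hpt : (transL (xp * bp⁻¹)).left ((lift bp (𝟙 P)).left t) = (lift xp (𝟙 P)).left t := by
      rw [← Scheme.Hom.comp_apply, ← Over.comp_left, lift_transL, inv_mul_cancel_right]
    rw [← hpt]
    refine (S4656.result _ fL.left _ (Flat.stalkMap _ _)).1 ?_
    exact flatAt_congr (congrArg Over.Hom.left hcomm).symm _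
      ((S4656.result fL.left _ _ hflatb).2 (Flat.stalkMap _ _))
  haveI : Flat y := flat_to_spec_field _
  haveI : Flat (fst H P).left := MorphismProperty.pullback_fst H.hom y inferInstance
  haveI : Flat (fst G P).left := MorphismProperty.pullback_fst G.hom y inferInstance
  have h := (S4656.result fL.left (fst H P).left _ hflatx).2 (Flat.stalkMap _ _)
  have h' := (S4656.result (fst G P).left f.left ((lift xp (𝟙 P)).left t) (Flat.stalkMap _ _)).1
    (flatAt_congr hsq.w.symm _ h)
  exact hx ▸ h'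

end Groth.Agent.H19Grp
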