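import Mathlib

/-!
# Rational points of affine group schemes and homomorphisms as Hopf maps
-/

set_option autoImplicit false
set_option linter.style.haveILetI false
set_option backward.isDefEq.respectTransparency false

universe u

open CategoryTheory MonoidalCategory CartesianMonoidalCategory MonObj AlgebraicGeometry Functor Opposite TensorProduct

namespace Groth.Agent.H19Grp.AffinePoints

section Iso

variable (R : CommRingCat.{u}) (G : Scheme.{u}) [G.Over (Spec R)] [GrpObj (G.asOver (Spec R))] [IsAffine G]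

set_option maxHeartbeats 1000000 in
theorem one_spec_Γ :
    (η[(Spec Γ(G, ⊤)).asOver (Spec R)]) = η[G.asOver (Spec R)] ≫ G.isoSpec.hom.asOver (Spec R) := by
  letI m0 : GrpObj ((algSpec R).obj <| .op <| CommAlgCat.of R Γ(G, ⊤)) :=
    .ofIso <| G.isoSpec.asOver (Spec R)
  letI m1 : GrpObj (op <| CommAlgCat.of R Γ(G, ⊤)) := algSpec.fullyFaithful.grpObj _
  have h : (η[(Spec Γ(G, ⊤)).asOver (Spec R)]) =
      LaxMonoidal.ε (algSpec R) ≫ (algSpec R).map η[op <| CommAlgCat.of R Γ(G, ⊤)] := rfl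
  have h2 : (η[op <| CommAlgCat.of R Γ(G, ⊤)]) = algSpec.fullyFaithful.preimage
      (OplaxMonoidal.η (algSpec R) ≫ η[(algSpec R).obj <| op <| CommAlgCat.of R Γ(G, ⊤)]) := rfl
  rw [h, h2, FullyFaithful.map_preimage, ← Category.assoc, Functor.Monoidal.ε_η, Category.id_comp]
  rfl

set_option maxHeartbeats 1000000 in
theorem mul_spec_Γ :
    (μ[(Spec Γ(G, ⊤)).asOver (Spec R)]) =
      (G.isoSpec.inv.asOver (Spec R) ⊗ₘ G.isoSpec.inv.asOver (Spec R)) ≫ μ[G.asOver (Spec R)] ≫
        G.isoSpec.hom.asOver (Spec R) := by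
  letI m0 : GrpObj ((algSpec R).obj <| .op <| CommAlgCat.of R Γ(G, ⊤)) :=
    .ofIso <| G.isoSpec.asOver (Spec R)
  letI m1 : GrpObj (op <| CommAlgCat.of R Γ(G, ⊤)) := algSpec.fullyFaithful.grpObj _
  have h : (μ[(Spec Γ(G, ⊤)).asOver (Spec R)]) =
      LaxMonoidal.μ (algSpec R) _ _ ≫ (algSpec R).map μ[op <| CommAlgCat.of R Γ(G, ⊤)] := rfl
  have h2 : (μ[op <| CommAlgCat.of R Γ(G, ⊤)]) = algSpec.fullyFaithful.preimage
      (OplaxMonoidal.δ (algSpec R) _ _ ≫ μ[(algSpec R).obj <| op <| CommAlgCat.of R Γ(G, ⊤)]) := rfl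
  rw [h, h2, FullyFaithful.map_preimage, ← Category.assoc, Functor.Monoidal.μ_δ, Category.id_comp]
  rfl

instance isMonHom_isoSpec : IsMonHom (G.isoSpec.hom.asOver (Spec R)) where
  one_hom := (one_spec_Γ R G).symm
  mul_hom := by
    rw [mul_spec_Γ, ← Category.assoc (_ ⊗ₘ _), tensorHom_comp_tensorHom]
    have e : G.isoSpec.hom.asOver (Spec R) ≫ G.isoSpec.inv.asOver (Spec R) = 𝟙 (G.asOver (Spec R)) :=
      Over.OverMorphism.ext G.isoSpec.hom_inv_id
    rw [e, id_tensorHom_id, Category.id_comp]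

end Iso

/-- The Hopf algebra of global sections, with the base given explicitly. -/
@[implicit_reducible]
noncomputable def hopfOf (R : CommRingCat.{u}) (G : Scheme.{u}) [G.Over (Spec R)]
    [GrpObj (G.asOver (Spec R))] [IsAffine G] : HopfAlgebra R Γ(G, ⊤) := inferInstance

section Hom

attribute [-instance] instCommGrpObjSpecAsOverSpec
attribute [-instance] isCommMonObj_spec_asOver_spec

variable {R : CommRingCat.{u}} {G H : Scheme.{u}} [G.Over (Spec R)] [H.Over (Spec R)]
  [GrpObj (G.asOver (Spec R))] [GrpObj (H.asOver (Spec R))] [IsAffine G] [IsAffine H]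

set_option synthInstance.maxHeartbeats 400000 in
set_option maxHeartbeats 2000000 in
/-- A homomorphism of affine group schemes is given by a map of Hopf algebras on global sections. -/
theorem exists_bialgHom (h₀ : G.asOver (Spec R) ⟶ H.asOver (Spec R)) [IsMonHom h₀] :
    ∃ α : Γ(H, ⊤) →ₐc[R] Γ(G, ⊤),
      h₀.left ≫ H.isoSpec.hom = G.isoSpec.hom ≫
        Spec.map (CommRingCat.ofHom (α : Γ(H, ⊤) →ₐ[R] Γ(G, ⊤)).toRingHom) := by
  let S := Spec R
  let iG : G.asOver S ≅ (Spec Γ(G, ⊤)).asOver S :=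
    ⟨G.isoSpec.hom.asOver S, G.isoSpec.inv.asOver S,
      Over.OverMorphism.ext G.isoSpec.hom_inv_id, Over.OverMorphism.ext G.isoSpec.inv_hom_id⟩
  haveI : IsMonHom iG.hom := isMonHom_isoSpec _ _
  let h' : (Spec Γ(G, ⊤)).asOver S ⟶ (Spec Γ(H, ⊤)).asOver S :=
    iG.inv ≫ h₀ ≫ H.isoSpec.hom.asOver S
  haveI : IsMonHom (H.isoSpec.hom.asOver S) := isMonHom_isoSpec _ _
  haveI : IsMonHom h' := by
    haveI : IsMonHom iG.inv := @instIsMonHomInvOfHom _ _ _ _ _ _ _ iG (isMonHom_isoSpec _ _)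
    exact inferInstanceAs (IsMonHom (iG.inv ≫ h₀ ≫ H.isoSpec.hom.asOver S))
  let α : Γ(H, ⊤) →ₐ[R] Γ(G, ⊤) :=
    ((Spec.mapMulEquiv (R := R) (S := Γ(H, ⊤)) (T := Γ(G, ⊤))).symm h').ofConv
  have hα : ∀ {T : Type u} [CommRing T] [Algebra R T] (β : Γ(G, ⊤) →ₐ[R] T),
      Spec.mapMulEquiv (R := R) (WithConv.toConv (β.comp α)) =
        Spec.mapMulEquiv (R := R) (WithConv.toConv β) ≫ h' := by
    intro T _ _ β
    have e : Spec.mapMulEquiv (R := R) (WithConv.toConv α) = h' :=
      (Spec.mapMulEquiv (R := R) (S := Γ(H, ⊤)) (T := Γ(G, ⊤))).apply_symm_apply h'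
    rw [← e]
    refine Over.OverMorphism.ext ?_
    show Spec.map _ = Spec.map _ ≫ Spec.map _
    rw [← Spec.map_comp]
    rfl
  have hcu : (Bialgebra.counitAlgHom R Γ(G, ⊤)).comp α = Bialgebra.counitAlgHom R Γ(H, ⊤) := by
    have h1 : ∀ (B : Type u) [CommRing B] [Bialgebra R B],
        WithConv.toConv (Bialgebra.counitAlgHom R B) = (1 : WithConv (B →ₐ[R] R)) := by
      intro B _ _
      rfl
    apply WithConv.toConv_injective
    apply (Spec.mapMulEquiv (R := R)).injective
    rw [hα, h1, h1, map_one, map_one, MonObj.one_comp]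
  have hmul : (Algebra.TensorProduct.map α α).comp (Bialgebra.comulAlgHom R Γ(H, ⊤)) =
      (Bialgebra.comulAlgHom R Γ(G, ⊤)).comp α := by
    have h1 : ∀ (B : Type u) [CommRing B] [Bialgebra R B],
        WithConv.toConv (Bialgebra.comulAlgHom R B) =
          WithConv.toConv (Algebra.TensorProduct.includeLeft : B →ₐ[R] B ⊗[R] B) *
            WithConv.toConv Algebra.TensorProduct.includeRight := by
      intro B _ _
      refine WithConv.ofConv_injective (AlgHom.ext fun b => ?_)
      simp only [AlgHom.convMul_def, WithConv.ofConv_toConv, AlgHom.comp_apply]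
      have : ∀ z : B ⊗[R] B, z = Algebra.TensorProduct.lmul' R (Algebra.TensorProduct.map
          (Algebra.TensorProduct.includeLeft : B →ₐ[R] B ⊗[R] B)
          (Algebra.TensorProduct.includeRight : B →ₐ[R] B ⊗[R] B) z) := by
        intro z
        induction z using TensorProduct.induction_on with
        | zero => simp
        | tmul p q => simp
        | add p q hp hq => rw [_root_.map_add, _root_.map_add, ← hp, ← hq]
      exact this _
    have h2 : (Algebra.TensorProduct.map α α).comp (Bialgebra.comulAlgHom R Γ(H, ⊤)) =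
        (WithConv.toConv ((Algebra.TensorProduct.includeLeft : Γ(G, ⊤) →ₐ[R] _).comp α) *
          WithConv.toConv ((Algebra.TensorProduct.includeRight : Γ(G, ⊤) →ₐ[R] _).comp α)).ofConv := by
      refine AlgHom.ext fun b => ?_
      simp only [AlgHom.convMul_def, WithConv.ofConv_toConv, AlgHom.comp_apply]
      generalize Bialgebra.comulAlgHom R Γ(H, ⊤) b = z
      induction z using TensorProduct.induction_on with
      | zero => simp
      | tmul p q => simp
      | add p q hp hq => simp only [_root_.map_add, hp, hq]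
    rw [h2]
    apply WithConv.toConv_injective
    apply (Spec.mapMulEquiv (R := R)).injective
    rw [WithConv.toConv_ofConv, map_mul, hα, hα, hα, h1, map_mul, MonObj.mul_comp]
  refine ⟨BialgHom.ofAlgHom α hcu hmul, ?_⟩
  have e : Spec.map (CommRingCat.ofHom α.toRingHom) = h'.left :=
    congrArg (·.left) ((Spec.mapMulEquiv (R := R) (S := Γ(H, ⊤)) (T := Γ(G, ⊤))).apply_symm_apply h')
  show _ = _ ≫ Spec.map (CommRingCat.ofHom α.toRingHom)
  rw [e]
  exact (G.isoSpec.hom_inv_id_assoc _).symm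

end Hom

section Points

variable (R : CommRingCat.{u}) (G : Scheme.{u}) [G.Over (Spec R)] [IsAffine G]

/-- The rational point attached to a map on global sections. -/
noncomputable def ofAlgHom (φ : Γ(G, ⊤) →ₐ[R] R) : 𝟙_ (Over (Spec R)) ⟶ G.asOver (Spec R) :=
  Over.homMk (Spec.map (CommRingCat.ofHom φ.toRingHom) ≫ G.isoSpec.inv) (by
    show (Spec.map (CommRingCat.ofHom φ.toRingHom) ≫ G.isoSpec.inv) ≫ (G ↘ Spec R) = 𝟙 (Spec R)
    have e : G.isoSpec.inv ≫ (G ↘ Spec R) = Spec.map (CommRingCat.ofHom (algebraMap R Γ(G, ⊤))) := by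
      rw [algebraMap_presheafObj]
      exact (Spec.fullyFaithful.map_preimage _).symm
    rw [Category.assoc, e, ← Spec.map_comp, ← Spec.map_id]
    congr 1
    ext c
    exact φ.commutes c)

theorem ofAlgHom_left (φ : Γ(G, ⊤) →ₐ[R] R) :
    (ofAlgHom R G φ).left = Spec.map (CommRingCat.ofHom φ.toRingHom) ≫ G.isoSpec.inv := rfl

theorem exists_algHom (g : 𝟙_ (Over (Spec R)) ⟶ G.asOver (Spec R)) :
    ∃ φ : Γ(G, ⊤) →ₐ[R] R, g.left ≫ G.isoSpec.hom = Spec.map (CommRingCat.ofHom φ.toRingHom) := by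
  have e : G.isoSpec.inv ≫ (G ↘ Spec R) = Spec.map (CommRingCat.ofHom (algebraMap R Γ(G, ⊤))) := by
    rw [algebraMap_presheafObj]
    exact (Spec.fullyFaithful.map_preimage _).symm
  obtain ⟨ψ, hψ⟩ := Spec.map_surjective (R := Γ(G, ⊤)) (S := R) (g.left ≫ G.isoSpec.hom)
  have hc : CommRingCat.ofHom (algebraMap R Γ(G, ⊤)) ≫ ψ = 𝟙 R := by
    apply Spec.map_injective
    rw [Spec.map_comp, hψ, ← e, Category.assoc, Iso.hom_inv_id_assoc]
    exact (Over.w g).trans (Spec.map_id R).symm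
  refine ⟨{ ψ.hom with commutes' := fun c => congr($(hc).hom c) }, hψ.symm⟩

end Points

end Groth.Agent.H19Grp.AffinePoints
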