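import Mathlib

/-!
# Unramified is fibrewise for morphisms locally of finite type
-/

set_option autoImplicit false
set_option linter.style.haveILetI false
universe u

open CategoryTheory Limits AlgebraicGeometry
open scoped TensorProduct KaehlerDifferential

namespace Groth.Agent.H19Grp

theorem hfield {X S : Scheme.{u}} (f : X ⟶ S)
    (hf : ∀ s : S, FormallyUnramified (f.fiberToSpecResidueField s))
    (K : Type u) [Field K] (s : Spec (CommRingCat.of K) ⟶ S) :
    FormallyUnramified (pullback.snd f s) := by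
  obtain ⟨y, a, rfl⟩ : ∃ (y : S) (a : Spec (CommRingCat.of K) ⟶ Spec (S.residueField y)),
      a ≫ S.fromSpecResidueField y = s :=
    ⟨_, _, Scheme.descResidueField_stalkClosedPointTo_fromSpecResidueField K S s⟩
  haveI h1 : FormallyUnramified (pullback.snd f (S.fromSpecResidueField y)) := hf y
  have e := pullbackLeftPullbackSndIso_hom_snd f (S.fromSpecResidueField y) a
  rw [show pullback.snd f (a ≫ S.fromSpecResidueField y) =
    (pullbackLeftPullbackSndIso f (S.fromSpecResidueField y) a).inv ≫ pullback.snd _ a by simp]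
  exact MorphismProperty.comp_mem _ _ _ inferInstance
    (MorphismProperty.of_isPullback (P := @FormallyUnramified) (IsPullback.of_hasPullback _ a) h1)

/-- A morphism locally of finite type with formally unramified fibres is formally unramified. -/
theorem formallyUnramified_of_fibres {X S : Scheme.{u}} (f : X ⟶ S) [LocallyOfFiniteType f]
    (hf : ∀ s : S, FormallyUnramified (f.fiberToSpecResidueField s)) : FormallyUnramified f := by
  refine ⟨fun {V} hV {U} hU e => ?_⟩
  let g := f.appLE V U e
  have hft : g.hom.FiniteType := HasRingHomProperty.appLE @LocallyOfFiniteType f inferInstance ⟨V, hV⟩ ⟨U, hU⟩ e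
  algebraize [g.hom]
  refine ⟨?_⟩
  show Subsingleton Ω[Γ(X, U)⁄Γ(S, V)]
  rw [← not_nontrivial_iff_subsingleton]
  intro hnt
  obtain ⟨q, hq⟩ := Module.nonempty_support_iff (R := Γ(X, U)) (M := Ω[Γ(X, U)⁄Γ(S, V)]) |>.mpr hnt
  rw [Module.mem_support_iff_nontrivial_residueField_tensorProduct] at hq
  let R := Γ(S, V)
  let A := Γ(X, U)
  let κ := q.asIdeal.ResidueField
  let K := κ
  let s' : Spec (CommRingCat.of K) ⟶ Spec R := Spec.map (CommRingCat.ofHom (algebraMap R K))
  have hs' := hfield f hf K (s' ≫ hV.fromSpec)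
  let B := K ⊗[R] A
  let _ : Algebra A B := Algebra.TensorProduct.rightAlgebra
  let ι : Spec (CommRingCat.of B) ⟶ pullback f (s' ≫ hV.fromSpec) :=
    (pullbackSpecIso R K A).inv ≫ (pullbackSymmetry _ _).hom ≫
      pullback.map (Spec.map (CommRingCat.ofHom (algebraMap R A))) s' f (s' ≫ hV.fromSpec)
        hU.fromSpec (𝟙 _) hV.fromSpec (IsAffineOpen.SpecMap_appLE_fromSpec f hV hU e)
        (Category.id_comp _).symm
  have : IsOpenImmersion ι := inferInstance
  have hι : ι ≫ pullback.snd f (s' ≫ hV.fromSpec) =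
      Spec.map (CommRingCat.ofHom (algebraMap K B)) := by
    simp only [ι, Category.assoc, pullback.lift_snd, Category.comp_id]
    rw [pullbackSymmetry_hom_comp_snd]
    exact pullbackSpecIso_inv_fst R K A
  have hBu : Algebra.FormallyUnramified K B := by
    have h : FormallyUnramified (Spec.map (CommRingCat.ofHom (algebraMap K B))) := by
      rw [← hι]
      exact MorphismProperty.comp_mem _ _ _ inferInstance hs'
    have h' := (HasRingHomProperty.Spec_iff (P := @FormallyUnramified)).mp h
    exact RingHom.formallyUnramified_algebraMap.mp h'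
  have hzero := (KaehlerDifferential.tensorKaehlerEquiv R K A B).toEquiv.subsingleton
  let χ : B →+* K :=
    (Algebra.TensorProduct.lift (AlgHom.id R K) (IsScalarTower.toAlgHom R A K) (fun _ _ => Commute.all _ _)).toRingHom
  have hχ : ∀ a : A, χ ((1 : K) ⊗ₜ[R] a) = algebraMap A K a := fun a =>
    (Algebra.TensorProduct.lift_tmul _ _ _ _ _).trans ((one_mul _).trans rfl)
  obtain ⟨z, hz⟩ := exists_ne (0 : κ ⊗[A] Ω[A⁄R])
  obtain ⟨ψ, hψ⟩ : ∃ ψ : κ ⊗[A] Ω[A⁄R] →ₗ[κ] κ, ψ z ≠ 0 := by
    by_contra! h
    exact hz ((Module.forall_dual_apply_eq_zero_iff κ z).mp h)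
  let φ : Ω[A⁄R] →ₗ[A] κ := (ψ.restrictScalars A).comp (TensorProduct.mk A κ (Ω[A⁄R]) 1)
  have aux : ∀ (C : Type u) [CommRing C] [Algebra A C] (_ : Subsingleton (C ⊗[A] Ω[A⁄R])) (χ : C →ₐ[A] K), φ = 0 := by
    intro C _ _ hC χ
    let _ : Algebra C K := χ.toRingHom.toAlgebra
    have : IsScalarTower A C K := .of_algebraMap_eq fun a => (χ.commutes a).symm
    let φ' : Ω[A⁄R] →ₗ[A] K := (IsScalarTower.toAlgHom A κ K).toLinearMap.comp φ
    ext w
    have h0 : (φ'.liftBaseChange C) ((1 : C) ⊗ₜ[A] KaehlerDifferential.D R A w) = 0 := by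
      rw [Subsingleton.elim ((1 : C) ⊗ₜ[A] KaehlerDifferential.D R A w) 0, map_zero]
    rw [LinearMap.liftBaseChange_tmul, one_smul] at h0
    exact (algebraMap κ K).injective (h0.trans (map_zero _).symm)
  have hφ : φ = 0 := @aux B _ (Algebra.TensorProduct.rightAlgebra) hzero
    (@AlgHom.mk A B K _ _ _ (Algebra.TensorProduct.rightAlgebra) _ χ hχ)
  apply hψ
  have : ∀ z, ψ z = 0 := fun z => by
    induction z using TensorProduct.induction_on with
    | zero => exact map_zero _
    | tmul c w =>
      rw [show c ⊗ₜ[A] w = c • ((1 : κ) ⊗ₜ[A] w) by rw [TensorProduct.smul_tmul', smul_eq_mul, mul_one], map_smul]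
      exact (congrArg (c • ·) (LinearMap.congr_fun hφ w)).trans (smul_zero c)
    | add a b ha hb => rw [map_add, ha, hb, add_zero]
  exact this z

end Groth.Agent.H19Grp
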