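import Groth.Agent.H19Grp.TangentPow
import Groth.Agent.H19Grp.UnramifiedFibres
import Mathlib

/-!
# Unramified homomorphisms of group schemes
-/

set_option autoImplicit false
set_option linter.style.haveILetI false
set_option backward.isDefEq.respectTransparency false

universe u

open CategoryTheory CategoryTheory.Limits MonoidalCategory CartesianMonoidalCategory MonObj GrpObj
  AlgebraicGeometry

namespace Groth.Agent.H19Grp

variable {S : Scheme.{u}} {G H : Over S} [GrpObj G] [GrpObj H] (f : G ⟶ H) [IsMonHom f]

/-- The unit section of the kernel of a homomorphism. -/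
noncomputable def kerUnit : S ⟶ pullback f.left (η[H]).left :=
  pullback.lift (η[G]).left (𝟙 S)
    ((congrArg (·.left) (IsMonHom.one_hom f)).trans (Category.id_comp _).symm)

lemma kerUnit_fst : kerUnit f ≫ pullback.fst f.left (η[H]).left = (η[G]).left :=
  pullback.lift_fst _ _ _

lemma kerUnit_snd : kerUnit f ≫ pullback.snd f.left (η[H]).left = 𝟙 S :=
  pullback.lift_snd _ _ _

lemma one_left (X : Over S) {Y : Over S} [GrpObj Y] :
    (1 : X ⟶ Y).left = X.hom ≫ (η[Y]).left := by
  rw [Hom.one_def]; rfl

/-- The diagonal of a homomorphism is a base change of the unit section of its kernel. -/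
theorem isPullback_diagonal_hom :
    ∃ h : pullback f.left f.left ⟶ pullback f.left (η[H]).left,
      IsPullback (pullback.diagonal f.left) G.hom h (kerUnit f) := by
  let P : Over S := Over.mk (pullback.fst f.left f.left ≫ G.hom)
  have hwb : pullback.snd f.left f.left ≫ G.hom = pullback.fst f.left f.left ≫ G.hom := by
    rw [← Over.w f, ← Category.assoc, ← Category.assoc, pullback.condition]
  let a : P ⟶ G := Over.homMk (pullback.fst f.left f.left)
  let b : P ⟶ G := Over.homMk (pullback.snd f.left f.left) hwb
  have hab : a ≫ f = b ≫ f := Over.OverMorphism.ext pullback.condition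
  have hm : (a⁻¹ * b) ≫ f = 1 := by
    rw [MonObj.mul_comp, GrpObj.inv_comp, hab, inv_mul_cancel]
  let h : pullback f.left f.left ⟶ pullback f.left (η[H]).left :=
    pullback.lift (a⁻¹ * b).left (pullback.fst f.left f.left ≫ G.hom)
      ((congrArg (·.left) hm).trans (one_left P))
  refine ⟨h, ?_⟩
  have e1 : pullback.diagonal f.left ≫ pullback.fst _ _ = 𝟙 _ := pullback.diagonal_fst _
  let d : G ⟶ P := Over.homMk (pullback.diagonal f.left) (by
    show pullback.diagonal f.left ≫ pullback.fst _ _ ≫ G.hom = G.hom
    rw [reassoc_of% e1])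
  have hd1 : d ≫ a = 𝟙 G := Over.OverMorphism.ext e1
  have hd2 : d ≫ b = 𝟙 G := Over.OverMorphism.ext (pullback.diagonal_snd f.left)
  have hw : pullback.diagonal f.left ≫ h = G.hom ≫ kerUnit f := by
    apply pullback.hom_ext
    · rw [Category.assoc, Category.assoc, kerUnit_fst, pullback.lift_fst]
      have : d ≫ (a⁻¹ * b) = 1 := by
        rw [MonObj.comp_mul, GrpObj.comp_inv, hd1, hd2, inv_mul_cancel]
      exact (congrArg (·.left) this).trans (one_left G)
    · rw [Category.assoc, Category.assoc, kerUnit_snd, pullback.lift_snd, reassoc_of% e1,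
        Category.comp_id]
  refine ⟨⟨hw⟩, ⟨PullbackCone.IsLimit.mk _ (fun z => z.fst ≫ pullback.fst _ _) ?_ ?_ ?_⟩⟩
  · intro z
    have hz1 := congr($(z.condition) ≫ pullback.fst f.left (η[H]).left)
    have hz2 := congr($(z.condition) ≫ pullback.snd f.left (η[H]).left)
    simp only [Category.assoc, kerUnit_fst, kerUnit_snd, h, pullback.lift_fst, pullback.lift_snd,
      Category.comp_id] at hz1 hz2
    let q : Over.mk z.snd ⟶ P := Over.homMk z.fst hz2
    have hq : q ≫ (a⁻¹ * b) = 1 :=
      Over.OverMorphism.ext (hz1.trans (one_left (Over.mk z.snd)).symm)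
    rw [MonObj.comp_mul, GrpObj.comp_inv, inv_mul_eq_one] at hq
    apply pullback.hom_ext
    · rw [Category.assoc, e1]; exact Category.comp_id _
    · rw [Category.assoc, pullback.diagonal_snd]
      exact (Category.comp_id _).trans (congrArg (·.left) hq)
  · intro z
    have hz2 := congr($(z.condition) ≫ pullback.snd f.left (η[H]).left)
    simp only [Category.assoc, kerUnit_snd, h, pullback.lift_snd, Category.comp_id] at hz2
    rw [Category.assoc]
    exact hz2
  · intro z m h1 h2
    rw [← h1, Category.assoc, e1]
    exact (Category.comp_id _).symm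

/-- A homomorphism is formally unramified if the unit section of its kernel is an open immersion. -/
theorem formallyUnramified_of_kerUnit [LocallyOfFiniteType f.left]
    [IsOpenImmersion (kerUnit f)] : FormallyUnramified f.left := by
  obtain ⟨h, hp⟩ := isPullback_diagonal_hom f
  haveI : IsOpenImmersion (pullback.diagonal f.left) :=
    MorphismProperty.of_isPullback hp.flip inferInstance
  infer_instance

/-- Over a field a homomorphism without tangent vectors in its kernel is formally unramified. -/
theorem formallyUnramified_of_tangent {K : Type u} [Field K]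
    {G H : Over (Spec (CommRingCat.of K))} [GrpObj G] [GrpObj H] [LocallyOfFiniteType G.hom]
    (f : G ⟶ H) [IsMonHom f]
    (h : ∀ x : TangentPow.sqz K K ⟶ G, TangentPow.red K K ≫ x = 1 → x ≫ f = 1 → x = 1) :
    FormallyUnramified f.left := by
  haveI : LocallyOfFiniteType (f.left ≫ H.hom) := by rw [Over.w f]; infer_instance
  haveI : LocallyOfFiniteType f.left := locallyOfFiniteType_of_comp f.left H.hom
  let N := pullback f.left (η[H]).left
  haveI : LocallyOfFiniteType (pullback.snd f.left (η[H]).left) :=
    MorphismProperty.pullback_snd _ _ inferInstance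
  haveI : IsOpenImmersion (kerUnit f) := by
    refine isOpenImmersion_of_tangent_trivial (pullback.snd f.left (η[H]).left) (kerUnit f)
      (kerUnit_snd f) fun x hx1 hx2 => ?_
    have hxw : (x ≫ pullback.fst f.left (η[H]).left) ≫ G.hom = (TangentPow.sqz K K).hom := by
      rw [← Over.w f, Category.assoc, reassoc_of% (pullback.condition (f := f.left) (g := (η[H]).left))]
      rw [Over.w η[H]]
      exact (congrArg (x ≫ ·) (Category.comp_id _)).trans hx1
    let xg : TangentPow.sqz K K ⟶ G := Over.homMk (x ≫ pullback.fst f.left (η[H]).left) hxw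
    have hr : TangentPow.red K K ≫ xg = 1 := by
      refine Over.OverMorphism.ext ?_
      rw [one_left]
      show Spec.map (dualFst K) ≫ x ≫ pullback.fst f.left (η[H]).left = 𝟙 _ ≫ (η[G]).left
      rw [← Category.assoc, hx2, kerUnit_fst, Category.id_comp]
    have hf : xg ≫ f = 1 := by
      refine Over.OverMorphism.ext ?_
      rw [one_left]
      show (x ≫ pullback.fst f.left (η[H]).left) ≫ f.left = _
      rw [Category.assoc, pullback.condition, ← Category.assoc, hx1]
      rfl
    have h1 := (congrArg (·.left) (h xg hr hf)).trans (one_left (TangentPow.sqz K K))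
    apply pullback.hom_ext
    · rw [Category.assoc, kerUnit_fst]; exact h1
    · rw [Category.assoc, kerUnit_snd, hx1, Category.comp_id]
  exact formallyUnramified_of_kerUnit f

theorem isMonHom_zpow {C : Type*} [Category C] [CartesianMonoidalCategory C] [BraidedCategory C]
    {M G : C} [MonObj M] [GrpObj G] [IsCommMonObj G] (φ : M ⟶ G) [IsMonHom φ] (n : ℤ) :
    IsMonHom (φ ^ n) := by
  have hp : ∀ m : ℕ, IsMonHom (φ ^ m) := by
    intro m
    induction m with
    | zero => rw [pow_zero, Hom.one_def]; infer_instance
    | succ m ih => rw [pow_succ, Hom.mul_def]; haveI := ih; infer_instance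
  obtain ⟨m, rfl | rfl⟩ := n.eq_nat_or_neg
  · rw [zpow_natCast]; exact hp m
  · haveI := hp m
    rw [zpow_neg, zpow_natCast]; infer_instance

/-- Invertible powers on a commutative group scheme over a field are formally unramified. -/
theorem formallyUnramified_zpow_field {K : Type u} [Field K] (G : Over (Spec (CommRingCat.of K)))
    [GrpObj G] [IsCommMonObj G] [LocallyOfFiniteType G.hom] (n : ℤ) (hn : (n : K) ≠ 0) :
    FormallyUnramified (𝟙 G ^ n : G ⟶ G).left := by
  haveI := isMonHom_zpow (𝟙 G) n
  refine formallyUnramified_of_tangent (𝟙 G ^ n) fun x hx hxf => ?_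
  rw [GrpObj.comp_zpow, Category.comp_id] at hxf
  exact TangentPow.eq_one_of_zpow_eq_one hx n hn hxf

end Groth.Agent.H19Grp
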