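import Groth.Agent.H19Grp.TangentDer
import Groth.Agent.H19Grp.Reduced
import Mathlib.AlgebraicGeometry.Group.Smooth
import Mathlib.AlgebraicGeometry.Morphisms.SmoothFiber
import Mathlib.FieldTheory.IsAlgClosed.AlgebraicClosure

/-!
# Group schemes in characteristic zero are smooth
-/

universe u

open CategoryTheory CategoryTheory.Limits MonoidalCategory CartesianMonoidalCategory MonObj GrpObj
  AlgebraicGeometry

namespace Groth.Agent.H19Grp

set_option backward.isDefEq.respectTransparency false

variable {K : Type u} [Field K]

/-- Over an algebraically closed field every closed point is the translate of the unit. -/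
lemma exists_iso_unitPt (G : Over (Spec (CommRingCat.of K))) [GrpObj G] [IsAlgClosed K]
    [LocallyOfFiniteType G.hom] (x : G.left) (hx : IsClosed {x}) :
    ∃ e : G ≅ G, e.hom.left (unitPt G) = x := by
  let g : 𝟙_ (Over (Spec (CommRingCat.of K))) ⟶ G :=
    Over.homMk (pointOfClosedPoint G.hom x hx) (pointOfClosedPoint_comp _ _ _)
  refine ⟨GrpObj.mulRight g, ?_⟩
  have h : η[G] ≫ (GrpObj.mulRight g).hom = g := by
    rw [GrpObj.mulRight_hom, ← Hom.mul_def, MonObj.comp_mul, Category.comp_id, ← Category.assoc,
      toUnit_unique (η[G] ≫ toUnit G) (𝟙 _), Category.id_comp, MonObj.one_eq_one, _root_.one_mul]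
  show (GrpObj.mulRight g).hom.left ((η[G]).left (IsLocalRing.closedPoint K)) = x
  rw [← Scheme.Hom.comp_apply, ← Over.comp_left, h]
  exact pointOfClosedPoint_apply _ _ _ _

lemma isReduced_left_of_isReduced_unit (G : Over (Spec (CommRingCat.of K))) [GrpObj G]
    [IsAlgClosed K] [LocallyOfFiniteType G.hom]
    (h : _root_.IsReduced (G.left.presheaf.stalk (unitPt G))) : IsReduced G.left := by
  have := LocallyOfFiniteType.jacobsonSpace G.hom
  refine isReduced_of_forall_closedPoint fun x hx => ?_
  obtain ⟨e, rfl⟩ := exists_iso_unitPt G x hx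
  have : IsIso e.hom.left := inferInstanceAs (IsIso ((Over.forget _).map e.hom))
  exact isReduced_of_injective (e.hom.left.stalkMap (unitPt G)).hom
    (ConcreteCategory.bijective_of_isIso (e.hom.left.stalkMap (unitPt G))).1

theorem geometricallyReduced_of_charZero [CharZero K] (G : Over (Spec (CommRingCat.of K)))
    [GrpObj G] [LocallyOfFiniteType G.hom] : GeometricallyReduced G.hom := by
  refine ⟨fun L _ ψ P f q hP => ?_⟩
  let g : Spec (CommRingCat.of (AlgebraicClosure L)) ⟶ Spec (CommRingCat.of L) :=
    Spec.map (CommRingCat.ofHom (algebraMap L (AlgebraicClosure L)))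
  let G' : Over (Spec (CommRingCat.of (AlgebraicClosure L))) := (Over.pullback (g ≫ ψ)).obj G
  let : GrpObj G' := Functor.grpObjObj
  have : LocallyOfFiniteType G'.hom := by dsimp [G']; infer_instance
  obtain ⟨φ, hφ⟩ := Spec.map_surjective (g ≫ ψ)
  have : CharZero (AlgebraicClosure L) := charZero_of_injective_ringHom φ.hom.injective
  have : IsDomain (G'.left.presheaf.stalk (unitPt G')) := isDomain_stalk_unit G'
  have hred : IsReduced G'.left := isReduced_left_of_isReduced_unit G' inferInstance
  let π : G'.left ⟶ P := hP.lift (pullback.fst G.hom (g ≫ ψ)) (pullback.snd G.hom (g ≫ ψ) ≫ g)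
    (by rw [pullback.condition, Category.assoc])
  have h1 : π ≫ f = pullback.fst G.hom (g ≫ ψ) := hP.lift_fst _ _ _
  have h2 : π ≫ q = pullback.snd G.hom (g ≫ ψ) ≫ g := hP.lift_snd _ _ _
  have hsq : IsPullback π (pullback.snd G.hom (g ≫ ψ)) q g := by
    refine IsPullback.of_right ?_ h2 hP
    rw [h1]
    exact IsPullback.of_hasPullback _ _
  have : Flat π := MorphismProperty.of_isPullback (P := @Flat) hsq.flip inferInstance
  have : Surjective π := MorphismProperty.of_isPullback (P := @Surjective) hsq.flip inferInstance
  exact isReduced_of_flat_surjective π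

theorem smooth_of_charZero [CharZero K] (G : Over (Spec (CommRingCat.of K)))
    [GrpObj G] [LocallyOfFiniteType G.hom] : Smooth G.hom := by
  have := geometricallyReduced_of_charZero G
  let : GrpObj (Over.mk G.hom) := inferInstanceAs (GrpObj G)
  exact smooth_of_grpObj G.hom

theorem smooth_of_flat_of_geometricallyReduced {S : Scheme.{u}} (G : Over S) [GrpObj G]
    [Flat G.hom] [LocallyOfFinitePresentation G.hom] [GeometricallyReduced G.hom] :
    Smooth G.hom := by
  refine Smooth.of_smooth_fiberToSpecResidueField G.hom fun s => ?_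
  let : GrpObj (Over.mk (G.hom.fiberToSpecResidueField s)) :=
    Functor.grpObjObj (F := Over.pullback (S.fromSpecResidueField s)) (G := G)
  have : LocallyOfFiniteType (G.hom.fiberToSpecResidueField s) :=
    inferInstanceAs (LocallyOfFiniteType (pullback.snd G.hom (S.fromSpecResidueField s)))
  exact smooth_of_grpObj (K := S.residueField s) (G.hom.fiberToSpecResidueField s)

theorem smooth_of_flat_of_charZero {S : Scheme.{u}} (hS : ∀ s : S, CharZero (S.residueField s))
    (G : Over S) [GrpObj G] [Flat G.hom] [LocallyOfFinitePresentation G.hom] : Smooth G.hom := by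
  refine Smooth.of_smooth_fiberToSpecResidueField G.hom fun s => ?_
  have := hS s
  let : GrpObj ((Over.pullback (S.fromSpecResidueField s)).obj G) := Functor.grpObjObj
  have : LocallyOfFiniteType ((Over.pullback (S.fromSpecResidueField s)).obj G).hom :=
    inferInstanceAs (LocallyOfFiniteType (pullback.snd G.hom (S.fromSpecResidueField s)))
  exact smooth_of_charZero (K := S.residueField s) ((Over.pullback (S.fromSpecResidueField s)).obj G)

end Groth.Agent.H19Grp
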