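import Mathlib
import Groth.Agent.H7Flat.QuasiFiniteDense
import Groth.Agent.H18Descent.Basic
import Groth.Agent.H19Grp.Cartier

/-! Quasi-finite quasi-compact homomorphisms of algebraic groups over a field are finite, in
particular monomorphisms are closed immersions. -/

set_option autoImplicit false
set_option linter.style.haveILetI false
set_option backward.isDefEq.respectTransparency false

universe u

open CategoryTheory CategoryTheory.Limits MonoidalCategory CartesianMonoidalCategory MonObj GrpObj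
  AlgebraicGeometry TopologicalSpace

namespace Groth.Agent.H19Grp.QuasiFiniteHom

variable {K : Type u} [Field K]

local notation "pt" => IsLocalRing.closedPoint K

theorem isFinite_of_lqf_isAlgClosed [IsAlgClosed K] {H G : Over (Spec (CommRingCat.of K))} [GrpObj H]
    [GrpObj G] [LocallyOfFiniteType H.hom] [LocallyOfFiniteType G.hom] (f : H ⟶ G) [IsMonHom f]
    [QuasiCompact f.left] [LocallyQuasiFinite f.left] : IsFinite f.left := by
  haveI : LocallyOfFiniteType (f.left ≫ G.hom) := by rw [Over.w f]; infer_instance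
  haveI : LocallyOfFiniteType f.left := locallyOfFiniteType_of_comp f.left G.hom
  haveI : JacobsonSpace G.left := LocallyOfFiniteType.jacobsonSpace G.hom
  haveI : JacobsonSpace H.left := LocallyOfFiniteType.jacobsonSpace H.hom
  let W : G.left.Opens := ⨆ V : {V : G.left.Opens // IsFinite (f.left ∣_ V)}, V.1
  suffices hW : W = ⊤ from (IsZariskiLocalAtTarget.iff_of_iSup_eq_top (P := @IsFinite) _ hW).2 fun V => V.2
  have hmemW : ∀ (V : G.left.Opens), IsFinite (f.left ∣_ V) → ∀ z ∈ V, z ∈ W := fun V hV z hz =>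
    Opens.mem_iSup.2 ⟨⟨V, hV⟩, hz⟩
  let Z : Set G.left := closure (Set.range f.left)
  -- rational points
  have hH : ∀ U : H.left.Opens, (U : Set H.left).Nonempty →
      ∃ a : 𝟙_ (Over (Spec (CommRingCat.of K))) ⟶ H, a.left pt ∈ U := by
    intro U hU
    obtain ⟨x, hx, hxc⟩ := nonempty_inter_closedPoints hU U.2.isLocallyClosed
    exact ⟨Over.homMk (pointOfClosedPoint H.hom x hxc) (pointOfClosedPoint_comp _ _ _),
      by
        show pointOfClosedPoint H.hom x hxc pt ∈ U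
        rw [pointOfClosedPoint_apply]; exact hx⟩
  have key : ∀ (φ : G ⟶ G) (x : 𝟙_ (Over (Spec (CommRingCat.of K))) ⟶ G),
      (∀ a : 𝟙_ (Over (Spec (CommRingCat.of K))) ⟶ H, ((a ≫ f) ≫ φ).left pt ∈ Z) → x.left pt ∈ Z →
        (x ≫ φ).left pt ∈ Z := by
    intro φ x hφ hx
    rw [Over.comp_left, Scheme.Hom.comp_apply]
    refine closure_minimal ?_ (isClosed_closure.preimage φ.left.continuous) hx
    have hcl : IsClosed (f.left ⁻¹' (φ.left ⁻¹' Z)) :=
      (isClosed_closure.preimage φ.left.continuous).preimage f.left.continuous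
    rintro _ ⟨y, rfl⟩
    by_contra hy
    obtain ⟨a, ha⟩ := hH ⟨(f.left ⁻¹' (φ.left ⁻¹' Z))ᶜ, hcl.isOpen_compl⟩ ⟨y, hy⟩
    apply ha
    have := hφ a
    rwa [Over.comp_left, Over.comp_left, Scheme.Hom.comp_apply, Scheme.Hom.comp_apply] at this
  have hR : ∀ (x y : 𝟙_ (Over (Spec (CommRingCat.of K))) ⟶ G), y ≫ ((𝟙 G) * (toUnit G ≫ x)) = y * x := by
    intro x y
    rw [MonObj.comp_mul, Category.comp_id, ← Category.assoc, toUnit_unique (y ≫ toUnit G) (𝟙 _),
      Category.id_comp]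
  have hL : ∀ (x y : 𝟙_ (Over (Spec (CommRingCat.of K))) ⟶ G), y ≫ ((toUnit G ≫ x) * (𝟙 G)) = x * y := by
    intro x y
    rw [MonObj.comp_mul, Category.comp_id, ← Category.assoc, toUnit_unique (y ≫ toUnit G) (𝟙 _),
      Category.id_comp]
  have hmul : ∀ x y : 𝟙_ (Over (Spec (CommRingCat.of K))) ⟶ G,
      x.left pt ∈ Z → y.left pt ∈ Z → (x * y).left pt ∈ Z := by
    intro x y hx hy
    rw [← hR y x]
    refine key _ x (fun a => ?_) hx
    rw [hR, ← hL]
    refine key _ y (fun b => ?_) hy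
    rw [hL, ← MonObj.mul_comp, Over.comp_left]
    exact subset_closure ⟨_, (Scheme.Hom.comp_apply _ _ _).symm⟩
  have hinv : ∀ x : 𝟙_ (Over (Spec (CommRingCat.of K))) ⟶ G, x.left pt ∈ Z → (x⁻¹).left pt ∈ Z := by
    intro x hx
    have e : ∀ u : 𝟙_ (Over (Spec (CommRingCat.of K))) ⟶ G, u⁻¹ = u ≫ (𝟙 G)⁻¹ := fun u => by
      rw [GrpObj.comp_inv, Category.comp_id]
    rw [e]
    refine key _ x (fun a => ?_) hx
    rw [← e, ← GrpObj.inv_comp, Over.comp_left]
    exact subset_closure ⟨_, (Scheme.Hom.comp_apply _ _ _).symm⟩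
  -- an open meeting the image over which `f` is finite
  obtain ⟨V, b, hbV, hV⟩ : ∃ (V : G.left.Opens) (b : 𝟙_ (Over (Spec (CommRingCat.of K))) ⟶ H),
      (b ≫ f).left pt ∈ V ∧ IsFinite (f.left ∣_ V) := by
    haveI : LocallyQuasiFinite (f.left.toImage ≫ f.left.imageι) := by
      rw [Scheme.Hom.toImage_imageι]; infer_instance
    haveI : LocallyOfFiniteType (f.left.toImage ≫ f.left.imageι) := by
      rw [Scheme.Hom.toImage_imageι]; infer_instance
    haveI : LocallyQuasiFinite f.left.toImage := LocallyQuasiFinite.of_comp f.left.toImage f.left.imageι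
    haveI : LocallyOfFiniteType f.left.toImage := locallyOfFiniteType_of_comp _ f.left.imageι
    obtain ⟨x₀⟩ : Nonempty f.left.image := ⟨f.left.toImage ((η[H]).left pt)⟩
    obtain ⟨V₀, -, hne, hfin⟩ := H7Flat.exists_isFinite_morphismRestrict
      f.left.toImage ⊤ ⟨x₀, trivial⟩
    obtain ⟨V, hVo, hVe⟩ := f.left.imageι.isEmbedding.isInducing.isOpen_iff.1 V₀.2
    have hV₀ : f.left.imageι ⁻¹ᵁ ⟨V, hVo⟩ = V₀ := Opens.ext hVe
    have hne' : ((f.left.toImage ⁻¹ᵁ V₀ : H.left.Opens) : Set H.left).Nonempty := by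
      have hd := f.left.toImage.denseRange
      obtain ⟨_, hy, ⟨h', rfl⟩⟩ := hd.inter_open_nonempty _ V₀.2 hne
      exact ⟨h', hy⟩
    obtain ⟨b, hb⟩ := hH _ hne'
    refine ⟨⟨V, hVo⟩, b, ?_, ?_⟩
    · have h1 : f.left.imageι (f.left.toImage (b.left pt)) ∈ V := by
        have : f.left.toImage (b.left pt) ∈ f.left.imageι ⁻¹ᵁ ⟨V, hVo⟩ := hV₀ ▸ hb
        exact this
      rw [← Scheme.Hom.comp_apply, Scheme.Hom.toImage_imageι] at h1
      rw [Over.comp_left, Scheme.Hom.comp_apply]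
      exact h1
    · have e : IsFinite ((f.left.toImage ≫ f.left.imageι) ∣_ ⟨V, hVo⟩) := by
        rw [morphismRestrict_comp]
        haveI : IsFinite (f.left.toImage ∣_ f.left.imageι ⁻¹ᵁ ⟨V, hVo⟩) := by rw [hV₀]; exact hfin
        infer_instance
      rwa [Scheme.Hom.toImage_imageι] at e
  by_contra hne
  obtain ⟨z₀, hz₀, hz₀c⟩ := nonempty_inter_closedPoints (X := G.left) (Z := (W : Set G.left)ᶜ)
    (Set.nonempty_compl.2 fun h => hne (Opens.ext h)) W.2.isClosed_compl.isLocallyClosed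
  obtain ⟨z, rfl⟩ : ∃ z : 𝟙_ (Over (Spec (CommRingCat.of K))) ⟶ G, z.left pt = z₀ :=
    ⟨Over.homMk (pointOfClosedPoint G.hom z₀ hz₀c) (pointOfClosedPoint_comp _ _ _),
      pointOfClosedPoint_apply _ _ _ _⟩
  apply hz₀
  by_cases hzZ : z.left pt ∈ Z
  swap
  · refine hmemW ⟨Zᶜ, isClosed_closure.isOpen_compl⟩ ?_ _ hzZ
    haveI : IsEmpty (f.left ⁻¹ᵁ ⟨Zᶜ, isClosed_closure.isOpen_compl⟩ : H.left.Opens).toScheme :=
      ⟨fun x => x.2 (subset_closure ⟨_, rfl⟩)⟩
    infer_instance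
  -- translate `z` into `V`
  let φ : G ⟶ G := (𝟙 G)⁻¹ * (toUnit G ≫ z)
  have hφ : ∀ y : 𝟙_ (Over (Spec (CommRingCat.of K))) ⟶ G, y ≫ φ = y⁻¹ * z := fun y => by
    rw [MonObj.comp_mul, GrpObj.comp_inv, Category.comp_id, ← Category.assoc,
      toUnit_unique (y ≫ toUnit G) (𝟙 _), Category.id_comp]
  let y := z * (b ≫ f)⁻¹
  have hy : y.left pt ∈ Z := hmul _ _ hzZ (hinv _ (by
    rw [Over.comp_left, Scheme.Hom.comp_apply]; exact subset_closure ⟨_, rfl⟩))
  have hyV : y.left pt ∈ φ.left ⁻¹ᵁ V := by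
    show φ.left (y.left pt) ∈ V
    rw [← Scheme.Hom.comp_apply, ← Over.comp_left, hφ, _root_.mul_inv_rev, _root_.inv_inv, inv_mul_cancel_right]
    exact hbV
  obtain ⟨_, hw, ⟨c, rfl⟩⟩ := mem_closure_iff.1 hy _ (φ.left ⁻¹ᵁ V).2 hyV
  obtain ⟨a, ha⟩ := hH (f.left ⁻¹ᵁ φ.left ⁻¹ᵁ V) ⟨c, hw⟩
  have haV : ((a ≫ f)⁻¹ * z).left pt ∈ V := by
    rw [← hφ, Over.comp_left, Over.comp_left, Scheme.Hom.comp_apply, Scheme.Hom.comp_apply]
    exact ha
  let T : G ⟶ G := (toUnit G ≫ (a ≫ f)⁻¹) * 𝟙 G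
  let L : H ⟶ H := (toUnit H ≫ a⁻¹) * 𝟙 H
  have hfT : f ≫ T = L ≫ f := by
    rw [MonObj.comp_mul, MonObj.mul_comp, Category.comp_id, Category.id_comp, ← Category.assoc,
      toUnit_unique (f ≫ toUnit G) (toUnit H), ← GrpObj.inv_comp, Category.assoc]
  have hiso : ∀ {X : Over (Spec (CommRingCat.of K))} [GrpObj X] (x : 𝟙_ _ ⟶ X),
      IsIso ((toUnit X ≫ x) * 𝟙 X).left := by
    intro X _ x
    haveI : IsIso ((toUnit X ≫ x) * 𝟙 X) := ⟨(toUnit X ≫ x⁻¹) * 𝟙 X,
      by rw [MonObj.comp_mul, Category.comp_id, ← Category.assoc,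
          toUnit_unique (((toUnit X ≫ x) * 𝟙 X) ≫ toUnit X) (toUnit X), ← _root_.mul_assoc,
          ← MonObj.comp_mul, inv_mul_cancel, MonObj.comp_one, _root_.one_mul],
      by rw [MonObj.comp_mul, Category.comp_id, ← Category.assoc,
          toUnit_unique (((toUnit X ≫ x⁻¹) * 𝟙 X) ≫ toUnit X) (toUnit X), ← _root_.mul_assoc,
          ← MonObj.comp_mul, mul_inv_cancel, MonObj.comp_one, _root_.one_mul]⟩
    exact inferInstanceAs (IsIso ((Over.forget _).map ((toUnit X ≫ x) * 𝟙 X)))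
  haveI := hiso (a ≫ f)⁻¹
  haveI := hiso a⁻¹
  refine hmemW (T.left ⁻¹ᵁ V) ?_ _ ?_
  · have h1 : IsFinite ((L.left ≫ f.left) ∣_ V) := by
      rw [morphismRestrict_comp]; infer_instance
    rw [← Over.comp_left, ← hfT, Over.comp_left, morphismRestrict_comp] at h1
    exact (MorphismProperty.cancel_right_of_respectsIso @IsFinite _ (T.left ∣_ V)).1 h1
  · show T.left (z.left pt) ∈ V
    rw [← Scheme.Hom.comp_apply, ← Over.comp_left, hL]
    exact haV

theorem isFinite_of_lqf {H G : Over (Spec (CommRingCat.of K))} [GrpObj H]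
    [GrpObj G] [LocallyOfFiniteType H.hom] [LocallyOfFiniteType G.hom] (f : H ⟶ G) [IsMonHom f]
    [QuasiCompact f.left] [LocallyQuasiFinite f.left] : IsFinite f.left := by
  let φ := Spec.map (CommRingCat.ofHom (algebraMap K (AlgebraicClosure K)))
  let F := Over.pullback φ
  letI : GrpObj (F.obj G) := Functor.grpObjObj
  letI : GrpObj (F.obj H) := Functor.grpObjObj
  haveI : LocallyOfFiniteType (F.obj G).hom :=
    inferInstanceAs (LocallyOfFiniteType (pullback.snd G.hom φ))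
  haveI : LocallyOfFiniteType (F.obj H).hom :=
    inferInstanceAs (LocallyOfFiniteType (pullback.snd H.hom φ))
  have hp : IsPullback (F.map f).left (pullback.fst H.hom φ) (pullback.fst G.hom φ) f.left := by
    refine (IsPullback.of_bot (v₂₁ := pullback.snd G.hom φ) (v₂₂ := G.hom) (h₃₁ := φ) ?_ ?_
      (IsPullback.of_hasPullback G.hom φ)).flip
    · rw [show (F.map f).left ≫ pullback.snd G.hom φ = pullback.snd H.hom φ from Over.w (F.map f), Over.w f]
      exact IsPullback.of_hasPullback H.hom φ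
    · simp [F]
  haveI : QuasiCompact (F.map f).left := MorphismProperty.of_isPullback hp.flip ‹_›
  haveI : LocallyQuasiFinite (F.map f).left := MorphismProperty.of_isPullback hp.flip ‹_›
  haveI : IsMonHom (F.map f) := inferInstance
  exact MorphismProperty.of_isPullback_of_descendsAlong (P := @IsFinite)
    (Q := @Surjective ⊓ @Flat ⊓ @QuasiCompact) hp ⟨⟨inferInstance, inferInstance⟩, inferInstance⟩
    (isFinite_of_lqf_isAlgClosed (F.map f))

theorem isClosedImmersion_of_mono {H G : Over (Spec (CommRingCat.of K))} [GrpObj H]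
    [GrpObj G] [LocallyOfFiniteType H.hom] [LocallyOfFiniteType G.hom] (f : H ⟶ G) [IsMonHom f]
    [QuasiCompact f.left] [Mono f.left] : IsClosedImmersion f.left := by
  haveI : LocallyOfFiniteType (f.left ≫ G.hom) := by rw [Over.w f]; infer_instance
  haveI : LocallyOfFiniteType f.left := locallyOfFiniteType_of_comp f.left G.hom
  haveI : LocallyQuasiFinite f.left := inferInstance
  exact (IsClosedImmersion.iff_isFinite_and_mono f.left).2 ⟨isFinite_of_lqf f, ‹_›⟩

end Groth.Agent.H19Grp.QuasiFiniteHom
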