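import Mathlib
import Groth.Agent.H19Grp.QuasiFiniteHom
import Groth.Agent.H19Grp.HomUnramified
import Groth.Agent.H24FSch.Descend
import Groth.Agent.H24FSch.Sub

/-! Homomorphisms of group schemes over Artinian local rings: discrete kernels, finiteness. -/

set_option autoImplicit false
set_option linter.style.haveILetI false
set_option backward.isDefEq.respectTransparency false

universe u

open CategoryTheory CategoryTheory.Limits MonoidalCategory CartesianMonoidalCategory MonObj GrpObj
  AlgebraicGeometry TopologicalSpace

namespace Groth.Agent.H19Grp.ArtinHom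

/-- A quasi-compact homomorphism with quasi-finite kernel is quasi-finite. -/
theorem lqf_of_kernel {S : Scheme.{u}} {G H : Over S} [GrpObj G] [GrpObj H] (f : G ⟶ H) [IsMonHom f]
    [LocallyOfFiniteType f.left] [QuasiCompact f.left]
    (hN : LocallyQuasiFinite (pullback.snd f.left (η[H]).left)) : LocallyQuasiFinite f.left := by
  let P : Over S := Over.mk (pullback.fst f.left f.left ≫ G.hom)
  let N : Over S := Over.mk (pullback.snd f.left (η[H]).left)
  have hN' : pullback.fst f.left (η[H]).left ≫ G.hom = pullback.snd f.left (η[H]).left := by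
    rw [← Over.w f, reassoc_of% (pullback.condition (f := f.left) (g := (η[H]).left)), Over.w η[H]]
    exact Category.comp_id _
  let j : N ⟶ G := Over.homMk (pullback.fst f.left (η[H]).left) hN'
  have hj : j ≫ f = 1 := Over.OverMorphism.ext (pullback.condition.trans (one_left N).symm)
  haveI : IsSplitMono (η[H]).left := ⟨⟨⟨H.hom, Over.w η[H]⟩⟩⟩
  haveI : Mono j.left := inferInstanceAs (Mono (pullback.fst f.left (η[H]).left))
  haveI : Mono j := Over.mono_of_mono_left j
  have hwb : pullback.snd f.left f.left ≫ G.hom = pullback.fst f.left f.left ≫ G.hom := by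
    rw [← Over.w f, ← Category.assoc, ← Category.assoc, pullback.condition]
  let a : P ⟶ G := Over.homMk (pullback.fst f.left f.left)
  let b : P ⟶ G := Over.homMk (pullback.snd f.left f.left) hwb
  have hab : a ≫ f = b ≫ f := Over.OverMorphism.ext pullback.condition
  have hm : (a⁻¹ * b) ≫ f = 1 := by
    rw [MonObj.mul_comp, GrpObj.inv_comp, hab, inv_mul_cancel]
  let ν : P ⟶ N := Over.homMk (pullback.lift (a⁻¹ * b).left P.hom
    ((congrArg (·.left) hm).trans (one_left P))) (pullback.lift_snd _ _ _)
  have hν : ν ≫ j = a⁻¹ * b := Over.OverMorphism.ext (pullback.lift_fst _ _ _)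
  let y : G ⊗ N ⟶ G := fst G N * (snd G N ≫ j)
  have hy : y ≫ f = fst G N ≫ f := by
    rw [MonObj.mul_comp, Category.assoc, hj, MonObj.comp_one, _root_.mul_one]
  let Ψ : G ⊗ N ⟶ P := Over.homMk (pullback.lift (fst G N).left y.left (congrArg (·.left) hy.symm)) (by
    show pullback.lift _ _ _ ≫ pullback.fst _ _ ≫ G.hom = _
    rw [pullback.lift_fst_assoc]
    exact Over.w (fst G N))
  have hΨa : Ψ ≫ a = fst G N := Over.OverMorphism.ext (pullback.lift_fst _ _ _)
  have hΨb : Ψ ≫ b = y := Over.OverMorphism.ext (pullback.lift_snd _ _ _)
  haveI : IsIso Ψ := ⟨lift a ν, by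
    apply CartesianMonoidalCategory.hom_ext
    · rw [Category.assoc, lift_fst, hΨa, Category.id_comp]
    · rw [Category.assoc, lift_snd, Category.id_comp, ← cancel_mono j, Category.assoc, hν,
        MonObj.comp_mul, GrpObj.comp_inv, hΨa, hΨb, inv_mul_cancel_left], by
    refine Over.OverMorphism.ext (pullback.hom_ext ?_ ?_)
    · exact congrArg (·.left) (show (lift a ν ≫ Ψ) ≫ a = 𝟙 P ≫ a by
        rw [Category.assoc, hΨa, lift_fst, Category.id_comp])
    · exact congrArg (·.left) (show (lift a ν ≫ Ψ) ≫ b = 𝟙 P ≫ b by
        rw [Category.assoc, hΨb, MonObj.comp_mul, lift_fst, ← Category.assoc, lift_snd, hν,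
          mul_inv_cancel_left, Category.id_comp])⟩
  haveI : IsIso Ψ.left := inferInstanceAs (IsIso ((Over.forget _).map Ψ))
  haveI : LocallyQuasiFinite (pullback.fst f.left f.left) := by
    rw [← MorphismProperty.cancel_left_of_respectsIso @LocallyQuasiFinite Ψ.left]
    show LocallyQuasiFinite (pullback.lift _ _ _ ≫ pullback.fst _ _)
    rw [pullback.lift_fst]
    haveI : LocallyQuasiFinite N.hom := hN
    exact inferInstanceAs (LocallyQuasiFinite (pullback.fst G.hom N.hom))
  rw [locallyQuasiFinite_iff_finite_preimage_singleton]
  intro z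
  rcases (f.left ⁻¹' {z}).eq_empty_or_nonempty with he | ⟨x, hx⟩
  · rw [he]; exact Set.finite_empty
  refine ((pullback.fst f.left f.left).finite_preimage_singleton x).image (pullback.snd f.left f.left) |>.subset ?_
  intro x' hx'
  obtain ⟨w, hw₁, hw₂⟩ := Scheme.Pullback.exists_preimage_pullback (f := f.left) (g := f.left) x x'
    (hx.trans hx'.symm)
  exact ⟨w, hw₁, hw₂⟩

variable {A : Type u} [CommRing A] [IsArtinianRing A] [IsLocalRing A]

theorem surjective_residue : Surjective (Spec.map (CommRingCat.ofHom (IsLocalRing.residue A))) :=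
  ⟨fun p => ⟨IsLocalRing.closedPoint _, Subsingleton.elim (α := PrimeSpectrum A) _ _⟩⟩

section

variable {G H : Over (Spec (CommRingCat.of A))} [GrpObj G] [GrpObj H]
  [LocallyOfFiniteType G.hom] [LocallyOfFiniteType H.hom] (f : G ⟶ H) [IsMonHom f]
  [QuasiCompact f.left]

local notation "res" => Spec.map (CommRingCat.ofHom (IsLocalRing.residue A))

omit [IsMonHom f] [QuasiCompact f.left] [GrpObj G] [GrpObj H] [LocallyOfFiniteType G.hom]
  [LocallyOfFiniteType H.hom] [IsArtinianRing A] in
theorem isPullback_residue : IsPullback (pullback.fst G.hom res) ((Over.pullback res).map f).left f.left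
    (pullback.fst H.hom res) := by
  refine IsPullback.of_bot (v₂₁ := pullback.snd H.hom res) (v₂₂ := H.hom) (h₃₁ := res) ?_ ?_
    (IsPullback.of_hasPullback H.hom res)
  · rw [show ((Over.pullback res).map f).left ≫ pullback.snd H.hom res = pullback.snd G.hom res from
      Over.w ((Over.pullback res).map f), Over.w f]
    exact IsPullback.of_hasPullback G.hom res
  · simp

theorem isClosedImmersion_of_mono [Mono f.left] : IsClosedImmersion f.left := by
  haveI : IsLocallyNoetherian H.left := LocallyOfFiniteType.isLocallyNoetherian H.hom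
  haveI : Surjective res := surjective_residue
  haveI : IsClosedImmersion res := IsClosedImmersion.spec_of_surjective _ IsLocalRing.residue_surjective
  let F := Over.pullback res
  letI : GrpObj (F.obj G) := Functor.grpObjObj
  letI : GrpObj (F.obj H) := Functor.grpObjObj
  haveI : LocallyOfFiniteType (F.obj G).hom := inferInstanceAs (LocallyOfFiniteType (pullback.snd G.hom res))
  haveI : LocallyOfFiniteType (F.obj H).hom := inferInstanceAs (LocallyOfFiniteType (pullback.snd H.hom res))
  have hp := isPullback_residue f
  haveI : QuasiCompact (F.map f).left := MorphismProperty.of_isPullback hp ‹_›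
  haveI : Mono (F.map f).left :=
    MorphismProperty.of_isPullback (P := MorphismProperty.monomorphisms _) hp ‹_›
  haveI : IsClosedImmersion (F.map f).left := QuasiFiniteHom.isClosedImmersion_of_mono (F.map f)
  exact H24FSch.isClosedImmersion_of_thickening (H24FSch.idealFT_of_isLocallyNoetherian _) hp

theorem isFinite_iff_discrete :
    IsFinite f.left ↔ DiscreteTopology ↥(pullback f.left (η[H]).left) := by
  haveI : LocallyOfFiniteType (f.left ≫ H.hom) := by rw [Over.w f]; infer_instance
  haveI : LocallyOfFiniteType f.left := locallyOfFiniteType_of_comp f.left H.hom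
  haveI : Subsingleton ↥(𝟙_ (Over (Spec (CommRingCat.of A)))).left :=
    inferInstanceAs (Subsingleton (PrimeSpectrum A))
  constructor
  · intro h
    haveI : LocallyQuasiFinite (pullback.snd f.left (η[H]).left) := inferInstance
    have := (pullback.snd f.left (η[H]).left).isDiscrete_preimage
      (s := Set.univ) ⟨inferInstance⟩
    rw [Set.preimage_univ] at this
    exact isDiscrete_univ_iff.1 this
  · intro h
    haveI hN : LocallyQuasiFinite (pullback.snd f.left (η[H]).left) := by
      rw [locallyQuasiFinite_iff_isDiscrete_preimage_singleton]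
      intro y
      exact ⟨inferInstance⟩
    haveI := lqf_of_kernel f hN
    haveI : IsLocallyNoetherian H.left := LocallyOfFiniteType.isLocallyNoetherian H.hom
    haveI : Surjective res := surjective_residue
    haveI : IsClosedImmersion res := IsClosedImmersion.spec_of_surjective _ IsLocalRing.residue_surjective
    let F := Over.pullback res
    letI : GrpObj (F.obj G) := Functor.grpObjObj
    letI : GrpObj (F.obj H) := Functor.grpObjObj
    haveI : LocallyOfFiniteType (F.obj G).hom := inferInstanceAs (LocallyOfFiniteType (pullback.snd G.hom res))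
    haveI : LocallyOfFiniteType (F.obj H).hom := inferInstanceAs (LocallyOfFiniteType (pullback.snd H.hom res))
    have hp := isPullback_residue f
    haveI : QuasiCompact (F.map f).left := MorphismProperty.of_isPullback hp ‹_›
    haveI : LocallyQuasiFinite (F.map f).left := MorphismProperty.of_isPullback hp ‹_›
    haveI : IsFinite (F.map f).left := QuasiFiniteHom.isFinite_of_lqf (F.map f)
    exact H24FSch.isFinite_of_thickening hp

end

end Groth.Agent.H19Grp.ArtinHom
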