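import Mathlib

/-!
# Points of smooth schemes over separably closed fields
-/

set_option autoImplicit false
set_option linter.style.haveILetI false

universe u

open CategoryTheory AlgebraicGeometry

namespace Groth.Agent.H19Grp

/-- A separably closed field is infinite. -/
theorem infinite_of_isSepClosed (k : Type*) [Field k] [IsSepClosed k] : Infinite k := by
  by_contra h
  rw [not_infinite_iff_finite] at h
  haveI : IsAlgClosed k := IsSepClosed.isAlgClosed_of_perfectField k
  exact not_finite k

/-- A nonzero smooth algebra over a separably closed field has a point. -/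
theorem exists_algHom_of_smooth {k A : Type u} [Field k] [IsSepClosed k] [CommRing A] [Algebra k A]
    [Algebra.Smooth k A] [Nontrivial A] : Nonempty (A →ₐ[k] k) := by
  haveI := infinite_of_isSepClosed k
  have hs : (algebraMap k A).Smooth := RingHom.smooth_algebraMap.mpr inferInstance
  obtain ⟨s, hspan, hstd⟩ := hs.locally_isStandardSmooth
  obtain ⟨m, hm⟩ := Ideal.exists_maximal A
  obtain ⟨g, hgs, hgm⟩ : ∃ g ∈ s, g ∉ m := by
    by_contra! h
    exact hm.ne_top (top_le_iff.mp (hspan ▸ Ideal.span_le.mpr h))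
  let B := Localization.Away g
  haveI : Nontrivial B := by
    rw [← not_subsingleton_iff_nontrivial,
      IsLocalization.subsingleton_iff (M := Submonoid.powers g) (S := B)]
    rintro ⟨i, hi⟩
    have h0 : g ^ i = 0 := hi
    exact hgm (hm.isPrime.mem_of_pow_mem i (h0 ▸ m.zero_mem))
  have hstdB : (algebraMap k B).IsStandardSmooth := by
    rw [IsScalarTower.algebraMap_eq k A B]
    exact hstd g hgs
  obtain ⟨n, φ₀, hc, hφ⟩ := hstdB.exists_etale_mvPolynomial
  let φ : MvPolynomial (Fin n) k →ₐ[k] B :=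
    { φ₀ with commutes' := fun c => RingHom.congr_fun hc c }
  let P := MvPolynomial (Fin n) k
  algebraize [φ.toRingHom]
  haveI : Algebra.Etale P B := hφ
  have hopen : IsOpenMap (PrimeSpectrum.comap (algebraMap P B)) :=
    PrimeSpectrum.isOpenMap_comap_of_hasGoingDown_of_finitePresentation
  obtain ⟨q⟩ : Nonempty (PrimeSpectrum B) := inferInstance
  have hq0 : PrimeSpectrum.comap (algebraMap P B) q ∈ PrimeSpectrum.comap (algebraMap P B) '' Set.univ :=
    ⟨q, trivial, rfl⟩
  obtain ⟨_, ⟨h, rfl⟩, hqh, hsub⟩ := PrimeSpectrum.isTopologicalBasis_basic_opens.exists_subset_of_mem_open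
    hq0 (hopen _ isOpen_univ)
  have hh : h ≠ 0 := fun h0 => hqh (h0 ▸ Ideal.zero_mem _)
  obtain ⟨a, ha⟩ : ∃ a : Fin n → k, MvPolynomial.eval a h ≠ 0 := by
    by_contra! hall
    exact hh (MvPolynomial.funext fun x => by rw [hall x, map_zero])
  let ev : P →ₐ[k] k := MvPolynomial.aeval a
  let M : PrimeSpectrum P := ⟨RingHom.ker ev, RingHom.ker_isPrime _⟩
  haveI : M.asIdeal.IsMaximal := RingHom.ker_isMaximal_of_surjective _ fun c => ⟨MvPolynomial.C c, by show MvPolynomial.aeval a (MvPolynomial.C c) = c; rw [MvPolynomial.aeval_C]; rfl⟩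
  obtain ⟨p, -, hp⟩ := hsub (show M ∈ _ from fun hmem => ha (RingHom.mem_ker.mp hmem))
  obtain ⟨q', hq', hpq⟩ := p.asIdeal.exists_le_maximal p.isPrime.ne_top
  have hker : ∀ z, ev z = 0 → algebraMap P B z ∈ q' := fun z hz => hpq <| by
    have : M.asIdeal = p.asIdeal.comap (algebraMap P B) := congrArg PrimeSpectrum.asIdeal hp.symm
    exact Ideal.mem_comap.mp (this ▸ (RingHom.mem_ker.mpr hz : z ∈ M.asIdeal))
  let L := B ⧸ q'
  letI : Field L := Ideal.Quotient.field q'
  letI : Algebra P k := ev.toRingHom.toAlgebra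
  haveI : IsScalarTower P k L := IsScalarTower.of_algebraMap_eq fun z => by
    show Ideal.Quotient.mk q' (algebraMap P B z) = Ideal.Quotient.mk q' (algebraMap k B (ev z))
    rw [Ideal.Quotient.eq, IsScalarTower.algebraMap_apply k P B, ← map_sub]
    refine hker _ ?_
    simp [ev]
  haveI : Algebra.FormallyUnramified P L := by
    rw [← RingHom.formallyUnramified_algebraMap]
    show RingHom.FormallyUnramified ((Ideal.Quotient.mk q').comp (algebraMap P B))
    exact RingHom.FormallyUnramified.stableUnderComposition _ _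
      (RingHom.formallyUnramified_algebraMap.mpr inferInstance)
      (RingHom.FormallyUnramified.of_surjective Ideal.Quotient.mk_surjective)
  haveI : Algebra.FormallyUnramified k L := Algebra.FormallyUnramified.of_restrictScalars P k L
  haveI : Algebra.FiniteType k L :=
    Algebra.FiniteType.of_surjective (Ideal.Quotient.mkₐ k q') Ideal.Quotient.mk_surjective
  haveI : Algebra.IsSeparable k L := Algebra.FormallyUnramified.isSeparable k L
  let e := AlgEquiv.ofBijective (Algebra.ofId k L)
    ⟨(algebraMap k L).injective, IsSepClosed.algebraMap_surjective k L⟩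
  exact ⟨(e.symm.toAlgHom.comp (Ideal.Quotient.mkₐ k q')).comp (IsScalarTower.toAlgHom k A B)⟩

/-- Rational points of a smooth scheme over a separably closed field meet every nonempty open. -/
theorem exists_section_mem {k : Type u} [Field k] [IsSepClosed k] {X : Scheme.{u}}
    (f : X ⟶ Spec (CommRingCat.of k)) [Smooth f] (U : X.Opens) {x : X} (hx : x ∈ U) :
    ∃ σ : Spec (CommRingCat.of k) ⟶ X, σ ≫ f = 𝟙 _ ∧ ∀ p, σ p ∈ U := by
  obtain ⟨V, hV, hxV, hVU⟩ := exists_isAffineOpen_mem_and_subset (x := x) (U := U) hx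
  obtain ⟨ψ, hψ⟩ := Spec.map_surjective (hV.fromSpec ≫ f)
  haveI : Smooth (Spec.map ψ) := by rw [hψ]; infer_instance
  have hsm : ψ.hom.Smooth := HasRingHomProperty.Spec_iff.mp this
  algebraize [ψ.hom]
  haveI : Nontrivial Γ(X, V) := by
    haveI : Nonempty (Spec Γ(X, V)) := ⟨hV.isoSpec.hom ⟨x, hxV⟩⟩
    exact (PrimeSpectrum.nonempty_iff_nontrivial).mp this
  obtain ⟨φ⟩ := exists_algHom_of_smooth (k := k) (A := Γ(X, V))
  refine ⟨Spec.map (CommRingCat.ofHom φ.toRingHom) ≫ hV.fromSpec, ?_, fun p => hVU ?_⟩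
  · rw [Category.assoc, ← hψ, ← Spec.map_comp, ← Spec.map_id]
    congr 1
    ext c
    exact φ.commutes c
  · rw [Scheme.Hom.comp_apply]
    show hV.fromSpec _ ∈ (V : Set X)
    rw [← hV.range_fromSpec]
    exact ⟨_, rfl⟩

end Groth.Agent.H19Grp
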