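import Mathlib
import Groth.Agent.H19Grp.SepPoints
import Groth.Agent.H02CA.SmoothRegular

/-! Points in a separably closed extension of a smooth scheme are schematically dense, also after
multiplying with an arbitrary scheme. -/

set_option autoImplicit false
set_option linter.style.haveILetI false
set_option backward.isDefEq.respectTransparency false

universe u

open CategoryTheory CategoryTheory.Limits MonoidalCategory CartesianMonoidalCategory AlgebraicGeometry TensorProduct

namespace Groth.Agent.H19Grp.PointsDense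

/-- A nonzero element of a smooth algebra is detected by a point in a separably closed extension. -/
theorem exists_algHom_ne_zero {k K A : Type u} [Field k] [Field K] [Algebra k K] [IsSepClosed K]
    [CommRing A] [Algebra k A] [Algebra.Smooth k A] [IsReduced A] {a : A} (ha : a ≠ 0) :
    ∃ φ : A →ₐ[k] K, φ a ≠ 0 := by
  haveI : Nontrivial (Localization.Away a) := by
    refine not_subsingleton_iff_nontrivial.1 fun h => ha ?_
    obtain ⟨⟨_, n, rfl⟩, hn⟩ := (IsLocalization.map_eq_zero_iff (Submonoid.powers a)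
      (Localization.Away a) 1).1 (Subsingleton.elim _ _)
    exact IsReduced.eq_zero a ⟨n, by simpa using hn⟩
  haveI : Algebra.Smooth A (Localization.Away a) := .of_isLocalization_Away a
  haveI : Algebra.Smooth k (Localization.Away a) := Algebra.Smooth.comp k A (Localization.Away a)
  haveI : Nontrivial (K ⊗[k] Localization.Away a) :=
    (Module.FaithfullyFlat.nontrivial_tensorProduct_iff_right k K).2 inferInstance
  obtain ⟨ψ⟩ := exists_algHom_of_smooth (k := K) (A := K ⊗[k] Localization.Away a)
  let χ : Localization.Away a →ₐ[k] K :=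
    (ψ.restrictScalars k).comp Algebra.TensorProduct.includeRight
  refine ⟨χ.comp (IsScalarTower.toAlgHom k A (Localization.Away a)), ?_⟩
  exact ((IsLocalization.Away.algebraMap_isUnit a).map χ).ne_zero

variable {k K : Type u} [Field k] [Field K] [Algebra k K] [IsSepClosed K]

/-- An element of `A ⊗ B` killed by all `φ ⊗ B` is zero, for `A` smooth. -/
theorem eq_zero_of_map_eq_zero {A B : Type u} [CommRing A] [Algebra k A] [Algebra.Smooth k A]
    [IsReduced A] [CommRing B] [Algebra k B] (f : A ⊗[k] B)
    (h : ∀ φ : A →ₐ[k] K, Algebra.TensorProduct.map φ (AlgHom.id k B) f = 0) : f = 0 := by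
  classical
  let b := Module.Basis.ofVectorSpace k B
  let c := TensorProduct.finsuppScalarRight k k A (Module.Basis.ofVectorSpaceIndex k B)
  let e : A ⊗[k] B ≃ₗ[k] (Module.Basis.ofVectorSpaceIndex k B →₀ A) :=
    (TensorProduct.congr (LinearEquiv.refl k A) b.repr) ≪≫ₗ c
  apply e.injective
  rw [map_zero]
  ext j
  by_contra hj
  obtain ⟨φ, hφ⟩ := exists_algHom_ne_zero (K := K) (k := k) hj
  refine hφ ?_
  let eK : K ⊗[k] B ≃ₗ[k] (Module.Basis.ofVectorSpaceIndex k B →₀ K) :=
    (TensorProduct.congr (LinearEquiv.refl k K) b.repr) ≪≫ₗ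
      TensorProduct.finsuppScalarRight k k K (Module.Basis.ofVectorSpaceIndex k B)
  have key : ∀ z : A ⊗[k] B, φ (e z j) = eK (Algebra.TensorProduct.map φ (AlgHom.id k B) z) j := by
    intro z
    induction z with
    | zero => simp
    | add x y hx hy => simp only [map_add, Finsupp.add_apply, hx, hy]
    | tmul x y => simp [e, eK, c]
  rw [key, h φ, map_zero, Finsupp.zero_apply]

variable {G Y P : Over (Spec (CommRingCat.of k))}

/-- The local statement. -/
theorem isIso_snd_of_factor [Smooth G.hom] (c : P ⟶ G ⊗ Y) [IsClosedImmersion c.left]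
    (h : ∀ g : Over.mk (Spec.map (CommRingCat.ofHom (algebraMap k K))) ⟶ G,
      ∃ p : Over.mk (Spec.map (CommRingCat.ofHom (algebraMap k K))) ⊗ Y ⟶ P,
        p ≫ c = lift (fst _ _ ≫ g) (snd _ _))
    (A B : Type u) [CommRing A] [CommRing B] [Algebra k A] [Algebra k B] [Algebra.Smooth k A] [IsReduced A]
    (a : Spec (CommRingCat.of A) ⟶ G.left)
    (ha : a ≫ G.hom = Spec.map (CommRingCat.ofHom (algebraMap k A)))
    (b : Spec (CommRingCat.of B) ⟶ Y.left)
    (ι : Spec (CommRingCat.of (A ⊗[k] B)) ⟶ (G ⊗ Y).left)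
    (h1 : ι ≫ (fst G Y).left =
      Spec.map (CommRingCat.ofHom Algebra.TensorProduct.includeLeftRingHom) ≫ a)
    (h2 : ι ≫ (snd G Y).left =
      Spec.map (CommRingCat.ofHom (R := B) (S := A ⊗[k] B)
        (RingHomClass.toRingHom (Algebra.TensorProduct.includeRight : B →ₐ[k] A ⊗[k] B))) ≫ b)
    (hb : b ≫ Y.hom = Spec.map (CommRingCat.ofHom (algebraMap k B))) :
    IsIso (pullback.snd c.left ι) := by
  obtain ⟨I, e, he⟩ := IsClosedImmersion.Spec_iff.1 (inferInstance : IsClosedImmersion (pullback.snd c.left ι))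
  have hI : I = ⊥ := by
    rw [eq_bot_iff]
    intro f hf
    rw [Ideal.mem_bot]
    refine eq_zero_of_map_eq_zero (K := K) f fun φ => ?_
    let g : Over.mk (Spec.map (CommRingCat.ofHom (algebraMap k K))) ⟶ G :=
      Over.homMk (Spec.map (CommRingCat.ofHom φ.toRingHom) ≫ a) (by
        rw [Category.assoc, ha, ← Spec.map_comp, ← CommRingCat.ofHom_comp]
        exact congrArg (fun r => Spec.map (CommRingCat.ofHom r)) φ.comp_algebraMap)
    obtain ⟨p, hp⟩ := h g
    let ψ : A ⊗[k] B →ₐ[k] K ⊗[k] B := Algebra.TensorProduct.map φ (AlgHom.id k B)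
    let q : Spec (CommRingCat.of (K ⊗[k] B)) ⟶
        (Over.mk (Spec.map (CommRingCat.ofHom (algebraMap k K))) ⊗ Y).left :=
      pullback.lift (Spec.map (CommRingCat.ofHom Algebra.TensorProduct.includeLeftRingHom))
        (Spec.map (CommRingCat.ofHom (R := B) (S := K ⊗[k] B)
          (RingHomClass.toRingHom (Algebra.TensorProduct.includeRight : B →ₐ[k] K ⊗[k] B))) ≫ b) (by
        rw [Category.assoc, hb]
        show Spec.map _ ≫ Spec.map (CommRingCat.ofHom (algebraMap k K)) = _
        rw [← Spec.map_comp, ← Spec.map_comp]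
        congr 1
        ext r
        exact Algebra.TensorProduct.includeRight.commutes r |>.symm)
    have hq1 : q ≫ (fst (Over.mk (Spec.map (CommRingCat.ofHom (algebraMap k K)))) Y).left =
        Spec.map (CommRingCat.ofHom Algebra.TensorProduct.includeLeftRingHom) := pullback.lift_fst _ _ _
    have hq2 : q ≫ (snd (Over.mk (Spec.map (CommRingCat.ofHom (algebraMap k K)))) Y).left =
        Spec.map (CommRingCat.ofHom (R := B) (S := K ⊗[k] B)
          (RingHomClass.toRingHom (Algebra.TensorProduct.includeRight : B →ₐ[k] K ⊗[k] B))) ≫ b :=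
      pullback.lift_snd _ _ _
    have hfac : (q ≫ p.left) ≫ c.left = Spec.map (CommRingCat.ofHom ψ.toRingHom) ≫ ι := by
      apply pullback.hom_ext
      · show ((q ≫ p.left) ≫ c.left) ≫ (fst G Y).left = (Spec.map _ ≫ ι) ≫ (fst G Y).left
        rw [Category.assoc, Category.assoc, Category.assoc, h1, ← Over.comp_left, ← Over.comp_left,
          ← Category.assoc, hp, lift_fst, Over.comp_left, ← Category.assoc, hq1, ← Category.assoc,
          ← Spec.map_comp]
        show Spec.map _ ≫ Spec.map _ ≫ a = _
        rw [← Category.assoc, ← Spec.map_comp]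
        congr 2
      · show ((q ≫ p.left) ≫ c.left) ≫ (snd G Y).left = (Spec.map _ ≫ ι) ≫ (snd G Y).left
        rw [Category.assoc, Category.assoc, Category.assoc, h2, ← Over.comp_left, ← Over.comp_left,
          ← Category.assoc, hp, lift_snd, hq2, ← Category.assoc, ← Spec.map_comp]
        congr 2
        ext x
        simp [ψ]
    let t := pullback.lift (q ≫ p.left) (Spec.map (CommRingCat.ofHom ψ.toRingHom)) hfac ≫ e.hom
    have ht : t ≫ Spec.map (CommRingCat.ofHom (Ideal.Quotient.mk I)) =
        Spec.map (CommRingCat.ofHom ψ.toRingHom) := by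
      rw [Category.assoc, ← he, pullback.lift_snd]
    obtain ⟨τ, hτ⟩ := Spec.map_surjective t
    rw [← hτ, ← Spec.map_comp] at ht
    have := congr($(Spec.map_injective ht).hom f)
    simpa [Ideal.Quotient.eq_zero_iff_mem.2 hf] using this.symm
  rw [he]
  haveI : IsIso (CommRingCat.ofHom (Ideal.Quotient.mk I)) :=
    (ConcreteCategory.isIso_iff_bijective _).2
      ⟨(RingHom.injective_iff_ker_eq_bot _).2 (Ideal.mk_ker.trans hI),
        Ideal.Quotient.mk_surjective⟩
  infer_instance

/-- **Density**: a closed subscheme of `G ⊗ Y` containing `g × Y` for all points `g` of the smooth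
scheme `G` in a separably closed extension is everything. -/
theorem isIso_of_points_factor [Smooth G.hom] (c : P ⟶ G ⊗ Y) [IsClosedImmersion c.left]
    (h : ∀ g : Over.mk (Spec.map (CommRingCat.ofHom (algebraMap k K))) ⟶ G,
      ∃ p : Over.mk (Spec.map (CommRingCat.ofHom (algebraMap k K))) ⊗ Y ⟶ P,
        p ≫ c = lift (fst _ _ ≫ g) (snd _ _)) : IsIso c := by
  suffices IsIso c.left by
    haveI : IsIso ((Over.forget _).map c) := this
    exact isIso_of_reflects_iso c (Over.forget _)
  let 𝒰 := Scheme.Pullback.openCoverOfLeftRight G.left.affineOpenCover.openCover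
    Y.left.affineOpenCover.openCover G.hom Y.hom
  refine (IsZariskiLocalAtTarget.iff_of_openCover (P := MorphismProperty.isomorphisms Scheme.{u}) 𝒰).2
    fun ij => ?_
  obtain ⟨i, j⟩ := ij
  obtain ⟨α, hα⟩ := Spec.map_surjective (G.left.affineOpenCover.f i ≫ G.hom)
  obtain ⟨β, hβ⟩ := Spec.map_surjective (Y.left.affineOpenCover.f j ≫ Y.hom)
  algebraize [α.hom, β.hom]
  haveI : Smooth (Spec.map α) := by rw [hα]; infer_instance
  have hsm : α.hom.Smooth := HasRingHomProperty.Spec_iff.mp this
  haveI : Algebra.Smooth k (G.left.affineOpenCover.X i) := hsm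
  haveI : IsReduced (G.left.affineOpenCover.X i) :=
    H02CA.isReduced_of_smooth k (G.left.affineOpenCover.X i)
  let A := G.left.affineOpenCover.X i
  let B := Y.left.affineOpenCover.X j
  let m := pullback.map (Spec.map (CommRingCat.ofHom (algebraMap k A)))
    (Spec.map (CommRingCat.ofHom (algebraMap k B))) (G.left.affineOpenCover.f i ≫ G.hom)
    (Y.left.affineOpenCover.f j ≫ Y.hom) (𝟙 _) (𝟙 _) (𝟙 _)
    (by rw [Category.comp_id, Category.id_comp]; exact hα) (by rw [Category.comp_id, Category.id_comp]; exact hβ)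
  haveI : IsIso m := pullback.map_isIso _ _ _ _ _ _ _ _ _
  let w := (pullbackSpecIso k A B).inv ≫ m
  haveI : IsIso w := IsIso.comp_isIso
  have := isIso_snd_of_factor (K := K) c h A B (G.left.affineOpenCover.f i) hα.symm
    (Y.left.affineOpenCover.f j) (w ≫ 𝒰.f (i, j)) ?_ ?_ hβ.symm
  rotate_left
  · show _ ≫ pullback.fst G.hom Y.hom = _
    show ((_ ≫ pullback.lift _ _ _) ≫ pullback.lift _ _ _) ≫ pullback.fst G.hom Y.hom = _
    rw [Category.assoc, pullback.lift_fst, Category.assoc]
    erw [pullback.lift_fst_assoc]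
    simp only [Category.comp_id]
    exact pullbackSpecIso_inv_fst_assoc k A B _
  · show _ ≫ pullback.snd G.hom Y.hom = _
    show ((_ ≫ pullback.lift _ _ _) ≫ pullback.lift _ _ _) ≫ pullback.snd G.hom Y.hom = _
    rw [Category.assoc, pullback.lift_snd, Category.assoc]
    erw [pullback.lift_snd_assoc]
    simp only [Category.comp_id]
    exact pullbackSpecIso_inv_snd_assoc k A B _
  haveI := this
  have hpb := (IsPullback.of_hasPullback c.left (w ≫ 𝒰.f (i, j)))
  let l : pullback c.left (w ≫ 𝒰.f (i, j)) ⟶ pullback c.left (𝒰.f (i, j)) :=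
    pullback.map _ _ _ _ (𝟙 _) w (𝟙 _) (by simp) (by simp)
  haveI : IsIso l := pullback.map_isIso _ _ _ _ _ _ _ _ _
  have hl : l ≫ pullback.snd c.left (𝒰.f (i, j)) = pullback.snd c.left (w ≫ 𝒰.f (i, j)) ≫ w :=
    pullback.lift_snd _ _ _
  show IsIso (pullback.snd c.left (𝒰.f (i, j)))
  rw [← IsIso.inv_hom_id_assoc l (pullback.snd c.left (𝒰.f (i, j))), hl]
  infer_instance

end Groth.Agent.H19Grp.PointsDense
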