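import Groth.Agent.H19Grp.GrpdShear
import Mathlib

/-!
# Groupoid schemes over a field are separated
-/

set_option autoImplicit false
set_option linter.style.haveILetI false
set_option backward.isDefEq.respectTransparency false

universe u

open CategoryTheory CategoryTheory.Limits AlgebraicGeometry

namespace Groth.Agent.H19Grp

/-- A section of a morphism to a scheme with one affine point is a closed immersion. -/
theorem isClosedImmersion_section_of_subsingleton {X U : Scheme.{u}} [Subsingleton U] [IsAffine U]
    (f : X ⟶ U) (σ : U ⟶ X) (h : σ ≫ f = 𝟙 U) : IsClosedImmersion σ := by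
  rcases isEmpty_or_nonempty U with hU | hU
  · refine IsClosedImmersion.iff_isPreimmersion.mpr ⟨?_, ?_⟩
    · haveI : IsImmersion (σ ≫ f) := by rw [h]; infer_instance
      exact (IsImmersion.of_comp σ f).toIsPreimmersion
    · rw [Set.range_eq_empty]; exact isClosed_empty
  refine IsClosedImmersion.iff_isPreimmersion.mpr ⟨?_, ?_⟩
  · haveI : IsImmersion (σ ≫ f) := by rw [h]; infer_instance
    exact (IsImmersion.of_comp σ f).toIsPreimmersion
  obtain ⟨u⟩ := hU
  have hr : Set.range σ = {σ u} := by
    ext x
    constructor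
    · rintro ⟨v, rfl⟩; exact congrArg σ (Subsingleton.elim v u)
    · rintro rfl; exact ⟨u, rfl⟩
  rw [hr, ← closure_subset_iff_isClosed]
  intro y hy
  obtain ⟨V, hV, hyV, -⟩ := X.isBasis_affineOpens.exists_subset_of_mem_open (Set.mem_univ y) isOpen_univ
  obtain ⟨(V : X.Opens), (hVa : IsAffineOpen V), rfl⟩ := hV
  haveI : IsAffine V.toScheme := hVa
  have huV : σ u ∈ V := by
    obtain ⟨z, hz, rfl⟩ := mem_closure_iff.mp hy V V.2 hyV
    exact hz
  let σ' : U ⟶ V.toScheme := IsOpenImmersion.lift V.ι σ (by
    rw [Scheme.Opens.range_ι]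
    rintro _ ⟨v, rfl⟩
    rw [Subsingleton.elim v u]
    exact huV)
  have hσ' : σ' ≫ V.ι = σ := IsOpenImmersion.lift_fac _ _ _
  haveI : IsClosedImmersion (σ' ≫ V.ι ≫ f) := by
    rw [reassoc_of% hσ', h]; infer_instance
  haveI : IsClosedImmersion σ' := IsClosedImmersion.of_comp σ' (V.ι ≫ f)
  have hcl : IsClosed (Set.range σ') := σ'.isClosedEmbedding.isClosed_range
  have h1 : (⟨y, hyV⟩ : V.toScheme) ∈ closure (Set.range σ') := by
    rw [V.ι.isOpenEmbedding.isEmbedding.closure_eq_preimage_closure_image]
    refine closure_mono ?_ hy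
    rintro _ rfl
    exact ⟨σ' u, ⟨u, rfl⟩, by rw [← Scheme.Hom.comp_apply, hσ']⟩
  rw [hcl.closure_eq] at h1
  obtain ⟨v, hv⟩ := h1
  have := congrArg V.ι hv
  rw [← Scheme.Hom.comp_apply, hσ', Subsingleton.elim v u] at this
  exact this.symm

variable {S : Scheme.{u}} (G : Grpd.GroupoidScheme S)

/-- The source of a groupoid over a scheme with one affine point is separated. -/
theorem isSeparated_grpd_s [Subsingleton G.U] [IsAffine G.U] : IsSeparated G.s := by
  haveI : IsClosedImmersion G.e := isClosedImmersion_section_of_subsingleton G.t G.e G.e_t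
  let ε : G.R ⟶ pullback G.s G.t :=
    pullback.lift (G.t ≫ G.e) (𝟙 _) (by simp [G.e_s])
  have hp : IsPullback ε G.t (pullback.fst G.s G.t) G.e := by
    refine ⟨⟨pullback.lift_fst _ _ _⟩, ⟨PullbackCone.IsLimit.mk _
      (fun z => z.fst ≫ pullback.snd G.s G.t) ?_ ?_ ?_⟩⟩
    · intro z
      have hu : z.fst ≫ pullback.snd G.s G.t ≫ G.t = z.snd := by
        rw [← pullback.condition, reassoc_of% z.condition, G.e_s, Category.comp_id]
      apply pullback.hom_ext
      · simp [ε, reassoc_of% hu, z.condition]
      · simp [ε]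
    · intro z
      rw [Category.assoc, ← pullback.condition, reassoc_of% z.condition, G.e_s, Category.comp_id]
    · intro z m h1 _
      rw [← h1]
      simp [ε]
  haveI : IsClosedImmersion ε := MorphismProperty.of_isPullback hp.flip inferInstance
  refine ⟨?_⟩
  have hd : pullback.diagonal G.s = ε ≫ (isPullback_c_snd G).isoPullback.hom := by
    apply pullback.hom_ext
    · simp only [pullback.diagonal_fst, Category.assoc, IsPullback.isoPullback_hom_fst, ε]
      exact (by simpa using (G.e_comp (𝟙 G.R)).symm)
    · simp [ε]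
  rw [hd]
  infer_instance

/-- The arrows of a groupoid over a scheme with one affine point form a separated scheme. -/
theorem isSeparated_grpd [Subsingleton G.U] [IsAffine G.U] : G.R.IsSeparated := by
  haveI := isSeparated_grpd_s G
  constructor
  rw [← terminal.comp_from G.s]
  infer_instance

end Groth.Agent.H19Grp
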