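import Groth.Agent.H19Grp.DirGen
import Groth.Agent.H19Grp.GrpdSep
import Groth.Agent.H17.QcImage
import Groth.Agent.H17.Reduced

/-!
# Irreducible and connected components of groupoid schemes over a field
-/

set_option autoImplicit false
set_option linter.style.haveILetI false
set_option backward.isDefEq.respectTransparency false

universe u v w

open CategoryTheory Limits AlgebraicGeometry

namespace Groth.Agent.H19Grp

section top

variable {α : Type v} [TopologicalSpace α] [QuasiSober α]

/-- The generic point of the chosen irreducible component through x. -/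
noncomputable def zeta (x : α) : α :=
  (isIrreducible_irreducibleComponent (x := x)).genericPoint

theorem isGenericPoint_zeta (x : α) : IsGenericPoint (zeta x) (irreducibleComponent x) :=
  (isIrreducible_irreducibleComponent (x := x)).isGenericPoint_genericPoint
    isClosed_irreducibleComponent

theorem zeta_specializes (x : α) : zeta x ⤳ x :=
  (isGenericPoint_zeta x).specializes mem_irreducibleComponent

variable (hd : ∀ x : α, DirGen x)
include hd

theorem irreducibleComponent_eq_of_isIrreducible {I : Set α} (hI : IsIrreducible I) {x y : α}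
    (hx : x ∈ I) (hy : y ∈ I) : irreducibleComponent x = irreducibleComponent y := by
  obtain ⟨Z, hZ, hIZ⟩ := exists_mem_irreducibleComponents_subset_of_isIrreducible I hI
  rw [(hd x).eq_of_mem (irreducibleComponent_mem_irreducibleComponents x) hZ
      mem_irreducibleComponent (hIZ hx),
    (hd y).eq_of_mem (irreducibleComponent_mem_irreducibleComponents y) hZ
      mem_irreducibleComponent (hIZ hy)]

theorem zeta_eq_of_isIrreducible {I : Set α} (hI : IsIrreducible I) {x y : α}
    (hx : x ∈ I) (hy : y ∈ I) : zeta x = zeta y := by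
  unfold zeta
  simp only [irreducibleComponent_eq_of_isIrreducible hd hI hx hy]

theorem zeta_eq_of_specializes {x y : α} (h : y ⤳ x) : zeta y = zeta x :=
  zeta_eq_of_isIrreducible hd (isIrreducible_singleton (x := y)).closure
    (subset_closure rfl) h.mem_closure

theorem zeta_zeta (x : α) : zeta (zeta x) = zeta x := zeta_eq_of_specializes hd (zeta_specializes x)

theorem mem_irreducibleComponent_iff {x y : α} :
    y ∈ irreducibleComponent x ↔ irreducibleComponent y = irreducibleComponent x := by
  refine ⟨fun h => irreducibleComponent_eq_of_isIrreducible hd isIrreducible_irreducibleComponent h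
    mem_irreducibleComponent, fun h => h ▸ mem_irreducibleComponent⟩

theorem mem_irreducibleComponent_iff_zeta [T0Space α] {x y : α} :
    y ∈ irreducibleComponent x ↔ zeta y = zeta x := by
  refine ⟨fun h => zeta_eq_of_isIrreducible hd isIrreducible_irreducibleComponent h
    mem_irreducibleComponent, fun h => ?_⟩
  rw [← (isGenericPoint_zeta x).def, ← h]
  exact (zeta_specializes y).mem_closure

/-- A generization of zeta x is zeta x. -/
theorem eq_zeta_of_specializes [T0Space α] {x c : α} (h : c ⤳ zeta x) : c = zeta x := by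
  refine (h.antisymm ?_).eq
  have : zeta c = zeta x := (zeta_eq_of_specializes hd h).trans (zeta_zeta hd x)
  exact this ▸ zeta_specializes c

/-- Generalizing maps preserve generic points of components. -/
theorem map_zeta [T0Space α] {β : Type w} [TopologicalSpace β] [QuasiSober β] {f : β → α}
    (hf : Continuous f) (hg : GeneralizingMap f) (hd' : ∀ x : β, DirGen x) [T0Space β] (y : β) :
    f (zeta y) = zeta (f y) := by
  obtain ⟨c, hc, hfc⟩ := hg (zeta_specializes (f (zeta y)))
  rw [eq_zeta_of_specializes hd' hc] at hfc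
  rw [hfc]
  exact zeta_eq_of_specializes hd ((zeta_specializes y).map hf)

end top

/-- An open quasi-compact subset of a quasi-separated scheme stable under specialization is
closed. -/
theorem isClosed_of_isCompact_of_stableUnderSpecialization {X : Scheme.{u}}
    [QuasiSeparatedSpace X] (W : X.Opens) (hW : IsCompact (W : Set X))
    (hs : StableUnderSpecialization (W : Set X)) : IsClosed (W : Set X) := by
  haveI : QuasiCompact W.ι := by
    refine ⟨fun V hV hVc => ?_⟩
    rw [W.ι.isOpenEmbedding.isInducing.isCompact_iff, Set.image_preimage_eq_inter_range,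
      Scheme.Opens.range_ι]
    exact QuasiSeparatedSpace.inter_isCompact V W hV hVc W.2 hW
  rw [← closure_subset_iff_isClosed]
  intro y hy
  rw [← Scheme.Opens.range_ι W] at hy
  obtain ⟨x, hx⟩ := H17.exists_specializes_of_mem_closure_range W.ι hy
  exact hs hx x.2

/-- Over a base field, irreducibility over an algebraic closure suffices. -/
theorem geometricallyIrreducible_of_algClosure {k : Type u} [Field k] {Z : Scheme.{u}}
    (h : Z ⟶ Spec (CommRingCat.of k))
    (hi : IrreducibleSpace ↥(pullback h
      (Spec.map (CommRingCat.ofHom (algebraMap k (AlgebraicClosure k)))))) :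
    GeometricallyIrreducible h := by
  set b := Spec.map (CommRingCat.ofHom (algebraMap k (AlgebraicClosure k))) with hb
  refine ⟨fun K _ y W fst snd hW => ?_⟩
  obtain ⟨φ, rfl⟩ := Spec.map_surjective y
  letI := φ.hom.toAlgebra
  let j : AlgebraicClosure k →ₐ[k] AlgebraicClosure K := IsAlgClosed.lift
  let p := Spec.map (CommRingCat.ofHom (algebraMap K (AlgebraicClosure K)))
  let q := Spec.map (CommRingCat.ofHom j.toRingHom)
  have hq : q ≫ b = p ≫ Spec.map φ := by
    simp only [q, hb, p, ← Spec.map_comp]
    congr 1
    apply CommRingCat.hom_ext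
    exact (j.comp_algebraMap).trans (IsScalarTower.algebraMap_eq k K (AlgebraicClosure K))
  haveI : IrreducibleSpace ↥(pullback (pullback.snd h b) q) :=
    irreducibleSpace_of_isPullback (pullback.snd h b) q
  let e : pullback (pullback.snd h b) q ≅ pullback (pullback.snd h (Spec.map φ)) p :=
    pullbackLeftPullbackSndIso h b q ≪≫ pullback.congrHom rfl hq ≪≫
      (pullbackLeftPullbackSndIso h (Spec.map φ) p).symm
  haveI : IrreducibleSpace ↥(pullback (pullback.snd h (Spec.map φ)) p) :=
    e.hom.homeomorph.irreducibleSpace_iff.mp inferInstance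
  haveI : IrreducibleSpace ↥(pullback h (Spec.map φ)) := by
    rw [irreducibleSpace_def]
    show IsIrreducible Set.univ
    have hs : Function.Surjective (pullback.fst (pullback.snd h (Spec.map φ)) p) :=
      (pullback.fst (pullback.snd h (Spec.map φ)) p).surjective
    rw [← hs.range_eq, ← Set.image_univ]
    exact (IrreducibleSpace.isIrreducible_univ _).image _
      (pullback.fst (pullback.snd h (Spec.map φ)) p).continuous.continuousOn
  exact hW.isoPullback.hom.homeomorph.irreducibleSpace_iff.mpr inferInstance

variable {S : Scheme.{u}} (G : Grpd.GroupoidScheme S) {k : Type u} [Field k]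
  (eU : G.U ≅ Spec (CommRingCat.of k))

/-- The inverse as a groupoid with source and target exchanged is not needed; only `i ≫ i`. -/
theorem invR_invR {T : Scheme.{u}} (a : T ⟶ G.R) : invR G (invR G a) = a := by
  have h := invR_mulR_cancel G (invR G a) a (invR_s G a)
  have h1 : mulR G (invR G a) a (invR_s G a) = a ≫ G.s ≫ G.e := G.i_comp a
  rw [mulR_congr G rfl h1] at h
  refine Eq.trans ?_ h
  have hc : a ≫ G.s ≫ G.e = invR G (invR G a) ≫ G.s ≫ G.e := by
    simp only [← Category.assoc]; rw [invR_s, invR_t]
  rw [mulR_congr G rfl hc]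
  exact (G.comp_e _).symm

theorem isIso_i : IsIso G.i := by
  refine ⟨G.i, ?_, ?_⟩ <;>
  · have := invR_invR G (𝟙 G.R)
    simpa [invR] using this

theorem e_i : G.e ≫ G.i = G.e := by
  have h1 : mulR G G.e (invR G G.e) (invR_t G G.e).symm = G.e := by
    refine (G.comp_i G.e).trans ?_
    rw [reassoc_of% G.e_t]
  have hl : G.e = invR G G.e ≫ G.t ≫ G.e := by
    rw [← Category.assoc, invR_t, Category.assoc, reassoc_of% G.e_s]
  rw [mulR_congr G hl rfl] at h1
  exact (G.e_comp (invR G G.e)).symm.trans h1

include eU in
theorem isIntegral_U : AlgebraicGeometry.IsIntegral G.U :=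
  haveI : Nonempty G.U := ⟨eU.inv (IsLocalRing.closedPoint k)⟩
  isIntegral_of_isOpenImmersion eU.hom

include eU in
theorem subsingleton_U : Subsingleton G.U := eU.hom.homeomorph.subsingleton

include eU in
theorem isAffine_U : IsAffine G.U := .of_isIso eU.hom

include eU in
theorem dirGen (r : G.R) : DirGen r :=
  haveI := isIntegral_U G eU
  haveI := subsingleton_U G eU
  dirGen_grpd G r

/-- The unit point. -/
noncomputable def ePt : G.R := G.e (eU.inv (IsLocalRing.closedPoint k))

include eU in
theorem e_apply_eq (u : G.U) : G.e u = ePt G eU := by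
  haveI := subsingleton_U G eU
  exact congrArg G.e (Subsingleton.elim _ _)

theorem i_ePt : G.i (ePt G eU) = ePt G eU := by
  rw [ePt, ← Scheme.Hom.comp_apply, e_i]

theorem i_zeta_ePt : G.i (zeta (ePt G eU)) = zeta (ePt G eU) := by
  haveI := isIso_i G
  rw [map_zeta (dirGen G eU) G.i.continuous (Flat.generalizingMap _) (dirGen G eU), i_ePt]

include eU in
/-- Irreducible closed subschemes supported on the component of the unit are geometrically
irreducible along the target map. -/
theorem geometricallyIrreducible_t (Z : Scheme.{u}) (j : Z ⟶ G.R) [IsClosedImmersion j]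
    (hrange : Set.range j = irreducibleComponent (ePt G eU)) :
    GeometricallyIrreducible (j ≫ G.t ≫ eU.hom) := by
  haveI := isIntegral_U G eU
  haveI := subsingleton_U G eU
  apply geometricallyIrreducible_of_algClosure
  set b := Spec.map (CommRingCat.ofHom (algebraMap k (AlgebraicClosure k))) with hb
  haveI : IsIntegralHom b := by
    rw [hb, IsIntegralHom.SpecMap_iff]
    exact algebraMap_isIntegral_iff.mpr inferInstance
  let ρ := pullback.fst (G.t ≫ eU.hom) b
  haveI : UniversallyClosed ρ := inferInstance
  -- the unit point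
  let e' : Spec (CommRingCat.of (AlgebraicClosure k)) ⟶ pullback (G.t ≫ eU.hom) b :=
    pullback.lift ((b ≫ eU.inv) ≫ G.e) (𝟙 _) (by simp [reassoc_of% G.e_t])
  let iso : pullback G.t (b ≫ eU.inv) ⟶ pullback (G.t ≫ eU.hom) b :=
    pullback.map _ _ _ _ (𝟙 _) (𝟙 _) eU.hom (by simp) (by simp)
  have hu : DirGen (e' (IsLocalRing.closedPoint (AlgebraicClosure k))) := by
    have h := (dirGen_e_lift G (b ≫ eU.inv)).image_flat iso
    rw [← Scheme.Hom.comp_apply] at h
    have hi : pullback.lift ((b ≫ eU.inv) ≫ G.e) (𝟙 _) (by simp [G.e_t]) ≫ iso = e' := by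
      apply pullback.hom_ext <;> simp [e', iso]
    rw [hi] at h
    exact h
  set pe := e' (IsLocalRing.closedPoint (AlgebraicClosure k)) with hpe
  have hρe : ρ pe = ePt G eU := by
    rw [hpe, ← Scheme.Hom.comp_apply, pullback.lift_fst, Scheme.Hom.comp_apply]
    exact e_apply_eq G eU _
  -- the fibre over the unit point is a singleton
  have huniq : ∀ y, ρ y = ePt G eU → y = pe := by
    intro y hy
    obtain ⟨u, hu'⟩ : ∃ u, G.e u = ρ y := ⟨_, hy.symm⟩
    obtain ⟨z, -, hz⟩ := Scheme.Pullback.exists_preimage_pullback (f := G.e)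
      (g := ρ) u y hu'
    let φ : pullback G.e ρ ⟶ Spec (CommRingCat.of (AlgebraicClosure k)) :=
      pullback.snd _ _ ≫ pullback.snd _ _
    have hφ : pullback.snd G.e ρ = φ ≫ e' := by
      have hc : pullback.fst G.e ρ ≫ G.e = pullback.snd G.e ρ ≫ ρ := pullback.condition
      apply pullback.hom_ext
      · simp only [φ, e', Category.assoc, pullback.lift_fst]
        rw [← hc, ← pullback.condition_assoc]
        rw [← reassoc_of% hc]
        simp [reassoc_of% G.e_t]
      · simp [φ, e']
    rw [← hz, hφ, Scheme.Hom.comp_apply, hpe]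
    congr 1
    exact Subsingleton.elim _ _
  -- the preimage of the component of e
  have hC : ρ ⁻¹' irreducibleComponent (ePt G eU) = irreducibleComponent pe := by
    have hsub : irreducibleComponent pe ⊆ ρ ⁻¹' irreducibleComponent (ePt G eU) := by
      intro y hy
      rw [Set.mem_preimage, mem_irreducibleComponent_iff_zeta (dirGen G eU)]
      refine zeta_eq_of_isIrreducible (dirGen G eU)
        ((isIrreducible_irreducibleComponent (x := pe)).image ρ ρ.continuous.continuousOn)
        ⟨y, hy, rfl⟩ ⟨pe, mem_irreducibleComponent, hρe⟩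
    refine Set.Subset.antisymm (fun w hw => ?_) hsub
    -- `ρ (zeta w)` is the generic point
    have hmax : ρ (zeta w) = zeta (ePt G eU) := by
      rw [Set.mem_preimage, mem_irreducibleComponent_iff_zeta (dirGen G eU)] at hw
      obtain ⟨c, hc, hρc⟩ := Flat.generalizingMap ρ (zeta_specializes (ρ (zeta w)))
      have hcc : irreducibleComponent w ⊆ closure {c} := by
        rw [← (isGenericPoint_zeta w).def]
        exact closure_minimal (Set.singleton_subset_iff.mpr hc.mem_closure) isClosed_closure
      have heq : closure {c} = irreducibleComponent w :=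
        eq_irreducibleComponent (isIrreducible_singleton.closure.2) hcc
      have : c = zeta w :=
        IsGenericPoint.eq (show IsGenericPoint c (irreducibleComponent w) from heq)
          (isGenericPoint_zeta w)
      rw [this] at hρc
      rw [hρc, ← hw]
      exact zeta_eq_of_specializes (dirGen G eU) ((zeta_specializes w).map ρ.continuous)
    have hpew : pe ∈ irreducibleComponent w := by
      have hcl : IsClosed (ρ '' irreducibleComponent w) :=
        ρ.isClosedMap _ isClosed_irreducibleComponent
      have : ePt G eU ∈ ρ '' irreducibleComponent w := by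
        refine (zeta_specializes (ePt G eU)).mem_closed hcl ?_
        exact ⟨zeta w, (isGenericPoint_zeta w).mem, hmax⟩
      obtain ⟨y, hy, hy'⟩ := this
      exact huniq y hy' ▸ hy
    rw [← hu.eq_of_mem (irreducibleComponent_mem_irreducibleComponents w)
      (irreducibleComponent_mem_irreducibleComponents pe) hpew mem_irreducibleComponent]
    exact mem_irreducibleComponent
  let m : pullback (j ≫ G.t ≫ eU.hom) b ⟶ pullback (G.t ≫ eU.hom) b :=
    pullback.map _ _ _ _ j (𝟙 _) (𝟙 _) (by simp) (by simp)
  haveI : IsClosedImmersion m :=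
    MorphismProperty.pullbackMap (P := @IsClosedImmersion) (inferInstanceAs (IsClosedImmersion j))
      (inferInstanceAs (IsClosedImmersion (𝟙 _))) rfl (Category.id_comp b).symm
  have hm : Set.range m = irreducibleComponent pe := by
    rw [Scheme.Pullback.range_map, ← hC, hrange]
    simp [ρ]
  haveI : IrreducibleSpace ↥(Set.range m) := by
    rw [hm]; exact Subtype.irreducibleSpace isIrreducible_irreducibleComponent
  exact m.isClosedEmbedding.toIsEmbedding.toHomeomorph.irreducibleSpace_iff.mpr inferInstance

include eU in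
theorem zeta_i (r : G.R) : G.i (zeta r) = zeta (G.i r) := by
  haveI := isIso_i G
  exact map_zeta (dirGen G eU) G.i.continuous (Flat.generalizingMap _) (dirGen G eU) r

theorem image_i_component :
    G.i '' irreducibleComponent (ePt G eU) = irreducibleComponent (ePt G eU) := by
  have hinv : ∀ x, G.i (G.i x) = x := fun x => by
    have := invR_invR G (𝟙 G.R)
    rw [← Scheme.Hom.comp_apply, show G.i ≫ G.i = 𝟙 _ by simpa [invR] using this]
    rfl
  have hmem : ∀ x ∈ irreducibleComponent (ePt G eU), G.i x ∈ irreducibleComponent (ePt G eU) := by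
    intro x hx
    rw [mem_irreducibleComponent_iff_zeta (dirGen G eU)] at hx ⊢
    rw [← zeta_i G eU, hx, zeta_i G eU, i_ePt]
  ext x
  exact ⟨fun ⟨y, hy, hyx⟩ => hyx ▸ hmem y hy, fun hx => ⟨G.i x, hmem x hx, hinv x⟩⟩

include eU in
/-- Irreducible closed subschemes supported on the component of the unit are geometrically
irreducible along the source map. -/
theorem geometricallyIrreducible_s (Z : Scheme.{u}) (j : Z ⟶ G.R) [IsClosedImmersion j]
    (hrange : Set.range j = irreducibleComponent (ePt G eU)) :
    GeometricallyIrreducible (j ≫ G.s ≫ eU.hom) := by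
  haveI := isIso_i G
  haveI : IsClosedImmersion (j ≫ G.i) := inferInstance
  have := geometricallyIrreducible_t G eU Z (j ≫ G.i) (by
    have hc : ⇑(j ≫ G.i) = ⇑G.i ∘ ⇑j := rfl
    rw [hc, Set.range_comp, hrange, image_i_component])
  simpa [reassoc_of% G.i_t] using this

/-- The points whose irreducible component meets a given set. -/
def sat {α : Type v} [TopologicalSpace α] [QuasiSober α] (W : Set α) : Set α := zeta ⁻¹' W

include eU in
theorem sat_eq_image (W : G.R.Opens) (V : G.R.Opens) (hV : zeta (ePt G eU) ∈ V) :
    sat (W : Set G.R) = G.c '' ((pullback.fst G.s G.t ⁻¹' (W : Set G.R)) ∩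
      pullback.snd G.s G.t ⁻¹' (irreducibleComponent (ePt G eU) ∩ (V : Set G.R))) := by
  haveI := isIntegral_U G eU
  haveI := subsingleton_U G eU
  apply Set.Subset.antisymm
  · intro x hx
    let L := AlgebraicClosure (G.R.residueField x)
    let γ : Spec (CommRingCat.of L) ⟶ G.R :=
      Spec.map (CommRingCat.ofHom (algebraMap (G.R.residueField x) L)) ≫ G.R.fromSpecResidueField x
    let q := pullback.fst G.t (γ ≫ G.s)
    let l := pullback.snd G.t (γ ≫ G.s)
    have hq : (l ≫ γ) ≫ G.s = q ≫ G.t := (Category.assoc _ _ _).trans pullback.condition.symm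
    let a := mulR G (l ≫ γ) q hq
    have hab : a ≫ G.s = invR G q ≫ G.t := (mulR_s G _ _ _).trans (invR_t G q).symm
    let θ := pullback.lift a (invR G q) hab
    have hθ : θ ≫ G.c = l ≫ γ := mulR_invR_right G (l ≫ γ) q hq
    let eL : Spec (CommRingCat.of L) ⟶ pullback G.t (γ ≫ G.s) :=
      pullback.lift ((γ ≫ G.s) ≫ G.e) (𝟙 _) (by simp [G.e_t])
    have hea : eL ≫ a = γ := by
      simp only [a, comp_mulR]
      refine Eq.trans (mulR_congr G (a' := γ) (b' := γ ≫ G.s ≫ G.e) ?_ ?_ _) (G.comp_e γ)
      · simp [eL, l] <;> exact Category.id_comp _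
      · simp [eL, q]
    have hγ : ∀ z, γ z = x := fun z => by
      rw [Scheme.Hom.comp_apply]; exact Scheme.fromSpecResidueField_apply _ _
    obtain ⟨z₀, hz₀, hz₀'⟩ : ∃ z₀, q z₀ = zeta (ePt G eU) ∧ z₀ ⤳ eL (IsLocalRing.closedPoint L) := by
      have h1 : q (eL (IsLocalRing.closedPoint L)) = ePt G eU := by
        rw [← Scheme.Hom.comp_apply, pullback.lift_fst, Scheme.Hom.comp_apply]
        exact e_apply_eq G eU _
      have h2 := zeta_specializes (ePt G eU)
      rw [← h1] at h2
      obtain ⟨c, hc, hc'⟩ := Flat.generalizingMap q h2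
      exact ⟨c, by rw [hc', h1], hc⟩
    -- replace by a generic point
    set z := zeta z₀ with hz
    have hqz : q z = zeta (ePt G eU) :=
      eq_zeta_of_specializes (dirGen G eU) (hz₀ ▸ (zeta_specializes z₀).map q.continuous)
    have hze : z ⤳ eL (IsLocalRing.closedPoint L) := (zeta_specializes z₀).trans hz₀'
    have hax : a z = zeta x := by
      let f : pullback G.t (γ ≫ G.s) ⟶ pullback G.t (γ ≫ G.t) :=
        pullback.lift a l ((mulR_t G _ _ _).trans (Category.assoc _ _ _))
      have hfa : f ≫ pullback.fst G.t (γ ≫ G.t) = a := pullback.lift_fst _ _ _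
      let q₂ := pullback.fst G.t (γ ≫ G.t)
      let l₂ := pullback.snd G.t (γ ≫ G.t)
      have hq₂ : (l₂ ≫ γ) ≫ G.t = q₂ ≫ G.t := (Category.assoc _ _ _).trans pullback.condition.symm
      let b := mulR G (invR G (l₂ ≫ γ)) q₂ ((invR_s G _).trans hq₂)
      let f' : pullback G.t (γ ≫ G.t) ⟶ pullback G.t (γ ≫ G.s) :=
        pullback.lift b l₂ (((mulR_t G _ _ _).trans (invR_t G _)).trans (Category.assoc _ _ _))
      have h1 : f ≫ f' = 𝟙 _ := by
        apply pullback.hom_ext
        · have e1 : f ≫ invR G (l₂ ≫ γ) = invR G (l ≫ γ) := by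
            rw [comp_invR]; congr 1; simp [f, l₂]
          have e2 : f ≫ q₂ = mulR G (l ≫ γ) q hq := pullback.lift_fst _ _ _
          simp only [Category.assoc, Category.id_comp, f', pullback.lift_fst, b]
          rw [comp_mulR, mulR_congr G e1 e2]
          exact invR_mulR_cancel G _ _ _
        · simp [f, f', l₂, l]
      have h2 : f' ≫ f = 𝟙 _ := by
        apply pullback.hom_ext
        · have e1 : f' ≫ l ≫ γ = l₂ ≫ γ := by simp [f', l]
          have e2 : f' ≫ q = mulR G (invR G (l₂ ≫ γ)) q₂ ((invR_s G _).trans hq₂) :=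
            pullback.lift_fst _ _ _
          simp only [Category.assoc, Category.id_comp, f, a, pullback.lift_fst]
          rw [comp_mulR, mulR_congr G e1 e2]
          exact mulR_invR_cancel G _ _ hq₂
        · simp [f, f', l₂, l]
      haveI : IsIso f := ⟨f', h1, h2⟩
      have hm : ∀ c, c ⤳ z → c = z := by
        intro c hc
        have hcc : irreducibleComponent z₀ ⊆ closure {c} := by
          rw [← (isGenericPoint_zeta z₀).def]
          exact closure_minimal (Set.singleton_subset_iff.mpr hc.mem_closure) isClosed_closure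
        have heq : closure {c} = irreducibleComponent z₀ :=
          eq_irreducibleComponent (isIrreducible_singleton.closure.2) hcc
        exact IsGenericPoint.eq (show IsGenericPoint c (irreducibleComponent z₀) from heq)
          (isGenericPoint_zeta z₀)
      haveI : Flat a := by rw [← hfa]; infer_instance
      obtain ⟨c, hc, hac⟩ := Flat.generalizingMap a (zeta_specializes (a z))
      rw [hm c hc] at hac
      rw [hac]
      apply zeta_eq_of_specializes (dirGen G eU)
      have h3 := hze.map a.continuous
      rwa [← Scheme.Hom.comp_apply, hea, hγ] at h3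
    refine ⟨θ z, ⟨?_, ?_, ?_⟩, ?_⟩
    · rw [Set.mem_preimage, ← Scheme.Hom.comp_apply, pullback.lift_fst, hax]
      exact hx
    · rw [← Scheme.Hom.comp_apply, pullback.lift_snd, invR, Scheme.Hom.comp_apply, hqz,
        i_zeta_ePt]
      exact (isGenericPoint_zeta _).mem
    · rw [← Scheme.Hom.comp_apply, pullback.lift_snd, invR, Scheme.Hom.comp_apply, hqz,
        i_zeta_ePt]
      exact hV
    · rw [← Scheme.Hom.comp_apply, hθ, Scheme.Hom.comp_apply, hγ]
  · rintro _ ⟨w, ⟨hwW, hwC, -⟩, rfl⟩
    show zeta (G.c w) ∈ W
    set g := pullback.fst G.s G.t w with hg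
    suffices zeta (G.c w) = zeta g by
      rw [this]; exact W.2.stableUnderGeneralization (zeta_specializes g) hwW
    let C : TopologicalSpace.Closeds G.R :=
      ⟨irreducibleComponent (ePt G eU), isClosed_irreducibleComponent⟩
    let Z := (Scheme.IdealSheafData.vanishingIdeal C).subscheme
    let j : Z ⟶ G.R := (Scheme.IdealSheafData.vanishingIdeal C).subschemeι
    have hjr : Set.range j = irreducibleComponent (ePt G eU) :=
      H17.range_vanishingIdeal_subschemeι C
    haveI : IrreducibleSpace Z := by
      haveI : IrreducibleSpace ↥(Set.range j) := by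
        rw [hjr]; exact Subtype.irreducibleSpace isIrreducible_irreducibleComponent
      exact j.isClosedEmbedding.toIsEmbedding.toHomeomorph.irreducibleSpace_iff.mpr inferInstance
    haveI := geometricallyIrreducible_t G eU Z j hjr
    have hgi : GeometricallyIrreducible (j ≫ G.t) := by
      rw [show j ≫ G.t = (j ≫ G.t ≫ eU.hom) ≫ eU.inv by simp]
      exact (MorphismProperty.cancel_right_of_respectsIso (P := @GeometricallyIrreducible) _ _).mpr
        inferInstance
    let m : pullback G.s (j ≫ G.t) ⟶ pullback G.s G.t :=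
      pullback.map _ _ _ _ (𝟙 _) j (𝟙 _) (by simp) (by simp)
    obtain ⟨zw, hzw⟩ : ∃ z, m z = w := by
      have : w ∈ Set.range m := by
        rw [Scheme.Pullback.range_map]
        exact ⟨⟨g, rfl⟩, by rw [Set.mem_preimage, hjr]; exact hwC⟩
      exact this
    obtain ⟨ze, hze⟩ : ∃ ze, j ze = ePt G eU := by
      have : ePt G eU ∈ Set.range j := hjr ▸ mem_irreducibleComponent
      exact this
    obtain ⟨z₁, hz₁, hz₁'⟩ := Scheme.Pullback.exists_preimage_pullback
      (f := G.s) (g := j ≫ G.t) g ze (Subsingleton.elim _ _)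
    have hI : IsIrreducible (pullback.fst G.s (j ≫ G.t) ⁻¹' {g}) := by
      rw [← (pullback.fst G.s (j ≫ G.t)).range_fiberι, ← Set.image_univ]
      exact (IrreducibleSpace.isIrreducible_univ _).image _
        ((pullback.fst G.s (j ≫ G.t)).fiberι g).continuous.continuousOn
    have hzw' : pullback.fst G.s (j ≫ G.t) zw = g := by
      rw [hg, ← hzw, ← Scheme.Hom.comp_apply]
      congr 1
      simp [m] <;> rfl
    -- the point (g, e) composes to g
    let ε : G.R ⟶ pullback G.s G.t :=
      pullback.lift (𝟙 _) (G.s ≫ G.e) (by simp [G.e_t])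
    have hεc : ε ≫ G.c = 𝟙 _ := by simpa using G.comp_e (𝟙 G.R)
    have hm₁ : G.c (m z₁) = g := by
      let ε' : pullback G.s (j ≫ G.t) ⟶ pullback G.s G.t := pullback.fst _ _ ≫ ε
      obtain ⟨u, hu, hu'⟩ : ∃ u, pullback.fst G.s G.t u = g ∧ pullback.snd G.s G.t u = ePt G eU :=
        ⟨ε g, by rw [← Scheme.Hom.comp_apply, pullback.lift_fst]; rfl,
          by rw [← Scheme.Hom.comp_apply, pullback.lift_snd, Scheme.Hom.comp_apply]
             exact e_apply_eq G eU _⟩
      have huniq : ∀ v, pullback.fst G.s G.t v = g → pullback.snd G.s G.t v = ePt G eU →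
          v = ε g := by
        intro v hv hv'
        obtain ⟨y, -, hy⟩ := Scheme.Pullback.exists_preimage_pullback (f := G.e)
          (g := pullback.snd G.s G.t) (eU.inv (IsLocalRing.closedPoint k)) v hv'.symm
        have hp : pullback.snd G.e (pullback.snd G.s G.t) =
            (pullback.snd G.e (pullback.snd G.s G.t) ≫ pullback.fst G.s G.t) ≫ ε := by
          have hc : pullback.fst G.e (pullback.snd G.s G.t) ≫ G.e =
              pullback.snd G.e (pullback.snd G.s G.t) ≫ pullback.snd G.s G.t := pullback.condition
          apply pullback.hom_ext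
          · simp [ε] <;> exact (Category.comp_id _).symm
          · simp only [ε, Category.assoc, pullback.lift_snd]
            rw [pullback.condition_assoc, ← reassoc_of% hc]
            simp [reassoc_of% G.e_t, hc]
        rw [← hy, hp]
        simp only [Scheme.Hom.comp_apply, hy, hv]
      have h1 : m z₁ = ε g := huniq _
        (by rw [← Scheme.Hom.comp_apply, pullback.lift_fst, Category.comp_id, hz₁])
        (by rw [← Scheme.Hom.comp_apply, pullback.lift_snd, Scheme.Hom.comp_apply, hz₁', hze])
      rw [h1, ← Scheme.Hom.comp_apply, hεc]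
      rfl
    conv_rhs => rw [← hm₁]
    rw [← hzw]
    exact zeta_eq_of_isIrreducible (dirGen G eU)
      (hI.image (m ≫ G.c) (m ≫ G.c).continuous.continuousOn)
      ⟨zw, hzw', by rw [Scheme.Hom.comp_apply]⟩ ⟨z₁, hz₁, by rw [Scheme.Hom.comp_apply]⟩

include eU in
theorem isOpen_sat (W : G.R.Opens) : IsOpen (sat (W : Set G.R)) := by
  haveI := isIntegral_U G eU
  haveI := subsingleton_U G eU
  obtain ⟨V, -, hzV⟩ : ∃ V : G.R.Opens, True ∧ zeta (ePt G eU) ∈ V := ⟨⊤, trivial, trivial⟩
  rw [sat_eq_image G eU W V hzV]
  let C : TopologicalSpace.Closeds G.R :=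
    ⟨irreducibleComponent (ePt G eU), isClosed_irreducibleComponent⟩
  let j := (Scheme.IdealSheafData.vanishingIdeal C).subschemeι
  have hjr : Set.range j = irreducibleComponent (ePt G eU) :=
    H17.range_vanishingIdeal_subschemeι C
  let m : pullback G.s (j ≫ G.t) ⟶ pullback G.s G.t :=
    pullback.map _ _ _ _ (𝟙 _) j (𝟙 _) (by simp) (by simp)
  have hp : IsPullback m (pullback.snd G.s (j ≫ G.t)) (pullback.snd G.s G.t) j := by
    refine IsPullback.of_right ?_ (by simp [m]) (IsPullback.of_hasPullback G.s G.t)
    have : m ≫ pullback.fst G.s G.t = pullback.fst G.s (j ≫ G.t) :=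
      (pullback.lift_fst _ _ _).trans (Category.comp_id _)
    rw [this]
    exact IsPullback.of_hasPullback _ _
  have hsq := hp.paste_horiz (isPullback_c_snd G)
  haveI : UniversallyOpen (m ≫ G.c) :=
    MorphismProperty.of_isPullback hsq.flip (inferInstanceAs (UniversallyOpen (j ≫ G.s)))
  have hrm : Set.range m = pullback.snd G.s G.t ⁻¹' irreducibleComponent (ePt G eU) := by
    rw [Scheme.Pullback.range_map, hjr]
    simp
  have heq : G.c '' ((pullback.fst G.s G.t ⁻¹' (W : Set G.R)) ∩
      pullback.snd G.s G.t ⁻¹' (irreducibleComponent (ePt G eU) ∩ (V : Set G.R))) =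
      (m ≫ G.c) '' (m ⁻¹' ((pullback.fst G.s G.t ⁻¹' (W : Set G.R)) ∩
        pullback.snd G.s G.t ⁻¹' (V : Set G.R))) := by
    rw [show ⇑(m ≫ G.c) = ⇑G.c ∘ ⇑m from rfl, Set.image_comp,
      Set.image_preimage_eq_inter_range, hrm, Set.preimage_inter]
    congr 1
    ext; simp only [Set.mem_inter_iff]; tauto
  rw [heq]
  refine (m ≫ G.c).isOpenMap _ ?_
  exact ((W.2.preimage (pullback.fst G.s G.t).continuous).inter
    (V.2.preimage (pullback.snd G.s G.t).continuous)).preimage m.continuous

include eU in
theorem isCompact_sat (W : G.R.Opens) (hW : IsCompact (W : Set G.R)) :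
    IsCompact (sat (W : Set G.R)) := by
  haveI := isIntegral_U G eU
  haveI := subsingleton_U G eU
  haveI := isAffine_U G eU
  obtain ⟨_, ⟨(V : G.R.Opens), (hV : IsAffineOpen V), rfl⟩, hzV, -⟩ :=
    G.R.isBasis_affineOpens.exists_subset_of_mem_open (Set.mem_univ (zeta (ePt G eU))) isOpen_univ
  rw [sat_eq_image G eU W V hzV]
  refine IsCompact.image ?_ G.c.continuous
  haveI : IsAffine V.toScheme := hV
  haveI : CompactSpace W.toScheme := isCompact_iff_compactSpace.mp hW
  haveI : QuasiCompact (pullback.fst (W.ι ≫ G.s) (V.ι ≫ G.t)) := inferInstance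
  haveI : CompactSpace ↥(pullback (W.ι ≫ G.s) (V.ι ≫ G.t)) :=
    QuasiCompact.compactSpace_of_compactSpace (pullback.fst (W.ι ≫ G.s) (V.ι ≫ G.t))
  let n : pullback (W.ι ≫ G.s) (V.ι ≫ G.t) ⟶ pullback G.s G.t :=
    pullback.map _ _ _ _ W.ι V.ι (𝟙 _) (by simp) (by simp)
  have hn : Set.range n = (pullback.fst G.s G.t ⁻¹' (W : Set G.R)) ∩
      pullback.snd G.s G.t ⁻¹' (V : Set G.R) := by
    rw [Scheme.Pullback.range_map, Scheme.Opens.range_ι, Scheme.Opens.range_ι]
  have hcpt : IsCompact (Set.range n) := isCompact_range n.continuous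
  convert hcpt.inter_right (isClosed_irreducibleComponent.preimage
    (pullback.snd G.s G.t).continuous) using 1
  rw [hn, Set.preimage_inter]
  ext; simp only [Set.mem_inter_iff]; tauto

include eU in
theorem isClopen_sat (W : G.R.Opens) (hW : IsCompact (W : Set G.R)) :
    IsClopen (sat (W : Set G.R)) := by
  haveI := subsingleton_U G eU
  haveI := isAffine_U G eU
  haveI := isSeparated_grpd G
  refine ⟨?_, isOpen_sat G eU W⟩
  refine isClosed_of_isCompact_of_stableUnderSpecialization ⟨_, isOpen_sat G eU W⟩
    (isCompact_sat G eU W hW) ?_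
  intro x y h hx
  show zeta y ∈ W
  rw [← zeta_eq_of_specializes (dirGen G eU) h]
  exact hx

include eU in
/-- Connected components of a groupoid over a field are irreducible. -/
theorem connectedComponent_eq_irreducibleComponent (x : G.R) :
    connectedComponent x = irreducibleComponent x := by
  haveI := subsingleton_U G eU
  haveI := isAffine_U G eU
  refine Set.Subset.antisymm (fun y hy => ?_)
    (isIrreducible_irreducibleComponent.isConnected.subset_connectedComponent
      mem_irreducibleComponent)
  rw [mem_irreducibleComponent_iff_zeta (dirGen G eU)]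
  by_contra hne
  have hns : ¬ (zeta y ⤳ zeta x) := fun h => hne (eq_zeta_of_specializes (dirGen G eU) h)
  rw [not_specializes_iff_exists_open] at hns
  obtain ⟨O, hO, hxO, hyO⟩ := hns
  obtain ⟨_, ⟨(W : G.R.Opens), (hW : IsAffineOpen W), rfl⟩, hxW, hWO⟩ :=
    G.R.isBasis_affineOpens.exists_subset_of_mem_open hxO hO
  exact hyO (hWO ((isClopen_sat G eU W hW.isCompact).connectedComponent_subset hxW hy))

include eU in
/-- The component of the unit is quasi-compact. -/
theorem isCompact_component : IsCompact (irreducibleComponent (ePt G eU)) := by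
  obtain ⟨_, ⟨(W : G.R.Opens), (hW : IsAffineOpen W), rfl⟩, hxW, -⟩ :=
    G.R.isBasis_affineOpens.exists_subset_of_mem_open (Set.mem_univ (zeta (ePt G eU))) isOpen_univ
  refine (isCompact_sat G eU W hW.isCompact).of_isClosed_subset isClosed_irreducibleComponent ?_
  intro x hx
  rw [mem_irreducibleComponent_iff_zeta (dirGen G eU)] at hx
  show zeta x ∈ W
  rw [hx]; exact hxW

include eU in
/-- The connected component of the unit is irreducible and quasi-compact. -/
theorem component_unit :
    IsIrreducible (connectedComponent (ePt G eU)) ∧ IsCompact (connectedComponent (ePt G eU)) := by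
  rw [connectedComponent_eq_irreducibleComponent G eU]
  exact ⟨isIrreducible_irreducibleComponent, isCompact_component G eU⟩

include eU in
/-- A connected groupoid over a field is irreducible. -/
theorem irreducibleSpace_of_connected [ConnectedSpace G.R] : IrreducibleSpace G.R := by
  rw [irreducibleSpace_def]
  show IsIrreducible Set.univ
  rw [← PreconnectedSpace.connectedComponent_eq_univ (ePt G eU)]
  exact (component_unit G eU).1

include eU in
/-- A connected groupoid over a field is quasi-compact. -/
theorem compactSpace_of_connected [ConnectedSpace G.R] : CompactSpace G.R := by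
  rw [← isCompact_univ_iff, ← PreconnectedSpace.connectedComponent_eq_univ (ePt G eU)]
  exact (component_unit G eU).2

/-- Local rings at points with directed generizations have a single minimal prime. -/
theorem minimalPrimes_stalk_subsingleton {X : Scheme.{u}} {x : X} (h : DirGen x) :
    (minimalPrimes (X.presheaf.stalk x)).Subsingleton := by
  intro p hp q hq
  let pp : PrimeSpectrum (X.presheaf.stalk x) := ⟨p, hp.1.1⟩
  let qq : PrimeSpectrum (X.presheaf.stalk x) := ⟨q, hq.1.1⟩
  have hgen : ∀ a, X.fromSpecStalk x a ⤳ x := fun a => by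
    have : X.fromSpecStalk x a ∈ Set.range (X.fromSpecStalk x) := ⟨a, rfl⟩
    rwa [Scheme.range_fromSpecStalk] at this
  obtain ⟨c, hcp, hcq⟩ := h _ _ (hgen pp) (hgen qq)
  obtain ⟨r, rfl⟩ : c ∈ Set.range (X.fromSpecStalk x) := by
    rw [Scheme.range_fromSpecStalk]; exact hcp.trans (hgen pp)
  have hi := (X.fromSpecStalk x).isEmbedding.isInducing
  rw [hi.specializes_iff] at hcp hcq
  replace hcp : r.asIdeal ≤ p := (PrimeSpectrum.le_iff_specializes r pp).mpr hcp
  replace hcq : r.asIdeal ≤ q := (PrimeSpectrum.le_iff_specializes r qq).mpr hcq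
  exact (le_antisymm (hp.2 ⟨r.2, bot_le⟩ hcp) hcp).trans
    (le_antisymm hcq (hq.2 ⟨r.2, bot_le⟩ hcq))

include eU in
/-- Exactly one irreducible component passes through the unit. -/
theorem existsUnique_component :
    ∃! Z : Set G.R, Z ∈ irreducibleComponents (G.R : Type u) ∧ ePt G eU ∈ Z :=
  ⟨irreducibleComponent (ePt G eU),
    ⟨irreducibleComponent_mem_irreducibleComponents _, mem_irreducibleComponent⟩,
    fun _ ⟨h, h'⟩ => (dirGen G eU _).eq_of_mem h (irreducibleComponent_mem_irreducibleComponents _)
      h' mem_irreducibleComponent⟩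

end Groth.Agent.H19Grp
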