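import Groth.Agent.H19Grp.SubgrpClosed
import Groth.Agent.H17.Dim
import Groth.Agent.S9709
import Groth.Prelude.Def_Flat

/-!
# Dimension of groupoid schemes locally of finite type over a field

All closed points have local rings of the same dimension, equal to the dimension of the whole space.
-/

set_option autoImplicit false
set_option linter.style.haveILetI false


universe u

open CategoryTheory Limits AlgebraicGeometry Order

namespace Groth.Agent.H19Grp

/-- The coheight (number of generizations) is preserved by generalizing maps without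
specializations in fibres. -/
theorem coheight_eq_of_flat_integral {X Y : Scheme.{u}} (f : X ⟶ Y) [Flat f] [IsIntegralHom f]
    (x : X) : coheight x = coheight (f x) := by
  refine coheight_eq_of_strictMono f ?_ ?_ x
  · intro a b hab
    have hba : b ⤳ a := hab.le
    refine lt_of_le_not_ge (hba.map f.continuous) fun (h : f a ⤳ f b) => ?_
    have heq : f a = f b := (h.antisymm (hba.map f.continuous)).eq
    have hmem : a ∈ closure {b} ∩ f.base ⁻¹' {f.base b} := ⟨hba.mem_closure, heq⟩
    rw [Groth.Agent.S9709.result f b] at hmem
    have hab' : a = b := hmem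
    subst hab'
    exact lt_irrefl a hab
  · intro a b hab
    obtain ⟨a', ha', hfa⟩ := Flat.generalizingMap f (a := a) (b := b) hab.le
    refine ⟨a', lt_of_le_not_ge ha' fun (h : a ⤳ a') => ?_, hfa⟩
    have := (h.antisymm ha').eq
    rw [this, hfa] at hab
    exact lt_irrefl b hab

/-- The dimension of a scheme is the supremum of the dimensions of its local rings. -/
theorem topologicalKrullDim_eq_iSup_coheight (X : Scheme.{u}) :
    topologicalKrullDim X = ⨆ x : X, ((coheight x : ℕ∞) : WithBot ℕ∞) := by
  rw [← Order.krullDim_eq_iSup_coheight]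
  exact H17.topologicalKrullDim_eq_krullDim_specialization X

/-- A morphism from the spectrum of a residue field at a closed point of a scheme locally of finite
type over a field is finite. -/
theorem isFinite_fromSpecResidueField_comp {X U : Scheme.{u}} {k : Type u} [Field k]
    (eU : U ≅ Spec (CommRingCat.of k)) (f : X ⟶ U) [LocallyOfFiniteType f] (x : X)
    (hx : IsClosed ({x} : Set X)) : IsFinite (X.fromSpecResidueField x ≫ f) := by
  haveI : IsClosedImmersion (X.fromSpecResidueField x) :=
    isClosed_singleton_iff_isClosedImmersion.mp hx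
  haveI : JacobsonSpace U := LocallyOfFiniteType.jacobsonSpace eU.hom
  rw [isFinite_iff_locallyOfFiniteType_of_jacobsonSpace]
  infer_instance

variable {S : Scheme.{u}} (G : Grpd.GroupoidScheme S) {k : Type u} [Field k]
  (eU : G.U ≅ Spec (CommRingCat.of k)) [LocallyOfFiniteType G.s] [LocallyOfFiniteType G.t]

set_option backward.isDefEq.respectTransparency false in
include eU in
/-- All closed points have the same coheight as the unit. -/
theorem coheight_eq_of_isClosed (g : G.R) (hg : IsClosed ({g} : Set G.R)) :
    coheight g = coheight (ePt G eU) := by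
  haveI := isIntegral_U G eU
  haveI := subsingleton_U G eU
  let γ := G.R.fromSpecResidueField g
  haveI : IsFinite (γ ≫ G.s) := isFinite_fromSpecResidueField_comp eU G.s g hg
  haveI : IsFinite (γ ≫ G.t) := isFinite_fromSpecResidueField_comp eU G.t g hg
  obtain ⟨f, hf, hfa⟩ := exists_iso_translate G γ
  let eL : Spec (G.R.residueField g) ⟶ pullback G.t (γ ≫ G.s) :=
    pullback.lift ((γ ≫ G.s) ≫ G.e) (𝟙 _) (by simp [G.e_t])
  let z := eL (IsLocalRing.closedPoint _)
  have h1 : pullback.fst G.t (γ ≫ G.s) z = ePt G eU := by
    rw [← Scheme.Hom.comp_apply, pullback.lift_fst, Scheme.Hom.comp_apply]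
    exact e_apply_eq G eU _
  have h2 : pullback.fst G.t (γ ≫ G.t) (f z) = g := by
    rw [← Scheme.Hom.comp_apply, hfa, ← Scheme.Hom.comp_apply, comp_mulR]
    have h3 : eL ≫ pullback.snd G.t (γ ≫ G.s) ≫ γ = γ := by
      rw [pullback.lift_snd_assoc]
      exact Category.id_comp _
    have h4 : eL ≫ pullback.fst G.t (γ ≫ G.s) = γ ≫ G.s ≫ G.e :=
      (pullback.lift_fst _ _ _).trans (Category.assoc _ _ _)
    rw [mulR_congr G h3 h4]
    rw [show mulR G γ (γ ≫ G.s ≫ G.e) (by simp [G.e_t]) = γ from G.comp_e γ]
    exact Scheme.fromSpecResidueField_apply _ _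
  calc coheight g = coheight (pullback.fst G.t (γ ≫ G.t) (f z)) := by rw [h2]
    _ = coheight (f z) := (coheight_eq_of_flat_integral (pullback.fst G.t (γ ≫ G.t)) _).symm
    _ = coheight z := (coheight_eq_of_flat_integral f z).symm
    _ = coheight (pullback.fst G.t (γ ≫ G.s) z) :=
      coheight_eq_of_flat_integral (pullback.fst G.t (γ ≫ G.s)) z
    _ = coheight (ePt G eU) := by rw [h1]

include eU in
/-- The dimension is the coheight of the unit. -/
theorem topologicalKrullDim_eq_coheight :
    topologicalKrullDim G.R = (coheight (ePt G eU) : ℕ∞) := by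
  haveI := subsingleton_U G eU
  haveI : JacobsonSpace G.U := LocallyOfFiniteType.jacobsonSpace eU.hom
  haveI : JacobsonSpace G.R := LocallyOfFiniteType.jacobsonSpace G.s
  rw [topologicalKrullDim_eq_iSup_coheight]
  apply le_antisymm
  swap
  · exact le_iSup (fun x : G.R => ((coheight x : ℕ∞) : WithBot ℕ∞)) (ePt G eU)
  refine iSup_le fun x => ?_
  obtain ⟨g, hxg, hg⟩ := nonempty_inter_closedPoints (X := G.R) (Z := closure {x})
    ⟨x, subset_closure rfl⟩ isClosed_closure.isLocallyClosed
  rw [← coheight_eq_of_isClosed G eU g hg]
  exact WithBot.coe_le_coe.mpr (coheight_anti (specializes_iff_mem_closure.mpr hxg))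

include eU in
/-- The local ring at a closed point has the dimension of the whole space. -/
theorem ringKrullDim_stalk_of_isClosed (g : G.R) (hg : IsClosed ({g} : Set G.R)) :
    ringKrullDim (G.R.presheaf.stalk g) = topologicalKrullDim G.R := by
  rw [ringKrullDim_stalk_eq_coheight, topologicalKrullDim_eq_coheight G eU,
    coheight_eq_of_isClosed G eU g hg]

include eU in
theorem ringKrullDim_stalk_ePt :
    ringKrullDim (G.R.presheaf.stalk (ePt G eU)) = topologicalKrullDim G.R := by
  rw [ringKrullDim_stalk_eq_coheight, topologicalKrullDim_eq_coheight G eU]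

include eU in
/-- A subset stable under generization containing a closed point has full dimension. -/
theorem le_topologicalKrullDim_of_mem (Z : Set G.R) [QuasiSober Z] (g : G.R)
    (hg : IsClosed ({g} : Set G.R)) (hZ : ∀ a, a ⤳ g → a ∈ Z) :
    topologicalKrullDim G.R ≤ topologicalKrullDim Z := by
  letI : Preorder Z := specializationPreorder Z
  rw [topologicalKrullDim_eq_coheight G eU, ← coheight_eq_of_isClosed G eU g hg,
    coheight_eq_krullDim_Ici]
  refine le_of_le_of_eq ?_ (H17.topologicalKrullDim_eq_krullDim_specialization Z).symm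
  refine krullDim_le_of_strictMono (fun a : Set.Ici g => (⟨a.1, hZ _ a.2⟩ : Z)) ?_
  intro a b hab
  refine ⟨(subtype_specializes_iff _ _).mpr hab.le, fun h => ?_⟩
  have h' : a.1 ⤳ b.1 := h.map continuous_subtype_val
  exact hab.ne (Subtype.ext (h'.antisymm hab.le).eq)

include eU in
/-- Every component has the dimension of the whole space. -/
theorem topologicalKrullDim_component (Z : Set G.R) (hZ : Z ∈ irreducibleComponents G.R) :
    topologicalKrullDim Z = topologicalKrullDim G.R := by
  haveI := subsingleton_U G eU
  haveI : JacobsonSpace G.U := LocallyOfFiniteType.jacobsonSpace eU.hom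
  haveI : JacobsonSpace G.R := LocallyOfFiniteType.jacobsonSpace G.s
  have hcl : IsClosed Z := isClosed_of_mem_irreducibleComponents _ hZ
  haveI : QuasiSober Z := hcl.isClosedEmbedding_subtypeVal.quasiSober
  obtain ⟨g, hgZ, hg⟩ := nonempty_inter_closedPoints hZ.1.nonempty hcl.isLocallyClosed
  apply le_antisymm
  · exact topologicalKrullDim_subspace_le _ _
  refine le_topologicalKrullDim_of_mem G eU Z g hg fun a ha => ?_
  have hd := dirGen G eU
  rw [(hd g).eq_of_mem hZ (irreducibleComponent_mem_irreducibleComponents g) hgZ
    mem_irreducibleComponent, mem_irreducibleComponent_iff_zeta hd]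
  exact zeta_eq_of_specializes hd ha

include eU in
/-- The local dimension is constant. -/
theorem localDim_eq (r : G.R) : FlatMor.localDim G.R r = topologicalKrullDim G.R := by
  haveI := subsingleton_U G eU
  haveI : JacobsonSpace G.U := LocallyOfFiniteType.jacobsonSpace eU.hom
  haveI : JacobsonSpace G.R := LocallyOfFiniteType.jacobsonSpace G.s
  apply le_antisymm
  · exact (iInf_le _ ⟨⊤, trivial⟩).trans (topologicalKrullDim_subspace_le _ _)
  refine le_iInf fun U => ?_
  obtain ⟨g, hgU, hg⟩ := nonempty_inter_closedPoints (X := G.R) (Z := (U.1 : Set G.R))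
    ⟨r, U.2⟩ U.1.2.isLocallyClosed
  haveI : QuasiSober (U.1 : Set G.R) := U.1.2.isOpenEmbedding_subtypeVal.quasiSober
  exact le_topologicalKrullDim_of_mem G eU _ g hg fun a ha =>
    U.1.2.stableUnderGeneralization ha hgU

end Groth.Agent.H19Grp
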