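import Groth.Agent.H19Grp.FlatClosedPoints
import Groth.Agent.H19Grp.Dimension
import Groth.Agent.H19Grp.RegularSmooth
import Groth.Agent.H19Grp.HomUnramified
import Groth.Agent.H4Depth.Regular
import Groth.Agent.H05EGA4.FlatRegular
import Mathlib

/-!
# Unramified endomorphisms of smooth group schemes over a field are etale
-/

set_option autoImplicit false
set_option linter.style.haveILetI false
set_option backward.isDefEq.respectTransparency false

universe u

open CategoryTheory CategoryTheory.Limits AlgebraicGeometry MonoidalCategory CartesianMonoidalCategory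
  MonObj GrpObj

namespace Groth.Agent.H19Grp

/-- A local homomorphism of regular local rings of the same dimension with `mA B = mB` is flat. -/
theorem flat_of_regular_of_map_maximalIdeal {A B : Type u} [CommRing A] [CommRing B]
    [IsRegularLocalRing A] [IsRegularLocalRing B] [Algebra A B] [IsLocalHom (algebraMap A B)]
    (hdim : ringKrullDim A = ringKrullDim B)
    (hm : (IsLocalRing.maximalIdeal A).map (algebraMap A B) = IsLocalRing.maximalIdeal B) :
    Module.Flat A B := by
  obtain ⟨d, x, hd, hx⟩ := H4Depth.exists_regular_system_of_parameters A
  have hspan : Ideal.span (Set.range (algebraMap A B ∘ x)) = IsLocalRing.maximalIdeal B := by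
    rw [Set.range_comp, ← Ideal.map_span, hx, hm]
  have hreg := H4Depth.isRegular_ofFn_of_span_eq (R := B) d (hdim ▸ hd) (algebraMap A B ∘ x) hspan
  have hw : RingTheory.Sequence.IsWeaklyRegular B (List.ofFn x) := by
    rw [← RingTheory.Sequence.isWeaklyRegular_map_algebraMap_iff (S := B), List.map_ofFn]
    exact hreg.toIsWeaklyRegular
  have hinj := H05EGA4.lTensor_ofList_injective (M := B) (List.ofFn x) hw
  have hof : Ideal.ofList (List.ofFn x) = IsLocalRing.maximalIdeal A := by
    rw [← hx, Ideal.ofList]
    congr 1
    ext a
    simp [List.mem_ofFn]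
  rw [hof] at hinj
  exact H7Flat.flat_of_injective (S := B) hinj

/-- A formally unramified endomorphism of a smooth group scheme over a field is etale. -/
theorem etale_of_formallyUnramified_endo {k : Type u} [Field k]
    (G : Over (Spec (CommRingCat.of k))) [GrpObj G] [Smooth G.hom] (f : G ⟶ G)
    [FormallyUnramified f.left] : Etale f.left := by
  haveI : IsLocallyNoetherian G.left := LocallyOfFiniteType.isLocallyNoetherian G.hom
  haveI : JacobsonSpace G.left := LocallyOfFiniteType.jacobsonSpace G.hom
  haveI : LocallyOfFiniteType (f.left ≫ G.hom) := by rw [Over.w f]; infer_instance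
  haveI : LocallyOfFiniteType f.left := locallyOfFiniteType_of_comp f.left G.hom
  haveI : IsSeparated G.hom := by
    haveI : Subsingleton (Spec (CommRingCat.of k)) := inferInstance
    exact (isSeparated_iff_isClosedImmersion_one G).mpr
      (isClosedImmersion_section_of_subsingleton G.hom (η[G]).left (Over.w η[G]))
  haveI : Flat f.left := by
    refine flat_of_forall_closedPoint f.left fun x hx => ?_
    haveI : LocallyOfFiniteType (grpToGrpd G).s := inferInstanceAs (LocallyOfFiniteType G.hom)
    haveI : LocallyOfFiniteType (grpToGrpd G).t := inferInstanceAs (LocallyOfFiniteType G.hom)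
    have hy : IsClosed ({f.left x} : Set G.left) := by
      have h0 := isFinite_fromSpecResidueField_comp (Iso.refl (Spec (CommRingCat.of k))) G.hom x hx
      haveI : IsFinite ((G.left.fromSpecResidueField x ≫ f.left) ≫ G.hom) := by
        rw [Category.assoc, Over.w f]; exact h0
      haveI : IsFinite (G.left.fromSpecResidueField x ≫ f.left) := IsFinite.of_comp _ G.hom
      have : Set.range (G.left.fromSpecResidueField x ≫ f.left) = {f.left x} := by
        rw [Scheme.Hom.comp_base, TopCat.coe_comp, Set.range_comp, Scheme.range_fromSpecResidueField,
          Set.image_singleton]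
      rw [← this]
      exact (G.left.fromSpecResidueField x ≫ f.left).isClosedMap.isClosed_range
    have hdim : ringKrullDim (G.left.presheaf.stalk (f.left x)) =
        ringKrullDim (G.left.presheaf.stalk x) :=
      (ringKrullDim_stalk_of_isClosed (grpToGrpd G) (Iso.refl _) (f.left x) hy).trans
        (ringKrullDim_stalk_of_isClosed (grpToGrpd G) (Iso.refl _) x hx).symm
    haveI := isRegularLocalRing_stalk_of_smooth G.hom x
    haveI := isRegularLocalRing_stalk_of_smooth G.hom (f.left x)
    algebraize [(f.left.stalkMap x).hom]
    haveI : IsLocalHom (algebraMap (G.left.presheaf.stalk (f.left x)) (G.left.presheaf.stalk x)) :=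
      inferInstanceAs <| IsLocalHom (f.left.stalkMap x).hom
    haveI : Algebra.EssFiniteType (G.left.presheaf.stalk (f.left x)) (G.left.presheaf.stalk x) := by
      rw [← RingHom.essFiniteType_algebraMap, RingHom.algebraMap_toAlgebra]
      exact LocallyOfFiniteType.stalkMap f.left x
    haveI : Algebra.FormallyUnramified (G.left.presheaf.stalk (f.left x)) (G.left.presheaf.stalk x) := by
      rw [← RingHom.formallyUnramified_algebraMap, RingHom.algebraMap_toAlgebra]
      exact FormallyUnramified.stalkMap f.left x
    exact flat_of_regular_of_map_maximalIdeal hdim Algebra.FormallyUnramified.map_maximalIdeal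
  haveI : LocallyOfFinitePresentation f.left := inferInstance
  exact Etale.of_formallyUnramified_of_flat f.left

/-- Invertible powers on a smooth commutative group scheme over a field are etale. -/
theorem etale_zpow_field {k : Type u} [Field k] (G : Over (Spec (CommRingCat.of k)))
    [GrpObj G] [IsCommMonObj G] [Smooth G.hom] (n : ℤ) (hn : (n : k) ≠ 0) :
    Etale (𝟙 G ^ n : G ⟶ G).left := by
  haveI := formallyUnramified_zpow_field G n hn
  exact etale_of_formallyUnramified_endo G (𝟙 G ^ n)

end Groth.Agent.H19Grp
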