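import Groth.Agent.H19Grp.SepPoints
import Groth.Agent.H19Grp.UnramifiedEndo
import Groth.Agent.H19Grp.Components
import Groth.Agent.H19Grp.GrpToGrpd
import Groth.Agent.H17.Topology
import Mathlib

/-!
# Smooth commutative groups with finitely generated points over separably closed fields are discrete
-/

set_option autoImplicit false
set_option linter.style.haveILetI false
set_option backward.isDefEq.respectTransparency false

universe u

open CategoryTheory CategoryTheory.Limits MonoidalCategory CartesianMonoidalCategory MonObj GrpObj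
  AlgebraicGeometry

namespace Groth.Agent.H19Grp

open scoped DirectSum in
/-- In a finitely generated abelian group the infinitely `n`-divisible elements form a finite set. -/
theorem finite_divisible (A : Type u) [CommGroup A] [Group.FG A] {n : ℕ} (hn : 2 ≤ n) :
    {x : A | ∀ j : ℕ, ∃ y, y ^ n ^ j = x}.Finite := by
  obtain ⟨r, J, _, p, hp, e, ⟨f⟩⟩ := AddCommGroup.equiv_free_prod_directSum_zmod (G := Additive A)
  haveI : ∀ i, NeZero (p i ^ e i) := fun i => ⟨pow_ne_zero _ (hp i).ne_zero⟩
  haveI : Finite (⨁ i : J, ZMod (p i ^ e i)) := Finite.of_equiv _ DFinsupp.equivFunOnFintype.symm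
  refine Set.Finite.of_finite_image (f := fun x => (f (Additive.ofMul x)).2) (Set.toFinite _) ?_
  intro x hx x' hx' h
  have key : ∀ z : A, (∀ j : ℕ, ∃ y, y ^ n ^ j = z) → (f (Additive.ofMul z)).1 = 0 := by
    intro z hz
    ext i
    set c := (f (Additive.ofMul z)).1 i
    obtain ⟨y, hy⟩ := hz c.natAbs
    have hc : ((n ^ c.natAbs : ℕ) : ℤ) ∣ c := ⟨(f (Additive.ofMul y)).1 i, by
      show (f (Additive.ofMul z)).1 i = _
      rw [← hy, ofMul_pow, map_nsmul, Prod.smul_fst, Finsupp.smul_apply, nsmul_eq_mul]⟩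
    by_contra hne
    have h1 := Nat.le_of_dvd (Int.natAbs_pos.mpr hne) (Int.natCast_dvd.mp hc)
    exact absurd (Nat.lt_pow_self (show 1 < n by omega)) (not_lt.mpr h1)
  exact Additive.ofMul.injective (f.injective (Prod.ext ((key x hx).trans (key x' hx').symm) h))

variable {k : Type u} [Field k] (G : Over (Spec (CommRingCat.of k))) [GrpObj G]

/-- The image of a rational point. -/
noncomputable def ratPt (u : 𝟙_ (Over (Spec (CommRingCat.of k))) ⟶ G) : G.left :=
  u.left (IsLocalRing.closedPoint k)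

lemma subsingleton_spec_field : Subsingleton (Spec (CommRingCat.of k)) :=
  inferInstanceAs (Subsingleton (PrimeSpectrum k))

lemma ratPt_comp (u : 𝟙_ (Over (Spec (CommRingCat.of k))) ⟶ G) {H : G ⟶ G} :
    ratPt G (u ≫ H) = H.left (ratPt G u) := rfl

lemma ratPt_one :
    ratPt G 1 = ePt (grpToGrpd G) (Iso.refl _) := by
  unfold ratPt ePt
  have h : ((1 : 𝟙_ (Over (Spec (CommRingCat.of k))) ⟶ G)).left = (η[G]).left := by
    rw [Hom.one_def, toUnit_unique (toUnit _) (𝟙 _), Category.id_comp]
  rw [h]; rfl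

/-- A rational point determines its point and is closed. -/
lemma isClosed_ratPt [IsSeparated G.hom] (u : 𝟙_ (Over (Spec (CommRingCat.of k))) ⟶ G) :
    IsClosed ({ratPt G u} : Set G.left) := by
  haveI : Subsingleton (Spec (CommRingCat.of k)) := subsingleton_spec_field
  haveI : IsClosedImmersion u.left :=
    isClosedImmersion_section_of_subsingleton G.hom u.left (Over.w u)
  haveI : Subsingleton ↥(𝟙_ (Over (Spec (CommRingCat.of k)))).left := subsingleton_spec_field
  have : Set.range u.left = {ratPt G u} := Set.eq_singleton_iff_unique_mem.mpr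
    ⟨⟨_, rfl⟩, by rintro _ ⟨p, rfl⟩; exact congrArg u.left (Subsingleton.elim _ _)⟩
  rw [← this]
  exact u.left.isClosedEmbedding.isClosed_range

variable [IsSepClosed k] [Smooth G.hom]

lemma exists_ratPt_mem (U : G.left.Opens) {x : G.left} (hx : x ∈ U) :
    ∃ u, ratPt G u ∈ U := by
  obtain ⟨σ, hσ, hU⟩ := exists_section_mem G.hom U hx
  exact ⟨Over.homMk σ hσ, hU _⟩

/-- Rational points in the image of an etale endomorphism lift to rational points. -/
lemma exists_ratPt_lift (f : G ⟶ G) [Etale f.left] (u : 𝟙_ (Over (Spec (CommRingCat.of k))) ⟶ G)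
    (hu : ratPt G u ∈ Set.range f.left) : ∃ a, a ≫ f = u := by
  obtain ⟨x, hx⟩ := hu
  obtain ⟨z, -, -⟩ := Scheme.Pullback.exists_preimage_pullback (f := f.left) (g := u.left) x
    (IsLocalRing.closedPoint k) hx
  obtain ⟨σ, hσ, -⟩ := exists_section_mem (pullback.snd f.left u.left) ⊤ (x := z) trivial
  refine ⟨Over.homMk (σ ≫ pullback.fst f.left u.left) ?_, ?_⟩
  · rw [← Over.w f, Category.assoc, pullback.condition_assoc, ← Category.assoc, hσ]
    exact (Category.id_comp _).trans (Over.w u)
  · ext1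
    show (σ ≫ pullback.fst f.left u.left) ≫ f.left = u.left
    rw [Category.assoc, pullback.condition, ← Category.assoc, hσ]
    exact Category.id_comp _

variable [IsCommMonObj G]

/-- If the group of rational points is finitely generated, every point is open. -/
theorem isOpen_singleton_of_fg (hfg : Group.FG (𝟙_ (Over (Spec (CommRingCat.of k))) ⟶ G))
    (x : G.left) : IsOpen ({x} : Set G.left) := by
  classical
  haveI : IsLocallyNoetherian G.left := LocallyOfFiniteType.isLocallyNoetherian G.hom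
  haveI : IsSeparated G.hom := by
    haveI : Subsingleton (Spec (CommRingCat.of k)) := subsingleton_spec_field
    exact (isSeparated_iff_isClosedImmersion_one G).mpr
      (isClosedImmersion_section_of_subsingleton G.hom (η[G]).left (Over.w η[G]))
  haveI : LocallyConnectedSpace G.left :=
    H17.locallyConnectedSpace_of_locallyNoetherian fun x => by
      obtain ⟨_, ⟨(V : G.left.Opens), (hV : IsAffineOpen V), rfl⟩, hxV, -⟩ :=
        G.left.isBasis_affineOpens.exists_subset_of_mem_open (Set.mem_univ x) isOpen_univ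
      haveI : IsNoetherianRing Γ(G.left, V) := IsLocallyNoetherian.component_noetherian ⟨V, hV⟩
      refine ⟨V, V.2.mem_nhds hxV, ?_⟩
      exact hV.isoSpec.hom.homeomorph.isEmbedding.noetherianSpace
  obtain ⟨n, hn2, hn⟩ : ∃ n : ℕ, 2 ≤ n ∧ (n : k) ≠ 0 := by
    by_cases h2 : (2 : k) = 0
    · refine ⟨3, by omega, fun h3 => one_ne_zero (α := k) ?_⟩
      calc (1 : k) = 3 - 2 := by norm_num
        _ = 0 := by rw [h2, sub_zero]; exact_mod_cast h3
    · exact ⟨2, le_rfl, by exact_mod_cast h2⟩
  let T := 𝟙_ (Over (Spec (CommRingCat.of k))) ⟶ G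
  letI : CommGroup T :=
    { (inferInstance : Group T), (Hom.commMonoid : CommMonoid T) with }
  have hfin := finite_divisible (𝟙_ (Over (Spec (CommRingCat.of k))) ⟶ G) hn2
  set e := ePt (grpToGrpd G) (Iso.refl _) with he
  let C : G.left.Opens := ⟨connectedComponent e, isOpen_connectedComponent⟩
  have hirr : IsIrreducible (C : Set G.left) := (component_unit (grpToGrpd G) (Iso.refl _)).1
  have heC : e ∈ C := mem_connectedComponent
  have hdiv : ∀ v, ratPt G v ∈ C → ∀ j : ℕ, ∃ y, y ^ n ^ j = v := by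
    intro v hv j
    let N : ℤ := ((n ^ j : ℕ) : ℤ)
    have hN : (N : k) ≠ 0 := by
      simpa [N] using pow_ne_zero j hn
    haveI := etale_zpow_field G N hN
    let U : G.left.Opens := ⟨Set.range (𝟙 G ^ N : G ⟶ G).left,
      (𝟙 G ^ N : G ⟶ G).left.isOpenMap.isOpen_range⟩
    let d : G ⟶ G := (toUnit G ≫ v) * (𝟙 G)⁻¹
    have hd : ∀ w, w ≫ d = v * w⁻¹ := fun w => by
      simp only [d, MonObj.comp_mul, GrpObj.comp_inv, Category.comp_id]
      rw [← Category.assoc, toUnit_unique (w ≫ toUnit G) (𝟙 _), Category.id_comp]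
    have h1U : ratPt G 1 ∈ U := ⟨ratPt G 1, by
      rw [← ratPt_comp, GrpObj.comp_zpow, Category.comp_id, one_zpow]⟩
    have hne1 : ((C : Set G.left) ∩ U).Nonempty := ⟨e, heC, by rw [he, ← ratPt_one]; exact h1U⟩
    have hne2 : ((C : Set G.left) ∩ d.left ⁻¹ᵁ U).Nonempty := ⟨ratPt G v, hv, by
      show d.left (ratPt G v) ∈ U
      rw [← ratPt_comp, hd, mul_inv_cancel]; exact h1U⟩
    obtain ⟨z, hz⟩ := hirr.isPreirreducible _ _ U.2 (d.left ⁻¹ᵁ U).2 hne1 hne2
    obtain ⟨w, hw⟩ := exists_ratPt_mem G (U ⊓ d.left ⁻¹ᵁ U) hz.2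
    have hw2 : ratPt G (v * w⁻¹) ∈ U := by rw [← hd, ratPt_comp]; exact hw.2
    obtain ⟨a, ha⟩ := exists_ratPt_lift G (𝟙 G ^ N) w hw.1
    obtain ⟨b, hb⟩ := exists_ratPt_lift G (𝟙 G ^ N) (v * w⁻¹) hw2
    rw [GrpObj.comp_zpow, Category.comp_id, zpow_natCast] at ha hb
    exact ⟨b * a, by rw [mul_pow, ha, hb, _root_.mul_assoc, inv_mul_cancel, _root_.mul_one]⟩
  let F : Set T := {v | ∀ j : ℕ, ∃ y, y ^ n ^ j = v}
  have hCsub : (C : Set G.left) ⊆ ratPt G '' F := by
    intro z hz
    by_contra hzF
    have hclosed : IsClosed (ratPt G '' F) := by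
      rw [← Set.biUnion_of_singleton (ratPt G '' F)]
      refine (hfin.image _).isClosed_biUnion ?_
      rintro _ ⟨v, -, rfl⟩
      exact isClosed_ratPt G v
    obtain ⟨w, hw⟩ := exists_ratPt_mem G (C ⊓ ⟨_, hclosed.isOpen_compl⟩) (x := z) ⟨hz, hzF⟩
    exact hw.2 ⟨w, hdiv w hw.1, rfl⟩
  have hopen_e : IsOpen ({ratPt G 1} : Set G.left) := by
    have hfinC : (C : Set G.left).Finite := (hfin.image _).subset hCsub
    have hcl : IsClosed ((C : Set G.left) \ {ratPt G 1}) := by
      rw [← Set.biUnion_of_singleton ((C : Set G.left) \ {ratPt G 1})]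
      refine hfinC.diff.isClosed_biUnion fun z hz => ?_
      obtain ⟨v, -, rfl⟩ := hCsub hz.1
      exact isClosed_ratPt G v
    have : ({ratPt G 1} : Set G.left) = (C : Set G.left) ∩ ((C : Set G.left) \ {ratPt G 1})ᶜ := by
      ext z
      constructor
      · rintro rfl
        exact ⟨by rw [ratPt_one]; exact heC, fun h => h.2 rfl⟩
      · rintro ⟨h1, h2⟩
        by_contra h
        exact h2 ⟨h1, h⟩
    rw [this]
    exact C.2.inter hcl.isOpen_compl
  have hopen : ∀ v, IsOpen ({ratPt G v} : Set G.left) := by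
    intro v
    let t : G ⟶ G := 𝟙 G * (toUnit G ≫ v⁻¹)
    let t' : G ⟶ G := 𝟙 G * (toUnit G ≫ v)
    have ht : t ≫ t' = 𝟙 G := by
      simp only [t', MonObj.comp_mul, Category.comp_id]
      rw [← Category.assoc, toUnit_unique (t ≫ toUnit G) (toUnit G)]
      simp only [t, _root_.mul_assoc, GrpObj.comp_inv, inv_mul_cancel, _root_.mul_one]
    have htv : t.left (ratPt G v) = ratPt G 1 := by
      rw [← ratPt_comp]
      congr 1
      simp only [t, MonObj.comp_mul, Category.comp_id]
      rw [← Category.assoc, toUnit_unique (v ≫ toUnit G) (𝟙 _), Category.id_comp, mul_inv_cancel]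
    have : ({ratPt G v} : Set G.left) = t.left ⁻¹' {ratPt G 1} := by
      ext z
      refine ⟨fun h => h ▸ htv, fun h => ?_⟩
      have hid : ∀ y, t'.left (t.left y) = y := fun y => by
        rw [← Scheme.Hom.comp_apply, ← Over.comp_left, ht]; rfl
      rw [Set.mem_singleton_iff, ← hid z, h, ← htv, hid]
    rw [this]
    exact hopen_e.preimage t.left.continuous
  obtain ⟨w, hw⟩ := exists_ratPt_mem G ⟨connectedComponent x, isOpen_connectedComponent⟩
    (x := x) mem_connectedComponent
  have hcc : connectedComponent (ratPt G w) = {ratPt G w} :=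
    Set.Subset.antisymm ((isPreconnected_connectedComponent).subset_isClopen
      ⟨isClosed_ratPt G w, hopen w⟩ ⟨_, mem_connectedComponent, rfl⟩)
      (Set.singleton_subset_iff.mpr mem_connectedComponent)
  have hx : x ∈ connectedComponent (ratPt G w) := by
    rw [← connectedComponent_eq hw]; exact mem_connectedComponent
  rw [hcc] at hx
  rw [hx]
  exact hopen w

end Groth.Agent.H19Grp
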