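import Mathlib
import Groth.Agent.H19Grp.PointsDense
import Groth.Agent.H19Grp.SepFG

/-! Identities between morphisms out of smooth schemes may be checked on points in a separably
closed extension. -/

set_option autoImplicit false
set_option linter.style.haveILetI false
set_option backward.isDefEq.respectTransparency false

universe u

open CategoryTheory CategoryTheory.Limits MonoidalCategory CartesianMonoidalCategory MonObj AlgebraicGeometry

namespace Groth.Agent.H19Grp.PointsDense

theorem exists_preimage {S : Scheme.{u}} {W G H : Over S} (i : H ⟶ G) [IsClosedImmersion i.left]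
    (f : W ⟶ G) : ∃ (P : Over S) (c : P ⟶ W) (p : P ⟶ H), IsClosedImmersion c.left ∧ p ≫ i = c ≫ f ∧
      ∀ (T : Over S) (w : T ⟶ W) (h : T ⟶ H), h ≫ i = w ≫ f → ∃ q : T ⟶ P, q ≫ c = w := by
  refine ⟨Over.mk (pullback.fst f.left i.left ≫ W.hom), Over.homMk (pullback.fst f.left i.left) rfl,
    Over.homMk (pullback.snd f.left i.left) ?_, ?_, ?_, fun T w h e => ⟨Over.homMk
      (pullback.lift w.left h.left (congrArg CommaMorphism.left e.symm)) ?_, ?_⟩⟩
  · show pullback.snd f.left i.left ≫ H.hom = pullback.fst f.left i.left ≫ W.hom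
    rw [← Over.w f, ← Over.w i, pullback.condition_assoc]
  · show IsClosedImmersion (pullback.fst f.left i.left)
    infer_instance
  · ext
    exact pullback.condition.symm
  · show pullback.lift _ _ _ ≫ pullback.fst f.left i.left ≫ W.hom = T.hom
    rw [pullback.lift_fst_assoc, Over.w w]
  · ext
    exact pullback.lift_fst _ _ _

variable {k K : Type u} [Field k] [Field K] [Algebra k K]

theorem isSeparated_grp (G : Over (Spec (CommRingCat.of k))) [GrpObj G] : IsSeparated G.hom := by
  haveI : Subsingleton (Spec (CommRingCat.of k)) := subsingleton_spec_field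
  exact (isSeparated_iff_isClosedImmersion_one G).mpr
    (isClosedImmersion_section_of_subsingleton G.hom (η[G]).left (Over.w η[G]))

variable [IsSepClosed K]

theorem isIso_of_points {W P : Over (Spec (CommRingCat.of k))} [Smooth W.hom] (c : P ⟶ W)
    [IsClosedImmersion c.left]
    (h : ∀ w : Over.mk (Spec.map (CommRingCat.ofHom (algebraMap k K))) ⟶ W,
      ∃ p : Over.mk (Spec.map (CommRingCat.ofHom (algebraMap k K))) ⟶ P, p ≫ c = w) : IsIso c := by
  haveI : IsIso ((Over.forget _).map (ρ_ W).inv) := Functor.map_isIso _ _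
  haveI : IsClosedImmersion (c ≫ (ρ_ W).inv).left := by
    rw [Over.comp_left]
    haveI : IsIso (ρ_ W).inv.left := ‹_›
    infer_instance
  have := isIso_of_points_factor (K := K) (c ≫ (ρ_ W).inv) fun g => by
    obtain ⟨p, hp⟩ := h g
    refine ⟨fst _ _ ≫ p, ?_⟩
    rw [Category.assoc, ← Category.assoc p, hp, ← cancel_mono (ρ_ W).hom, Category.assoc, Category.assoc,
      Iso.inv_hom_id, Category.comp_id, rightUnitor_hom, lift_fst]
  exact IsIso.of_isIso_comp_right c (ρ_ W).inv

/-- A morphism from a smooth scheme factors through a closed subscheme when its points do. -/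
theorem exists_factor {W G H : Over (Spec (CommRingCat.of k))} [Smooth W.hom] (i : H ⟶ G)
    [IsClosedImmersion i.left] (f : W ⟶ G)
    (h : ∀ w : Over.mk (Spec.map (CommRingCat.ofHom (algebraMap k K))) ⟶ W,
      ∃ h' : Over.mk (Spec.map (CommRingCat.ofHom (algebraMap k K))) ⟶ H, h' ≫ i = w ≫ f) :
    ∃ f' : W ⟶ H, f' ≫ i = f := by
  obtain ⟨P, c, p, hc, hp, huniv⟩ := exists_preimage i f
  haveI := isIso_of_points (K := K) c fun w => by
    obtain ⟨h', e⟩ := h w
    exact huniv _ w h' e
  exact ⟨inv c ≫ p, by rw [Category.assoc, hp, IsIso.inv_hom_id_assoc]⟩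

/-- Morphisms from a smooth scheme to a separated one agree when they agree on points. -/
theorem hom_eq {W G : Over (Spec (CommRingCat.of k))} [Smooth W.hom] [IsSeparated G.hom] (f g : W ⟶ G)
    (h : ∀ w : Over.mk (Spec.map (CommRingCat.ofHom (algebraMap k K))) ⟶ W, w ≫ f = w ≫ g) : f = g := by
  haveI : IsClosedImmersion (lift (𝟙 G) (𝟙 G)).left := by
    have e : (lift (𝟙 G) (𝟙 G)).left = pullback.diagonal G.hom := by
      rw [Over.lift_left]; ext <;> simp
    rw [e]; infer_instance
  obtain ⟨f', hf'⟩ := exists_factor (K := K) (lift (𝟙 G) (𝟙 G)) (lift f g) fun w =>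
    ⟨w ≫ f, by rw [comp_lift, comp_lift, Category.comp_id, ← h w]⟩
  have h1 := congrArg (· ≫ fst G G) hf'
  have h2 := congrArg (· ≫ snd G G) hf'
  simp only [Category.assoc, lift_fst, lift_snd, Category.comp_id] at h1 h2
  rw [← h1, h2]

theorem smooth_tensor (X Y : Over (Spec (CommRingCat.of k))) [Smooth X.hom] [Smooth Y.hom] :
    Smooth (X ⊗ Y).hom := by
  show Smooth (pullback.fst X.hom Y.hom ≫ X.hom)
  infer_instance

end Groth.Agent.H19Grp.PointsDense
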