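import Mathlib
import Groth.Prelude.Def_AlgGrp
import Groth.Agent.H19Grp.PointsEq

/-! The kernel square of a homomorphism; points which lift to a closed subscheme after a cover. -/

set_option autoImplicit false
set_option linter.style.haveILetI false
set_option backward.isDefEq.respectTransparency false

universe u

open CategoryTheory CategoryTheory.Limits MonoidalCategory CartesianMonoidalCategory MonObj AlgebraicGeometry

namespace Groth.Agent.H19Grp

variable {S : Scheme.{u}} {G H N : Over S}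

theorem isPullback_kernel [GrpObj G] [GrpObj H] (φ : G ⟶ H) [IsMonHom φ] (i : N ⟶ G)
    (hN : AlgGrp.IsKernel i φ) : IsPullback (fst G N) (fst G N * (snd G N ≫ i)) φ φ := by
  have hi : ∀ {T : Over S} (n : T ⟶ N), (n ≫ i) ≫ φ = 1 := fun {T} n => by
    rw [Category.assoc, hN.w, ← Category.assoc, toUnit_unique (n ≫ toUnit N) (toUnit T), ← Hom.one_def]
  have hw : fst G N ≫ φ = (fst G N * (snd G N ≫ i)) ≫ φ := by
    rw [MonObj.mul_comp, hi, _root_.mul_one]
  refine ⟨⟨hw⟩, ⟨PullbackCone.isLimitAux' _ fun s => ?_⟩⟩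
  have hs : (s.fst⁻¹ * s.snd) ≫ φ = toUnit s.pt ≫ η[H] := by
    rw [MonObj.mul_comp, GrpObj.inv_comp, s.condition, inv_mul_cancel, Hom.one_def]
  let n := hN.lift (s.fst⁻¹ * s.snd) (toUnit s.pt) hs
  have hn : n ≫ i = s.fst⁻¹ * s.snd := hN.lift_fst _ _ _
  refine ⟨lift s.fst n, lift_fst _ _, ?_, fun {m} h₁ h₂ => ?_⟩
  · show lift s.fst n ≫ (fst G N * (snd G N ≫ i)) = s.snd
    rw [MonObj.comp_mul, lift_fst, ← Category.assoc, lift_snd, hn, mul_inv_cancel_left]
  · apply CartesianMonoidalCategory.hom_ext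
    · rw [lift_fst]; exact h₁
    · rw [lift_snd]
      have h₁' : m ≫ fst G N = s.fst := h₁
      have h₂' : m ≫ (fst G N * (snd G N ≫ i)) = s.snd := h₂
      rw [MonObj.comp_mul, h₁', ← Category.assoc] at h₂'
      refine hN.hom_ext ?_ (toUnit_unique _ _)
      rw [hn, ← h₂', inv_mul_cancel_left]

/-- A point which lifts to a closed subscheme after a flat surjective quasi-compact cover lifts. -/
theorem exists_lift_of_cover {H G T T' : Over S} (i : H ⟶ G) [IsClosedImmersion i.left] (g : T ⟶ G)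
    (π : T' ⟶ T) [Flat π.left] [Surjective π.left] [QuasiCompact π.left] (h' : T' ⟶ H)
    (e : h' ≫ i = π ≫ g) : ∃ h : T ⟶ H, h ≫ i = g := by
  obtain ⟨P, c, p, hc, hp, hu⟩ := PointsDense.exists_preimage i g
  obtain ⟨q, hq⟩ := hu T' π h' e
  have hiso : IsIso (pullback.snd c.left π.left) := by
    haveI : IsSplitEpi (pullback.snd c.left π.left) := ⟨⟨⟨pullback.lift q.left (𝟙 _) (by
      rw [Category.id_comp, ← Over.comp_left, hq]), pullback.lift_snd _ _ _⟩⟩⟩
    exact isIso_of_mono_of_isSplitEpi _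
  haveI : IsIso c.left := MorphismProperty.of_pullback_snd_of_descendsAlong
    (P := MorphismProperty.isomorphisms Scheme.{u}) (Q := @Surjective ⊓ @Flat ⊓ @QuasiCompact)
    (f := c.left) (g := π.left) ⟨⟨inferInstance, inferInstance⟩, inferInstance⟩ hiso
  haveI : IsIso ((Over.forget S).map c) := ‹_›
  haveI : IsIso c := isIso_of_reflects_iso c (Over.forget S)
  exact ⟨inv c ≫ p, by rw [Category.assoc, hp, IsIso.inv_hom_id_assoc]⟩

end Groth.Agent.H19Grp
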