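import Groth.Agent.H19Grp.NeutralConstr
import Groth.Agent.H28Top.Noeth
import Groth.Agent.H13Flat.SmoothDescent

/-!
# The neutral component as an open subgroup scheme
-/

set_option autoImplicit false
set_option linter.style.haveILetI false
set_option backward.isDefEq.respectTransparency false

universe u

open CategoryTheory Limits MonoidalCategory CartesianMonoidalCategory MonObj GrpObj AlgebraicGeometry
open Topology

namespace Groth.Agent.H19Grp

variable {S : Scheme.{u}} (G : Over S) [GrpObj G]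

theorem inv_one_apply (s : S) : ι[G].left (η[G].left s) = η[G].left s := by
  have h : η[G] ≫ ι[G] = η[G] := by
    have h1 : η[G] = (1 : 𝟙_ (Over S) ⟶ G) := by
      rw [Hom.one_def, toUnit_unit, Category.id_comp]
    rw [h1, ← Hom.inv_def, inv_one]
  exact congrArg (fun m : 𝟙_ (Over S) ⟶ G => m.left s) h

theorem inv_mem_neutralSet {x : G.left} (hx : x ∈ SGA3x.neutralSet G) :
    ι[G].left x ∈ SGA3x.neutralSet G := by
  rw [mem_neutralSet_iff] at hx ⊢
  have hw : ∀ y, G.hom (ι[G].left y) = G.hom y := fun y =>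
    congrArg (fun m : G.left ⟶ S => m y) (Over.w ι[G])
  rw [hw]
  refine ((isPreconnected_connectedComponentIn (x := η[G].left (G.hom x))).image _
    ι[G].left.continuous.continuousOn).subset_connectedComponentIn ?_ ?_ ⟨x, hx, rfl⟩
  · exact ⟨_, mem_connectedComponentIn (hom_one_apply G _), inv_one_apply G _⟩
  · rintro _ ⟨y, hy, rfl⟩
    exact (hw y).trans (connectedComponentIn_subset (G.hom ⁻¹' {G.hom x}) (η[G].left (G.hom x)) hy)

/-- A monomorphism through which the unit, the multiplication and the inverse factor is a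
subgroup. -/
theorem exists_grpObj_of_mono {Z : Over S} (i : Z ⟶ G) [Mono i] (e₀ : 𝟙_ (Over S) ⟶ Z)
    (he₀ : e₀ ≫ i = η[G]) (m₀ : Z ⊗ Z ⟶ Z) (hm₀ : m₀ ≫ i = (i ⊗ₘ i) ≫ μ[G]) (i₀ : Z ⟶ Z)
    (hi₀ : i₀ ≫ i = i ≫ ι[G]) : ∃ (_ : GrpObj Z), IsMonHom i := by
  have key : ∀ {T : Over S} (f : T ⟶ Z ⊗ Z),
      f ≫ m₀ ≫ i = (f ≫ fst _ _ ≫ i) * (f ≫ snd _ _ ≫ i) := by
    intro T f
    rw [hm₀, Hom.mul_def, ← Category.assoc]
    congr 1
    apply CartesianMonoidalCategory.hom_ext <;> simp
  have hone : ∀ {T : Over S} (f : T ⟶ 𝟙_ _), f ≫ e₀ ≫ i = (1 : T ⟶ G) := by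
    intro T f
    rw [he₀, Hom.one_def, Subsingleton.elim f (toUnit T)]
  let inst : GrpObj Z :=
    { one := e₀, mul := m₀, inv := i₀
      one_mul := by
        rw [← cancel_mono i, Category.assoc, key, ← Category.assoc, ← Category.assoc,
          whiskerRight_fst, Category.assoc, Category.assoc, whiskerRight_snd_assoc,
          hone, _root_.one_mul, leftUnitor_hom]
      mul_one := by
        rw [← cancel_mono i, Category.assoc, key, whiskerLeft_fst_assoc,
          whiskerLeft_snd_assoc, hone, _root_.mul_one, rightUnitor_hom]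
      mul_assoc := by
        rw [← cancel_mono i]
        simp only [Category.assoc, key, whiskerRight_fst_assoc, whiskerRight_snd_assoc,
          whiskerLeft_fst_assoc, whiskerLeft_snd_assoc, MonObj.comp_mul, associator_hom_fst_assoc,
          associator_hom_snd_fst_assoc, associator_hom_snd_snd_assoc, _root_.mul_assoc]
      left_inv := by
        rw [← cancel_mono i, Category.assoc, key, lift_fst_assoc, lift_snd_assoc,
          Category.assoc, hone, hi₀, Category.id_comp, ← Hom.inv_def]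
        exact inv_mul_cancel i
      right_inv := by
        rw [← cancel_mono i, Category.assoc, key, lift_fst_assoc, lift_snd_assoc,
          Category.assoc, hone, hi₀, Category.id_comp, ← Hom.inv_def]
        exact mul_inv_cancel i }
  exact ⟨inst, @IsMonHom.mk _ _ _ _ _ inst.toMonObj _ _ he₀ hm₀⟩

/-- The neutral set as an open. -/
def neutralOpens (hN : IsOpen (SGA3x.neutralSet G)) : G.left.Opens := ⟨SGA3x.neutralSet G, hN⟩

/-- The open subscheme on the neutral set. -/
noncomputable def neutralOpen (hN : IsOpen (SGA3x.neutralSet G)) : Over S :=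
  Over.mk ((neutralOpens G hN).ι ≫ G.hom)

/-- Its inclusion. -/
noncomputable def neutralOpenι (hN : IsOpen (SGA3x.neutralSet G)) : neutralOpen G hN ⟶ G :=
  Over.homMk (neutralOpens G hN).ι rfl

variable (hN : IsOpen (SGA3x.neutralSet G))

instance : IsOpenImmersion (neutralOpenι G hN).left :=
  inferInstanceAs (IsOpenImmersion (neutralOpens G hN).ι)

instance : Mono (neutralOpenι G hN) := Over.mono_of_mono_left _

theorem range_neutralOpenι : Set.range (neutralOpenι G hN).left = SGA3x.neutralSet G :=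
  (neutralOpens G hN).range_ι

theorem neutralOpen_lift {T : Over S} (f : T ⟶ G) (h : Set.range f.left ⊆ SGA3x.neutralSet G) :
    ∃ g : T ⟶ neutralOpen G hN, g ≫ neutralOpenι G hN = f := by
  have h' : Set.range f.left ⊆ Set.range (neutralOpenι G hN).left := by
    rwa [range_neutralOpenι]
  refine ⟨Over.homMk (IsOpenImmersion.lift (neutralOpenι G hN).left f.left h') ?_,
    Over.OverMorphism.ext (IsOpenImmersion.lift_fac _ _ _)⟩
  rw [← Over.w (neutralOpenι G hN), IsOpenImmersion.lift_fac_assoc, Over.w f]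

theorem exists_grpObj_neutralOpen :
    ∃ (_ : GrpObj (neutralOpen G hN)), IsMonHom (neutralOpenι G hN) := by
  have hrange : ∀ {T : Over S} (f : T ⟶ neutralOpen G hN) (z : T.left),
      (f ≫ neutralOpenι G hN).left z ∈ SGA3x.neutralSet G := by
    intro T f z
    rw [← range_neutralOpenι G hN]
    exact ⟨f.left z, rfl⟩
  obtain ⟨e₀, he₀⟩ := neutralOpen_lift G hN η[G] (by
    rintro _ ⟨z, rfl⟩
    exact one_mem_neutralSet G z)
  obtain ⟨m₀, hm₀⟩ := neutralOpen_lift G hN ((neutralOpenι G hN ⊗ₘ neutralOpenι G hN) ≫ μ[G]) (by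
    rintro _ ⟨z, rfl⟩
    show μ[G].left ((neutralOpenι G hN ⊗ₘ neutralOpenι G hN).left z) ∈ _
    apply mul_mem_neutralSet
    · rw [← Scheme.Hom.comp_apply, ← Over.comp_left, tensorHom_fst]
      exact hrange _ z
    · rw [← Scheme.Hom.comp_apply, ← Over.comp_left, tensorHom_snd]
      exact hrange _ z)
  obtain ⟨i₀, hi₀⟩ := neutralOpen_lift G hN (neutralOpenι G hN ≫ ι[G]) (by
    rintro _ ⟨z, rfl⟩
    exact inv_mem_neutralSet G (by rw [← range_neutralOpenι G hN]; exact ⟨z, rfl⟩))
  exact exists_grpObj_of_mono G _ e₀ he₀ m₀ hm₀ i₀ hi₀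

theorem quasiCompact_neutralOpen (V : G.left.Opens) (hV : ∀ s, η[G].left s ∈ V)
    (hfin : LocallyOfFinitePresentation G.hom ∨ Smooth (V.ι ≫ G.hom)) :
    QuasiCompact (neutralOpen G hN).hom := by
  choose W hsW hW P hP m K hm hK hrange hmK hs using fun s => exists_neutral_model' G V hV hfin s
  refine (IsZariskiLocalAtTarget.iff_of_iSup_eq_top (P := @QuasiCompact) W
    (eq_top_iff.mpr fun x _ => TopologicalSpace.Opens.mem_iSup.mpr ⟨x, hsW x⟩)).mpr fun s => ?_
  haveI : IsAffine (W s).toScheme := hW s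
  haveI := hP s
  rw [quasiCompact_iff_compactSpace]
  refine isCompact_iff_compactSpace.mp ?_
  rw [(neutralOpenι G hN).left.isOpenEmbedding.isInducing.isCompact_iff]
  have hcK : IsCompact (K s) :=
    (H28Top.isRetrocompact_of_isConstructible (hK s)).isCompact
  convert hcK.image (m s).continuous using 1
  rw [hmK]
  ext x
  constructor
  · rintro ⟨z, hz, rfl⟩
    exact ⟨(range_neutralOpenι G hN).le ⟨z, rfl⟩,
      show G.hom ((neutralOpenι G hN).left z) ∈ W s from hz⟩
  · rintro ⟨hx, hxW⟩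
    obtain ⟨z, rfl⟩ := (range_neutralOpenι G hN).ge hx
    exact ⟨z, hxW, rfl⟩

section smooth

variable (V : G.left.Opens)
  (hV : ∀ s, η[G].left s ∈ V) (hsm : Smooth (V.ι ≫ G.hom))

include hV hsm in
theorem isOpen_neutralSet_of_smooth : IsOpen (SGA3x.neutralSet G) := by
  rw [isOpen_iff_forall_mem_open]
  intro x hx
  obtain ⟨W, hsW, hW, P, hP, m, K, hm, hK, hrange, hmK, hs⟩ :=
    exists_neutral_model' G V hV (Or.inr hsm) (G.hom x)
  obtain ⟨hms, -, hKo⟩ := hs hsm
  refine ⟨m '' K, hmK.le.trans Set.inter_subset_left, m.isOpenMap _ hKo, ?_⟩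
  rw [hmK]
  exact ⟨hx, hsW⟩

include hV hsm in
theorem smooth_neutralOpen : Smooth (neutralOpen G hN).hom := by
  refine H13Flat.smooth_of_fppf_covering _ fun z => ?_
  let x := (neutralOpenι G hN).left z
  obtain ⟨W, hsW, hW, P, hP, m, K, hm, hK, hrange, hmK, hs⟩ :=
    exists_neutral_model' G V hV (Or.inr hsm) (G.hom x)
  obtain ⟨hms, hmh, hKo⟩ := hs hsm
  let O : P.Opens := ⟨K, hKo⟩
  have hsub : Set.range (O.ι ≫ m) ⊆ Set.range (neutralOpenι G hN).left := by
    rw [range_neutralOpenι]
    rintro _ ⟨k, rfl⟩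
    exact (hmK.le ⟨_, O.range_ι.le ⟨k, rfl⟩, rfl⟩).1
  let c := IsOpenImmersion.lift (neutralOpenι G hN).left (O.ι ≫ m) hsub
  have hc : c ≫ (neutralOpenι G hN).left = O.ι ≫ m := IsOpenImmersion.lift_fac _ _ _
  haveI := hms
  haveI := hmh
  haveI : Smooth (c ≫ (neutralOpenι G hN).left) := by rw [hc]; infer_instance
  haveI : Smooth c := MorphismProperty.of_postcomp (W := @Smooth) (W' := @IsOpenImmersion) c
    (neutralOpenι G hN).left inferInstance inferInstance
  refine ⟨O.toScheme, c, inferInstance, inferInstance, ?_, ?_⟩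
  · obtain ⟨k, hk, hkx⟩ : x ∈ m '' K := by
      rw [hmK]
      exact ⟨(range_neutralOpenι G hN).le ⟨z, rfl⟩, hsW⟩
    obtain ⟨k', rfl⟩ := O.range_ι.ge hk
    refine ⟨k', (neutralOpenι G hN).left.isOpenEmbedding.injective ?_⟩
    rw [← Scheme.Hom.comp_apply, hc]
    exact hkx
  · rw [← Over.w (neutralOpenι G hN), reassoc_of% hc]
    infer_instance

end smooth

end Groth.Agent.H19Grp
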