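import Groth.Agent.H19Grp.Basic
import Mathlib.AlgebraicGeometry.Sites.Fpqc
import Mathlib.CategoryTheory.Comma.Over.Pullback

/-!
# Descending homomorphisms along faithfully flat quotient maps
-/

universe u

open CategoryTheory CategoryTheory.Limits MonoidalCategory CartesianMonoidalCategory MonObj GrpObj
  AlgebraicGeometry

namespace Groth.Agent.H19Grp

variable {S : Scheme.{u}} {G N Q H X : Over S}

lemma existsUnique_desc_over (q : G ⟶ Q) [Flat q.left] [Surjective q.left] [QuasiCompact q.left]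
    (φ : G ⟶ H) (h : ∀ (T : Over S) (a b : T ⟶ G), a ≫ q = b ≫ q → a ≫ φ = b ≫ φ) :
    ∃ φ' : Q ⟶ H, q ≫ φ' = φ ∧ ∀ φ'' : Q ⟶ H, q ≫ φ'' = φ → φ'' = φ' := by
  have hcond : ∀ {Z : Scheme.{u}} (g₁ g₂ : Z ⟶ G.left), g₁ ≫ q.left = g₂ ≫ q.left →
      g₁ ≫ φ.left = g₂ ≫ φ.left := by
    intro Z g₁ g₂ hg
    have hb : g₂ ≫ G.hom = g₁ ≫ G.hom := by
      rw [← Over.w q, ← Category.assoc, ← hg, Category.assoc]
    exact congrArg (·.left) (h (Over.mk (g₁ ≫ G.hom)) (Over.homMk g₁ rfl) (Over.homMk g₂ hb)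
      (Over.OverMorphism.ext hg))
  let d := EffectiveEpi.desc q.left φ.left hcond
  have hd : q.left ≫ d = φ.left := EffectiveEpi.fac q.left φ.left hcond
  refine ⟨Over.homMk d ?_, Over.OverMorphism.ext hd, fun φ'' h'' => Over.OverMorphism.ext ?_⟩
  · rw [← cancel_epi q.left, ← Category.assoc, hd, Over.w, Over.w]
  · show φ''.left = d
    rw [← cancel_epi q.left, hd, ← Over.comp_left, h'']

lemma epi_over_of_fpqc (q : G ⟶ Q) [Flat q.left] [Surjective q.left] : Epi q :=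
  have := Flat.epi_of_flat_of_surjective q.left
  ⟨fun a b h => Over.OverMorphism.ext ((cancel_epi q.left).mp (congrArg (·.left) h))⟩

lemma epi_tensorHom_of_fpqc (q : G ⟶ Q) [Flat q.left] [Surjective q.left]
    (p : N ⟶ X) [Flat p.left] [Surjective p.left] : Epi (q ⊗ₘ p) := by
  have : Flat (q ⊗ₘ p).left := by
    rw [Over.tensorHom_left]
    exact MorphismProperty.pullbackMap (P := @Flat) (inferInstanceAs (Flat q.left))
      (inferInstanceAs (Flat p.left)) (Over.w q).symm (Over.w p).symm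
  have : Surjective (q ⊗ₘ p).left := by
    rw [Over.tensorHom_left]
    exact MorphismProperty.pullbackMap (P := @Surjective) (inferInstanceAs (Surjective q.left))
      (inferInstanceAs (Surjective p.left)) (Over.w q).symm (Over.w p).symm
  exact epi_over_of_fpqc _

/-- Points with the same image differ by a point of the kernel. -/
lemma exists_kernel_div [GrpObj G] [GrpObj Q] (q : G ⟶ Q) [IsMonHom q] {i : N ⟶ G}
    (hK : AlgGrp.IsKernel i q) {T : Over S} (a b : T ⟶ G) (hab : a ≫ q = b ≫ q) :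
    ∃ n : T ⟶ N, n ≫ i = a / b := by
  have h : (a / b) ≫ q = toUnit T ≫ η[Q] := by
    rw [GrpObj.div_comp, hab, div_self', Hom.one_def]
  exact ⟨hK.lift (a / b) (toUnit T) h, hK.lift_fst _ _ _⟩

/-- A homomorphism killing the kernel of a faithfully flat homomorphism descends. -/
lemma exists_monHom_desc [GrpObj G] [GrpObj Q] [GrpObj H] (q : G ⟶ Q) [IsMonHom q]
    [Flat q.left] [Surjective q.left] [QuasiCompact q.left] {i : N ⟶ G}
    (hK : AlgGrp.IsKernel i q) (φ : G ⟶ H) [IsMonHom φ] (hφ : i ≫ φ = toUnit N ≫ η[H]) :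
    ∃ φ' : Q ⟶ H, IsMonHom φ' ∧ q ≫ φ' = φ ∧ ∀ φ'' : Q ⟶ H, q ≫ φ'' = φ → φ'' = φ' := by
  have h : ∀ (T : Over S) (a b : T ⟶ G), a ≫ q = b ≫ q → a ≫ φ = b ≫ φ := by
    intro T a b hab
    obtain ⟨n, hn⟩ := exists_kernel_div q hK a b hab
    have h1 : (a / b) ≫ φ = 1 := by
      rw [← hn, Category.assoc, hφ, ← Hom.one_def, MonObj.comp_one]
    rwa [GrpObj.div_comp, div_eq_one] at h1
  obtain ⟨φ', hfac, huniq⟩ := existsUnique_desc_over q φ h
  refine ⟨φ', ⟨?_, ?_⟩, hfac, huniq⟩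
  · rw [← IsMonHom.one_hom (f := q), Category.assoc, hfac, IsMonHom.one_hom]
  · have := epi_tensorHom_of_fpqc q q
    rw [← cancel_epi (q ⊗ₘ q), ← IsMonHom.mul_hom_assoc, hfac, tensorHom_comp_tensorHom_assoc,
      hfac, IsMonHom.mul_hom]

end Groth.Agent.H19Grp
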