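import Mathlib
import Groth.Prelude.Def_AGF
import Groth.Agent.H19Grp.Quotient

/-! Descent of morphisms along orbit maps of quotients. -/

set_option autoImplicit false
set_option linter.style.haveILetI false
set_option backward.isDefEq.respectTransparency false

universe u

open CategoryTheory CategoryTheory.Limits MonoidalCategory CartesianMonoidalCategory MonObj AlgebraicGeometry

namespace Groth.Agent.H19Grp.QuotientDesc

variable {S : Scheme.{u}} {G H X Z Q T : Over S}

theorem existsUnique_desc (q : G ⟶ Q) [Flat q.left] [Surjective q.left] [LocallyOfFinitePresentation q.left]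
    (φ : G ⟶ Z) (h : ∀ (T : Over S) (a b : T ⟶ G), a ≫ q = b ≫ q → a ≫ φ = b ≫ φ) :
    ∃! φ' : Q ⟶ Z, q ≫ φ' = φ := by
  have hcond : ∀ {W : Scheme.{u}} (g₁ g₂ : W ⟶ G.left), g₁ ≫ q.left = g₂ ≫ q.left →
      g₁ ≫ φ.left = g₂ ≫ φ.left := by
    intro W g₁ g₂ hg
    have hb : g₂ ≫ G.hom = g₁ ≫ G.hom := by
      rw [← Over.w q, ← Category.assoc, ← hg, Category.assoc]
    exact congrArg (·.left) (h (Over.mk (g₁ ≫ G.hom)) (Over.homMk g₁ rfl) (Over.homMk g₂ hb)
      (Over.OverMorphism.ext hg))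
  let d := EffectiveEpi.desc q.left φ.left hcond
  have hd : q.left ≫ d = φ.left := EffectiveEpi.fac q.left φ.left hcond
  refine ⟨Over.homMk d ?_, Over.OverMorphism.ext hd, fun φ'' h'' => Over.OverMorphism.ext ?_⟩
  · rw [← cancel_epi q.left, ← Category.assoc, hd, Over.w, Over.w]
  · show φ''.left = d
    rw [← cancel_epi q.left, hd, ← Over.comp_left, h'']

theorem epi_whiskerLeft (G : Over S) (q : Q ⟶ X) [Flat q.left] [Surjective q.left] : Epi (G ◁ q) := by
  haveI : Flat (𝟙 G : G ⟶ G).left := by rw [Over.id_left]; infer_instance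
  haveI : Surjective (𝟙 G : G ⟶ G).left := by rw [Over.id_left]; infer_instance
  rw [← id_tensorHom]
  exact H19Grp.epi_tensorHom_of_fpqc _ _

variable [GrpObj G] (a : AlgGrp.Action G X) (o : 𝟙_ (Over S) ⟶ X)

theorem comp_orbitMap (g : T ⟶ G) : g ≫ a.orbitMap o = lift g (toUnit T ≫ o) ≫ a.act := by
  rw [AlgGrp.Action.orbitMap, ← Category.assoc, comp_lift, Category.comp_id, ← Category.assoc,
    toUnit_unique (g ≫ toUnit G) (toUnit T)]

theorem one_act (x : T ⟶ X) : lift (1 : T ⟶ G) x ≫ a.act = x := by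
  have h' := congrArg (lift (toUnit T) x ≫ ·) a.one_act
  simp only [← Category.assoc, lift_whiskerRight] at h'
  rw [← Hom.one_def] at h'
  rw [h']
  simp

theorem mul_act (g g' : T ⟶ G) (x : T ⟶ X) :
    lift (g * g') x ≫ a.act = lift g (lift g' x ≫ a.act) ≫ a.act := by
  have h' := congrArg (lift (lift g g') x ≫ ·) a.mul_act
  simp only [← Category.assoc, lift_whiskerRight] at h'
  rw [← Hom.mul_def] at h'
  rw [h']
  simp

theorem one_comp_orbitMap : (1 : T ⟶ G) ≫ a.orbitMap o = toUnit T ≫ o := by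
  rw [comp_orbitMap, one_act]

theorem mul_comp_orbitMap (g g' : T ⟶ G) :
    (g * g') ≫ a.orbitMap o = lift g (g' ≫ a.orbitMap o) ≫ a.act := by
  rw [comp_orbitMap, comp_orbitMap, mul_act]

theorem comp_orbitMap_eq_iff [GrpObj H] (i : H ⟶ G) (hX : AGF.IsQuotient i X a o) (g g' : T ⟶ G) :
    g ≫ a.orbitMap o = g' ≫ a.orbitMap o ↔ ∃ h : T ⟶ H, g' = g * (h ≫ i) := by
  have hμ : (G ◁ i) ≫ μ[G] = fst G H * (snd G H ≫ i) := by
    rw [Hom.mul_def]
    congr 1
  have hpb := hX.2.2.2
  rw [hμ] at hpb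
  constructor
  · intro e
    refine ⟨hpb.lift g g' e ≫ snd G H, ?_⟩
    have h₁ := hpb.lift_fst g g' e
    have h₂ := hpb.lift_snd g g' e
    rw [MonObj.comp_mul, h₁] at h₂
    rw [Category.assoc]
    exact h₂.symm
  · rintro ⟨h, rfl⟩
    have := congrArg (lift g h ≫ ·) hpb.w
    simpa [MonObj.comp_mul, ← Category.assoc, lift_fst, lift_snd] using this

/-- The universal property of a quotient. -/
theorem existsUnique_of_isQuotient [GrpObj H] (i : H ⟶ G) (hX : AGF.IsQuotient i X a o)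
    [LocallyOfFinitePresentation (a.orbitMap o).left] (φ : G ⟶ Z)
    (h : ∀ (T : Over S) (g : T ⟶ G) (h : T ⟶ H), (g * (h ≫ i)) ≫ φ = g ≫ φ) :
    ∃! f : X ⟶ Z, a.orbitMap o ≫ f = φ := by
  haveI := hX.2.1
  haveI := hX.2.2.1
  refine existsUnique_desc (a.orbitMap o) φ fun T g g' e => ?_
  obtain ⟨x, rfl⟩ := (comp_orbitMap_eq_iff a o i hX g g').1 e
  exact (h T g x).symm

/-- A morphism of orbit maps is equivariant. -/
theorem equivariant_of_orbitMap {X' : Over S} (a' : AlgGrp.Action G X') (o' : 𝟙_ (Over S) ⟶ X')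
    [Flat (a.orbitMap o).left] [Surjective (a.orbitMap o).left]
    (f : X ⟶ X') (hf : a.orbitMap o ≫ f = a'.orbitMap o') : (G ◁ f) ≫ a'.act = a.act ≫ f := by
  haveI := epi_whiskerLeft G (a.orbitMap o)
  rw [← cancel_epi (G ◁ a.orbitMap o), ← Category.assoc, ← whiskerLeft_comp, hf]
  have h1 : (G ◁ a'.orbitMap o') ≫ a'.act = (fst G G * snd G G) ≫ a'.orbitMap o' := by
    rw [mul_comp_orbitMap]
    congr 1
  have h2 : (G ◁ a.orbitMap o) ≫ a.act = (fst G G * snd G G) ≫ a.orbitMap o := by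
    rw [mul_comp_orbitMap]
    congr 1
  rw [h1, ← Category.assoc, h2, Category.assoc, hf]

theorem lfp_orbitMap {k : Type u} [Field k] {G X : Over (Spec (CommRingCat.of k))} [GrpObj G]
    [LocallyOfFiniteType G.hom] [LocallyOfFiniteType X.hom] (a : AlgGrp.Action G X)
    (o : 𝟙_ (Over (Spec (CommRingCat.of k))) ⟶ X) : LocallyOfFinitePresentation (a.orbitMap o).left := by
  haveI : IsLocallyNoetherian X.left := LocallyOfFiniteType.isLocallyNoetherian X.hom
  haveI : LocallyOfFiniteType ((a.orbitMap o).left ≫ X.hom) := by rw [Over.w]; infer_instance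
  haveI : LocallyOfFiniteType (a.orbitMap o).left := locallyOfFiniteType_of_comp _ X.hom
  infer_instance

end Groth.Agent.H19Grp.QuotientDesc
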