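import Mathlib
import Groth.Agent.H19Grp.FlatMonoFactor
import Groth.Agent.H19Grp.QuotientDesc
import Groth.Agent.H19Grp.KernelSquare
import Groth.Agent.H19Grp.Kernel
import Groth.Agent.H19Grp.ArtinHom
import Groth.Agent.H19Grp.NeutralOpen
import Groth.Agent.S5938

/-!
Image factorisation of homomorphisms of group schemes over Artinian local rings: a quasi-compact homomorphism
with flat kernel and flat source is faithfully flat followed by a closed immersion.
-/

set_option autoImplicit false
set_option maxHeartbeats 1000000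
set_option linter.style.haveILetI false
set_option backward.isDefEq.respectTransparency false

universe u

open CategoryTheory CategoryTheory.Limits MonoidalCategory CartesianMonoidalCategory MonObj GrpObj
  AlgebraicGeometry

namespace Groth.Agent.H19Grp.ImageFactor

/-- Quasi-compactness descends along surjective precomposition. -/
theorem quasiCompact_of_comp_surjective {X Y Z : Scheme.{u}} (g : X ⟶ Y) (i : Y ⟶ Z) [Surjective g]
    [QuasiCompact (g ≫ i)] : QuasiCompact i := by
  refine ⟨fun U hU hUc => ?_⟩
  have h := ((g ≫ i).isCompact_preimage (U := ⟨U, hU⟩) hUc).image g.continuous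
  convert h using 1
  show i ⁻¹' U = g '' (g ⁻¹' (i ⁻¹' U))
  rw [Set.image_preimage_eq _ g.surjective]

variable {S : Scheme.{u}}

theorem tensorHom_fppf {G Q : Over S} (g : G ⟶ Q) [Flat g.left] [Surjective g.left]
    [LocallyOfFinitePresentation g.left] :
    Flat (g ⊗ₘ g).left ∧ Surjective (g ⊗ₘ g).left ∧ LocallyOfFinitePresentation (g ⊗ₘ g).left :=
  ⟨MorphismProperty.pullbackMap (P := @Flat) (inferInstanceAs (Flat g.left))
      (inferInstanceAs (Flat g.left)) (Over.w g).symm (Over.w g).symm,
    MorphismProperty.pullbackMap (P := @Surjective) (inferInstanceAs (Surjective g.left))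
      (inferInstanceAs (Surjective g.left)) (Over.w g).symm (Over.w g).symm,
    MorphismProperty.pullbackMap (P := @LocallyOfFinitePresentation) (inferInstanceAs (LocallyOfFinitePresentation g.left))
      (inferInstanceAs (LocallyOfFinitePresentation g.left)) (Over.w g).symm (Over.w g).symm⟩

/-- Group structure on the middle of a factorisation of a homomorphism into fppf followed by mono. -/
theorem exists_grpObj_image {G Q H : Over S} [GrpObj G] [GrpObj H] (g : G ⟶ Q) (i : Q ⟶ H)
    [Flat g.left] [Surjective g.left] [LocallyOfFinitePresentation g.left] [Mono i] [IsMonHom (g ≫ i)] :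
    ∃ _ : GrpObj Q, IsMonHom i ∧ IsMonHom g := by
  obtain ⟨_, _, _⟩ := tensorHom_fppf g
  obtain ⟨m₀, hm₀, -⟩ := H19Grp.QuotientDesc.existsUnique_desc (g ⊗ₘ g) (μ[G] ≫ g) fun T a b hab => by
    rw [← cancel_mono i, Category.assoc, Category.assoc, Category.assoc, Category.assoc,
      IsMonHom.mul_hom (g ≫ i), ← tensorHom_comp_tensorHom, Category.assoc, reassoc_of% hab]
  obtain ⟨i₀, hi₀, -⟩ := H19Grp.QuotientDesc.existsUnique_desc g (ι[G] ≫ g) fun T a b hab => by
    rw [← cancel_mono i, Category.assoc, Category.assoc, Category.assoc, Category.assoc,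
      GrpObj.inv_hom (g ≫ i), Category.assoc, reassoc_of% hab]
  haveI : Epi (g ⊗ₘ g) := (Over.forget S).epi_of_epi_map (inferInstanceAs (Epi (g ⊗ₘ g).left))
  haveI : Epi g := (Over.forget S).epi_of_epi_map (inferInstanceAs (Epi g.left))
  have hm : m₀ ≫ i = (i ⊗ₘ i) ≫ μ[H] := by
    rw [← cancel_epi (g ⊗ₘ g), reassoc_of% hm₀, ← Category.assoc (g ⊗ₘ g), tensorHom_comp_tensorHom,
      IsMonHom.mul_hom (g ≫ i)]
  have hi : i₀ ≫ i = i ≫ ι[H] := by
    rw [← cancel_epi g, reassoc_of% hi₀, GrpObj.inv_hom (g ≫ i), Category.assoc]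
  obtain ⟨gQ, hmi⟩ := exists_grpObj_of_mono H i (η[G] ≫ g)
    (by rw [Category.assoc, IsMonHom.one_hom (g ≫ i)]) m₀ hm i₀ hi
  haveI := hmi
  refine ⟨gQ, hmi, ⟨?_, ?_⟩⟩
  · rw [← cancel_mono i, Category.assoc, IsMonHom.one_hom (g ≫ i), IsMonHom.one_hom i]
  · rw [← cancel_mono i, Category.assoc, IsMonHom.mul_hom (g ≫ i), Category.assoc, IsMonHom.mul_hom i,
      ← Category.assoc, tensorHom_comp_tensorHom]

/-- If the kernel is flat over the base, so is the first projection of the kernel pair. -/
theorem flat_fst_of_flat_kernel {G H : Over S} [GrpObj G] [GrpObj H] (f : G ⟶ H) [IsMonHom f]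
    (hN : Flat (pullback.snd f.left (η[H]).left)) : Flat (pullback.fst f.left f.left) := by
  let N : Over S := Over.mk (pullback.snd f.left (η[H]).left)
  have hN' : pullback.fst f.left (η[H]).left ≫ G.hom = pullback.snd f.left (η[H]).left := by
    rw [← Over.w f, reassoc_of% (pullback.condition (f := f.left) (g := (η[H]).left)), Over.w η[H]]
    exact Category.comp_id _
  let j : N ⟶ G := Over.homMk (pullback.fst f.left (η[H]).left) hN'
  have hw : j ≫ f = toUnit N ≫ η[H] := Over.OverMorphism.ext pullback.condition
  have hker : AlgGrp.IsKernel j f := isKernel_of (by rw [hw, Hom.one_def])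
    (fun T a b h => Over.OverMorphism.ext (pullback.hom_ext (congrArg (·.left) h)
      ((Over.w a).trans (Over.w b).symm)))
    (fun T x hx => by
      refine ⟨Over.homMk (pullback.lift x.left T.hom ?_) ?_, ?_⟩
      · have := congrArg (·.left) hx
        rw [Hom.one_def] at this
        exact this
      · exact pullback.lift_snd _ _ _
      · exact Over.OverMorphism.ext (pullback.lift_fst _ _ _))
  have hpb := (isPullback_kernel f j hker).map (Over.forget _)
  haveI : Flat N.hom := hN
  have hflat : Flat (fst G N).left := inferInstanceAs (Flat (pullback.fst G.hom N.hom))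
  have h5 : hpb.isoPullback.inv ≫ (fst G N).left = pullback.fst f.left f.left := hpb.isoPullback_inv_fst
  rw [← h5]
  exact (MorphismProperty.cancel_left_of_respectsIso @Flat _ _).mpr hflat

/-- A quasi-compact homomorphism of groups locally of finite type over an Artinian local ring with flat kernel
factors as fppf followed by a closed immersion. -/
theorem exists_image_factor {A : Type u} [CommRing A] [IsArtinianRing A] [IsLocalRing A]
    (G H : Over (Spec (CommRingCat.of A))) [GrpObj G] [GrpObj H] [LocallyOfFiniteType G.hom] [LocallyOfFiniteType H.hom]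
    (u : G ⟶ H) [IsMonHom u] [QuasiCompact u.left]
    (hN : Flat (pullback.snd u.left (η[H] : 𝟙_ (Over (Spec (CommRingCat.of A))) ⟶ H).left)) :
    ∃ (C : Over (Spec (CommRingCat.of A))) (_ : GrpObj C) (p : G ⟶ C) (i : C ⟶ H), IsMonHom p ∧ IsMonHom i ∧ p ≫ i = u ∧
      Flat p.left ∧ Surjective p.left ∧ LocallyOfFinitePresentation p.left ∧ IsClosedImmersion i.left ∧
      LocallyOfFiniteType C.hom ∧ QuasiCompact p.left := by
  haveI : IsNoetherianRing (CommRingCat.of A) := inferInstanceAs (IsNoetherianRing A)
  haveI : IsLocallyNoetherian H.left := LocallyOfFiniteType.isLocallyNoetherian H.hom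
  haveI : LocallyOfFiniteType (u.left ≫ H.hom) := by rw [Over.w u]; infer_instance
  haveI : LocallyOfFiniteType u.left := locallyOfFiniteType_of_comp u.left H.hom
  haveI : LocallyOfFinitePresentation u.left := inferInstance
  obtain ⟨C₀, p₀, i₀, hs, hf, hfp, hmono, hfac⟩ :=
    FlatMonoFactor.exists_factor u.left (flat_fst_of_flat_kernel u hN)
  let C : Over (Spec (CommRingCat.of A)) := Over.mk (i₀ ≫ H.hom)
  let p : G ⟶ C := Over.homMk p₀ (by show p₀ ≫ i₀ ≫ H.hom = _; rw [reassoc_of% hfac]; exact Over.w u)
  let i : C ⟶ H := Over.homMk i₀ rfl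
  haveI : Mono i.left := hmono
  haveI : Mono i := (Over.forget _).mono_of_mono_map (inferInstanceAs (Mono i₀))
  haveI : Flat p.left := hf
  haveI : Surjective p.left := hs
  haveI : LocallyOfFinitePresentation p.left := hfp
  have hpi : p ≫ i = u := Over.OverMorphism.ext hfac
  haveI : IsMonHom (p ≫ i) := by rw [hpi]; infer_instance
  obtain ⟨gC, hmi, hmp⟩ := exists_grpObj_image p i
  haveI := hmi
  haveI : LocallyOfFiniteType C.hom := by
    haveI : LocallyOfFiniteType (p.left ≫ C.hom) := by rw [Over.w p]; infer_instance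
    exact S5938.result p.left C.hom
  haveI : QuasiCompact i.left := by
    haveI : QuasiCompact (p.left ≫ i.left) := by rw [← Over.comp_left, hpi]; infer_instance
    exact quasiCompact_of_comp_surjective p.left i.left
  haveI : IsClosedImmersion i.left := ArtinHom.isClosedImmersion_of_mono i
  haveI : QuasiCompact p.left := by
    haveI : QuasiCompact (p.left ≫ i.left) := by rw [← Over.comp_left, hpi]; infer_instance
    exact QuasiCompact.of_comp p.left i.left
  exact ⟨C, gC, p, i, hmp, hmi, hpi, inferInstance, inferInstance, inferInstance, inferInstance, inferInstance,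
    inferInstance⟩

/-- A quasi-compact schematically dominant homomorphism of algebraic groups over a field is faithfully flat. -/
theorem flat_surjective_of_ker_eq_bot {k : Type u} [Field k] {G H : Over (Spec (CommRingCat.of k))}
    [GrpObj G] [GrpObj H] [LocallyOfFiniteType G.hom] [LocallyOfFiniteType H.hom]
    (u : G ⟶ H) [IsMonHom u] [QuasiCompact u.left] (hdom : u.left.ker = ⊥) :
    Flat u.left ∧ Surjective u.left ∧ LocallyOfFinitePresentation u.left := by
  obtain ⟨C, gC, p, i, hp, hi, hpi, hf, hs, hfp, hcl, -, -⟩ :=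
    exists_image_factor G H u (by
      have h : ∀ {X : Scheme.{u}} (f : X ⟶ Spec (CommRingCat.of k)), Flat f := fun f => inferInstance
      exact h _)
  have hker : i.left.ker = ⊥ := by
    refine le_bot_iff.mp ?_
    rw [← hdom, ← hpi, Over.comp_left]
    exact p.left.le_ker_comp i.left
  haveI : IsIso i.left := IsClosedImmersion.isIso_iff_ker_eq_bot.mpr hker
  rw [← hpi, Over.comp_left]
  exact ⟨(MorphismProperty.cancel_right_of_respectsIso @Flat _ _).mpr hf,
    (MorphismProperty.cancel_right_of_respectsIso @Surjective _ _).mpr hs,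
    (MorphismProperty.cancel_right_of_respectsIso @LocallyOfFinitePresentation _ _).mpr hfp⟩

end Groth.Agent.H19Grp.ImageFactor
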