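import Groth.Agent.H20FF.SubHopf
import Groth.Agent.H20Comod.Basic
import Groth.Agent.H20Comod.Reynolds
import Groth.Agent.H20Comod.Invariants
import Groth.Agent.H20Comod.OrbitClosure
import Mathlib

/-!
# Rational points of commutative Hopf algebras of arbitrary size over an algebraically closed field
-/

set_option autoImplicit false
set_option linter.style.haveILetI false

universe u v w

open TensorProduct

namespace Groth.Agent.H19Grp.PointLift

open H20FF (IsHopfSub)

variable {k : Type u} [Field k] {A : Type v} [CommRing A] [HopfAlgebra k A]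

theorem isHopfSub_adjoin (s : Set A)
    (h1 : ∀ b ∈ s, CoalgebraStruct.comul (R := k) b ∈
      (Algebra.TensorProduct.map (Algebra.adjoin k s).val (Algebra.adjoin k s).val).range)
    (h2 : ∀ b ∈ s, HopfAlgebra.antipode k b ∈ Algebra.adjoin k s) :
    IsHopfSub (Algebra.adjoin k s) := by
  have e1 : Algebra.adjoin k s ≤
      (Algebra.TensorProduct.map (Algebra.adjoin k s).val (Algebra.adjoin k s).val).range.comap
        (Bialgebra.comulAlgHom k A) :=
    Algebra.adjoin_le fun b hb => h1 b hb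
  have e2 : Algebra.adjoin k s ≤ (Algebra.adjoin k s).comap (HopfAlgebra.antipodeAlgHom k A) :=
    Algebra.adjoin_le fun b hb => h2 b hb
  exact ⟨fun b hb => e1 hb, fun b hb => e2 hb⟩

theorem map_range_mono {C D : Subalgebra k A} (h : C ≤ D) :
    (Algebra.TensorProduct.map C.val C.val).range ≤ (Algebra.TensorProduct.map D.val D.val).range := by
  rintro _ ⟨z, rfl⟩
  refine ⟨Algebra.TensorProduct.map (Subalgebra.inclusion h) (Subalgebra.inclusion h) z, ?_⟩
  induction z using TensorProduct.induction_on with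
  | zero => simp
  | tmul p q => simp
  | add a b ha hb =>
    simp only [AlgHom.toRingHom_eq_coe, RingHom.coe_coe, map_add] at ha hb ⊢
    rw [ha, hb]

theorem isHopfSub_sup {C D : Subalgebra k A} (hC : IsHopfSub C) (hD : IsHopfSub D) :
    IsHopfSub (C ⊔ D) := by
  have e : C ⊔ D = Algebra.adjoin k ((C : Set A) ∪ D) := by
    rw [Algebra.adjoin_union, Algebra.adjoin_eq, Algebra.adjoin_eq]
  rw [e]
  refine isHopfSub_adjoin _ ?_ ?_
  · rintro b (hb | hb)
    · exact map_range_mono (by rw [← e]; exact le_sup_left) (hC.1 b hb)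
    · exact map_range_mono (by rw [← e]; exact le_sup_right) (hD.1 b hb)
  · rintro b (hb | hb)
    · exact Algebra.subset_adjoin (Or.inl (hC.2 b hb))
    · exact Algebra.subset_adjoin (Or.inr (hD.2 b hb))

theorem isHopfSub_iSup {ι : Type w} [Nonempty ι] (C : ι → Subalgebra k A) (hC : ∀ i, IsHopfSub (C i)) :
    IsHopfSub (⨆ i, C i) := by
  have e : (⨆ i, C i) = Algebra.adjoin k (⋃ i, (C i : Set A)) := by
    rw [Algebra.adjoin_iUnion]; simp [Algebra.adjoin_eq]
  rw [e]
  refine isHopfSub_adjoin _ ?_ ?_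
  · intro b hb
    obtain ⟨i, hi⟩ := Set.mem_iUnion.mp hb
    exact map_range_mono (by rw [← e]; exact le_iSup C i) ((hC i).1 b hi)
  · intro b hb
    obtain ⟨i, hi⟩ := Set.mem_iUnion.mp hb
    exact Algebra.subset_adjoin (Set.mem_iUnion.mpr ⟨i, (hC i).2 b hi⟩)

theorem exists_fg_hopfSub {s : Set A} (hs : s.Finite) :
    ∃ D : Subalgebra k A, IsHopfSub D ∧ D.FG ∧ s ⊆ D := by
  classical
  obtain ⟨B, hBf, hsB, hB⟩ := H20Comod.exists_finite_subcoalg k hs
  obtain ⟨g, hg⟩ : B.FG := Module.Finite.iff_fg.mp hBf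
  let t : Set A := (B : Set A) ∪ HopfAlgebra.antipode k '' (B : Set A)
  refine ⟨Algebra.adjoin k t, isHopfSub_adjoin t ?_ ?_, ?_, hsB.trans ((Set.subset_union_left).trans Algebra.subset_adjoin)⟩
  · rintro b (hb | ⟨c, hc, rfl⟩)
    · obtain ⟨z, hz⟩ := hB b hb
      refine ⟨TensorProduct.map
        ((Submodule.inclusion (show B ≤ (Algebra.adjoin k t).toSubmodule from
          fun x hx => Algebra.subset_adjoin (Or.inl hx))))
        ((Submodule.inclusion (show B ≤ (Algebra.adjoin k t).toSubmodule from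
          fun x hx => Algebra.subset_adjoin (Or.inl hx)))) z, ?_⟩
      rw [← hz]
      clear hz
      induction z using TensorProduct.induction_on with
      | zero => simp
      | tmul p q => rfl
      | add a b ha hb =>
        simp only [AlgHom.toRingHom_eq_coe, RingHom.coe_coe, map_add] at ha hb ⊢
        rw [ha, hb]
    · obtain ⟨z, hz⟩ := hB c hc
      let iS : B →ₗ[k] Algebra.adjoin k t :=
        ((HopfAlgebra.antipode k).comp B.subtype).codRestrict (Algebra.adjoin k t).toSubmodule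
          fun x => Algebra.subset_adjoin (Or.inr ⟨x, x.2, rfl⟩)
      refine ⟨TensorProduct.map iS iS (TensorProduct.comm k B B z), ?_⟩
      rw [H20Comod.comul_antipode, ← hz]
      clear hz
      induction z using TensorProduct.induction_on with
      | zero => simp
      | tmul p q => rfl
      | add a b ha hb =>
        simp only [AlgHom.toRingHom_eq_coe, RingHom.coe_coe, map_add] at ha hb ⊢
        rw [ha, hb]
  · rintro b (hb | ⟨c, hc, rfl⟩)
    · exact Algebra.subset_adjoin (Or.inr ⟨b, hb, rfl⟩)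
    · rw [H20Comod.antipode_antipode]
      exact Algebra.subset_adjoin (Or.inl hc)
  · refine ⟨g ∪ g.image (HopfAlgebra.antipode k), ?_⟩
    refine le_antisymm (Algebra.adjoin_mono ?_) (Algebra.adjoin_le ?_)
    · intro x hx
      simp only [Finset.coe_union, Finset.coe_image, Set.mem_union] at hx
      rcases hx with hx | ⟨y, hy, rfl⟩
      · exact Or.inl (hg ▸ Submodule.subset_span hx)
      · exact Or.inr ⟨y, hg ▸ Submodule.subset_span hy, rfl⟩
    · have hsub : ∀ y ∈ B, y ∈ Algebra.adjoin k (↑(g ∪ g.image (HopfAlgebra.antipode k)) : Set A) ∧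
          HopfAlgebra.antipode k y ∈ Algebra.adjoin k (↑(g ∪ g.image (HopfAlgebra.antipode k)) : Set A) := by
        intro y hy
        rw [← hg] at hy
        induction hy using Submodule.span_induction with
        | mem z hz =>
          exact ⟨Algebra.subset_adjoin (Finset.mem_union_left _ hz),
            Algebra.subset_adjoin (Finset.mem_union_right _ (Finset.mem_image_of_mem _ hz))⟩
        | zero => rw [map_zero]; exact ⟨zero_mem _, zero_mem _⟩
        | add a b _ _ ha hb => rw [map_add]; exact ⟨add_mem ha.1 hb.1, add_mem ha.2 hb.2⟩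
        | smul r a _ ha => rw [map_smul]; exact ⟨Subalgebra.smul_mem _ ha.1 r, Subalgebra.smul_mem _ ha.2 r⟩
      rintro y (hy | ⟨c, hc, rfl⟩)
      · exact (hsub y hy).1
      · exact (hsub c hc).2

variable [IsAlgClosed k]

/-- A point of a Hopf subalgebra extends after adjoining a finitely generated Hopf subalgebra. -/
theorem exists_extend_step {C D : Subalgebra k A} (hC : IsHopfSub C) (hD : D.FG) (f : C →ₐ[k] k) :
    ∃ g : (C ⊔ D : Subalgebra k A) →ₐ[k] k,
      ∀ (x : A) (hx : x ∈ C), g ⟨x, (le_sup_left : C ≤ C ⊔ D) hx⟩ = f ⟨x, hx⟩ := by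
  haveI : Module.FaithfullyFlat C A := H20FF.faithfullyFlat_subalgebra hC
  let m : Ideal C := RingHom.ker f
  haveI : m.IsMaximal := RingHom.ker_isMaximal_of_surjective f fun c => ⟨algebraMap k C c, f.commutes c⟩
  let I : Ideal A := m.map (algebraMap C A)
  have hI : I ≠ ⊤ := by
    intro h
    have := Ideal.comap_map_eq_self_of_faithfullyFlat (B := A) m
    rw [show Ideal.map (algebraMap C A) m = ⊤ from h, Ideal.comap_top] at this
    exact Ideal.IsMaximal.ne_top inferInstance this.symm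
  let π : A →ₐ[k] A ⧸ I := Ideal.Quotient.mkₐ k I
  have hπC : ∀ c : C, π (c : A) = algebraMap k (A ⧸ I) (f c) := by
    intro c
    have hmem : c - algebraMap k C (f c) ∈ m := by simp [m]
    have h0 : π ((c - algebraMap k C (f c) : C) : A) = 0 :=
      Ideal.Quotient.eq_zero_iff_mem.mpr (Ideal.mem_map_of_mem (algebraMap C A) hmem)
    rw [Subalgebra.coe_sub, map_sub, sub_eq_zero] at h0
    rw [h0]
    exact π.commutes (f c)
  haveI : Algebra.FiniteType k D := (Subalgebra.fg_iff_finiteType D).mp hD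
  let ρ : D →ₐ[k] A ⧸ I := π.comp D.val
  have hker : RingHom.ker ρ ≠ ⊤ := by
    intro h
    have h1 : ρ 1 = 0 := by
      rw [← RingHom.mem_ker, h]; trivial
    rw [map_one] at h1
    haveI : Nontrivial (A ⧸ I) := Ideal.Quotient.nontrivial_iff.mpr hI
    exact one_ne_zero h1
  obtain ⟨x, hx⟩ := H20Comod.exists_point_le_ker (k := k) (R := D) hker
  have hle : (C ⊔ D).map π ≤ ρ.range := by
    rw [Subalgebra.map_le]
    refine sup_le (fun c hc => ?_) fun d hd => ⟨⟨d, hd⟩, rfl⟩
    exact ⟨algebraMap k D (f ⟨c, hc⟩), (ρ.commutes _).trans (hπC ⟨c, hc⟩).symm⟩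
  let x' : ρ.range →ₐ[k] k :=
    (Ideal.Quotient.liftₐ (RingHom.ker ρ) x fun a ha => hx ha).comp
      (Ideal.quotientKerEquivRange ρ).symm.toAlgHom
  let g : (C ⊔ D : Subalgebra k A) →ₐ[k] k :=
    x'.comp ((π.comp (C ⊔ D).val).codRestrict ρ.range fun z => hle ⟨z, z.2, rfl⟩)
  refine ⟨g, fun c hc => ?_⟩
  have e : (π.comp (C ⊔ D).val).codRestrict ρ.range (fun z => hle ⟨z, z.2, rfl⟩)
      ⟨c, (le_sup_left : C ≤ C ⊔ D) hc⟩ = algebraMap k ρ.range (f ⟨c, hc⟩) :=
    Subtype.ext (hπC ⟨c, hc⟩)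
  exact (congrArg x' e).trans ((x'.commutes _).trans rfl)

/-- Points of Hopf subalgebras extend. -/
theorem exists_extend {C : Subalgebra k A} (hC : IsHopfSub C) (f : C →ₐ[k] k) :
    ∃ g : A →ₐ[k] k, ∀ c : C, g c = f c := by
  classical
  let fstH : A × k →ₐ[k] A := AlgHom.fst k A k
  let G0 : Subalgebra k (A × k) := (C.val.prod f).range
  let 𝒮 : Set (Subalgebra k (A × k)) :=
    {S | Set.InjOn Prod.fst (S : Set (A × k)) ∧ IsHopfSub (S.map fstH) ∧ G0 ≤ S}
  have h0 : G0 ∈ 𝒮 := by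
    refine ⟨?_, ?_, le_rfl⟩
    · rintro _ ⟨a, rfl⟩ _ ⟨b, rfl⟩ hab
      have : a = b := Subtype.ext hab
      rw [this]
    · have : G0.map fstH = C := by
        ext a
        refine ⟨?_, fun ha => ⟨_, ⟨⟨a, ha⟩, rfl⟩, rfl⟩⟩
        rintro ⟨_, ⟨c, rfl⟩, rfl⟩
        exact c.2
      rw [this]; exact hC
  obtain ⟨S, hS0, hmax⟩ : ∃ S, G0 ≤ S ∧ Maximal (· ∈ 𝒮) S := by
    refine zorn_le_nonempty₀ 𝒮 (fun c hc hchain y hy => ⟨sSup c, ⟨?_, ?_, ?_⟩, fun z hz => le_sSup hz⟩) G0 h0
    · have hdir : DirectedOn (· ≤ ·) c := hchain.directedOn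
      haveI : Nonempty c := ⟨⟨y, hy⟩⟩
      intro a ha b hb hab
      rw [sSup_eq_iSup', Subalgebra.coe_iSup_of_directed (hdir.directed_val)] at ha hb
      obtain ⟨⟨Sa, hSa⟩, ha⟩ := Set.mem_iUnion.mp ha
      obtain ⟨⟨Sb, hSb⟩, hb⟩ := Set.mem_iUnion.mp hb
      obtain ⟨T, hT, h1, h2⟩ := hdir Sa hSa Sb hSb
      exact (hc hT).1 (h1 ha) (h2 hb) hab
    · haveI : Nonempty c := ⟨⟨y, hy⟩⟩
      rw [sSup_eq_iSup', (Subalgebra.gc_map_comap _).l_iSup]
      exact isHopfSub_iSup _ fun i => (hc i.2).2.1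
    · exact (hc hy).2.2.trans (le_sSup hy)
  obtain ⟨hinj, hhopf, -⟩ := hmax.1
  let p : S →ₐ[k] A := fstH.comp S.val
  have hp : Function.Injective p := fun a b h => Subtype.ext (hinj a.2 b.2 h)
  have htop : ∀ a : A, a ∈ S.map fstH := by
    intro a
    obtain ⟨D, hD, hDfg, haD⟩ := exists_fg_hopfSub (k := k) (Set.finite_singleton a)
    let eS : S ≃ₐ[k] S.map fstH :=
      AlgEquiv.ofBijective ((fstH.comp S.val).codRestrict (S.map fstH) fun z => ⟨z, z.2, rfl⟩)
        ⟨fun z w h => hp (congrArg Subtype.val h), fun ⟨_, z, hz, rfl⟩ => ⟨⟨z, hz⟩, rfl⟩⟩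
    let fS : S.map fstH →ₐ[k] k := ((AlgHom.snd k A k).comp S.val).comp eS.symm.toAlgHom
    obtain ⟨g, hg⟩ := exists_extend_step (D := D) hhopf hDfg fS
    let S' : Subalgebra k (A × k) := ((S.map fstH ⊔ D).val.prod g).range
    have hle : S ≤ S' := by
      intro z hz
      have hm : z.1 ∈ S.map fstH := ⟨z, hz, rfl⟩
      refine ⟨⟨z.1, le_sup_left (b := D) hm⟩, Prod.ext rfl ?_⟩
      show g _ = z.2
      rw [hg z.1 hm]
      have : eS.symm ⟨z.1, hm⟩ = ⟨z, hz⟩ := eS.symm_apply_eq.mpr rfl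
      show ((eS.symm ⟨z.1, hm⟩ : S) : A × k).2 = z.2
      rw [this]
    have hS' : S' ∈ 𝒮 := by
      refine ⟨?_, ?_, hS0.trans hle⟩
      · rintro _ ⟨z, rfl⟩ _ ⟨w, rfl⟩ h
        rw [show z = w from Subtype.ext h]
      · have : S'.map fstH = S.map fstH ⊔ D := by
          refine le_antisymm ?_ fun x hx => ⟨_, ⟨⟨x, hx⟩, rfl⟩, rfl⟩
          rintro _ ⟨_, ⟨z, rfl⟩, rfl⟩
          exact z.2
        rw [this]
        exact isHopfSub_sup hhopf hD
    have := hmax.2 hS' hle
    exact ⟨_, this ⟨⟨a, le_sup_right (a := S.map fstH) (haD rfl)⟩, rfl⟩, rfl⟩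
  have hbij : Function.Bijective p := ⟨hp, fun a => by
    obtain ⟨z, hz, rfl⟩ := htop a
    exact ⟨⟨z, hz⟩, rfl⟩⟩
  let e : S ≃ₐ[k] A := AlgEquiv.ofBijective p hbij
  refine ⟨((AlgHom.snd k A k).comp S.val).comp e.symm.toAlgHom, fun c => ?_⟩
  have hmem : ((c : A), f c) ∈ S := hS0 ⟨c, rfl⟩
  have : e.symm (c : A) = ⟨((c : A), f c), hmem⟩ := e.symm_apply_eq.mpr rfl
  show ((e.symm (c : A) : S) : A × k).2 = f c
  rw [this]

/-- A non-nilpotent element is non-zero at some rational point. -/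
theorem exists_point_apply_ne_zero {a : A} (ha : ¬ IsNilpotent a) : ∃ g : A →ₐ[k] k, g a ≠ 0 := by
  obtain ⟨D, hD, hDfg, haD⟩ := exists_fg_hopfSub (k := k) (Set.finite_singleton a)
  haveI : Algebra.FiniteType k D := (Subalgebra.fg_iff_finiteType D).mp hDfg
  let d : D := ⟨a, haD rfl⟩
  have hd : ¬ IsNilpotent d := fun h => ha (h.map D.val)
  haveI : IsJacobsonRing D := isJacobsonRing_of_finiteType (A := k)
  have : d ∉ (⊥ : Ideal D).jacobson := fun h => by
    have h2 : (nilradical D).jacobson = nilradical D :=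
      IsJacobsonRing.out' _ (Ideal.radical_isRadical _)
    exact hd (h2.le (Ideal.jacobson_mono bot_le h))
  obtain ⟨M, hM, hdM⟩ : ∃ M : Ideal D, M.IsMaximal ∧ d ∉ M := by
    by_contra h
    push Not at h
    exact this (Submodule.mem_sInf.mpr fun M hM => h M hM.2)
  obtain ⟨x, hx⟩ := H20Comod.exists_point_le_ker (k := k) hM.ne_top
  obtain ⟨g, hg⟩ := exists_extend hD x
  refine ⟨g, fun h0 => hdM ?_⟩
  have hxM : RingHom.ker x = M := (hM.eq_of_le (RingHom.ker_ne_top x) hx).symm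
  rw [← hxM, RingHom.mem_ker, ← hg d]
  exact h0

/-- Points lift along maps of Hopf algebras with nil kernel. -/
theorem exists_lift {A' : Type w} [CommRing A'] [HopfAlgebra k A'] (α : A' →ₐc[k] A)
    (hα : ∀ a, α a = 0 → IsNilpotent a) (φ : A' →ₐ[k] k) :
    ∃ g : A →ₐ[k] k, g.comp (α : A' →ₐ[k] A) = φ := by
  let α' : A' →ₐ[k] A := α
  have hker : ∀ a, α' a = 0 → φ a = 0 := fun a ha => ((hα a ha).map φ).eq_zero
  let f : α'.range →ₐ[k] k :=
    (Ideal.Quotient.liftₐ (RingHom.ker α') φ fun a ha => hker a ha).comp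
      (Ideal.quotientKerEquivRange α').symm.toAlgHom
  obtain ⟨g, hg⟩ := exists_extend (H20FF.isHopfSub_range α) f
  refine ⟨g, AlgHom.ext fun a => ?_⟩
  refine (hg ⟨α' a, ⟨a, rfl⟩⟩).trans ?_
  have e : (Ideal.quotientKerEquivRange α').symm ⟨α' a, ⟨a, rfl⟩⟩ = Ideal.Quotient.mk _ a :=
    (Ideal.quotientKerEquivRange α').symm_apply_eq.mpr rfl
  show Ideal.Quotient.liftₐ (RingHom.ker α') φ (fun a ha => hker a ha) ((Ideal.quotientKerEquivRange α').symm ⟨α' a, ⟨a, rfl⟩⟩) = _
  rw [e]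
  rfl

end Groth.Agent.H19Grp.PointLift
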