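import Mathlib
import Groth.Agent.H19Grp.ImageFactor
import Groth.Agent.H19Grp.AffinePoints
import Groth.Agent.H19Grp.PointLift

/-!
Schematically dominant homomorphisms from algebraic groups to affine group schemes over a field are
faithfully flat, and the target is of finite type.
-/

set_option autoImplicit false
set_option maxHeartbeats 1000000
set_option synthInstance.maxHeartbeats 400000
set_option linter.style.haveILetI false
set_option backward.isDefEq.respectTransparency false

universe u

open CategoryTheory CategoryTheory.Limits MonoidalCategory CartesianMonoidalCategory MonObj GrpObj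
  AlgebraicGeometry Opposite

namespace Groth.Agent.H19Grp.DominantToAffine

attribute [-instance] instCommGrpObjSpecAsOverSpec
attribute [-instance] isCommMonObj_spec_asOver_spec
attribute [-instance] CategoryTheory.Hom.commGroup

variable {R : CommRingCat.{u}}

/-- The morphism of spectra attached to an algebra map. -/
noncomputable def specHom {A B : CommRingCat.{u}} [Algebra R A] [Algebra R B] (f : B →ₐ[R] A) :
    (Spec A).asOver (Spec R) ⟶ (Spec B).asOver (Spec R) :=
  Over.homMk (Spec.map (CommRingCat.ofHom f.toRingHom)) (by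
    show Spec.map _ ≫ Spec.map (CommRingCat.ofHom (algebraMap R B)) = Spec.map (CommRingCat.ofHom (algebraMap R A))
    rw [← Spec.map_comp]
    congr 1
    ext r
    exact f.commutes r)

theorem isMonHom_specHom {A B : CommRingCat.{u}} [Bialgebra R A] [Bialgebra R B] (f : B →ₐc[R] A) :
    IsMonHom (specHom (f : B →ₐ[R] A)) := by
  haveI h := ((bialgSpec R).map (op (CommBialgCat.ofHom f))).isMonHom_hom
  exact h

variable {k : Type u} [Field k]

section

variable {B C : CommRingCat.{u}} [HopfAlgebra (CommRingCat.of k) B] [HopfAlgebra (CommRingCat.of k) C]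
  {G : Over (Spec (CommRingCat.of k))} [GrpObj G]
  (v : G ⟶ (Spec B).asOver (Spec (CommRingCat.of k)))

/-- The map on functions. -/
noncomputable def theta : B →+* Γ(G.left, ⊤) := ((Scheme.ΓSpecIso B).inv ≫ v.left.appTop).hom

/-- The structure map on functions. -/
noncomputable def str (T : Over (Spec (CommRingCat.of k))) : CommRingCat.of k →+* Γ(T.left, ⊤) :=
  ((Scheme.ΓSpecIso (CommRingCat.of k)).inv ≫ T.hom.appTop).hom

theorem appTop_specHom (f : C →ₐc[CommRingCat.of k] B) (c : C) :
    (v ≫ specHom (f : C →ₐ[CommRingCat.of k] B)).left.appTop ((Scheme.ΓSpecIso C).inv c) = theta v (f c) := by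
  show v.left.appTop ((Spec.map (CommRingCat.ofHom (f : C →ₐ[CommRingCat.of k] B).toRingHom)).appTop _) =
    v.left.appTop ((Scheme.ΓSpecIso B).inv (f c))
  congr 1
  exact (DFunLike.congr_fun (congrArg CommRingCat.Hom.hom
    (Scheme.ΓSpecIso_inv_naturality (CommRingCat.ofHom (f : C →ₐ[CommRingCat.of k] B).toRingHom))) c).symm

omit [GrpObj G] in
theorem one_appTop (T : Over (Spec (CommRingCat.of k))) (b : B) :
    (1 : T ⟶ (Spec B).asOver (Spec (CommRingCat.of k))).left.appTop ((Scheme.ΓSpecIso B).inv b) =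
      str T (Bialgebra.counitAlgHom (CommRingCat.of k) B b) := by
  have hone : (1 : T ⟶ (Spec B).asOver (Spec (CommRingCat.of k))).left =
      T.hom ≫ Spec.map (CommRingCat.ofHom (Bialgebra.counitAlgHom (CommRingCat.of k) B).toRingHom) := by
    rw [Hom.one_def, Over.comp_left]
    rfl
  rw [hone, Scheme.Hom.comp_appTop, CommRingCat.comp_apply]
  show T.hom.appTop _ = T.hom.appTop ((Scheme.ΓSpecIso (CommRingCat.of k)).inv _)
  congr 1
  exact (DFunLike.congr_fun (congrArg CommRingCat.Hom.hom
    (Scheme.ΓSpecIso_inv_naturality (CommRingCat.ofHom (Bialgebra.counitAlgHom (CommRingCat.of k) B).toRingHom))) b).symm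

theorem fg_data [Algebra.FiniteType (CommRingCat.of k) C] (f : C →ₐc[CommRingCat.of k] B) (hf : Function.Injective f)
    [LocallyOfFiniteType G.hom] [QuasiCompact G.hom] [IsMonHom v] (hv : Function.Injective (theta v)) :
    IsMonHom (v ≫ specHom (f : C →ₐ[CommRingCat.of k] B)) ∧
      Flat (v ≫ specHom (f : C →ₐ[CommRingCat.of k] B)).left ∧
      Surjective (v ≫ specHom (f : C →ₐ[CommRingCat.of k] B)).left ∧
      LocallyOfFinitePresentation (v ≫ specHom (f : C →ₐ[CommRingCat.of k] B)).left := by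
  letI : Field ↥(CommRingCat.of k) := (inferInstance : Field k)
  let S : Scheme.{u} := Spec (CommRingCat.of k)
  haveI : LocallyOfFiniteType ((Spec C).asOver S).hom := locallyOfFiniteType_specOverSpec
  haveI : IsMonHom (specHom (f : C →ₐ[CommRingCat.of k] B)) := isMonHom_specHom f
  let vD := v ≫ specHom (f : C →ₐ[CommRingCat.of k] B)
  haveI : IsMonHom vD := inferInstanceAs (IsMonHom (v ≫ specHom (f : C →ₐ[CommRingCat.of k] B)))
  haveI : QuasiSeparated ((Spec C).asOver S).hom :=
    inferInstanceAs (QuasiSeparated (Spec.map (CommRingCat.ofHom (algebraMap (CommRingCat.of k) C))))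
  haveI : QuasiCompact vD.left := by
    haveI : QuasiCompact (vD.left ≫ ((Spec C).asOver S).hom) := by rw [Over.w vD]; infer_instance
    exact QuasiCompact.of_comp _ ((Spec C).asOver S).hom
  haveI : IsAffine ((Spec C).asOver S).left := inferInstanceAs (IsAffine (Spec C))
  have hinj : Function.Injective vD.left.appTop := by
    intro x y hxy
    apply (ConcreteCategory.bijective_of_isIso (Scheme.ΓSpecIso C).hom).1
    apply hf
    apply hv
    rw [← appTop_specHom, ← appTop_specHom, Iso.hom_inv_id_apply, Iso.hom_inv_id_apply]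
    exact hxy
  have hker : vD.left.ker = ⊥ := by
    apply Scheme.IdealSheafData.ext_of_isAffine
    rw [Scheme.Hom.ker_apply, Scheme.IdealSheafData.ideal_bot, Pi.bot_apply]
    exact (RingHom.injective_iff_ker_eq_bot _).mp hinj
  obtain ⟨h1, h2, h3⟩ := ImageFactor.flat_surjective_of_ker_eq_bot vD hker
  exact ⟨inferInstance, h1, h2, h3⟩

/-- If the elements cutting out the kernel come from `C`, the kernel to `C` is the kernel of `v`. -/
theorem eq_one_of_comp_eq_one (f : C →ₐc[CommRingCat.of k] B) (𝒰 : G.left.OpenCover)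
    (sj : 𝒰.I₀ → Finset B) (hsub : ∀ j, ∀ b ∈ sj j, b ∈ Set.range f)
    (hs0 : ∀ j, ∀ b ∈ sj j, Bialgebra.counitAlgHom (CommRingCat.of k) B b = 0)
    (hsj : ∀ j, ∀ b, Bialgebra.counitAlgHom (CommRingCat.of k) B b = 0 →
      (𝒰.f j).appTop (theta v b) ∈ Ideal.span ((fun a => (𝒰.f j).appTop (theta v a)) '' (↑(sj j) : Set B)))
    {T : Over (Spec (CommRingCat.of k))} (x : T ⟶ G)
    (hx : x ≫ v ≫ specHom (f : C →ₐ[CommRingCat.of k] B) = 1) : x ≫ v = 1 := by
  let ε := Bialgebra.counitAlgHom (CommRingCat.of k) B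
  have hgen : ∀ j, ∀ b ∈ sj j, x.left.appTop (theta v b) = 0 := by
    intro j b hb
    obtain ⟨c, rfl⟩ := hsub j b hb
    have h2 := congrArg (fun m : T ⟶ (Spec C).asOver (Spec (CommRingCat.of k)) =>
      m.left.appTop ((Scheme.ΓSpecIso C).inv c)) hx
    simp only [Over.comp_left, Scheme.Hom.comp_appTop, CommRingCat.comp_apply] at h2
    rw [one_appTop] at h2
    rw [← appTop_specHom, Over.comp_left, Scheme.Hom.comp_appTop, CommRingCat.comp_apply]
    refine h2.trans ?_
    rw [← show ε (f c) = Bialgebra.counitAlgHom (CommRingCat.of k) C c from CoalgHomClass.counit_comp_apply f c,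
      show ε (f c) = 0 from hs0 j _ hb, map_zero]
  have haug : ∀ b, ε b = 0 → x.left.appTop (theta v b) = 0 := by
    intro b hb
    refine TopCat.Presheaf.section_ext T.left.sheaf ⊤ _ _ fun t _ => ?_
    obtain ⟨j, w, hw⟩ := 𝒰.exists_eq (x.left t)
    obtain ⟨z, hz, -⟩ := Scheme.Pullback.exists_preimage_pullback (f := x.left) (g := 𝒰.f j) t w hw.symm
    have h0 : (pullback.fst x.left (𝒰.f j)).appTop (x.left.appTop (theta v b)) = 0 := by
      rw [← CommRingCat.comp_apply, ← Scheme.Hom.comp_appTop, pullback.condition,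
        Scheme.Hom.comp_appTop, CommRingCat.comp_apply]
      have : Ideal.span ((fun a => (𝒰.f j).appTop (theta v a)) '' (↑(sj j) : Set B)) ≤
          RingHom.ker (pullback.snd x.left (𝒰.f j)).appTop.hom := by
        refine Ideal.span_le.mpr ?_
        rintro _ ⟨a, ha, rfl⟩
        rw [SetLike.mem_coe, RingHom.mem_ker]
        rw [← CommRingCat.comp_apply, ← Scheme.Hom.comp_appTop, ← pullback.condition,
          Scheme.Hom.comp_appTop, CommRingCat.comp_apply, hgen j a ha, map_zero]
      exact this (hsj j b hb)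
    subst hz
    apply (ConcreteCategory.bijective_of_isIso ((pullback.fst x.left (𝒰.f j)).stalkMap z)).1
    show (pullback.fst x.left (𝒰.f j)).stalkMap z (T.left.presheaf.germ ⊤ _ trivial _) =
      (pullback.fst x.left (𝒰.f j)).stalkMap z (T.left.presheaf.germ ⊤ _ trivial 0)
    rw [Scheme.Hom.germ_stalkMap_apply, map_zero, map_zero]
    have h0' : (pullback.fst x.left (𝒰.f j)).app ⊤ (x.left.appTop (theta v b)) = 0 := h0
    erw [h0']
    rw [map_zero]
  apply Over.OverMorphism.ext
  haveI : IsAffine ((Spec B).asOver (Spec (CommRingCat.of k))).left := inferInstanceAs (IsAffine (Spec B))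
  apply ext_of_isAffine
  apply (cancel_epi (Scheme.ΓSpecIso B).inv).1
  ext b
  show (x ≫ v).left.appTop ((Scheme.ΓSpecIso B).inv b) =
    (1 : T ⟶ (Spec B).asOver (Spec (CommRingCat.of k))).left.appTop ((Scheme.ΓSpecIso B).inv b)
  rw [one_appTop]
  have h2 := haug (b - algebraMap (CommRingCat.of k) B (ε b)) (by
    rw [map_sub, AlgHom.commutes]; exact sub_self _)
  rw [map_sub, map_sub, sub_eq_zero] at h2
  refine h2.trans ?_
  have h7 : (Scheme.ΓSpecIso B).inv (algebraMap (CommRingCat.of k) B (ε b)) =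
      (Spec.map (CommRingCat.ofHom (algebraMap (CommRingCat.of k) B))).appTop
        ((Scheme.ΓSpecIso (CommRingCat.of k)).inv (ε b)) :=
    DFunLike.congr_fun (congrArg CommRingCat.Hom.hom
      (Scheme.ΓSpecIso_inv_naturality (CommRingCat.ofHom (algebraMap (CommRingCat.of k) B)))) (ε b)
  show x.left.appTop (v.left.appTop ((Scheme.ΓSpecIso B).inv (algebraMap (CommRingCat.of k) B (ε b)))) = _
  have hxv : (x ≫ v).left ≫ Spec.map (CommRingCat.ofHom (algebraMap (CommRingCat.of k) B)) = T.hom := Over.w (x ≫ v)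
  refine (congrArg (fun y => x.left.appTop (v.left.appTop y)) h7).trans ?_
  show _ = T.hom.appTop _
  rw [← hxv]
  rfl

end

theorem exists_sj {B : CommRingCat.{u}} [HopfAlgebra (CommRingCat.of k) B]
    {G : Over (Spec (CommRingCat.of k))} [LocallyOfFiniteType G.hom]
    (v : G ⟶ (Spec B).asOver (Spec (CommRingCat.of k))) (𝒰 : G.left.OpenCover) (j : 𝒰.I₀) [IsAffine (𝒰.X j)] :
    ∃ s : Finset B, (∀ b ∈ s, Bialgebra.counitAlgHom (CommRingCat.of k) B b = 0) ∧
      ∀ b, Bialgebra.counitAlgHom (CommRingCat.of k) B b = 0 →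
        (𝒰.f j).appTop (theta v b) ∈ Ideal.span ((fun a => (𝒰.f j).appTop (theta v a)) '' (↑s : Set B)) := by
  classical
  haveI : IsNoetherianRing (CommRingCat.of k) := inferInstanceAs (IsNoetherianRing k)
  haveI : IsLocallyNoetherian G.left := LocallyOfFiniteType.isLocallyNoetherian G.hom
  haveI : IsLocallyNoetherian (𝒰.X j) := isLocallyNoetherian_of_isOpenImmersion (𝒰.f j)
  haveI : IsNoetherianRing Γ(𝒰.X j, ⊤) :=
    IsLocallyNoetherian.component_noetherian ⟨⊤, isAffineOpen_top _⟩
  let aug : Set B := {b | Bialgebra.counitAlgHom (CommRingCat.of k) B b = 0}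
  obtain ⟨s', hs', he⟩ := (Submodule.fg_span_iff_fg_span_finset_subset
    (R := Γ(𝒰.X j, ⊤)) ((fun a => (𝒰.f j).appTop (theta v a)) '' aug)).mp (IsNoetherian.noetherian _)
  choose g hg hge using fun x : s' => hs' x.2
  refine ⟨Finset.univ.image g, ?_, fun b hb => ?_⟩
  · intro b hb
    obtain ⟨x, -, rfl⟩ := Finset.mem_image.mp hb
    exact hg x
  · have h1 : (𝒰.f j).appTop (theta v b) ∈ Ideal.span ((fun a => (𝒰.f j).appTop (theta v a)) '' aug) :=
      Ideal.subset_span ⟨b, hb, rfl⟩
    rw [Ideal.span, he] at h1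
    refine Submodule.span_mono ?_ h1
    intro x hx
    exact ⟨g ⟨x, hx⟩, Finset.mem_image_of_mem g (Finset.mem_univ _), hge ⟨x, hx⟩⟩

/-- Main statement for a spectrum of a Hopf algebra as target. -/
theorem main_spec {B : CommRingCat.{u}} [hB : HopfAlgebra (CommRingCat.of k) B]
    (G : Over (Spec (CommRingCat.of k))) [GrpObj G] [LocallyOfFiniteType G.hom] [QuasiCompact G.hom]
    (v : G ⟶ (Spec B).asOver (Spec (CommRingCat.of k))) [IsMonHom v] (hv : Function.Injective v.left.appTop) :
    Flat v.left ∧ Surjective v.left ∧ Algebra.FiniteType (CommRingCat.of k) B := by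
  classical
  letI : Field ↥(CommRingCat.of k) := (inferInstance : Field k)
  haveI : CompactSpace G.left := QuasiCompact.compactSpace_of_compactSpace G.hom
  let 𝒰 := G.left.affineCover.finiteSubcover
  haveI : ∀ j, IsAffine (𝒰.X j) := fun j => by dsimp [𝒰]; infer_instance
  have hθ : Function.Injective (theta v) :=
    hv.comp (ConcreteCategory.bijective_of_isIso (Scheme.ΓSpecIso B).inv).1
  choose sj hsj hsj' using fun j => exists_sj v 𝒰 j
  let gens : Finset B := Finset.univ.biUnion sj
  obtain ⟨D₀, hD₀h, hD₀fg, hD₀g⟩ := PointLift.exists_fg_hopfSub (k := CommRingCat.of k) gens.finite_toSet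
  letI h0 : HopfAlgebra (CommRingCat.of k) (CommRingCat.of D₀) := H20FF.subHopf hD₀h
  haveI : Algebra.FiniteType (CommRingCat.of k) (CommRingCat.of D₀) := (Subalgebra.fg_iff_finiteType D₀).mp hD₀fg
  let f₀ : (CommRingCat.of D₀) →ₐc[CommRingCat.of k] B := H20FF.subVal hD₀h
  obtain ⟨hm0, hf0, hs0, hp0⟩ := fg_data v f₀ Subtype.val_injective hθ
  have hle : ∀ b : B, b ∈ D₀ := by
    intro b
    obtain ⟨D, h1, h2, h3⟩ := PointLift.exists_fg_hopfSub (k := CommRingCat.of k) (Set.finite_singleton b)
    letI : HopfAlgebra (CommRingCat.of k) (CommRingCat.of D) := H20FF.subHopf h1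
    haveI : Algebra.FiniteType (CommRingCat.of k) (CommRingCat.of D) := (Subalgebra.fg_iff_finiteType D).mp h2
    let f : (CommRingCat.of D) →ₐc[CommRingCat.of k] B := H20FF.subVal h1
    haveI : IsMonHom (specHom (f : CommRingCat.of D →ₐ[CommRingCat.of k] B)) := isMonHom_specHom f
    haveI := hm0
    obtain ⟨ψ, hψ, -⟩ := QuotientDesc.existsUnique_desc
      (v ≫ specHom (f₀ : CommRingCat.of D₀ →ₐ[CommRingCat.of k] B))
      (v ≫ specHom (f : CommRingCat.of D →ₐ[CommRingCat.of k] B)) fun T a b' hab => by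
      have hx : (a⁻¹ * b') ≫ v ≫ specHom (f₀ : CommRingCat.of D₀ →ₐ[CommRingCat.of k] B) = 1 := by
        rw [MonObj.mul_comp, GrpObj.inv_comp, hab, inv_mul_cancel]
      have h' := eq_one_of_comp_eq_one v f₀ 𝒰 sj
        (fun j c hc => ⟨⟨c, hD₀g (Finset.mem_biUnion.mpr ⟨j, Finset.mem_univ _, hc⟩)⟩, rfl⟩) hsj hsj' _ hx
      rw [MonObj.mul_comp, GrpObj.inv_comp, inv_mul_eq_one] at h'
      rw [← Category.assoc, ← Category.assoc, h']
    have hb : b ∈ D := h3 rfl
    let z := (Scheme.ΓSpecIso (CommRingCat.of D)).inv ⟨b, hb⟩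
    have h4 : (v ≫ specHom (f : CommRingCat.of D →ₐ[CommRingCat.of k] B)).left.appTop z = theta v b :=
      appTop_specHom v f ⟨b, hb⟩
    rw [← hψ, Over.comp_left, Scheme.Hom.comp_appTop, CommRingCat.comp_apply] at h4
    have h5 := appTop_specHom v f₀ ((Scheme.ΓSpecIso (CommRingCat.of D₀)).hom (ψ.left.appTop z))
    rw [Iso.hom_inv_id_apply] at h5
    have h6 : ((Scheme.ΓSpecIso (CommRingCat.of D₀)).hom (ψ.left.appTop z) : B) = b := hθ (h5.symm.trans h4)
    rw [← h6]
    exact Subtype.property _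
  haveI : IsIso (CommRingCat.ofHom (f₀ : CommRingCat.of D₀ →ₐ[CommRingCat.of k] B).toRingHom) :=
    (ConcreteCategory.isIso_iff_bijective _).2 ⟨Subtype.val_injective, fun b => ⟨⟨b, hle b⟩, rfl⟩⟩
  haveI : IsIso (specHom (f₀ : CommRingCat.of D₀ →ₐ[CommRingCat.of k] B)).left :=
    inferInstanceAs (IsIso (Spec.map (CommRingCat.ofHom (f₀ : CommRingCat.of D₀ →ₐ[CommRingCat.of k] B).toRingHom)))
  refine ⟨?_, ?_, ?_⟩
  · exact (MorphismProperty.cancel_right_of_respectsIso @Flat v.left
      (specHom (f₀ : CommRingCat.of D₀ →ₐ[CommRingCat.of k] B)).left).mp hf0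
  · exact (MorphismProperty.cancel_right_of_respectsIso @Surjective v.left
      (specHom (f₀ : CommRingCat.of D₀ →ₐ[CommRingCat.of k] B)).left).mp hs0
  · have htop : D₀ = ⊤ := Algebra.eq_top_iff.mpr hle
    rw [htop] at hD₀fg
    exact ⟨hD₀fg⟩

/-- Schematically dominant homomorphisms from algebraic groups to affine groups. -/
theorem main (G G' : Over (Spec (CommRingCat.of k))) [GrpObj G] [GrpObj G']
    [LocallyOfFiniteType G.hom] [QuasiCompact G.hom] [IsAffine G'.left]
    (u : G ⟶ G') [IsMonHom u] (hdom : Function.Injective u.left.appTop) :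
    Flat u.left ∧ Surjective u.left ∧ LocallyOfFiniteType G'.hom := by
  let S : Scheme.{u} := Spec (CommRingCat.of k)
  letI : G'.left.Over S := ⟨G'.hom⟩
  letI : GrpObj (G'.left.asOver S) := ‹GrpObj G'›
  letI hH := AffinePoints.hopfOf (CommRingCat.of k) G'.left
  letI : Algebra (CommRingCat.of k) Γ(G'.left, ⊤) := hH.toBialgebra.toAlgebra
  letI : HopfAlgebra (CommRingCat.of k) Γ(G'.left, ⊤) := hH
  let e : G' ⟶ (Spec Γ(G'.left, ⊤)).asOver S := G'.left.isoSpec.hom.asOver S
  haveI : IsMonHom e := AffinePoints.isMonHom_isoSpec _ _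
  haveI : IsIso e.left := inferInstanceAs (IsIso G'.left.isoSpec.hom)
  have hinj : Function.Injective (u ≫ e).left.appTop := by
    rw [Over.comp_left, Scheme.Hom.comp_appTop]
    exact hdom.comp (ConcreteCategory.bijective_of_isIso e.left.appTop).1
  obtain ⟨h1, h2, h3⟩ := main_spec G (u ≫ e) hinj
  refine ⟨(MorphismProperty.cancel_right_of_respectsIso @Flat u.left e.left).mp h1,
    (MorphismProperty.cancel_right_of_respectsIso @Surjective u.left e.left).mp h2, ?_⟩
  haveI := h3
  rw [← Over.w e]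
  haveI : LocallyOfFiniteType ((Spec Γ(G'.left, ⊤)).asOver S).hom := locallyOfFiniteType_specOverSpec
  infer_instance

end Groth.Agent.H19Grp.DominantToAffine
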