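import Groth.Agent.H19Grp.PointPredsQF
import Groth.Agent.H7Flat.FibreCriterionFT
import Groth.Agent.H8Props.FibreCriterionApps

/-!
# Fibrewise loci of a homomorphism of group schemes

The points at which a homomorphism has a property form the inverse image of the set of points of
the base where the homomorphism of fibres has it.
-/

set_option autoImplicit false
set_option linter.style.haveILetI false
set_option backward.isDefEq.respectTransparency false

universe u

open CategoryTheory CategoryTheory.Limits MonoidalCategory CartesianMonoidalCategory MonObj GrpObj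
  AlgebraicGeometry TopologicalSpace

namespace Groth.Agent.H19Grp

theorem isPullback_map {S' S : Scheme.{u}} (i : S' ⟶ S) {G H : Over S} (f : G ⟶ H) :
    IsPullback (pullback.fst G.hom i) ((Over.pullback i).map f).left f.left (pullback.fst H.hom i) := by
  refine IsPullback.of_bot (v₂₁ := pullback.snd H.hom i) (v₂₂ := H.hom) (h₃₁ := i) ?_ ?_
    (IsPullback.of_hasPullback H.hom i)
  · rw [show ((Over.pullback i).map f).left ≫ pullback.snd H.hom i = pullback.snd G.hom i from
      Over.w ((Over.pullback i).map f), Over.w f]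
    exact IsPullback.of_hasPullback G.hom i
  · simp

theorem fiber_hom_apply {S : Scheme.{u}} (G : Over S) (s : S)
    (z : ↥((Over.pullback (S.fromSpecResidueField s)).obj G).left) :
    G.hom (pullback.fst G.hom (S.fromSpecResidueField s) z) = s :=
  (G.hom.range_fiberι s).subset (Set.mem_range_self (f := G.hom.fiberι s) z)

theorem exists_fibre_point {S : Scheme.{u}} (G : Over S) {x : G.left} {s : S} (h : G.hom x = s) :
    ∃ z : ↥((Over.pullback (S.fromSpecResidueField s)).obj G).left,
      pullback.fst G.hom (S.fromSpecResidueField s) z = x :=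
  (G.hom.range_fiberι s).ge h

theorem of_forall_onNhd (P : MorphismProperty Scheme.{u}) [IsZariskiLocalAtSource P] {X Y : Scheme.{u}}
    (f : X ⟶ Y) (h : ∀ x, OnNhd P f x) : P f := by
  choose U hx hU using h
  exact (IsZariskiLocalAtSource.iff_of_iSup_eq_top (P := P) U
    (top_le_iff.1 fun x _ => Opens.mem_iSup.2 ⟨x, hx x⟩)).2 hU

theorem fibre_snd_of_map {S : Scheme.{u}} {G H : Over S} (f : G ⟶ H) {P : MorphismProperty Scheme.{u}}
    [P.IsStableUnderBaseChange] (s : S) (h : P ((Over.pullback (S.fromSpecResidueField s)).map f).left) :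
    P (pullback.snd f.left (H.hom.fiberι s)) := by
  have hp : IsPullback (pullback.fst G.hom (S.fromSpecResidueField s))
      ((Over.pullback (S.fromSpecResidueField s)).map f).left f.left (H.hom.fiberι s) := isPullback_map _ f
  rw [← hp.isoPullback_hom_snd] at h
  exact (P.cancel_left_of_respectsIso _ _).1 h

theorem fibre_point_of_map {S : Scheme.{u}} {G H : Over S} (f : G ⟶ H) {P : MorphismProperty Scheme.{u}}
    [P.IsStableUnderBaseChange] (y : H.left)
    (h : P ((Over.pullback (S.fromSpecResidueField (H.hom y))).map f).left) :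
    P (f.left.fiberToSpecResidueField y) := by
  have key : ∀ k, k = H.hom.asFiberHom y ≫ H.hom.fiberι (H.hom y) → P (pullback.snd f.left k) := by
    rintro k rfl
    have h1 := MorphismProperty.pullback_snd (P := P) (pullback.snd f.left (H.hom.fiberι (H.hom y)))
      (H.hom.asFiberHom y) (fibre_snd_of_map f _ h)
    rw [← pullbackLeftPullbackSndIso_hom_snd f.left (H.hom.fiberι (H.hom y)) (H.hom.asFiberHom y)] at h1
    exact (P.cancel_left_of_respectsIso _ _).mp h1
  exact key _ (H.hom.asFiberHom_fiberι y).symm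

variable {S : Scheme.{u}} {G H : Over S} [GrpObj G] [GrpObj H] (f : G ⟶ H)

omit [GrpObj H] in
/-- A predicate constant on fibres has the preimage of a set of the base for locus. -/
theorem locus_eq {Q : PtPred.{u}} (P : MorphismProperty Scheme.{u})
    (hconst : ∀ x y : G.left, G.hom x = G.hom y → Q f.left x → Q f.left y)
    (h1 : ∀ s : S, (∀ x : G.left, G.hom x = s → Q f.left x) →
      P ((Over.pullback (S.fromSpecResidueField s)).map f).left)
    (h2 : ∀ x : G.left, P ((Over.pullback (S.fromSpecResidueField (G.hom x))).map f).left → Q f.left x)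
    (hopen : IsOpen {x | Q f.left x}) :
    IsOpen {s : S | P ((Over.pullback (S.fromSpecResidueField s)).map f).left} ∧
    {x | Q f.left x} = G.hom.base ⁻¹' {s : S | P ((Over.pullback (S.fromSpecResidueField s)).map f).left} := by
  have he : {x | Q f.left x} =
      G.hom.base ⁻¹' {s : S | P ((Over.pullback (S.fromSpecResidueField s)).map f).left} :=
    Set.ext fun x => ⟨fun hx => h1 _ fun y hy => hconst x y hy.symm hx, fun hx => h2 x hx⟩
  refine ⟨?_, he⟩
  have e : {s : S | P ((Over.pullback (S.fromSpecResidueField s)).map f).left} =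
      η[G].left ⁻¹' {x | Q f.left x} := by
    rw [he]
    ext s
    have : G.hom (η[G].left s) = s :=
      (congrArg (fun m : (𝟙_ (Over S)).left ⟶ S => m s) (Over.w η[G])).trans rfl
    exact (iff_of_eq (congrArg (fun t : S =>
      P ((Over.pullback (S.fromSpecResidueField t)).map f).left) this)).symm
  rw [e]
  exact hopen.preimage η[G].left.continuous

variable [IsMonHom f]

/-- A predicate which descends from the fibres is constant on fibres of finite type. -/
theorem const_of_fibre {Q : PtPred.{u}} (hbc : PtBC Q)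
    (hdesc : PtDesc Q (@Flat ⊓ @LocallyOfFinitePresentation))
    (hG : ∀ s : S, LocallyOfFiniteType (G.hom.fiberToSpecResidueField s))
    (hfib : ∀ (s : S) (z : ↥((Over.pullback (S.fromSpecResidueField s)).obj G).left),
      Q ((Over.pullback (S.fromSpecResidueField s)).map f).left z →
        Q f.left (pullback.fst G.hom (S.fromSpecResidueField s) z))
    (x y : G.left) (hxy : G.hom x = G.hom y) (hx : Q f.left x) : Q f.left y := by
  obtain ⟨zx, hzx⟩ := exists_fibre_point G (rfl : G.hom x = G.hom x)
  obtain ⟨zy, rfl⟩ := exists_fibre_point G hxy.symm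
  let F := Over.pullback (S.fromSpecResidueField (G.hom x))
  letI : GrpObj (F.obj G) := Functor.grpObjObj
  letI : GrpObj (F.obj H) := Functor.grpObjObj
  haveI : LocallyOfFiniteType (F.obj G).hom := hG _
  refine hfib _ zy (of_mem_fibre (F.map f) hbc hdesc ⟨inferInstance, inferInstance⟩
    (Subsingleton.elim _ _) (hbc _ _ _ _ (isPullback_map _ f) zx ?_))
  exact (congrArg (Q f.left) hzx).mpr hx

omit [GrpObj G] [GrpObj H] [IsMonHom f] in
theorem forall_fibre {Q : PtPred.{u}} (hbc : PtBC Q) {s : S} (h : ∀ x : G.left, G.hom x = s → Q f.left x)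
    (z : ↥((Over.pullback (S.fromSpecResidueField s)).obj G).left) :
    Q ((Over.pullback (S.fromSpecResidueField s)).map f).left z :=
  hbc _ _ _ _ (isPullback_map _ f) z (h _ (fiber_hom_apply G s z))

section flat

variable [Flat G.hom] [LocallyOfFinitePresentation G.hom] [LocallyOfFiniteType H.hom]

omit [GrpObj G] [GrpObj H] [IsMonHom f] [Flat G.hom] in
theorem locallyOfFinitePresentation_left : LocallyOfFinitePresentation f.left := by
  haveI : LocallyOfFinitePresentation (f.left ≫ H.hom) := by rw [Over.w f]; infer_instance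
  exact H12AlgSp.lfp_of_comp f.left H.hom

omit [GrpObj G] [GrpObj H] [IsMonHom f] in
theorem flatPt_of_fibre (x : G.left)
    (h : Flat ((Over.pullback (S.fromSpecResidueField (G.hom x))).map f).left) : FlatPt f.left x := by
  haveI : LocallyOfFinitePresentation (f.left ≫ H.hom) := by rw [Over.w f]; infer_instance
  haveI : Flat (f.left ≫ H.hom) := by rw [Over.w f]; infer_instance
  have hs : H.hom (f.left x) = G.hom x := by rw [← Scheme.Hom.comp_apply, Over.w f]
  haveI : Flat (MoreMor.fiberMap f.left H.hom (H.hom (f.left x))) :=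
    H8Props.FibreCriterion.fiberMap_of_snd (P := @Flat) _ _ _ (fibre_snd_of_map f _ (by rw [hs]; exact h))
  obtain ⟨N, -, hxN, hN⟩ :=
    H7Flat.exists_nhds_flat_of_fiberMap f.left H.hom x (Flat.stalkMap _ _) (Flat.stalkMap _ _)
  exact (hN x hxN).2

theorem isOpen_flat_and_eq :
    IsOpen {s : S | Flat ((Over.pullback (S.fromSpecResidueField s)).map f).left} ∧
    {x : G.left | FlatPt f.left x} =
      G.hom.base ⁻¹' {s : S | Flat ((Over.pullback (S.fromSpecResidueField s)).map f).left} := by
  haveI := locallyOfFinitePresentation_left f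
  refine locus_eq f @Flat (fun x y e => of_mem_fibre f ptBC_flatPt ptDesc_flatPt ‹_› e) (fun s h => ?_)
    (flatPt_of_fibre f) (H8Props.FlatLocus.isOpen_setOf_flat_stalkMap f.left)
  exact (Flat.iff_flat_stalkMap _).2 (forall_fibre f ptBC_flatPt h)

omit [GrpObj G] [GrpObj H] [IsMonHom f] in
theorem smooth_of_fibre (x : G.left)
    (h : Smooth ((Over.pullback (S.fromSpecResidueField (G.hom x))).map f).left) :
    OnNhd @Smooth f.left x := by
  haveI := locallyOfFinitePresentation_left f
  haveI := h
  have hs : H.hom (f.left x) = G.hom x := by rw [← Scheme.Hom.comp_apply, Over.w f]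
  have hy : Smooth (f.left.fiberToSpecResidueField (f.left x)) :=
    fibre_point_of_map f (P := @Smooth) _ (by rw [hs]; exact h)
  haveI := hy
  have hflat : FlatPt f.left x := flatPt_of_fibre f x inferInstance
  have hxs := H17.LocusBC.mem_smoothLocus_of_flat_of_fiber f.left x hflat (by
    rw [(f.left.fiberToSpecResidueField (f.left x)).smoothLocus_eq_top]; trivial)
  exact (H17.LocusBC.mem_smoothLocus_iff_exists f.left x).1 hxs

theorem isOpen_smooth_and_eq :
    IsOpen {s : S | Smooth ((Over.pullback (S.fromSpecResidueField s)).map f).left} ∧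
    {x : G.left | OnNhd @Smooth f.left x} =
      G.hom.base ⁻¹' {s : S | Smooth ((Over.pullback (S.fromSpecResidueField s)).map f).left} := by
  refine locus_eq f @Smooth
    (fun x y e => of_mem_fibre f (ptBC_onNhd _) ptDesc_smooth ⟨inferInstance, inferInstance⟩ e)
    (fun s h => of_forall_onNhd @Smooth _ (forall_fibre f (ptBC_onNhd _) h))
    (smooth_of_fibre f) ?_
  exact isOpen_iff_forall_mem_open.2 fun x ⟨U, hx, hU⟩ => ⟨U, fun y hy => ⟨U, hy, hU⟩, U.2, hx⟩

omit [GrpObj G] [GrpObj H] [IsMonHom f] in
theorem etale_of_fibre (x : G.left)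
    (h : Etale ((Over.pullback (S.fromSpecResidueField (G.hom x))).map f).left) :
    OnNhd @Etale f.left x := by
  haveI := locallyOfFinitePresentation_left f
  haveI := h
  obtain ⟨U, hxU, hU⟩ := smooth_of_fibre f x inferInstance
  obtain ⟨z, hz⟩ := exists_fibre_point G (rfl : G.hom x = G.hom x)
  haveI : FormallyUnramified ((⊤ : Scheme.Opens _).ι ≫
      ((Over.pullback (S.fromSpecResidueField (G.hom x))).map f).left) := inferInstance
  obtain ⟨V, hV, hVu⟩ :=
    H17.LocusBC.exists_formallyUnramified_of_baseChange (isPullback_map _ f) z ⊤ trivial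
  rw [hz] at hV
  haveI := hU
  haveI := hVu
  haveI : Smooth ((U ⊓ V).ι ≫ f.left) := by
    rw [← Scheme.homOfLE_ι _ (inf_le_left : U ⊓ V ≤ U), Category.assoc]; infer_instance
  haveI : FormallyUnramified ((U ⊓ V).ι ≫ f.left) := by
    rw [← Scheme.homOfLE_ι _ (inf_le_right : U ⊓ V ≤ V), Category.assoc]
    exact MorphismProperty.comp_mem @FormallyUnramified _ _ inferInstance hVu
  exact ⟨U ⊓ V, ⟨hxU, hV⟩, Etale.of_formallyUnramified_of_flat _⟩

theorem isOpen_etale_and_eq :
    IsOpen {s : S | Etale ((Over.pullback (S.fromSpecResidueField s)).map f).left} ∧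
    {x : G.left | OnNhd @Etale f.left x} =
      G.hom.base ⁻¹' {s : S | Etale ((Over.pullback (S.fromSpecResidueField s)).map f).left} := by
  refine locus_eq f @Etale
    (fun x y e => of_mem_fibre f (ptBC_onNhd _) ptDesc_etale ⟨inferInstance, inferInstance⟩ e)
    (fun s h => of_forall_onNhd @Etale _ (forall_fibre f (ptBC_onNhd _) h))
    (etale_of_fibre f) ?_
  exact isOpen_iff_forall_mem_open.2 fun x ⟨U, hx, hU⟩ => ⟨U, fun y hy => ⟨U, hy, hU⟩, U.2, hx⟩

end flat

theorem isOpen_unramified_and_eq [LocallyOfFinitePresentation f.left]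
    (hG : ∀ s : S, LocallyOfFiniteType (G.hom.fiberToSpecResidueField s)) :
    IsOpen {s : S | FormallyUnramified ((Over.pullback (S.fromSpecResidueField s)).map f).left} ∧
    {x : G.left | OnNhd @FormallyUnramified f.left x} =
      G.hom.base ⁻¹' {s : S | FormallyUnramified ((Over.pullback (S.fromSpecResidueField s)).map f).left} := by
  have hiff : ∀ x, OnNhd (@FormallyUnramified ⊓ @LocallyOfFinitePresentation) f.left x ↔
      OnNhd @FormallyUnramified f.left x := fun x =>
    ⟨fun ⟨U, hx, hU⟩ => ⟨U, hx, hU.1⟩, fun ⟨U, hx, hU⟩ => ⟨U, hx, hU, inferInstance⟩⟩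
  have hdown : ∀ (s : S) (z : ↥((Over.pullback (S.fromSpecResidueField s)).obj G).left),
      OnNhd @FormallyUnramified ((Over.pullback (S.fromSpecResidueField s)).map f).left z →
      OnNhd @FormallyUnramified f.left (pullback.fst G.hom (S.fromSpecResidueField s) z) := by
    rintro s z ⟨U', hz, hU⟩
    haveI : FormallyUnramified (U'.ι ≫ ((Over.pullback (S.fromSpecResidueField s)).map f).left) := hU
    exact H17.LocusBC.exists_formallyUnramified_of_baseChange (isPullback_map _ f) z U' hz
  refine locus_eq f @FormallyUnramified ?_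
    (fun s h => of_forall_onNhd @FormallyUnramified _ (forall_fibre f (ptBC_onNhd _) h)) (fun x hx => ?_) ?_
  · intro x y e hx
    refine (hiff y).1 (const_of_fibre f (ptBC_onNhd _) ptDesc_unramified hG (fun s z hz => (hiff _).2
      (hdown s z ?_)) x y e ((hiff x).2 hx))
    obtain ⟨U', hz', hU'⟩ := hz
    exact ⟨U', hz', hU'.1⟩
  · obtain ⟨z, hz⟩ := exists_fibre_point G (rfl : G.hom x = G.hom x)
    exact hz ▸ hdown _ z ⟨⊤, trivial, MorphismProperty.comp_mem @FormallyUnramified _ _ inferInstance hx⟩
  · exact isOpen_iff_forall_mem_open.2 fun x ⟨U, hx, hU⟩ => ⟨U, fun y hy => ⟨U, hy, hU⟩, U.2, hx⟩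

theorem isOpen_quasiFinite_and_eq [LocallyOfFiniteType f.left]
    (hG : ∀ s : S, LocallyOfFiniteType (G.hom.fiberToSpecResidueField s)) :
    IsOpen {s : S | LocallyQuasiFinite ((Over.pullback (S.fromSpecResidueField s)).map f).left} ∧
    {x : G.left | OnNhd @LocallyQuasiFinite f.left x} =
      G.hom.base ⁻¹' {s : S | LocallyQuasiFinite ((Over.pullback (S.fromSpecResidueField s)).map f).left} := by
  have hiff : ∀ x, QFPt f.left x ↔ OnNhd @LocallyQuasiFinite f.left x := fun x =>
    ⟨fun ⟨U, hx, _, hU⟩ => ⟨U, hx, hU⟩, fun ⟨U, hx, hU⟩ => ⟨U, hx, inferInstance, hU⟩⟩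
  have hdown : ∀ (s : S) (z : ↥((Over.pullback (S.fromSpecResidueField s)).obj G).left),
      OnNhd @LocallyQuasiFinite ((Over.pullback (S.fromSpecResidueField s)).map f).left z →
      QFPt f.left (pullback.fst G.hom (S.fromSpecResidueField s) z) := by
    rintro s z ⟨U', hz, hU⟩
    haveI : LocallyQuasiFinite (U'.ι ≫ ((Over.pullback (S.fromSpecResidueField s)).map f).left) := hU
    exact qfPt_of_quasiFiniteAt _ _
      (quasiFiniteAt_desc (isPullback_map _ f) (quasiFiniteAt_of_open _ U' ⟨z, hz⟩))
  refine locus_eq f @LocallyQuasiFinite ?_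
    (fun s h => of_forall_onNhd @LocallyQuasiFinite _ (forall_fibre f (ptBC_onNhd _) h)) (fun x hx => ?_) ?_
  · intro x y e hx
    refine (hiff y).1 (const_of_fibre f ptBC_qfPt ptDesc_qfPt hG (fun s z hz => hdown s z ?_) x y e
      ((hiff x).2 hx))
    obtain ⟨U', hz', -, hU'⟩ := hz
    exact ⟨U', hz', hU'⟩
  · obtain ⟨z, hz⟩ := exists_fibre_point G (rfl : G.hom x = G.hom x)
    exact (hiff x).1 (hz ▸ hdown _ z ⟨⊤, trivial, MorphismProperty.comp_mem @LocallyQuasiFinite _ _ inferInstance hx⟩)
  · exact isOpen_iff_forall_mem_open.2 fun x ⟨U, hx, hU⟩ => ⟨U, fun y hy => ⟨U, hy, hU⟩, U.2, hx⟩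

end Groth.Agent.H19Grp
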