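import Groth.Agent.H19Grp.LocalDomain
import Groth.Agent.H19Grp.PointLift
import Mathlib

/-!
# Commutative Hopf algebras in characteristic zero over an algebraically closed field are reduced
-/

set_option autoImplicit false
set_option linter.style.haveILetI false

universe u v

open TensorProduct

namespace Groth.Agent.H19Grp.HopfReduced

variable {k : Type u} [Field k] {A : Type v} [CommRing A] [HopfAlgebra k A]

/-- The translation attached to a rational point: `a ↦ Σ g(a₁) a₂`. -/
noncomputable def T (g : A →ₐ[k] k) : A →ₐ[k] A :=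
  ((Algebra.TensorProduct.lid k A).toAlgHom.comp (Algebra.TensorProduct.map g (AlgHom.id k A))).comp
    (Bialgebra.comulAlgHom k A)

theorem T_apply (g : A →ₐ[k] k) (a : A) :
    T g a = TensorProduct.lid k A (g.toLinearMap.rTensor A (Coalgebra.comul (R := k) a)) := by
  show (Algebra.TensorProduct.lid k A) (Algebra.TensorProduct.map g (AlgHom.id k A) _) = _
  change (Algebra.TensorProduct.lid k A) (Algebra.TensorProduct.map g (AlgHom.id k A) (Coalgebra.comul (R := k) a)) = _
  generalize Coalgebra.comul (R := k) a = z
  induction z using TensorProduct.induction_on with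
  | zero => simp
  | tmul p q => simp
  | add p q hp hq => simp only [map_add, hp, hq]

theorem T_repr (g : A →ₐ[k] k) {a : A} {ι : Type*} (R : Coalgebra.Repr k a ι) :
    T g a = ∑ i ∈ R.index, g (R.left i) • R.right i := by
  rw [T_apply, ← R.eq]
  simp [map_sum]

theorem counit_T (g : A →ₐ[k] k) (a : A) : Coalgebra.counit (R := k) (T g a) = g a := by
  let R := Coalgebra.Repr.arbitrary k a
  have e : a = ∑ i ∈ R.index, Coalgebra.counit (R := k) (R.right i) • R.left i := by
    have h := congrArg (TensorProduct.rid k A) (Coalgebra.sum_tmul_counit_eq R)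
    rw [map_sum] at h
    simp only [TensorProduct.rid_tmul, one_smul] at h
    exact h.symm
  rw [T_repr g R]
  conv_rhs => rw [e]
  simp [map_sum, mul_comm]

theorem T_comp (g h : A →ₐ[k] k) :
    (T g).comp (T h) = T (WithConv.toConv h * WithConv.toConv g).ofConv := by
  refine AlgHom.ext fun a => ?_
  show T g (T h a) = _
  rw [T_apply h, T_apply (WithConv.toConv h * WithConv.toConv g).ofConv]
  have hco := Coalgebra.coassoc_apply (R := k) a
  let φ : A ⊗[k] (A ⊗[k] A) →ₗ[k] A :=
    (TensorProduct.lid k A).toLinearMap ∘ₗ TensorProduct.map h.toLinearMap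
      ((TensorProduct.lid k A).toLinearMap ∘ₗ g.toLinearMap.rTensor A)
  have h1 : T g (TensorProduct.lid k A (h.toLinearMap.rTensor A (Coalgebra.comul (R := k) a))) =
      φ ((Coalgebra.comul (R := k) (A := A)).lTensor A (Coalgebra.comul (R := k) a)) := by
    generalize Coalgebra.comul (R := k) a = z
    induction z using TensorProduct.induction_on with
    | zero => simp
    | tmul p q => simp [φ, T_apply]
    | add p q hp hq => simp only [map_add, hp, hq]
  have h2 : TensorProduct.lid k A ((WithConv.toConv h * WithConv.toConv g).ofConv.toLinearMap.rTensor A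
      (Coalgebra.comul (R := k) a)) =
      φ (TensorProduct.assoc k A A A ((Coalgebra.comul (R := k) (A := A)).rTensor A (Coalgebra.comul (R := k) a))) := by
    generalize Coalgebra.comul (R := k) a = z
    induction z using TensorProduct.induction_on with
    | zero => simp
    | tmul p q =>
      simp only [LinearMap.rTensor_tmul, TensorProduct.lid_tmul, AlgHom.toLinearMap_apply, AlgHom.convMul_def,
        WithConv.ofConv_toConv, AlgHom.comp_apply, Bialgebra.comulAlgHom_apply]
      generalize Coalgebra.comul (R := k) p = w
      induction w using TensorProduct.induction_on with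
      | zero => simp
      | tmul r s => simp [φ, smul_smul, mul_comm]
      | add r s hr hs => simp only [map_add, TensorProduct.add_tmul, add_smul, hr, hs]
    | add p q hp hq => simp only [map_add, hp, hq]
  rw [h1, h2, hco]

theorem T_one : T (Bialgebra.counitAlgHom k A) = AlgHom.id k A := by
  refine AlgHom.ext fun a => ?_
  rw [T_repr _ (Coalgebra.Repr.arbitrary k a)]
  exact Coalgebra.sum_counit_smul _

theorem T_antipode (g : A →ₐ[k] k) :
    (T g).comp (T (g.comp (HopfAlgebra.antipodeAlgHom k A))) = AlgHom.id k A ∧
      (T (g.comp (HopfAlgebra.antipodeAlgHom k A))).comp (T g) = AlgHom.id k A := by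
  have e1 : WithConv.toConv (g.comp (HopfAlgebra.antipodeAlgHom k A)) * WithConv.toConv g =
      WithConv.toConv (Bialgebra.counitAlgHom k A) := by
    refine WithConv.ofConv_injective (AlgHom.ext fun a => ?_)
    simp only [AlgHom.convMul_def, WithConv.ofConv_toConv, AlgHom.comp_apply, Bialgebra.comulAlgHom_apply]
    let R := Coalgebra.Repr.arbitrary k a
    rw [← R.eq]
    simp only [map_sum, Algebra.TensorProduct.map_tmul, Algebra.TensorProduct.lmul'_apply_tmul,
      AlgHom.comp_apply, ← map_mul, HopfAlgebra.antipodeAlgHom_apply]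
    rw [← map_sum, HopfAlgebra.sum_antipode_mul_eq_algebraMap_counit R, AlgHom.commutes]
    rfl
  have e2 : WithConv.toConv g * WithConv.toConv (g.comp (HopfAlgebra.antipodeAlgHom k A)) =
      WithConv.toConv (Bialgebra.counitAlgHom k A) := by
    refine WithConv.ofConv_injective (AlgHom.ext fun a => ?_)
    simp only [AlgHom.convMul_def, WithConv.ofConv_toConv, AlgHom.comp_apply, Bialgebra.comulAlgHom_apply]
    let R := Coalgebra.Repr.arbitrary k a
    rw [← R.eq]
    simp only [map_sum, Algebra.TensorProduct.map_tmul, Algebra.TensorProduct.lmul'_apply_tmul,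
      AlgHom.comp_apply, ← map_mul, HopfAlgebra.antipodeAlgHom_apply]
    rw [← map_sum, HopfAlgebra.sum_mul_antipode_eq_algebraMap_counit R, AlgHom.commutes]
    rfl
  exact ⟨by rw [T_comp, e1, WithConv.ofConv_toConv, T_one], by rw [T_comp, e2, WithConv.ofConv_toConv, T_one]⟩

section Cartier

variable [CharZero k] [Algebra.FiniteType k A]

instance counitKer_isMaximal : (RingHom.ker (Bialgebra.counitAlgHom k A)).IsMaximal :=
  RingHom.ker_isMaximal_of_surjective _ fun c => ⟨algebraMap k A c, by simp⟩

set_option maxHeartbeats 1000000 in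
/-- Cartier: in characteristic zero the local ring at the unit is a domain. -/
theorem isDomain_localization :
    IsDomain (Localization.AtPrime (RingHom.ker (Bialgebra.counitAlgHom k A))) := by
  classical
  haveI : IsNoetherianRing A := Algebra.FiniteType.isNoetherianRing k A
  let ε : A →ₐ[k] k := Bialgebra.counitAlgHom k A
  let m : Ideal A := RingHom.ker ε
  let L := Localization.AtPrime m
  have hunit : ∀ s : m.primeCompl, IsUnit (ε (s : A)) := fun s => isUnit_iff_ne_zero.mpr fun h => s.2 h
  let εL : L →+* k := IsLocalization.lift (M := m.primeCompl) (g := ε.toRingHom) hunit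
  have hεL : ∀ a, εL (algebraMap A L a) = ε a := fun a => IsLocalization.lift_eq _ a
  haveI : Module.Finite A m := Module.Finite.iff_fg.mpr (IsNoetherian.noetherian m)
  have hmem : ∀ a, a - algebraMap k A (ε a) ∈ m := fun a => by simp [m]
  have hsmul : ∀ (a : A) (z : m.Cotangent), a • z = (ε a) • z := by
    intro a z
    obtain ⟨y, rfl⟩ := m.toCotangent_surjective z
    rw [← algebraMap_smul A (ε a), ← sub_eq_zero, ← sub_smul, ← map_smul, Ideal.toCotangent_eq_zero]
    rw [pow_two]
    exact Ideal.mul_mem_mul (hmem a) y.2
  haveI : Module.Finite A m.Cotangent := Module.Finite.of_surjective m.toCotangent m.toCotangent_surjective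
  haveI : Module.Finite k m.Cotangent := by
    obtain ⟨t, ht⟩ := (Module.Finite.fg_top : (⊤ : Submodule A m.Cotangent).FG)
    refine ⟨⟨t, eq_top_iff.mpr fun z htop => ?_⟩⟩
    clear htop
    have hz : z ∈ Submodule.span A (t : Set m.Cotangent) := ht ▸ Submodule.mem_top
    induction hz using Submodule.span_induction with
    | mem y hy => exact Submodule.subset_span hy
    | zero => exact zero_mem _
    | add y y' _ _ hy hy' => exact add_mem hy hy'
    | smul a y _ hy => rw [hsmul]; exact Submodule.smul_mem _ _ hy
  let b := Module.finBasis k m.Cotangent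
  choose x hx using fun i => m.toCotangent_surjective (b i)
  let π : A →ₗ[k] m.Cotangent :=
    (m.toCotangent.restrictScalars k) ∘ₗ
      (LinearMap.codRestrict (m.restrictScalars k)
        (LinearMap.id - (Algebra.linearMap k A) ∘ₗ ε.toLinearMap) hmem)
  have hπ : ∀ a a', π (a * a') = ε a • π a' + ε a' • π a := by
    intro a a'
    rw [← hsmul, ← hsmul]
    show m.toCotangent ⟨_, _⟩ = _ • m.toCotangent ⟨_, _⟩ + _ • m.toCotangent ⟨_, _⟩
    rw [← map_smul, ← map_smul, ← map_add, Ideal.toCotangent_eq]
    have := neg_mem (Ideal.mul_mem_mul (hmem a) (hmem a'))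
    rw [← pow_two] at this
    convert this using 1
    simp
    ring
  let τ : Fin (Module.finrank k m.Cotangent) → A →ₗ[k] k := fun i => (b.coord i) ∘ₗ π
  have hτ : ∀ i a a', τ i (a * a') = ε a * τ i a' + ε a' * τ i a := by
    intro i a a'
    simp only [τ, LinearMap.comp_apply, hπ, map_add, map_smul, smul_eq_mul]
  let D : Fin (Module.finrank k m.Cotangent) → A →ₗ[k] A := fun i =>
    (TensorProduct.rid k A).toLinearMap ∘ₗ (τ i).lTensor A ∘ₗ Coalgebra.comul
  have hD : ∀ i a a', D i (a * a') = a * D i a' + a' * D i a := by
    intro i a a'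
    let R := Coalgebra.Repr.arbitrary k a
    let R' := Coalgebra.Repr.arbitrary k a'
    have e : ∀ (c : A) (Rc : Coalgebra.Repr k c (A × A)),
        ∑ p ∈ Rc.index, ε (Rc.right p) • Rc.left p = c := by
      intro c Rc
      have h := congrArg (TensorProduct.rid k A) (Coalgebra.sum_tmul_counit_eq Rc)
      rw [map_sum] at h
      simp only [TensorProduct.rid_tmul, one_smul] at h
      exact h
    simp only [D, LinearMap.comp_apply, Bialgebra.comul_mul]
    rw [← R.eq, ← R'.eq]
    simp only [Finset.sum_mul_sum, Algebra.TensorProduct.tmul_mul_tmul, map_sum, LinearMap.lTensor_tmul,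
      LinearEquiv.coe_coe, TensorProduct.rid_tmul, hτ, add_smul, Finset.sum_add_distrib]
    congr 1
    · conv_rhs => rw [← e a R]
      rw [Finset.sum_mul_sum]
      exact Finset.sum_congr rfl fun p _ => Finset.sum_congr rfl fun q _ => by
        rw [smul_mul_smul_comm]
    · conv_rhs => rw [← e a' R']
      rw [Finset.sum_mul_sum, Finset.sum_comm]
      exact Finset.sum_congr rfl fun p _ => Finset.sum_congr rfl fun q _ => by
        rw [smul_mul_smul_comm, mul_comm (R'.left p)]
  have hεD : ∀ i a, ε (D i a) = τ i a := by
    intro i a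
    let R := Coalgebra.Repr.arbitrary k a
    conv_rhs => rw [← Coalgebra.sum_counit_smul R]
    simp only [D, LinearMap.comp_apply]
    rw [← R.eq]
    simp [map_sum, ε, mul_comm]
  let δ : Fin (Module.finrank k m.Cotangent) → A →+* DualNumber L := fun i =>
    { toFun := fun a => TrivSqZeroExt.inl (algebraMap A L a) + TrivSqZeroExt.inr (algebraMap A L (D i a))
      map_one' := by
        have h1 : D i 1 = 0 := by simpa using hD i 1 1
        ext <;> simp [h1]
      map_mul' := fun a a' => by
        ext
        · simp
        · simp [hD, mul_comm]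
      map_zero' := by ext <;> simp
      map_add' := fun a a' => by ext <;> simp [add_comm, add_left_comm] }
  have hδu : ∀ i (s : m.primeCompl), IsUnit (δ i (s : A)) := by
    intro i s
    rw [TrivSqZeroExt.isUnit_iff_isUnit_fst]
    simpa [δ] using IsLocalization.map_units L s
  let δL : Fin (Module.finrank k m.Cotangent) → L →+* DualNumber L := fun i =>
    IsLocalization.lift (M := m.primeCompl) (hδu i)
  have hfst : ∀ i z, TrivSqZeroExt.fst (δL i z) = z := by
    intro i z
    have h : ((TrivSqZeroExt.fstHom L L L).toRingHom.comp (δL i)) = RingHom.id L := by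
      refine IsLocalization.ringHom_ext m.primeCompl (RingHom.ext fun a => ?_)
      simp [δL, IsLocalization.lift_eq, δ]
    exact RingHom.congr_fun h z
  let d : Fin (Module.finrank k m.Cotangent) → L →+ L := fun i =>
    { toFun := fun z => TrivSqZeroExt.snd (δL i z)
      map_zero' := by simp
      map_add' := fun z w => by simp }
  have hd : ∀ i, IsLeibniz (d i) := by
    intro i z w
    show TrivSqZeroExt.snd (δL i (z * w)) = z * TrivSqZeroExt.snd (δL i w) + w * TrivSqZeroExt.snd (δL i z)
    rw [map_mul, DualNumber.snd_mul, hfst, hfst, mul_comm (TrivSqZeroExt.snd (δL i z))]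
  haveI : IsNoetherianRing L := IsLocalization.isNoetherianRing m.primeCompl L inferInstance
  have hsurj : Function.Surjective εL := fun c => ⟨algebraMap A L (algebraMap k A c), by rw [hεL]; simp [ε]⟩
  have hker : RingHom.ker εL = IsLocalRing.maximalIdeal L :=
    IsLocalRing.eq_maximalIdeal (RingHom.ker_isMaximal_of_surjective εL hsurj)
  refine isDomain_of_derivations (ε := εL) (fun i => algebraMap A L (x i : A)) hker hsurj ?_ d hd fun i j => ?_
  · refine le_antisymm (Ideal.span_le.mpr ?_) ?_
    · rintro _ ⟨i, rfl⟩
      rw [SetLike.mem_coe, ← hker, RingHom.mem_ker, hεL]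
      exact (x i).2
    · refine Submodule.le_of_le_smul_of_le_jacobson_bot (I := IsLocalRing.maximalIdeal L)
        (IsNoetherian.noetherian _) (IsLocalRing.maximalIdeal_le_jacobson ⊥) ?_
      have hm : m ≤ Ideal.span (Set.range fun i => (x i : A)) ⊔ m ^ 2 := by
        intro a ha
        have hs : m.toCotangent ⟨a, ha⟩ =
            m.toCotangent (∑ i, algebraMap k A (b.repr (m.toCotangent ⟨a, ha⟩) i) • x i) := by
          rw [map_sum]
          conv_lhs => rw [← b.sum_repr (m.toCotangent ⟨a, ha⟩)]
          exact Finset.sum_congr rfl fun i _ => by rw [map_smul, hx, algebraMap_smul]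
        rw [Ideal.toCotangent_eq] at hs
        have : a = (∑ i, algebraMap k A (b.repr (m.toCotangent ⟨a, ha⟩) i) • x i : m).1 +
            (a - (∑ i, algebraMap k A (b.repr (m.toCotangent ⟨a, ha⟩) i) • x i : m).1) := by ring
        rw [this]
        refine Submodule.add_mem_sup ?_ hs
        rw [Submodule.coe_sum]
        exact sum_mem fun i _ => Ideal.mul_mem_left _ _ (Ideal.subset_span ⟨i, rfl⟩)
      have := Ideal.map_mono (f := algebraMap A L) hm
      rw [Ideal.map_sup, Ideal.map_pow, Ideal.map_span, ← Set.range_comp,
        Localization.AtPrime.map_eq_maximalIdeal] at this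
      rw [Ideal.smul_eq_mul, ← pow_two]
      exact this
  · show εL (TrivSqZeroExt.snd (δL i (algebraMap A L (x j : A)))) = _
    rw [IsLocalization.lift_eq]
    show εL (TrivSqZeroExt.snd (δ i (x j : A))) = _
    simp only [δ, RingHom.coe_mk, MonoidHom.coe_mk, OneHom.coe_mk, TrivSqZeroExt.snd_add,
      TrivSqZeroExt.snd_inl, TrivSqZeroExt.snd_inr, zero_add, hεL, hεD]
    show b.coord i (m.toCotangent ⟨(x j : A) - algebraMap k A (ε (x j : A)), _⟩) = _
    have h0 : (⟨(x j : A) - algebraMap k A (ε (x j : A)), hmem _⟩ : m) = x j :=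
      Subtype.ext (show (x j : A) - algebraMap k A (ε (x j : A)) = (x j : A) by
        rw [show ε (x j : A) = 0 from (x j).2, map_zero, sub_zero])
    rw [h0, hx, Module.Basis.coord_apply, b.repr_self, Finsupp.single_apply]
    simp [eq_comm]

/-- Cartier: a finitely generated commutative Hopf algebra in characteristic zero is reduced. -/
theorem isReduced_of_finiteType [IsAlgClosed k] : IsReduced A := by
  haveI := isDomain_localization (k := k) (A := A)
  refine ⟨fun a ha => ?_⟩
  by_contra hne
  obtain ⟨g, hg⟩ := H20Comod.exists_point_le_ker (k := k) (R := A) (J := (Ideal.span {a}).annihilator) (by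
    intro h
    apply hne
    have h1 : (1 : A) ∈ (Ideal.span {a}).annihilator := h ▸ trivial
    simpa using Submodule.mem_annihilator.mp h1 a (Ideal.mem_span_singleton_self a))
  obtain ⟨e1, e2⟩ := T_antipode g
  have h0 : algebraMap A (Localization.AtPrime (RingHom.ker (Bialgebra.counitAlgHom k A))) (T g a) = 0 :=
    ((ha.map (T g)).map (algebraMap A _)).eq_zero
  obtain ⟨s, hs⟩ := (IsLocalization.map_eq_zero_iff (RingHom.ker (Bialgebra.counitAlgHom k A)).primeCompl _ _).mp h0
  let h := g.comp (HopfAlgebra.antipodeAlgHom k A)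
  have hann : T h (s : A) ∈ (Ideal.span {a}).annihilator := by
    rw [Submodule.mem_annihilator_span_singleton, smul_eq_mul]
    have := congrArg (T h) hs
    rw [map_mul, map_zero, ← AlgHom.comp_apply, show (T h).comp (T g) = _ from e2] at this
    exact this
  have := hg hann
  rw [RingHom.mem_ker, ← counit_T, ← AlgHom.comp_apply, show (T g).comp (T h) = _ from e1] at this
  exact s.2 this

end Cartier

/-- Cartier: a commutative Hopf algebra over an algebraically closed field of characteristic zero is
reduced, without finiteness assumptions. -/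
theorem isReduced [CharZero k] [IsAlgClosed k] : IsReduced A := by
  refine ⟨fun a ha => ?_⟩
  obtain ⟨D, hD, hDfg, haD⟩ := PointLift.exists_fg_hopfSub (k := k) (Set.finite_singleton a)
  letI := H20FF.subHopf hD
  haveI : Algebra.FiniteType k D := (Subalgebra.fg_iff_finiteType D).mp hDfg
  haveI := isReduced_of_finiteType (k := k) (A := D)
  obtain ⟨n, hn⟩ := ha
  have : (⟨a, haD rfl⟩ : D) = 0 := IsNilpotent.eq_zero ⟨n, Subtype.ext hn⟩
  exact congrArg Subtype.val this

end Groth.Agent.H19Grp.HopfReduced
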