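import Mathlib
import Groth.Agent.H20FF.SubHopf
import Groth.Agent.H20OT.Truncated
import Groth.Agent.H19Grp.HopfReduced
import Groth.Agent.H3CAlg.FiniteAlg

/-!
Finite commutative Hopf algebras over a field: the local part has p-power dimension, and the
convolution power of the identity by the dimension is trivial (a finite group scheme is killed by its
order).
-/

set_option autoImplicit false
set_option linter.style.haveILetI false
set_option backward.isDefEq.respectTransparency false

universe u v

open TensorProduct WithConv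

namespace Groth.Agent.H19Grp.OrderKills

variable {k : Type u} [Field k] {A : Type v} [CommRing A] [HopfAlgebra k A]

local notation "aug" => RingHom.ker (Bialgebra.counitAlgHom k A)

theorem sub_counit_mem (a : A) : a - algebraMap k A (Bialgebra.counitAlgHom k A a) ∈ aug := by
  rw [RingHom.mem_ker, map_sub, AlgHom.commutes]; exact sub_self _

theorem aug_isMaximal : (aug).IsMaximal :=
  RingHom.ker_isMaximal_of_surjective _ fun c => ⟨algebraMap k A c, (Bialgebra.counitAlgHom k A).commutes c⟩

theorem nontrivial_of_bialgebra (k : Type u) (A : Type v) [Field k] [CommRing A] [HopfAlgebra k A] :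
    Nontrivial A :=
  (Bialgebra.counitAlgHom k A).toRingHom.domain_nontrivial

theorem charP_of_bialgebra (p : ℕ) [CharP k p] : CharP A p :=
  haveI := nontrivial_of_bialgebra k A
  charP_of_injective_algebraMap (algebraMap k A).injective p

theorem pow_add_of_charP {S : Type*} [CommRing S] (p : ℕ) [Fact p.Prime] (hp : (p : S) = 0) (x y : S) :
    (x + y) ^ p = x ^ p + y ^ p := by
  obtain ⟨r, hr⟩ := exists_add_pow_prime_eq (Fact.out : p.Prime) x y
  rw [hr, hp]; ring

theorem pow_finrank_eq_bot {B : Type v} [CommRing B] [Algebra k B] [Module.Finite k B] {J : Ideal B}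
    (hJ : J ≤ nilradical B) : J ^ Module.finrank k B = ⊥ := by
  haveI : IsNoetherianRing B := IsNoetherianRing.of_finite k B
  have key : ∀ j : ℕ, J ^ j = ⊥ ∨ Module.finrank k ((J ^ j).restrictScalars k) + j ≤ Module.finrank k B := by
    intro j
    induction j with
    | zero => exact Or.inr (by simpa using Submodule.finrank_le _)
    | succ j ih =>
      rcases ih with h | h
      · exact Or.inl (by rw [pow_succ, h, Ideal.bot_mul])
      · by_cases he : J ^ (j + 1) = J ^ j
        · refine Or.inl ?_
          rw [he]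
          refine Submodule.eq_bot_of_le_smul_of_le_jacobson_bot J (J ^ j) (IsNoetherian.noetherian _) ?_
            (hJ.trans ((Ideal.radical_le_jacobson)))
          rw [smul_eq_mul, ← pow_succ', he]
        · refine Or.inr ?_
          have hlt : (J ^ (j + 1)).restrictScalars k < (J ^ j).restrictScalars k := by
            refine lt_of_le_of_ne (fun x hx => Ideal.pow_le_pow_right (Nat.le_succ j) hx) fun e => he ?_
            exact Submodule.restrictScalars_injective k B B e
          have := Submodule.finrank_lt_finrank_of_lt hlt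
          omega
  rcases key (Module.finrank k B) with h | h
  · exact h
  · have h0 : Module.finrank k ((J ^ Module.finrank k B).restrictScalars k) = 0 := by omega
    have := Submodule.finrank_eq_zero.1 h0
    exact Submodule.restrictScalars_injective k B B (by simpa using this)

/-! ### Local algebras: dimension is a power of the characteristic -/

theorem aug_le_nilradical [IsLocalRing A] [Module.Finite k A] : aug ≤ nilradical A := by
  haveI : IsArtinianRing A := IsArtinianRing.of_finite k A
  rw [nilradical_eq_sInf]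
  refine le_sInf fun J hJ => ?_
  haveI : J.IsPrime := hJ
  haveI : J.IsMaximal := IsArtinianRing.isMaximal_of_isPrime J
  rw [IsLocalRing.eq_maximalIdeal (inferInstance : J.IsMaximal), ← IsLocalRing.eq_maximalIdeal (aug_isMaximal (k := k) (A := A))]

section Frob

variable (p : ℕ) [Fact p.Prime] [CharP k p] [PerfectField k]

/-- The image of Frobenius as a subalgebra. -/
def frobSub : Subalgebra k A :=
  { carrier := Set.range fun a : A => a ^ p
    mul_mem' := by rintro _ _ ⟨a, rfl⟩ ⟨b, rfl⟩; exact ⟨a * b, mul_pow a b p⟩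
    add_mem' := by
      haveI := charP_of_bialgebra (k := k) (A := A) p
      rintro _ _ ⟨a, rfl⟩ ⟨b, rfl⟩
      exact ⟨a + b, pow_add_of_charP p (CharP.cast_eq_zero A p) a b⟩
    algebraMap_mem' := fun r => by
      haveI : ExpChar k p := ExpChar.prime (Fact.out : p.Prime)
      haveI : PerfectRing k p := PerfectField.toPerfectRing p
      obtain ⟨s, hs⟩ := (PerfectRing.bijective_frobenius (R := k) (p := p)).2 r
      exact ⟨algebraMap k A s, by show (algebraMap k A s) ^ p = _; rw [← map_pow, ← hs]⟩ }

theorem isHopfSub_frobSub : H20FF.IsHopfSub (frobSub (k := k) (A := A) p) := by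
  haveI := charP_of_bialgebra (k := k) (A := A) p
  constructor
  · rintro _ ⟨a, rfl⟩
    have hmem : ∀ z : A ⊗[k] A, z ^ p ∈ LinearMap.range (TensorProduct.map
        (frobSub (k := k) (A := A) p).val.toLinearMap (frobSub (k := k) (A := A) p).val.toLinearMap) := by
      intro z
      induction z using TensorProduct.induction_on with
      | zero => rw [zero_pow (Fact.out : p.Prime).ne_zero]; exact zero_mem _
      | tmul x y => exact ⟨(⟨x ^ p, x, rfl⟩ : frobSub (k := k) (A := A) p) ⊗ₜ ⟨y ^ p, y, rfl⟩,
          (Algebra.TensorProduct.tmul_pow x y p).symm⟩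
      | add x y hx hy =>
        rw [pow_add_of_charP p (by rw [← map_natCast (algebraMap k (A ⊗[k] A)), CharP.cast_eq_zero, map_zero]) x y]
        exact add_mem hx hy
    show CoalgebraStruct.comul (R := k) (a ^ p) ∈ _
    rw [show CoalgebraStruct.comul (R := k) (a ^ p) = (Bialgebra.comulAlgHom k A a) ^ p from
      map_pow (Bialgebra.comulAlgHom k A) a p]
    exact hmem _
  · rintro _ ⟨a, rfl⟩
    exact ⟨HopfAlgebra.antipode k a, (map_pow (HopfAlgebra.antipodeAlgHom k A) a p).symm⟩

theorem finrank_eq_mul [Module.Finite k A] [IsLocalRing A] :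
    ∃ d : ℕ, Module.finrank k A = Module.finrank k (frobSub (k := k) (A := A) p) * p ^ d := by
  classical
  haveI := charP_of_bialgebra (k := k) (A := A) p
  haveI : IsNoetherianRing A := IsNoetherianRing.of_finite k A
  haveI := H20OT.finite_cotangent (k := k) (A := A)
  let b := Module.finBasis k (H20OT.augIdeal k A).Cotangent
  obtain ⟨L⟩ := H20OT.exists_cotLift b
  have hI : H20OT.augIdeal k A ≤ nilradical A := aug_le_nilradical
  have hJ := L.finrank_quotient p (n := Module.finrank k A) (pow_finrank_eq_bot hI)
  set C := frobSub (k := k) (A := A) p with hC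
  let f : A →+* C := (frobenius A p).codRestrict C fun a => ⟨a, rfl⟩
  have hf : Function.Surjective f := by
    rintro ⟨_, a, rfl⟩; exact ⟨a, Subtype.ext rfl⟩
  haveI : Nontrivial C := ⟨⟨0, 1, fun h => zero_ne_one (congrArg Subtype.val h : (0 : A) = 1)⟩⟩
  haveI : IsLocalRing C := IsLocalRing.of_surjective' f hf
  haveI : Module.Finite C A := Module.Finite.of_restrictScalars_finite k C A
  haveI := H20FF.faithfullyFlat_subalgebra (isHopfSub_frobSub (k := k) (A := A) p)
  haveI : Module.Free C A := Module.free_of_flat_of_isLocalRing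
  let e := Module.finBasis C A
  let coord : A →ₗ[k] (Fin (Module.finrank C A) → k) :=
    { toFun := fun a i => Bialgebra.counitAlgHom k A ((e.repr a i : C) : A)
      map_add' := fun x y => by funext i; simp
      map_smul' := fun r x => by
        funext i
        rw [← IsScalarTower.algebraMap_smul C r x, map_smul, Finsupp.smul_apply]
        simp [Algebra.smul_def] }
  have hsurj : Function.Surjective coord := fun v => by
    refine ⟨e.equivFun.symm fun i => algebraMap k C (v i), funext fun i => ?_⟩
    show Bialgebra.counitAlgHom k A ((e.equivFun (e.equivFun.symm _) i : C) : A) = _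
    rw [LinearEquiv.apply_symm_apply, Subalgebra.coe_algebraMap, AlgHom.commutes]
    rfl
  have hker : LinearMap.ker coord =
      (Ideal.span ((fun a : A => a ^ p) '' (H20OT.augIdeal k A : Set A))).restrictScalars k := by
    ext a
    rw [LinearMap.mem_ker, Submodule.restrictScalars_mem]
    constructor
    · intro h
      rw [← e.sum_repr a]
      refine Ideal.sum_mem _ fun i _ => ?_
      rw [Algebra.smul_def]
      refine Ideal.mul_mem_right _ _ ?_
      obtain ⟨b, hb⟩ := (e.repr a i).2
      change b ^ p = ((e.repr a i : C) : A) at hb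
      have hi : Bialgebra.counitAlgHom k A ((e.repr a i : C) : A) = 0 := congrFun h i
      rw [← hb, map_pow] at hi
      refine Ideal.subset_span ⟨b, ?_, hb⟩
      exact RingHom.mem_ker.2 (eq_zero_of_pow_eq_zero hi)
    · intro h
      induction h using Submodule.span_induction with
      | mem y hy => 
        obtain ⟨b, hb, rfl⟩ := hy
        have : ∀ x : A, coord (b ^ p * x) = 0 := fun x => by
          funext i
          show Bialgebra.counitAlgHom k A ((e.repr ((⟨b ^ p, b, rfl⟩ : C) • x) i : C) : A) = 0
          rw [map_smul, Finsupp.smul_apply, smul_eq_mul, Subalgebra.coe_mul, map_mul]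
          show Bialgebra.counitAlgHom k A (b ^ p) * _ = 0
          rw [map_pow, RingHom.mem_ker.1 hb, zero_pow (Fact.out : p.Prime).ne_zero, zero_mul]
        simpa using this 1
      | zero => exact map_zero _
      | add x y _ _ hx hy => rw [map_add, hx, hy, add_zero]
      | smul c x hx0 hx =>
        obtain ⟨cs, rfl⟩ : ∃ cs, cs = c := ⟨c, rfl⟩
        funext i
        show Bialgebra.counitAlgHom k A ((e.repr (cs * x) i : C) : A) = 0
        have hx' : ∀ j, Bialgebra.counitAlgHom k A ((e.repr x j : C) : A) = 0 := congrFun hx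
        rw [← e.sum_repr x, Finset.mul_sum]
        simp only [Algebra.mul_smul_comm, map_sum, map_smul, Finsupp.coe_finsetSum, Finset.sum_apply,
          Finsupp.smul_apply, smul_eq_mul, AddSubmonoidClass.coe_finsetSum, Subalgebra.coe_mul, map_mul, hx',
          zero_mul, Finset.sum_const_zero]
  refine ⟨Fintype.card (Fin (Module.finrank k (H20OT.augIdeal k A).Cotangent)), ?_⟩
  rw [← hJ, ← Module.finrank_mul_finrank k C A]
  congr 1
  rw [← (Submodule.Quotient.restrictScalarsEquiv k (Ideal.span ((fun a : A => a ^ p) '' (H20OT.augIdeal k A : Set A)))).finrank_eq,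
    ← hker, (coord.quotKerEquivOfSurjective hsurj).finrank_eq, Module.finrank_fintype_fun_eq_card, Fintype.card_fin]

/-- A local finite Hopf algebra has prime power dimension. -/
theorem finrank_eq_pow : ∀ (A : Type v) [CommRing A] [HopfAlgebra k A] [Module.Finite k A] [IsLocalRing A],
    ∃ n : ℕ, Module.finrank k A = p ^ n := by
  intro A _ _ _ _
  induction hN : Module.finrank k A using Nat.strong_induction_on generalizing A with
  | _ N ih =>
    subst hN
    obtain ⟨d, hd⟩ := finrank_eq_mul (k := k) (A := A) p
    let C := frobSub (k := k) (A := A) p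
    letI := H20FF.subHopf (isHopfSub_frobSub (k := k) (A := A) p)
    haveI := charP_of_bialgebra (k := k) (A := A) p
    let f : A →+* C := (frobenius A p).codRestrict C fun a => ⟨a, rfl⟩
    have hf : Function.Surjective f := by
      rintro ⟨_, a, rfl⟩; exact ⟨a, Subtype.ext rfl⟩
    haveI : Nontrivial C := ⟨⟨0, 1, fun h => zero_ne_one (congrArg Subtype.val h : (0 : A) = 1)⟩⟩
    haveI : IsLocalRing C := IsLocalRing.of_surjective' f hf
    rcases Nat.eq_zero_or_pos d with rfl | hd'
    · -- every element is a p-th power, so the augmentation ideal vanishes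
      rw [pow_zero, mul_one] at hd
      have htop : C = ⊤ := Algebra.toSubmodule_eq_top.1 (Submodule.eq_top_of_finrank_eq (S := Subalgebra.toSubmodule C) hd.symm)
      refine ⟨0, ?_⟩
      have hroot : ∀ (m : ℕ) (a : A), Bialgebra.counitAlgHom k A a = 0 →
          ∃ c, Bialgebra.counitAlgHom k A c = 0 ∧ c ^ p ^ m = a := by
        intro m
        induction m with
        | zero => exact fun a ha => ⟨a, ha, by simp⟩
        | succ m ihm =>
          intro a ha
          obtain ⟨c, hc, rfl⟩ := ihm a ha
          obtain ⟨b, hb⟩ : c ∈ C := htop ▸ Algebra.mem_top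
          change b ^ p = c at hb
          subst hb
          refine ⟨b, eq_zero_of_pow_eq_zero (n := p) (by rw [← map_pow]; exact hc), ?_⟩
          rw [pow_succ', pow_mul]
      rw [pow_zero]
      refine le_antisymm (finrank_le_one (1 : A) fun a => ⟨Bialgebra.counitAlgHom k A a, ?_⟩) ?_
      · obtain ⟨c, hc, hca⟩ := hroot (Module.finrank k A) _ (RingHom.mem_ker.1 (sub_counit_mem a))
        have hlt : Module.finrank k A ≤ p ^ Module.finrank k A :=
          (Nat.lt_pow_self (Fact.out : p.Prime).one_lt).le
        have : c ^ p ^ Module.finrank k A ∈ (⊥ : Ideal A) := by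
          rw [← pow_finrank_eq_bot (k := k) (aug_le_nilradical (k := k) (A := A))]
          exact Ideal.pow_le_pow_right hlt (Ideal.pow_mem_pow (RingHom.mem_ker.2 hc) _)
        rw [Ideal.mem_bot, hca, sub_eq_zero] at this
        rw [← Algebra.algebraMap_eq_smul_one, ← this]
      · exact Module.finrank_pos
    · have hlt : Module.finrank k C < Module.finrank k A := by
        rw [hd]
        exact lt_mul_of_one_lt_right Module.finrank_pos (Nat.one_lt_pow hd'.ne' (Fact.out : p.Prime).one_lt)
      obtain ⟨n, hn⟩ := ih _ hlt C rfl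
      exact ⟨n + d, by rw [hd, hn, pow_add]⟩

end Frob

/-! ### The order kills the group -/

section Global

variable [IsAlgClosed k] [Module.Finite k A]

/-- post-composition on points -/
def post {T T' : Type*} [CommRing T] [Algebra k T] [CommRing T'] [Algebra k T'] (h : T →ₐ[k] T') :
    WithConv (A →ₐ[k] T) →* WithConv (A →ₐ[k] T') where
  toFun f := toConv (h.comp f.ofConv)
  map_one' := WithConv.ofConv_injective (AlgHom.ext fun a => h.commutes _)
  map_mul' f g := WithConv.ofConv_injective (AlgHom.comp_convMul_distrib h f g)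

/-- translation by a rational point -/
noncomputable def tau (x : WithConv (A →ₐ[k] k)) : A →ₐ[k] A :=
  (post (Algebra.ofId k A) x * toConv (AlgHom.id k A)).ofConv

omit [IsAlgClosed k] [Module.Finite k A] in
theorem tau_comp (x y : WithConv (A →ₐ[k] k)) : (tau x).comp (tau y) = tau (y * x) := by
  have h := map_mul (post (A := A) (tau x)) (post (Algebra.ofId k A) y) (toConv (AlgHom.id k A))
  have h1 : post (A := A) (tau x) (post (Algebra.ofId k A) y) = post (Algebra.ofId k A) y :=
    WithConv.ofConv_injective (AlgHom.ext fun a => (tau x).commutes _)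
  have h2 : post (A := A) (tau x) (toConv (AlgHom.id k A)) = toConv (tau x) :=
    WithConv.ofConv_injective (AlgHom.comp_id _)
  rw [h1, h2] at h
  refine (congrArg WithConv.ofConv h).trans ?_
  show (post (Algebra.ofId k A) y * (post (Algebra.ofId k A) x * toConv (AlgHom.id k A))).ofConv = _
  rw [← mul_assoc, ← map_mul]
  rfl

omit [IsAlgClosed k] [Module.Finite k A] in
theorem tau_one : tau (1 : WithConv (A →ₐ[k] k)) = AlgHom.id k A := by
  rw [tau, map_one, one_mul]

omit [IsAlgClosed k] [Module.Finite k A] in
theorem counit_comp_tau (x : WithConv (A →ₐ[k] k)) : (Bialgebra.counitAlgHom k A).comp (tau x) = x.ofConv := by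
  have h := map_mul (post (A := A) (Bialgebra.counitAlgHom k A)) (post (Algebra.ofId k A) x) (toConv (AlgHom.id k A))
  have h1 : post (A := A) (Bialgebra.counitAlgHom k A) (post (Algebra.ofId k A) x) = x :=
    WithConv.ofConv_injective (AlgHom.ext fun a => (Bialgebra.counitAlgHom k A).commutes _)
  have h2 : post (A := A) (Bialgebra.counitAlgHom k A) (toConv (AlgHom.id k A)) = 1 :=
    WithConv.ofConv_injective (AlgHom.ext fun a => rfl)
  rw [h1, h2, mul_one] at h
  exact congrArg WithConv.ofConv h

/-- translation as an automorphism -/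
noncomputable def tauEquiv (x : WithConv (A →ₐ[k] k)) : A ≃ₐ[k] A :=
  AlgEquiv.ofAlgHom (tau x) (tau x⁻¹) (by rw [tau_comp, inv_mul_cancel, tau_one])
    (by rw [tau_comp, mul_inv_cancel, tau_one])

/-- rational points and maximal ideals -/
noncomputable def pointEquiv : WithConv (A →ₐ[k] k) ≃ MaximalSpectrum A :=
  Equiv.ofBijective (fun x => ⟨RingHom.ker x.ofConv,
      RingHom.ker_isMaximal_of_surjective _ fun c => ⟨algebraMap k A c, x.ofConv.commutes c⟩⟩)
    ⟨fun x y h => by
      have h' : RingHom.ker x.ofConv = RingHom.ker y.ofConv := congrArg MaximalSpectrum.asIdeal h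
      refine WithConv.ofConv_injective (AlgHom.ext fun a => ?_)
      have : a - algebraMap k A (y.ofConv a) ∈ RingHom.ker x.ofConv := by
        rw [h', RingHom.mem_ker, map_sub, AlgHom.commutes]; exact sub_self _
      rw [RingHom.mem_ker, map_sub, AlgHom.commutes] at this
      exact sub_eq_zero.1 this,
    fun M => by
      haveI := M.isMaximal
      letI := Ideal.Quotient.field M.asIdeal
      have hb : Function.Bijective (Algebra.ofId k (A ⧸ M.asIdeal)) :=
        IsAlgClosed.algebraMap_bijective_of_isIntegral
      refine ⟨toConv ((AlgEquiv.ofBijective _ hb).symm.toAlgHom.comp (Ideal.Quotient.mkₐ k M.asIdeal)), ?_⟩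
      refine MaximalSpectrum.ext (Ideal.ext fun a => ?_)
      show (AlgEquiv.ofBijective _ hb).symm (Ideal.Quotient.mkₐ k M.asIdeal a) = 0 ↔ _
      rw [AddEquivClass.map_eq_zero_iff]
      exact Ideal.Quotient.eq_zero_iff_mem⟩

omit [IsAlgClosed k] in
theorem nilradical_pow : nilradical A ^ Module.finrank k A = ⊥ := pow_finrank_eq_bot le_rfl

omit [IsAlgClosed k] in
theorem aug_pow_idem : (aug) ^ Module.finrank k A ≤ ((aug) ^ Module.finrank k A) * ((aug) ^ Module.finrank k A) := by
  classical
  haveI : IsArtinianRing A := IsArtinianRing.of_finite k A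
  set e := Module.finrank k A with he
  let M₀ : MaximalSpectrum A := ⟨aug, aug_isMaximal⟩
  obtain ⟨z, hz⟩ := (IsArtinianRing.quotNilradicalPowEquivPi A e).surjective (Pi.single M₀ 1)
  obtain ⟨c, rfl⟩ := Ideal.Quotient.mk_surjective z
  have hc : ∀ M : MaximalSpectrum A, Ideal.Quotient.mk (M.asIdeal ^ e) c = (Pi.single M₀ 1 : ∀ M : MaximalSpectrum A, A ⧸ M.asIdeal ^ e) M :=
    fun M => congrFun hz M
  have hc1 : 1 - c ∈ (aug) ^ e := by
    rw [← Ideal.Quotient.eq_zero_iff_mem, map_sub, map_one]
    have := hc M₀
    rw [Pi.single_eq_same] at this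
    exact sub_eq_zero.2 this.symm
  intro a ha
  have h0 : a * c = 0 := by
    rw [← Ideal.mem_bot, ← nilradical_pow (k := k) (A := A), IsArtinianRing.nilradical_pow_eq_iInf, Ideal.mem_iInf]
    intro M
    by_cases hM : M = M₀
    · subst hM; exact Ideal.mul_mem_right _ _ ha
    · have := hc M
      rw [Pi.single_eq_of_ne hM] at this
      exact Ideal.mul_mem_left _ _ (Ideal.Quotient.eq_zero_iff_mem.1 this)
  have : a = a * (1 - c) := by rw [mul_sub, h0, mul_one, sub_zero]
  rw [this]
  exact Ideal.mul_mem_mul ha hc1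

omit [IsAlgClosed k] in
theorem aug_pow_le (m : ℕ) : (aug) ^ Module.finrank k A ≤ (aug) ^ m := by
  haveI := nontrivial_of_bialgebra k A
  have h : ∀ j, (aug) ^ Module.finrank k A ≤ ((aug) ^ Module.finrank k A) ^ (j + 1) := by
    intro j
    induction j with
    | zero => rw [zero_add, pow_one]
    | succ j ih =>
      refine (aug_pow_idem (k := k) (A := A)).trans ?_
      rw [pow_succ _ (j + 1)]
      exact Ideal.mul_mono_left ih
  refine (h m).trans ?_
  rw [← pow_mul]
  refine Ideal.pow_le_pow_right ?_
  have : 1 ≤ Module.finrank k A := Module.finrank_pos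
  calc m ≤ 1 * (m + 1) := by omega
    _ ≤ _ := Nat.mul_le_mul_right _ this

theorem finrank_eq_card_mul : Module.finrank k A =
    Nat.card (WithConv (A →ₐ[k] k)) * Module.finrank k (A ⧸ (aug) ^ Module.finrank k A) := by
  classical
  haveI : IsArtinianRing A := IsArtinianRing.of_finite k A
  letI : Fintype (MaximalSpectrum A) := Fintype.ofFinite _
  set e := Module.finrank k A with he
  have hbot : nilradical A ^ e = ⊥ := nilradical_pow
  let E : A ≃ₗ[k] ∀ M : MaximalSpectrum A, A ⧸ M.asIdeal ^ e :=
    ((AlgEquiv.quotientBot k A).symm.toLinearEquiv.trans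
      (Ideal.quotientEquivAlgOfEq k hbot.symm).toLinearEquiv).trans
      ((IsArtinianRing.quotNilradicalPowEquivPi A e).toLinearEquiv.restrictScalars k)
  have hM : ∀ M : MaximalSpectrum A, Module.finrank k (A ⧸ M.asIdeal ^ e) = Module.finrank k (A ⧸ (aug) ^ e) := by
    intro M
    obtain ⟨x, rfl⟩ := (pointEquiv (k := k) (A := A)).surjective M
    refine (Ideal.quotientEquivAlg _ _ (tauEquiv x) ?_).toLinearEquiv.finrank_eq
    rw [Ideal.map_pow]
    congr 1
    have h1 : RingHom.ker x.ofConv = Ideal.comap (tauEquiv x).toRingEquiv.toRingHom (aug) := by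
      rw [← counit_comp_tau x]; rfl
    show aug = Ideal.map (tauEquiv x).toRingEquiv.toRingHom (RingHom.ker x.ofConv)
    rw [h1, Ideal.map_comap_of_surjective (tauEquiv x).toRingEquiv.toRingHom (tauEquiv x).surjective]
  refine E.finrank_eq.trans ?_
  rw [Module.finrank_pi_fintype, Finset.sum_congr rfl (fun M _ => hM M), Finset.sum_const, Finset.card_univ,
    smul_eq_mul, Nat.card_congr (pointEquiv (k := k) (A := A)), Nat.card_eq_fintype_card]

omit [IsAlgClosed k] in
/-- The connected component of the unit is a Hopf quotient, of dimension a power of the characteristic. -/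
theorem finrank_component_eq_pow (p : ℕ) [Fact p.Prime] [CharP k p] [PerfectField k] :
    ∃ v : ℕ, Module.finrank k (A ⧸ (aug) ^ Module.finrank k A) = p ^ v := by
  haveI := nontrivial_of_bialgebra k A
  set e := Module.finrank k A with he
  have he1 : 1 ≤ e := Module.finrank_pos
  set I₀ : Ideal A := (aug) ^ e with hI₀
  have hle : I₀ ≤ aug := Ideal.pow_le_self (by omega)
  let q : A →ₐ[k] A ⧸ I₀ := Ideal.Quotient.mkₐ k I₀
  let ε₀ : (A ⧸ I₀) →ₐ[k] k := Ideal.Quotient.liftₐ I₀ (Bialgebra.counitAlgHom k A) fun a ha => hle ha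
  have hnil : ∀ u : A ⧸ I₀, IsNilpotent (u - algebraMap k _ (ε₀ u)) := by
    intro u
    obtain ⟨a, rfl⟩ := Ideal.Quotient.mk_surjective u
    refine ⟨e, ?_⟩
    show (q a - algebraMap k _ (Bialgebra.counitAlgHom k A a)) ^ e = 0
    rw [← q.commutes, ← map_sub, ← map_pow]
    exact Ideal.Quotient.eq_zero_iff_mem.2 (Ideal.pow_mem_pow (sub_counit_mem a) _)
  let εε : (A ⧸ I₀) ⊗[k] (A ⧸ I₀) →ₐ[k] k := Algebra.TensorProduct.lift ε₀ ε₀ fun _ _ => Commute.all _ _
  let ψ : A →ₐ[k] (A ⧸ I₀) ⊗[k] (A ⧸ I₀) :=
    (Algebra.TensorProduct.map q q).comp (Bialgebra.comulAlgHom k A)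
  have hnil2 : ∀ z, IsNilpotent (z - algebraMap k _ (εε z)) := by
    intro z
    induction z using TensorProduct.induction_on with
    | zero => simp
    | tmul u w =>
      have e1 : u ⊗ₜ[k] w - algebraMap k _ (εε (u ⊗ₜ w)) =
          (u - algebraMap k _ (ε₀ u)) ⊗ₜ w + ε₀ u • ((1 : A ⧸ I₀) ⊗ₜ[k] (w - algebraMap k _ (ε₀ w))) := by
        rw [show εε (u ⊗ₜ w) = ε₀ u * ε₀ w from Algebra.TensorProduct.lift_tmul _ _ _ _ _]
        simp only [TensorProduct.sub_tmul, TensorProduct.tmul_sub, smul_sub, Algebra.algebraMap_eq_smul_one,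
          Algebra.TensorProduct.one_def, ← TensorProduct.smul_tmul', TensorProduct.tmul_smul, smul_smul]
        abel
      rw [e1]
      refine (Commute.all _ _).isNilpotent_add ?_ ?_
      · obtain ⟨n, hn⟩ := hnil u
        exact ⟨n, by rw [Algebra.TensorProduct.tmul_pow, hn, TensorProduct.zero_tmul]⟩
      · refine IsNilpotent.smul ?_ _
        obtain ⟨n, hn⟩ := hnil w
        exact ⟨n, by rw [Algebra.TensorProduct.tmul_pow, hn, TensorProduct.tmul_zero]⟩
    | add u w hu hw =>
      rw [map_add, map_add, add_sub_add_comm]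
      exact (Commute.all _ _).isNilpotent_add hu hw
  have hεψ : εε.comp ψ = Bialgebra.counitAlgHom k A := by
    refine AlgHom.ext fun a => ?_
    show εε (Algebra.TensorProduct.map q q (CoalgebraStruct.comul (R := k) a)) = _
    have h1 : ∀ y : A ⊗[k] A, εε (Algebra.TensorProduct.map q q y) =
        TensorProduct.lid k k (TensorProduct.map (Bialgebra.counitAlgHom k A).toLinearMap (Bialgebra.counitAlgHom k A).toLinearMap y) := by
      intro y
      induction y using TensorProduct.induction_on with
      | zero => simp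
      | tmul u w =>
        rw [Algebra.TensorProduct.map_tmul,
          show εε (q u ⊗ₜ q w) = ε₀ (q u) * ε₀ (q w) from Algebra.TensorProduct.lift_tmul _ _ _ _ _]
        rfl
      | add u w hu hw => rw [map_add, map_add, map_add, map_add, hu, hw]
    rw [h1]
    have h2 := congrArg (fun t => TensorProduct.lid k k ((Bialgebra.counitAlgHom k A).toLinearMap.lTensor k t))
      (Coalgebra.rTensor_counit_comul (R := k) a)
    simp only [LinearMap.lTensor_tmul, TensorProduct.lid_tmul, one_smul] at h2
    refine Eq.trans ?_ h2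
    rw [← LinearMap.lTensor_comp_rTensor]
    rfl
  have hψI : Ideal.map ψ (aug) ≤ nilradical _ := Ideal.map_le_iff_le_comap.2 fun a ha => by
    have := hnil2 (ψ a)
    rw [show εε (ψ a) = 0 from (AlgHom.congr_fun hεψ a).trans ha, map_zero, sub_zero] at this
    exact this
  haveI : (I₀.restrictScalars k).IsCoideal :=
    ⟨fun a ha => hle ha, fun a ha => by
      show ψ a = 0
      rw [← Ideal.mem_bot, ← pow_finrank_eq_bot (k := k) hψI, ← Ideal.map_pow]
      exact Ideal.mem_map_of_mem _ (aug_pow_le _ ha)⟩
  have hS : Ideal.map (HopfAlgebra.antipodeAlgHom k A) (aug) ≤ aug :=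
    Ideal.map_le_iff_le_comap.2 fun b hb => by
      show Coalgebra.counit (R := k) (HopfAlgebra.antipode k b) = 0
      rw [HopfAlgebra.counit_antipode]; exact hb
  have hanti : ∀ a ∈ I₀, HopfAlgebra.antipode k a ∈ I₀ := fun a ha => by
    have := Ideal.pow_right_mono hS e
    rw [← Ideal.map_pow] at this
    exact this (Ideal.mem_map_of_mem (HopfAlgebra.antipodeAlgHom k A) ha)
  haveI : I₀.IsHopfIdeal k := { antipode_mem := fun a ha => hanti a ha }
  haveI : Nontrivial (A ⧸ I₀) := Ideal.Quotient.nontrivial_iff.2 fun h => (aug_isMaximal (k := k) (A := A)).ne_top (top_le_iff.1 (h ▸ hle))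
  haveI : IsLocalRing (A ⧸ I₀) := IsLocalRing.of_isUnit_or_isUnit_one_sub_self fun u => by
    by_cases h : ε₀ u = 0
    · have := hnil u
      rw [h, map_zero, sub_zero] at this
      exact Or.inr this.isUnit_one_sub
    · refine Or.inl ?_
      have := (hnil u).isUnit_add_left_of_commute ((Ne.isUnit h).map (algebraMap k (A ⧸ I₀))) (Commute.all _ _)
      simpa using this
  exact finrank_eq_pow p (A ⧸ I₀)

omit [IsAlgClosed k] [Module.Finite k A] in
theorem convMul_mem {T : Type*} [CommRing T] [Algebra k T] {P Q : Ideal T} (f g : WithConv (A →ₗ[k] T))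
    (hf : ∀ a, f.ofConv a ∈ P) (hg : ∀ a, g.ofConv a ∈ Q) (a : A) : (f * g).ofConv a ∈ P * Q := by
  rw [LinearMap.convMul_def]
  show LinearMap.mul' k T (TensorProduct.map f.ofConv g.ofConv (CoalgebraStruct.comul (R := k) a)) ∈ _
  generalize CoalgebraStruct.comul (R := k) a = z
  induction z using TensorProduct.induction_on with
  | zero => simp
  | tmul u w => simpa using Ideal.mul_mem_mul (hf u) (hg w)
  | add u w hu hw => rw [map_add, map_add]; exact add_mem hu hw

omit [IsAlgClosed k] [Module.Finite k A] in
theorem convPow_mem {T : Type*} [CommRing T] [Algebra k T] {P : Ideal T} (f : WithConv (A →ₗ[k] T))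
    (hf : ∀ a, f.ofConv a ∈ P) : ∀ (m : ℕ) (a : A), (f ^ m).ofConv a ∈ P ^ m
  | 0, a => by rw [pow_zero P, Ideal.one_eq_top]; trivial
  | m + 1, a => by rw [pow_succ, pow_succ]; exact convMul_mem _ _ (convPow_mem f hf m) hf a

/-- A finite group scheme over an algebraically closed field is killed by its order. -/
theorem pow_finrank_eq_one_of_isAlgClosed :
    (toConv (AlgHom.id k A)) ^ Module.finrank k A = 1 := by
  classical
  haveI : IsArtinianRing A := IsArtinianRing.of_finite k A
  haveI := nontrivial_of_bialgebra k A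
  haveI : Finite (WithConv (A →ₐ[k] k)) := Finite.of_injective _ WithConv.ofConv_injective
  set e := Module.finrank k A with he
  have he1 : 1 ≤ e := Module.finrank_pos
  refine WithConv.ofConv_injective (AlgHom.ext fun a => ?_)
  rw [← sub_eq_zero, ← Ideal.mem_bot, ← nilradical_pow (k := k) (A := A), IsArtinianRing.nilradical_pow_eq_iInf,
    Ideal.mem_iInf]
  intro M
  obtain ⟨x, rfl⟩ := (pointEquiv (k := k) (A := A)).surjective M
  set P : Ideal A := RingHom.ker x.ofConv
  rw [← Ideal.Quotient.eq_zero_iff_mem, map_sub, sub_eq_zero]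
  show ((post (Ideal.Quotient.mkₐ k (P ^ e))) ((toConv (AlgHom.id k A)) ^ e)).ofConv a =
    ((post (Ideal.Quotient.mkₐ k (P ^ e))) (1 : WithConv (A →ₐ[k] A))).ofConv a
  rw [map_pow, map_one]
  let g : WithConv (A →ₐ[k] A ⧸ P ^ e) := post (Ideal.Quotient.mkₐ k (P ^ e)) (toConv (AlgHom.id k A))
  let r : (A ⧸ P ^ e) →ₐ[k] k := Ideal.Quotient.liftₐ (P ^ e) x.ofConv fun b hb => Ideal.pow_le_self (show e ≠ 0 by omega) hb
  have hrg : post r g = x := WithConv.ofConv_injective (AlgHom.ext fun b => rfl)
  obtain ⟨N₀, hN₀⟩ : ∃ N₀, N₀ = Module.finrank k (A ⧸ (aug) ^ e) := ⟨_, rfl⟩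
  set c := Nat.card (WithConv (A →ₐ[k] k)) with hc
  have hen : e = c * N₀ := by rw [he, hN₀]; exact finrank_eq_card_mul
  suffices hg : (g ^ c) ^ N₀ = 1 by
    rw [← pow_mul, ← hen] at hg
    exact congrArg (fun f : WithConv (A →ₐ[k] A ⧸ P ^ e) => f.ofConv a) hg
  set h := g ^ c
  have hrh : post r h = 1 := by
    show post r (g ^ c) = 1
    rw [map_pow, hrg, hc]
    exact pow_card_eq_one'
  let J : Ideal (A ⧸ P ^ e) := Ideal.map h.ofConv (aug)
  have hJn : J ≤ Ideal.map (Ideal.Quotient.mkₐ k (P ^ e)) P := Ideal.map_le_iff_le_comap.2 fun b hb => by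
    obtain ⟨z, hz⟩ := Ideal.Quotient.mk_surjective (h.ofConv b)
    have h' : x.ofConv z = Bialgebra.counitAlgHom k A b := by
      have := congrArg (fun f : WithConv (A →ₐ[k] k) => f.ofConv b) hrh
      refine Eq.trans ?_ this
      show r (Ideal.Quotient.mk (P ^ e) z) = r (h.ofConv b)
      rw [hz]
    rw [Ideal.mem_comap, ← hz]
    exact Ideal.mem_map_of_mem (Ideal.Quotient.mkₐ k (P ^ e)) (RingHom.mem_ker.2 (h'.trans hb))
  have hJe : J ^ e = ⊥ := le_bot_iff.1 ((Ideal.pow_right_mono hJn e).trans (by
    rw [← Ideal.map_pow]; exact le_of_eq (Ideal.map_quotient_self _)))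
  have hu : ∀ b, (toConv h.ofConv.toLinearMap - 1 : WithConv (A →ₗ[k] A ⧸ P ^ e)).ofConv b ∈ J := fun b => by
    show h.ofConv b - algebraMap k _ (Bialgebra.counitAlgHom k A b) ∈ J
    rw [← h.ofConv.commutes, ← map_sub]
    exact Ideal.mem_map_of_mem _ (sub_counit_mem b)
  rcases CharP.exists k with ⟨p, hp⟩
  rcases CharP.char_is_prime_or_zero k p with hprime | rfl
  · haveI : Fact p.Prime := ⟨hprime⟩
    obtain ⟨v, hv⟩ := finrank_component_eq_pow (k := k) (A := A) p
    rw [hN₀, hv]
    have hJv : J ^ (p ^ v) = ⊥ := by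
      rw [← le_bot_iff, ← hJe, ← Ideal.map_pow, ← Ideal.map_pow]
      refine Ideal.map_mono ?_
      have hI0 : Ideal.map (Ideal.Quotient.mkₐ k ((aug) ^ e)) (aug) ≤ nilradical _ :=
        Ideal.map_le_iff_le_comap.2 fun b hb => ⟨e, by
          rw [← map_pow]
          exact Ideal.Quotient.eq_zero_iff_mem.2 (Ideal.pow_mem_pow hb _)⟩
      have h1 := pow_finrank_eq_bot (k := k) hI0
      rw [hv, ← Ideal.map_pow, Ideal.map_eq_bot_iff_le_ker] at h1
      exact h1.trans (le_of_eq (Ideal.Quotient.mkₐ_ker k _))
    refine WithConv.ofConv_injective (AlgHom.toLinearMap_injective (WithConv.toConv_injective ?_))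
    rw [AlgHom.toLinearMap_convPow, AlgHom.toLinearMap_convOne]
    have hcast : (p : WithConv (A →ₗ[k] A ⧸ P ^ e)) = 0 := by
      rw [← nsmul_one, ← Nat.cast_smul_eq_nsmul k, CharP.cast_eq_zero, zero_smul]
    obtain ⟨w, hw⟩ := (Commute.one_right (toConv h.ofConv.toLinearMap - 1 :
      WithConv (A →ₗ[k] A ⧸ P ^ e))).exists_add_pow_prime_pow_eq hprime v
    rw [sub_add_cancel, one_pow, hcast] at hw
    simp only [zero_mul, add_zero] at hw
    rw [hw]
    have h0 : (toConv h.ofConv.toLinearMap - 1 : WithConv (A →ₗ[k] A ⧸ P ^ e)) ^ p ^ v = 0 :=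
      WithConv.ofConv_injective (LinearMap.ext fun b => by
        have := convPow_mem _ hu (p ^ v) b
        rwa [hJv, Ideal.mem_bot] at this)
    rw [h0, zero_add]
  · haveI : CharZero k := CharP.charP_to_charZero k
    haveI : IsReduced A := HopfReduced.isReduced (k := k)
    have hI : (aug) ≤ (aug) ^ e := by
      intro b hb
      have hN : (⊥ : Ideal A) = nilradical A ^ 1 := by rw [pow_one, nilradical_eq_zero]; rfl
      obtain ⟨z, hz⟩ := (IsArtinianRing.quotNilradicalPowEquivPi A 1).surjective
        (Pi.single (⟨aug, aug_isMaximal⟩ : MaximalSpectrum A) 1)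
      obtain ⟨d, rfl⟩ := Ideal.Quotient.mk_surjective z
      have hd : ∀ M : MaximalSpectrum A, Ideal.Quotient.mk (M.asIdeal ^ 1) d =
          (Pi.single (⟨aug, aug_isMaximal⟩ : MaximalSpectrum A) 1 : ∀ M : MaximalSpectrum A, A ⧸ M.asIdeal ^ 1) M :=
        fun M => congrFun hz M
      have hd1 : 1 - d ∈ aug := by
        have := hd ⟨aug, aug_isMaximal⟩
        rw [Pi.single_eq_same, ← map_one (Ideal.Quotient.mk _), Ideal.Quotient.eq, pow_one] at this
        simpa using (neg_mem this)
      have h0 : b * d = 0 := by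
        rw [← Ideal.mem_bot, hN, IsArtinianRing.nilradical_pow_eq_iInf, Ideal.mem_iInf]
        intro M
        rw [pow_one]
        by_cases hM : M = ⟨aug, aug_isMaximal⟩
        · subst hM; exact Ideal.mul_mem_right _ _ hb
        · have := hd M
          rw [Pi.single_eq_of_ne hM, Ideal.Quotient.eq_zero_iff_mem, pow_one] at this
          exact Ideal.mul_mem_left _ _ this
      have hb' : ∀ m : ℕ, b = b * (1 - d) ^ m := by
        intro m
        induction m with
        | zero => rw [pow_zero, mul_one]
        | succ m ih => rw [pow_succ, ← mul_assoc, ← ih, mul_sub, h0, mul_one, sub_zero]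
      rw [hb' e]
      exact Ideal.mul_mem_left _ _ (Ideal.pow_mem_pow hd1 _)
    have hJ : J = ⊥ := le_bot_iff.1 ((Ideal.map_mono hI).trans (by rw [Ideal.map_pow]; exact le_of_eq hJe))
    have h1 : h = 1 := WithConv.ofConv_injective (AlgHom.ext fun b => sub_eq_zero.1 (by
      have := hu b
      rwa [hJ, Ideal.mem_bot] at this))
    rw [h1, one_pow]

end Global

section BaseChange

variable (K : Type u) [Field K] [Algebra k K]

set_option synthInstance.maxHeartbeats 200000 in
/-- restriction of points of the base change -/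
noncomputable def restrictPt {T : Type*} [CommRing T] [Algebra K T] [Algebra k T] [IsScalarTower k K T] :
    WithConv ((K ⊗[k] A) →ₐ[K] T) →* WithConv (A →ₐ[k] T) where
  toFun F := toConv ((F.ofConv.restrictScalars k).comp Algebra.TensorProduct.includeRight)
  map_one' := WithConv.ofConv_injective (AlgHom.ext fun a => by
    show algebraMap K T (Coalgebra.counit (R := K) ((1 : K) ⊗ₜ[k] a)) = algebraMap k T (Coalgebra.counit (R := k) a)
    rw [TensorProduct.counit_tmul, CommSemiring.counit_apply, ← Algebra.algebraMap_eq_smul_one,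
      ← IsScalarTower.algebraMap_apply])
  map_mul' F G := WithConv.ofConv_injective (AlgHom.ext fun a => by
    show (F * G).ofConv ((1 : K) ⊗ₜ[k] a) = _
    erw [AlgHom.convMul_apply, AlgHom.convMul_apply]
    rw [TensorProduct.comul_tmul, CommSemiring.comul_apply]
    generalize CoalgebraStruct.comul (R := k) a = z
    induction z using TensorProduct.induction_on with
    | zero => simp
    | tmul u w => simp
    | add u w hu hw => simp only [TensorProduct.tmul_add, map_add, hu, hw])

/-- A finite group scheme over a field is killed by its order. -/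
theorem pow_finrank_eq_one [Module.Finite k A] : (toConv (AlgHom.id k A)) ^ Module.finrank k A = 1 := by
  let K := AlgebraicClosure k
  have h := congrArg (restrictPt (A := A) K) (pow_finrank_eq_one_of_isAlgClosed (k := K) (A := K ⊗[k] A))
  rw [map_pow, map_one, Module.finrank_baseChange] at h
  have h1 : restrictPt (A := A) K (toConv (AlgHom.id K (K ⊗[k] A))) =
      post (Algebra.TensorProduct.includeRight : A →ₐ[k] K ⊗[k] A) (toConv (AlgHom.id k A)) := rfl
  rw [h1, ← map_pow, ← map_one (post (Algebra.TensorProduct.includeRight : A →ₐ[k] K ⊗[k] A))] at h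
  refine WithConv.ofConv_injective (AlgHom.ext fun a => ?_)
  exact Algebra.TensorProduct.includeRight_injective (algebraMap k K).injective
    (congrArg (fun f : WithConv (A →ₐ[k] K ⊗[k] A) => f.ofConv a) h)

end BaseChange

/-! ### Order prime to the characteristic implies etale -/

section Etale

open scoped KaehlerDifferential

variable [Module.Finite k A]

theorem etale_of_finrank_ne_zero_of_isAlgClosed [IsAlgClosed k] (h : (Module.finrank k A : k) ≠ 0) :
    Algebra.FormallyUnramified k A := by
  rcases CharP.exists k with ⟨p, hp⟩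
  rcases CharP.char_is_prime_or_zero k p with hprime | rfl
  · haveI : Fact p.Prime := ⟨hprime⟩
    obtain ⟨v, hv⟩ := finrank_component_eq_pow (k := k) (A := A) p
    have hv0 : v = 0 := by
      by_contra hne
      refine h ?_
      rw [finrank_eq_card_mul (k := k) (A := A), hv, Nat.cast_mul, Nat.cast_pow, CharP.cast_eq_zero k p,
        zero_pow hne, mul_zero]
    rw [hv0, pow_zero] at hv
    rw [H20OT.formallyUnramified_iff_sq_augIdeal]
    refine le_antisymm (Ideal.pow_le_self two_ne_zero) ?_
    refine le_trans ?_ (aug_pow_le (k := k) (A := A) 2)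
    haveI := nontrivial_of_bialgebra k A
    set e := Module.finrank k A with he
    intro a ha
    have hle : (aug) ^ e ≤ aug := Ideal.pow_le_self Module.finrank_pos.ne'
    haveI : Nontrivial (A ⧸ (aug) ^ e) := Ideal.Quotient.nontrivial_iff.2 fun h =>
      (aug_isMaximal (k := k) (A := A)).ne_top (top_le_iff.1 (h ▸ hle))
    obtain ⟨c, hc⟩ := exists_smul_eq_of_finrank_eq_one hv (one_ne_zero (α := A ⧸ (aug) ^ e))
      (Ideal.Quotient.mk _ a)
    rw [← Algebra.algebraMap_eq_smul_one] at hc
    change Ideal.Quotient.mk _ (algebraMap k A c) = _ at hc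
    rw [Ideal.Quotient.eq] at hc
    have hc0 : c = 0 := by
      have h1 := RingHom.mem_ker.1 (hle hc)
      rw [map_sub, AlgHom.commutes, RingHom.mem_ker.1 ha, sub_zero] at h1
      exact h1
    rw [hc0, map_zero, zero_sub] at hc
    simpa using neg_mem hc
  · haveI : CharZero k := CharP.charP_to_charZero k
    haveI : IsReduced A := HopfReduced.isReduced (k := k)
    haveI := H3CAlg.formallyEtale_of_finite_isReduced k A
    infer_instance

/-- A finite group scheme of order prime to the characteristic is etale. -/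
theorem formallyUnramified_of_finrank_ne_zero (h : (Module.finrank k A : k) ≠ 0) :
    Algebra.FormallyUnramified k A := by
  let K := AlgebraicClosure k
  have hK : (Module.finrank K (K ⊗[k] A) : K) ≠ 0 := by
    rw [Module.finrank_baseChange, ← map_natCast (algebraMap k K)]
    exact fun h0 => h ((map_eq_zero _).1 h0)
  haveI := etale_of_finrank_ne_zero_of_isAlgClosed (k := K) (A := K ⊗[k] A) hK
  refine Algebra.FormallyUnramified.mk ?_
  letI : Algebra A (K ⊗[k] A) := Algebra.TensorProduct.rightAlgebra
  haveI : Subsingleton ((K ⊗[k] A) ⊗[A] Ω[A⁄k]) :=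
    (KaehlerDifferential.tensorKaehlerEquiv k K A (K ⊗[k] A)).toEquiv.subsingleton
  haveI : Module.Free k K := inferInstance
  haveI : Module.FaithfullyFlat A (A ⊗[k] K) := inferInstance
  let e : (A ⊗[k] K) ⊗[A] Ω[A⁄k] ≃ₗ[A] (K ⊗[k] A) ⊗[A] Ω[A⁄k] :=
    TensorProduct.congr
      (AlgEquiv.ofRingEquiv (f := (Algebra.TensorProduct.comm k A K).toRingEquiv) fun a => rfl).toLinearEquiv
      (LinearEquiv.refl A _)
  haveI : Subsingleton ((A ⊗[k] K) ⊗[A] Ω[A⁄k]) := e.toEquiv.subsingleton
  exact (Module.FaithfullyFlat.subsingleton_tensorProduct_iff_right A (A ⊗[k] K)).1 inferInstance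

end Etale

end Groth.Agent.H19Grp.OrderKills
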