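import Mathlib
import Groth.Agent.H19Grp.OrderKills
import Groth.Agent.H13CI.EFT
import Groth.Agent.H13CI.Regular
import Groth.Agent.H9CI.Presentation
import Groth.Agent.H1CAlg.LocalDim

/-!
Finite local commutative Hopf algebras over perfect fields of characteristic `p` are complete intersections.
-/

set_option autoImplicit false
set_option linter.style.haveILetI false
set_option backward.isDefEq.respectTransparency false

universe u

open IsLocalRing

namespace Groth.Agent.H19Grp.FiniteHopfCI

variable {k : Type u} [Field k]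

/-- Maximal ideals of polynomial rings have full height. -/
theorem le_dim_localization (n : ℕ) (q : Ideal (MvPolynomial (Fin n) k)) [q.IsMaximal] :
    (n : WithBot ℕ∞) ≤ ringKrullDim (Localization.AtPrime q) := by
  rw [IsLocalization.AtPrime.ringKrullDim_eq_height q (Localization.AtPrime q)]
  have h := H1CAlg.localDim_spec_eq_height_add (k := k) (S := MvPolynomial (Fin n) k) ⟨q, inferInstance⟩
  letI := Ideal.Quotient.field q
  rw [ringKrullDim_eq_zero_of_field (MvPolynomial (Fin n) k ⧸ q), add_zero, H1CAlg.localDim_spec_eq_iSup (k := k)] at h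
  rw [← h]
  refine le_iSup_of_le ⟨⟨⊥, Ideal.isPrime_bot⟩, fun x hx => by rw [(Ideal.mem_bot).mp hx]; exact zero_mem _⟩ ?_
  rw [ringKrullDim_eq_of_ringEquiv (RingEquiv.quotientBot _), MvPolynomial.ringKrullDim_of_isNoetherianRing,
    ringKrullDim_eq_zero_of_field, zero_add]
  simp

/-- A truncated polynomial algebra is a complete intersection. -/
theorem isCI_of_trunc (p : ℕ) {n : ℕ} {B : Type u} [CommRing B] [IsLocalRing B] [Algebra k B] [Module.Finite k B]
    (e : B ≃ₐ[k] (MvPolynomial (Fin n) k ⧸ H20OT.CotLift.truncIdeal k (Fin n) p)) :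
    Pi1.IsCompleteIntersection B := by
  classical
  haveI : IsArtinianRing B := IsArtinianRing.of_finite k B
  let φ : MvPolynomial (Fin n) k →ₐ[k] B := e.symm.toAlgHom.comp (Ideal.Quotient.mkₐ k _)
  have hφ : Function.Surjective φ := e.symm.surjective.comp Ideal.Quotient.mk_surjective
  have hker : RingHom.ker φ.toRingHom = H20OT.CotLift.truncIdeal k (Fin n) p := by
    ext x
    show e.symm (Ideal.Quotient.mk _ x) = 0 ↔ _
    rw [AddEquivClass.map_eq_zero_iff, Ideal.Quotient.eq_zero_iff_mem]
  let q := maximalIdeal B
  obtain ⟨f, hf, hfk⟩ := H9CI.exists_localization_presentation φ hφ q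
  haveI : (q.comap φ.toRingHom).IsMaximal := Ideal.comap_isMaximal_of_surjective φ.toRingHom hφ
  haveI : IsRegularLocalRing (Localization.AtPrime (q.comap φ.toRingHom)) :=
    IsRegularRing.isRegularLocalRing_localization _
  let e2 : B ≃+* Localization.AtPrime q :=
    (IsLocalization.atUnits B q.primeCompl (S := Localization.AtPrime q)
      (fun x hx => notMem_maximalIdeal.mp hx)).toRingEquiv
  rw [H13CI.isCI_congr e2, H13CI.isCI_iff f.toRingHom hf]
  unfold H9CI.IsCIKer
  have h0 : ringKrullDim (Localization.AtPrime q) ≤ 0 := by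
    rw [← ringKrullDim_eq_of_ringEquiv e2]
    haveI : Ring.KrullDimLE 0 B := inferInstance
    exact_mod_cast Ring.krullDimLE_iff.mp ‹Ring.KrullDimLE 0 B›
  have hn : (RingHom.ker f.toRingHom).spanFinrank ≤ n := by
    rw [hfk, hker, H20OT.CotLift.truncIdeal, Ideal.map_span, ← Set.range_comp]
    refine (Submodule.spanFinrank_span_le_ncard_of_finite (Set.finite_range _)).trans ?_
    rw [← Set.image_univ]
    exact (Set.ncard_image_le Set.finite_univ).trans (by simp)
  calc ringKrullDim (Localization.AtPrime q) + ((RingHom.ker f.toRingHom).spanFinrank : WithBot ℕ∞)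
      ≤ 0 + (n : WithBot ℕ∞) := add_le_add h0 (by exact_mod_cast hn)
    _ ≤ _ := by rw [zero_add]; exact le_dim_localization n _



/-- Finite local Hopf algebras are complete intersections. -/
theorem isCI_of_finite_local_hopf (p : ℕ) [Fact p.Prime] [CharP k p] [PerfectField k] : ∀ (A : Type u) [CommRing A] [HopfAlgebra k A] [Module.Finite k A]
    [IsLocalRing A], Pi1.IsCompleteIntersection A := by
  intro A _ _ _ _
  induction hN : Module.finrank k A using Nat.strong_induction_on generalizing A with
  | _ N ih =>
    subst hN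
    classical
    haveI := OrderKills.charP_of_bialgebra (k := k) (A := A) p
    haveI : IsNoetherianRing A := IsNoetherianRing.of_finite k A
    let C := OrderKills.frobSub (k := k) (A := A) p
    let f : A →+* C := (frobenius A p).codRestrict C fun a => ⟨a, rfl⟩
    have hf : Function.Surjective f := by
      rintro ⟨_, a, rfl⟩; exact ⟨a, Subtype.ext rfl⟩
    haveI : Nontrivial C := ⟨⟨0, 1, fun h => zero_ne_one (congrArg Subtype.val h : (0 : A) = 1)⟩⟩
    haveI : IsLocalRing C := IsLocalRing.of_surjective' f hf
    haveI : IsNoetherianRing C := isNoetherianRing_of_surjective A C f hf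
    haveI : Module.Finite C A := Module.Finite.of_restrictScalars_finite k C A
    haveI := H20FF.faithfullyFlat_subalgebra (OrderKills.isHopfSub_frobSub (k := k) (A := A) p)
    haveI := H20OT.finite_cotangent (k := k) (A := A)
    obtain ⟨L⟩ := H20OT.exists_cotLift (Module.finBasis k (H20OT.augIdeal k A).Cotangent)
    have hI : H20OT.augIdeal k A ≤ nilradical A := OrderKills.aug_le_nilradical
    obtain ⟨e⟩ := L.nonempty_algEquiv p (n := Module.finrank k A) (OrderKills.pow_finrank_eq_bot hI)
    set J := Ideal.span ((fun a : A => a ^ p) '' (H20OT.augIdeal k A : Set A)) with hJdef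
    have haug : H20OT.augIdeal k A = maximalIdeal A :=
      IsLocalRing.eq_maximalIdeal (OrderKills.aug_isMaximal (k := k) (A := A))
    have hJ : (maximalIdeal C).map (algebraMap C A) = J := by
      rw [hJdef, haug, ← map_maximalIdeal_of_surjective f hf, Ideal.map_map]
      rfl
    have hJtop : J ≠ ⊤ := by
      refine ne_top_of_le_ne_top (maximalIdeal.isMaximal A).ne_top (Ideal.span_le.mpr ?_)
      rintro _ ⟨a, ha, rfl⟩
      rw [haug] at ha
      exact Ideal.pow_mem_of_mem _ ha p (Fact.out : p.Prime).pos
    haveI : Nontrivial (A ⧸ J) := Ideal.Quotient.nontrivial_iff.mpr hJtop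
    haveI : IsLocalRing (A ⧸ J) := .of_surjective' _ Ideal.Quotient.mk_surjective
    have hF : Pi1.IsCompleteIntersection (A ⧸ J) := isCI_of_trunc p e
    rcases (Submodule.finrank_le (Subalgebra.toSubmodule C)).eq_or_lt with heq | hlt
    · have htop : C = ⊤ := Algebra.toSubmodule_eq_top.1 (Submodule.eq_top_of_finrank_eq heq)
      -- the augmentation ideal is zero
      have hm : maximalIdeal A = ⊥ := by
        have h1 : maximalIdeal A ≤ J := fun a ha => by
          obtain ⟨b, hb⟩ : a ∈ C := htop ▸ Algebra.mem_top
          change b ^ p = a at hb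
          subst hb
          exact Ideal.subset_span ⟨b, haug.symm ▸ Ideal.IsPrime.mem_of_pow_mem inferInstance _ ha, rfl⟩
        have h2 : J ≤ maximalIdeal A ^ 2 := Ideal.span_le.mpr (by
          rintro _ ⟨a, ha, rfl⟩
          rw [haug] at ha
          exact Ideal.pow_le_pow_right (Fact.out : p.Prime).two_le (Ideal.pow_mem_pow ha p))
        refine Submodule.eq_bot_of_le_smul_of_le_jacobson_bot (maximalIdeal A) _ (IsNoetherian.noetherian _) ?_
          (maximalIdeal_le_jacobson _)
        rw [smul_eq_mul, ← sq]
        exact h1.trans h2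
      have hfield : IsField A := IsLocalRing.isField_iff_maximalIdeal_eq.mpr hm
      letI := hfield.toField
      exact H13CI.isCI_of_regular A
    · letI := H20FF.subHopf (OrderKills.isHopfSub_frobSub (k := k) (A := A) p)
      have hC : Pi1.IsCompleteIntersection C := ih _ hlt C rfl
      haveI : IsLocalHom (algebraMap C A) := ((IsLocalRing.local_hom_TFAE (algebraMap C A)).out 3 0).mp (Ideal.map_le_iff_le_comap.mp <| by
        rw [hJ, hJdef]
        refine Ideal.span_le.mpr ?_
        rintro _ ⟨a, ha, rfl⟩
        rw [haug] at ha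
        exact Ideal.pow_mem_of_mem _ ha p (Fact.out : p.Prime).pos)
      haveI : Algebra.EssFiniteType C A := inferInstance
      haveI : IsLocalRing (A ⧸ (maximalIdeal C).map (algebraMap C A)) :=
        (Ideal.quotEquivOfEq hJ).symm.isLocalRing
      exact H13CI.isCI_of_eft hC (H13CI.isCI_of_ringEquiv (Ideal.quotEquivOfEq hJ).symm hF)

end Groth.Agent.H19Grp.FiniteHopfCI
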