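import Mathlib
import Groth.Prelude.Def_Frob

/-!
Powers of the absolute Frobenius; the relative Frobenius of a group scheme is a homomorphism; powers of
Frobenius factor through the reduction when the nilradicals at closed points are killed.
-/

set_option autoImplicit false
set_option linter.style.haveILetI false
set_option backward.isDefEq.respectTransparency false

universe u

open CategoryTheory CategoryTheory.Limits MonoidalCategory CartesianMonoidalCategory MonObj AlgebraicGeometry
  FrobSch Opposite TopologicalSpace

namespace Groth.Agent.H19Grp.FrobPow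

variable (p : ℕ) [Fact p.Prime] (n : ℕ)

/-- The `p^n`-th power map. -/
def powN (R : Type u) [CommRing R] (h : (p : R) = 0) : ℕ → (R →+* R)
  | 0 => RingHom.id R
  | m + 1 => (powN R h m).comp (powHom p R h)

theorem powN_apply (R : Type u) [CommRing R] (h : (p : R) = 0) (r : R) : powN p R h n r = r ^ p ^ n := by
  induction n generalizing r with
  | zero => simp [powN]
  | succ n ih =>
    show powN p R h n (powHom p R h r) = _
    rw [ih, powHom_apply, ← pow_mul, pow_succ']

variable (X : Scheme.{u}) [IsCharP X p]

/-- The powers of Frobenius on the structure presheaf. -/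
def frobNApp : X.presheaf ⟶ X.presheaf where
  app U := CommRingCat.ofHom (powN p Γ(X, U.unop) (natCast_eq_zero_app X p U.unop) n)
  naturality U V i := by
    ext s
    show powN p _ (natCast_eq_zero_app X p V.unop) n (X.presheaf.map i s) =
      X.presheaf.map i (powN p _ (natCast_eq_zero_app X p U.unop) n s)
    rw [powN_apply, powN_apply, map_pow]

/-- On sheafed spaces. -/
noncomputable def frobNSh : X.toSheafedSpace ⟶ X.toSheafedSpace :=
  InducedCategory.homMk { base := 𝟙 _, c := frobNApp p n X }

theorem isLocalHom_frobNSh (x : X) : IsLocalHom ((frobNSh p n X).hom.stalkMap x).hom := by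
  constructor
  intro t ht
  obtain ⟨U, hxU, s, rfl⟩ := X.presheaf.exists_germ_eq (x := x) t
  have h := PresheafedSpace.stalkMap_germ_apply (frobNSh p n X).hom U x hxU s
  erw [h] at ht
  change IsUnit (X.presheaf.germ U x hxU (powN p _ (natCast_eq_zero_app X p U) n s)) at ht
  rw [powN_apply, map_pow] at ht
  exact (isUnit_pow_iff (pow_ne_zero n (Fact.out : p.Prime).ne_zero)).mp ht

/-- The `n`-th power of the absolute Frobenius. -/
noncomputable def frobN : X ⟶ X :=
  ⟨LocallyRingedSpace.homMk (frobNSh p n X) (isLocalHom_frobNSh p n X)⟩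

@[simp] theorem frobN_base : (frobN p n X).base = 𝟙 _ := rfl

@[simp] theorem frobN_preimage (U : X.Opens) : frobN p n X ⁻¹ᵁ U = U := rfl

theorem frobN_app (U : X.Opens) (s : Γ(X, U)) : (frobN p n X).app U s = s ^ p ^ n :=
  powN_apply p n _ (natCast_eq_zero_app X p U) s

variable {X} {Y : Scheme.{u}} [IsCharP Y p]

theorem frobN_comp (f : X ⟶ Y) : frobN p n X ≫ f = f ≫ frobN p n Y := by
  refine Scheme.Hom.ext (by simp only [Scheme.Hom.comp_base, frobN_base, Category.id_comp,
    Category.comp_id]) (fun U => ?_)
  have h1 : (frobN p n X ≫ f).app U = f.app U ≫ (frobN p n X).app (f ⁻¹ᵁ U) := Scheme.Hom.comp_app _ _ _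
  have h2 : (f ≫ frobN p n Y).app U = (frobN p n Y).app U ≫ f.app U := Scheme.Hom.comp_app _ _ _
  rw [h1, h2]
  change (f.app U ≫ (frobN p n X).app (f ⁻¹ᵁ U)) ≫ X.presheaf.map (𝟙 _) = (frobN p n Y).app U ≫ f.app U
  rw [X.presheaf.map_id, Category.comp_id]
  ext s
  show (frobN p n X).app (f ⁻¹ᵁ U) (f.app U s) = f.app U ((frobN p n Y).app U s)
  rw [frobN_app, frobN_app, map_pow]

variable (X)

instance isIntegralHom_frobN : IsIntegralHom (frobN p n X) := by
  haveI : IsAffineHom (frobN p n X) := ⟨fun U hU => by simpa using hU⟩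
  refine ⟨fun U _ s => ?_⟩
  have h : ∀ t : Γ(X, U), (powN p Γ(X, U) (natCast_eq_zero_app X p U) n).IsIntegralElem t := fun t => by
    refine ⟨Polynomial.X ^ (p ^ n) - Polynomial.C t,
      Polynomial.monic_X_pow_sub_C _ (pow_ne_zero n (Fact.out : p.Prime).ne_zero), ?_⟩
    rw [Polynomial.eval₂_sub, Polynomial.eval₂_X_pow, Polynomial.eval₂_C]
    exact sub_eq_zero.mpr (powN_apply p n _ _ t).symm
  exact h s

/-- Over a perfect field the powers of Frobenius are isomorphisms. -/
theorem isIso_frobN_Spec (k : Type u) [Field k] [CharP k p] [PerfectField k] :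
    IsIso (frobN p n (Spec (CommRingCat.of k))) := by
  haveI : ExpChar k p := ExpChar.prime (Fact.out : p.Prime)
  haveI : PerfectRing k p := PerfectField.toPerfectRing p
  let e : k ≃+* k := RingEquiv.ofBijective (iterateFrobenius k p n) (bijective_iterateFrobenius k p n)
  have h : frobN p n (Spec (CommRingCat.of k)) = Spec.map e.toCommRingCatIso.hom := by
    apply ext_of_isAffine
    rw [← cancel_mono (Scheme.ΓSpecIso (CommRingCat.of k)).hom, Scheme.ΓSpecIso_naturality]
    ext s
    show (Scheme.ΓSpecIso (CommRingCat.of k)).hom ((frobN p n _).app ⊤ s) = iterateFrobenius k p n _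
    rw [frobN_app, map_pow, iterateFrobenius_def]
    rfl
  rw [h]
  infer_instance

/-- If the nilpotents at closed points are killed by the `p^n`-th power, the `n`-th power of Frobenius
factors through the reduction. -/
theorem exists_factor_nilradical [JacobsonSpace X]
    (h : ∀ x : X, IsClosed {x} → ∀ t : X.presheaf.stalk x, IsNilpotent t → t ^ p ^ n = 0) :
    ∃ r : X ⟶ X.nilradical.subscheme, r ≫ X.nilradical.subschemeι = frobN p n X := by
  refine ⟨IsClosedImmersion.lift X.nilradical.subschemeι (frobN p n X) ?_, IsClosedImmersion.lift_fac _ _ _⟩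
  rw [Scheme.IdealSheafData.ker_subschemeι]
  intro U s hs
  rw [Scheme.Hom.ker_apply, RingHom.mem_ker]
  show (frobN p n X).app U.1 s = 0
  rw [frobN_app]
  rw [show X.nilradical.ideal U = ((⊥ : X.IdealSheafData).ideal U).radical from rfl,
    Scheme.IdealSheafData.ideal_bot, Pi.bot_apply] at hs
  obtain ⟨m, hm⟩ := hs
  refine TopCat.Presheaf.section_ext X.sheaf U.1 _ _ fun y hy => ?_
  obtain ⟨z, hz, hzc⟩ := nonempty_inter_closedPoints (Z := closure {y} ∩ (U.1 : Set X))
    ⟨y, subset_closure rfl, hy⟩ (isClosed_closure.isLocallyClosed.inter U.1.isOpen.isLocallyClosed)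
  have hspec : y ⤳ z := specializes_iff_mem_closure.mpr hz.1
  have hzero : X.presheaf.germ U.1 z hz.2 (s ^ p ^ n) = 0 := by
    rw [map_pow]
    exact h z hzc _ ⟨m, by rw [← map_pow, (Ideal.mem_bot).mp hm, map_zero]⟩
  show X.presheaf.germ U.1 y hy _ = X.presheaf.germ U.1 y hy 0
  rw [map_zero, ← TopCat.Presheaf.germ_stalkSpecializes X.presheaf hz.2 hspec]
  show X.presheaf.stalkSpecializes hspec (X.presheaf.germ U.1 z hz.2 _) = 0
  rw [hzero, map_zero]

instance isReduced_nilradical_subscheme : IsReduced X.nilradical.subscheme := by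
  haveI : ∀ U, IsReduced (X.nilradical.subschemeCover.openCover.X U) := fun U => by
    change X.affineOpens at U
    haveI : _root_.IsReduced (CommRingCat.of (↥(X.presheaf.obj (op U.1)) ⧸ X.nilradical.ideal U)) :=
      (Ideal.isRadical_iff_quotient_reduced _).mp (Ideal.radical_isRadical _)
    show AlgebraicGeometry.IsReduced (Spec (CommRingCat.of (↥(X.presheaf.obj (op U.1)) ⧸ X.nilradical.ideal U)))
    infer_instance
  exact AlgebraicGeometry.IsReduced.of_openCover _ X.nilradical.subschemeCover.openCover

section Relative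

variable (S : Scheme.{u}) [IsCharP S p]

/-- The `n`-th relative Frobenius of an object over `S`. -/
noncomputable def relFrobN (T : Over S) : T ⟶ (Over.pullback (frobN p n S)).obj T :=
  haveI : IsCharP T.left p := IsCharP.of_hom T.hom p
  Over.homMk (pullback.lift (frobN p n T.left) T.hom (frobN_comp p n T.hom)) (pullback.lift_snd _ _ _)

theorem relFrobN_fst (T : Over S) :
    haveI : IsCharP T.left p := IsCharP.of_hom T.hom p
    (relFrobN p n S T).left ≫ pullback.fst T.hom (frobN p n S) = frobN p n T.left :=
  pullback.lift_fst _ _ _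

theorem relFrobN_naturality {T U : Over S} (f : T ⟶ U) :
    f ≫ relFrobN p n S U = relFrobN p n S T ≫ (Over.pullback (frobN p n S)).map f := by
  haveI : IsCharP T.left p := IsCharP.of_hom T.hom p
  haveI : IsCharP U.left p := IsCharP.of_hom U.hom p
  apply Over.OverMorphism.ext
  apply pullback.hom_ext
  · simp only [Over.comp_left, Category.assoc, relFrobN, Over.homMk_left, Over.pullback_map_left,
      pullback.lift_fst]
    rw [← Category.assoc (pullback.lift _ _ _), pullback.lift_fst, frobN_comp]
  · simp only [Over.comp_left, Category.assoc, relFrobN, Over.homMk_left, Over.pullback_map_left,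
      pullback.lift_snd]
    exact Over.w f

/-- The relative Frobenius of a group scheme is a homomorphism. -/
theorem isMonHom_relFrobN (G : Over S) [GrpObj G] :
    letI := Functor.grpObjObj (F := Over.pullback (frobN p n S)) (G := G)
    IsMonHom (relFrobN p n S G) := by
  letI := Functor.grpObjObj (F := Over.pullback (frobN p n S)) (G := G)
  let P := Over.pullback (frobN p n S)
  refine ⟨?_, ?_⟩
  · rw [relFrobN_naturality, Functor.obj.η_def]
    congr 1
    rw [← cancel_mono (Functor.OplaxMonoidal.η P), Functor.Monoidal.ε_η]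
    exact toUnit_unique _ _
  · rw [relFrobN_naturality, Functor.obj.μ_def, ← Category.assoc]
    congr 1
    rw [← cancel_mono (Functor.OplaxMonoidal.δ P G G), Category.assoc, Functor.Monoidal.μ_δ,
      Category.comp_id]
    apply CartesianMonoidalCategory.hom_ext
    · rw [Category.assoc, Functor.OplaxMonoidal.δ_fst, tensorHom_fst, ← relFrobN_naturality]
    · rw [Category.assoc, Functor.OplaxMonoidal.δ_snd, tensorHom_snd, ← relFrobN_naturality]

end Relative

end Groth.Agent.H19Grp.FrobPow
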