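import Groth.Agent.H19Grp.SmoothLocus
import Groth.Agent.H19Grp.RegularSmooth
import Groth.Agent.H7Flat.GenericFlatness
import Groth.Agent.H13Desc.Flat
import Groth.Agent.H4Depth.Regular
import Mathlib

/-!
# Surjective homomorphisms onto smooth algebraic groups are flat
-/

set_option autoImplicit false
set_option linter.style.haveILetI false
set_option backward.isDefEq.respectTransparency false

universe u

open CategoryTheory CategoryTheory.Limits MonoidalCategory CartesianMonoidalCategory MonObj GrpObj
  AlgebraicGeometry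

namespace Groth.Agent.H19Grp

variable {K : Type u} [Field K]

/-- Generic flatness and homogeneity over an algebraically closed field. -/
theorem flat_of_surjective_isAlgClosed [IsAlgClosed K] {G H : Over (Spec (CommRingCat.of K))}
    [GrpObj G] [GrpObj H] [LocallyOfFiniteType G.hom] [LocallyOfFiniteType H.hom] [IsReduced H.left]
    (f : G ⟶ H) [IsMonHom f] [QuasiCompact f.left] [Surjective f.left] : Flat f.left := by
  haveI : LocallyOfFiniteType f.left := by
    haveI : LocallyOfFiniteType (f.left ≫ H.hom) := by rw [Over.w f]; infer_instance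
    exact locallyOfFiniteType_of_comp f.left H.hom
  haveI := LocallyOfFiniteType.jacobsonSpace G.hom
  haveI := LocallyOfFiniteType.jacobsonSpace H.hom
  obtain ⟨U, hU, hUf, -⟩ := H7Flat.exists_dense_flatLFP f.left
  haveI : Nonempty H.left := ⟨(η[H]).left (IsLocalRing.closedPoint K)⟩
  have hpre : ∀ y : H.left, IsClosed {y} → ∃ g : 𝟙_ (Over (Spec (CommRingCat.of K))) ⟶ G,
      f.left (g.left (IsLocalRing.closedPoint K)) = y := by
    intro y hy
    obtain ⟨x₁, hx₁⟩ := f.left.surjective y
    obtain ⟨x, hx, hxc⟩ := nonempty_inter_closedPoints (Z := f.left ⁻¹' {y})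
      ⟨x₁, hx₁⟩ (hy.preimage f.left.continuous).isLocallyClosed
    exact ⟨Over.homMk (pointOfClosedPoint G.hom x hxc) (pointOfClosedPoint_comp _ _ _),
      (congrArg f.left (pointOfClosedPoint_apply G.hom x hxc _)).trans hx⟩
  have key : ∀ y : H.left, IsClosed {y} → ∃ V : H.left.Opens, y ∈ V ∧ Flat (f.left ∣_ V) := by
    intro y hy
    obtain ⟨v, hv, hvc⟩ := nonempty_inter_closedPoints hU.nonempty U.2.isLocallyClosed
    obtain ⟨gy, hgy⟩ := hpre y hy
    obtain ⟨gv, hgv⟩ := hpre v hvc
    let g := gy⁻¹ * gv
    let e1 := GrpObj.mulRight g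
    let e2 := GrpObj.mulRight (g ≫ f)
    have hc : e1.hom ≫ f = f ≫ e2.hom := by
      simp only [e1, e2, GrpObj.mulRight_hom, ← Hom.mul_def, MonObj.comp_mul, MonObj.mul_comp,
        Category.comp_id, Category.id_comp, Category.assoc]
      rw [← Category.assoc f (toUnit H), toUnit_unique (f ≫ toUnit H) (toUnit G)]
    haveI : IsIso e1.hom.left := ((Over.forget _).mapIso e1).isIso_hom
    haveI : IsIso e2.hom.left := ((Over.forget _).mapIso e2).isIso_hom
    have hsq : IsPullback e1.hom.left f.left f.left e2.hom.left :=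
      IsPullback.of_horiz_isIso ⟨congrArg (·.left) hc⟩
    have he2y : e2.hom.left y = v := by
      have h1 : (gy ≫ f) ≫ e2.hom = gv ≫ f := by
        have ht : ∀ φ : 𝟙_ (Over (Spec (CommRingCat.of K))) ⟶ H,
            (gy ≫ f) ≫ toUnit H ≫ φ = φ := fun φ => by
          rw [← Category.assoc, toUnit_unique ((gy ≫ f) ≫ toUnit H) (𝟙 _), Category.id_comp]
        have hg : g ≫ f = (gy ≫ f)⁻¹ * (gv ≫ f) := by
          simp only [g, MonObj.mul_comp, GrpObj.inv_comp]
        simp only [e2, GrpObj.mulRight_hom, ← Hom.mul_def, MonObj.comp_mul, Category.comp_id]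
        rw [ht, hg]
        exact mul_inv_cancel_left (gy ≫ f) (gv ≫ f)
      rw [← hgy, ← hgv]
      exact congrArg (fun φ => φ.left (IsLocalRing.closedPoint K)) h1
    refine ⟨e2.hom.left ⁻¹ᵁ U, (show e2.hom.left y ∈ U from he2y.symm ▸ hv), ?_⟩
    have h1 := (isPullback_morphismRestrict f.left (e2.hom.left ⁻¹ᵁ U)).flip.paste_horiz hsq
    rw [← morphismRestrict_ι] at h1
    have h2 := IsPullback.of_right' h1 (isPullback_morphismRestrict f.left U).flip
    exact MorphismProperty.of_isPullback h2 hUf
  have htop : ⨆ V : {V : H.left.Opens // Flat (f.left ∣_ V)}, V.1 = ⊤ := by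
    by_contra hne
    have hne' : (((⨆ V : {V : H.left.Opens // Flat (f.left ∣_ V)}, V.1 : H.left.Opens) :
        Set H.left))ᶜ.Nonempty := by
      rw [Set.nonempty_compl]
      exact fun h => hne (TopologicalSpace.Opens.coe_eq_univ.mp h)
    obtain ⟨y, hy, hyc⟩ := nonempty_inter_closedPoints hne'
      (TopologicalSpace.Opens.isOpen _).isClosed_compl.isLocallyClosed
    obtain ⟨V, hyV, hV⟩ := key y hyc
    exact hy (TopologicalSpace.Opens.mem_iSup.mpr ⟨⟨V, hV⟩, hyV⟩)
  exact (IsZariskiLocalAtTarget.iff_of_iSup_eq_top (P := @Flat) _ htop).mpr fun V => V.2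

/-- A surjective quasi-compact homomorphism to a smooth group scheme is flat. -/
theorem flat_of_surjective {G H : Over (Spec (CommRingCat.of K))} [GrpObj G] [GrpObj H]
    [LocallyOfFiniteType G.hom] [Smooth H.hom] (f : G ⟶ H) [IsMonHom f] [QuasiCompact f.left]
    [Surjective f.left] : Flat f.left := by
  let g : Spec (CommRingCat.of (AlgebraicClosure K)) ⟶ Spec (CommRingCat.of K) :=
    Spec.map (CommRingCat.ofHom (algebraMap K (AlgebraicClosure K)))
  let F := Over.pullback g
  let : GrpObj (F.obj G) := Functor.grpObjObj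
  let : GrpObj (F.obj H) := Functor.grpObjObj
  haveI : IsMonHom (F.map f) := inferInstance
  haveI : LocallyOfFiniteType (F.obj G).hom := by dsimp [F]; infer_instance
  haveI : Smooth (F.obj H).hom := by dsimp [F]; infer_instance
  haveI : IsReduced (F.obj H).left := by
    haveI : ∀ x, _root_.IsReduced ((F.obj H).left.presheaf.stalk x) := fun x => by
      haveI := isRegularLocalRing_stalk_of_smooth (F.obj H).hom x
      haveI := H4Depth.isDomain_of_isRegularLocalRing ((F.obj H).left.presheaf.stalk x)
      infer_instance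
    exact isReduced_of_isReduced_stalk _
  have hsq : IsPullback (pullback.fst G.hom g) (F.map f).left f.left (pullback.fst H.hom g) := by
    refine IsPullback.of_bot ?_ ?_ (IsPullback.of_hasPullback H.hom g)
    · simpa [F] using IsPullback.of_hasPullback G.hom g
    · simp [F]
  haveI : QuasiCompact (F.map f).left := MorphismProperty.of_isPullback hsq inferInstance
  haveI : Surjective (F.map f).left := MorphismProperty.of_isPullback hsq inferInstance
  haveI : Flat (F.map f).left := flat_of_surjective_isAlgClosed (F.map f)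
  haveI : Flat (pullback.fst G.hom g ≫ f.left) := by
    rw [hsq.w]; exact MorphismProperty.comp_mem _ _ _ inferInstance (MorphismProperty.pullback_fst _ _ inferInstance)
  haveI : Surjective g := ⟨fun x => ⟨Classical.arbitrary _, Subsingleton.elim _ _⟩⟩
  haveI : Flat (𝟙 _ ≫ pullback.fst G.hom g) := by rw [Category.id_comp]; infer_instance
  haveI : Surjective (𝟙 _ ≫ pullback.fst G.hom g) := by rw [Category.id_comp]; infer_instance
  exact H13Desc.flat_of_refinement (pullback.fst G.hom g) f.left (𝟙 _)

end Groth.Agent.H19Grp
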