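import Mathlib
import Groth.Agent.H19Grp.FrobPow
import Groth.Agent.H19Grp.FiniteHopfCI
import Groth.Agent.H19Grp.AffinePoints
import Groth.Agent.H19Grp.Kernel
import Groth.Agent.H19Grp.FibreLoci
import Groth.Agent.H19Grp.HomFlat
import Groth.Agent.H19Grp.NeutralOpen
import Groth.Agent.H19Grp.SmoothLocus
import Groth.Agent.H19Grp.Cartier
import Groth.Agent.H06Red.Scheme
import Groth.Agent.H17.Image
import Groth.Agent.H13CI.Syntomic
import Groth.Agent.S9699

/-!
Group schemes locally of finite type over fields are local complete intersections, so flat group schemes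
locally of finite presentation over any base are syntomic.
-/

set_option autoImplicit false
set_option maxHeartbeats 1000000
set_option synthInstance.maxHeartbeats 100000
set_option linter.style.haveILetI false
set_option backward.isDefEq.respectTransparency false

universe u

open CategoryTheory CategoryTheory.Limits MonoidalCategory CartesianMonoidalCategory MonObj GrpObj
  AlgebraicGeometry

namespace Groth.Agent.H19Grp.GroupCI

/-- Local rings of a scheme over a field are the local rings of its fibre. -/
theorem isCI_fiberStalk_iff_stalk {k : Type u} [Field k] {X : Scheme.{u}} (f : X ⟶ Spec (CommRingCat.of k))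
    [LocallyOfFiniteType f] (x : X) :
    Pi1.IsCompleteIntersection (CInt.fiberStalk f x) ↔ Pi1.IsCompleteIntersection (X.presheaf.stalk x) := by
  haveI := LocallyOfFiniteType.isLocallyNoetherian f
  have hbot : (IsLocalRing.maximalIdeal ((Spec (CommRingCat.of k)).presheaf.stalk (f x))).map
      (f.stalkMap x).hom = ⊥ := by
    haveI : IsLocallyNoetherian (Spec (CommRingCat.of k)) := inferInstance
    letI : Algebra (CommRingCat.of k) ((Spec (CommRingCat.of k)).presheaf.stalk (f x)) :=
      StructureSheaf.stalkAlgebra (CommRingCat.of k) (f x)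
    haveI : IsLocalization.AtPrime ((Spec (CommRingCat.of k)).presheaf.stalk (f x)) (f x).asIdeal :=
      StructureSheaf.IsLocalization.to_stalk (CommRingCat.of k) (f x)
    rw [← IsLocalization.AtPrime.map_eq_maximalIdeal (f x).asIdeal]
    have : (f x).asIdeal = ⊥ := Ideal.eq_bot_of_prime _
    rw [this, Ideal.map_bot, Ideal.map_bot]
  haveI : IsLocalRing (X.presheaf.stalk x ⧸
      (IsLocalRing.maximalIdeal ((Spec (CommRingCat.of k)).presheaf.stalk (f x))).map (f.stalkMap x).hom) :=
    ((Ideal.quotEquivOfEq hbot).trans (RingEquiv.quotientBot _)).symm.isLocalRing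
  rw [← H13CI.isCI_fiberStalk_iff f x]
  exact (H13CI.isCI_congr ((Ideal.quotEquivOfEq hbot).trans (RingEquiv.quotientBot _)).symm).symm

/-- A finite group scheme with one point over a perfect field of characteristic `p` is a complete intersection. -/
theorem isCI_of_finite_connected {k : Type u} [Field k] (p : ℕ) [Fact p.Prime] [CharP k p] [PerfectField k]
    (N : Over (Spec (CommRingCat.of k))) [GrpObj N] [IsFinite N.hom] [Subsingleton N.left] (x : N.left) :
    Pi1.IsCompleteIntersection (N.left.presheaf.stalk x) := by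
  letI : N.left.Over (Spec (CommRingCat.of k)) := ⟨N.hom⟩
  letI : GrpObj (N.left.asOver (Spec (CommRingCat.of k))) := ‹GrpObj N›
  haveI : IsAffine N.left := isAffine_of_isAffineHom N.hom
  letI hH := AffinePoints.hopfOf (CommRingCat.of k) N.left
  letI : Algebra k Γ(N.left, ⊤) := hH.toBialgebra.toAlgebra
  letI : HopfAlgebra k Γ(N.left, ⊤) := hH
  have hw : N.left.isoSpec.hom ≫ Spec.map (CommRingCat.ofHom (algebraMap k Γ(N.left, ⊤))) = N.hom :=
    Over.w (N.left.isoSpec.hom.asOver (Spec (CommRingCat.of k)))
  haveI : IsFinite (Spec.map (CommRingCat.ofHom (algebraMap k Γ(N.left, ⊤)))) := by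
    rw [← MorphismProperty.cancel_left_of_respectsIso @IsFinite N.left.isoSpec.hom, hw]
    infer_instance
  have hfin : (algebraMap k Γ(N.left, ⊤)).Finite := (IsFinite.SpecMap_iff _).1 ‹_›
  haveI : Module.Finite k Γ(N.left, ⊤) := RingHom.finite_algebraMap.1 hfin
  haveI : Subsingleton (PrimeSpectrum Γ(N.left, ⊤)) :=
    N.left.isoSpec.hom.homeomorph.symm.injective.subsingleton
  haveI : Nontrivial Γ(N.left, ⊤) := OrderKills.nontrivial_of_bialgebra k _
  haveI : IsLocalRing Γ(N.left, ⊤) := by
    obtain ⟨m, hm⟩ := Ideal.exists_maximal Γ(N.left, ⊤)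
    refine .of_unique_max_ideal ⟨m, hm, fun m' hm' => ?_⟩
    exact congrArg PrimeSpectrum.asIdeal
      (Subsingleton.elim (⟨m', hm'.isPrime⟩ : PrimeSpectrum Γ(N.left, ⊤)) ⟨m, hm.isPrime⟩)
  haveI : IsNoetherianRing Γ(N.left, ⊤) := IsNoetherianRing.of_finite k _
  have hA := FiniteHopfCI.isCI_of_finite_local_hopf (k := k) p Γ(N.left, ⊤)
  let y := N.left.isoSpec.hom x
  have hy : Pi1.IsCompleteIntersection ((Spec Γ(N.left, ⊤)).presheaf.stalk y) := by
    rw [H13CI.isCI_spec_iff]
    refine H13CI.isCI_of_ringEquiv (IsLocalization.atUnits Γ(N.left, ⊤) y.asIdeal.primeCompl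
      (S := Localization.AtPrime y.asIdeal) fun a ha => ?_).toRingEquiv hA
    by_contra hu
    obtain ⟨m, hm, ham⟩ := exists_max_ideal_of_mem_nonunits hu
    exact ha (congrArg PrimeSpectrum.asIdeal (Subsingleton.elim (⟨m, hm.isPrime⟩ : PrimeSpectrum _) y) ▸ ham)
  haveI : IsNoetherianRing ((Spec Γ(N.left, ⊤)).presheaf.stalk y) := by
    letI : Algebra Γ(N.left, ⊤) ((Spec Γ(N.left, ⊤)).presheaf.stalk y) := StructureSheaf.stalkAlgebra Γ(N.left, ⊤) y
    haveI : IsLocalization.AtPrime ((Spec Γ(N.left, ⊤)).presheaf.stalk y) y.asIdeal :=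
      StructureSheaf.IsLocalization.to_stalk _ y
    exact IsLocalization.isNoetherianRing y.asIdeal.primeCompl _ inferInstance
  exact H13CI.isCI_of_ringEquiv (asIso (N.left.isoSpec.hom.stalkMap x)).commRingCatIsoToRingEquiv hy

/-- The reduced subgroup of a group over a perfect field. -/
theorem exists_grpObj_reduced {k : Type u} [Field k] [PerfectField k] (G : Over (Spec (CommRingCat.of k)))
    [GrpObj G] [LocallyOfFiniteType G.hom] :
    ∃ _ : GrpObj (Over.mk (G.left.nilradical.subschemeι ≫ G.hom)),
      IsMonHom (Over.homMk G.left.nilradical.subschemeι rfl :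
        Over.mk (G.left.nilradical.subschemeι ≫ G.hom) ⟶ G) := by
  let Z : Over (Spec (CommRingCat.of k)) := Over.mk (G.left.nilradical.subschemeι ≫ G.hom)
  let i : Z ⟶ G := Over.homMk G.left.nilradical.subschemeι rfl
  haveI : IsClosedImmersion i.left := inferInstanceAs (IsClosedImmersion G.left.nilradical.subschemeι)
  haveI : Mono i := Over.mono_of_mono_left _
  haveI : IsReduced Z.left := inferInstanceAs (IsReduced G.left.nilradical.subscheme)
  haveI : GeometricallyReduced Z.hom := H06Red.geometricallyReduced_of_perfectField Z.hom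
  haveI : LocallyOfFiniteType Z.hom := by dsimp [Z]; infer_instance
  haveI : IsReduced (Z ⊗ Z).left := by
    show IsReduced (pullback Z.hom Z.hom)
    exact H06Red.isReduced_pullback _ _
  haveI : IsReduced (𝟙_ (Over (Spec (CommRingCat.of k)))).left :=
    inferInstanceAs (IsReduced (Spec (CommRingCat.of k)))
  have hsurj : Set.range G.left.nilradical.subschemeι = Set.univ := by
    rw [Scheme.IdealSheafData.range_subschemeι]
    rfl
  have hl : ∀ {T : Over (Spec (CommRingCat.of k))} (f : T ⟶ G), IsReduced T.left → ∃ g : T ⟶ Z, g ≫ i = f := by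
    intro T f _
    obtain ⟨g, hg⟩ := H17.exists_lift_of_range_subset f.left i.left (fun z _ => by
      show z ∈ Set.range G.left.nilradical.subschemeι
      rw [hsurj]; trivial)
    exact ⟨Over.homMk g (by rw [← Over.w f, ← hg, Category.assoc]; rfl), Over.OverMorphism.ext hg⟩
  obtain ⟨e₀, he₀⟩ := hl η[G] inferInstance
  obtain ⟨m₀, hm₀⟩ := hl ((i ⊗ₘ i) ≫ μ[G]) inferInstance
  obtain ⟨i₀, hi₀⟩ := hl (i ≫ ι[G]) inferInstance
  exact exists_grpObj_of_mono G i e₀ he₀ m₀ hm₀ i₀ hi₀

/-- Nilpotents at closed points of a group over an algebraically closed field are uniformly bounded. -/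
theorem exists_nil_bound {k : Type u} [Field k] [IsAlgClosed k] (p : ℕ) [Fact p.Prime]
    (G : Over (Spec (CommRingCat.of k))) [GrpObj G] [LocallyOfFiniteType G.hom] :
    ∃ n, ∀ x : G.left, IsClosed {x} → ∀ t : G.left.presheaf.stalk x, IsNilpotent t → t ^ p ^ n = 0 := by
  haveI := LocallyOfFiniteType.isLocallyNoetherian G.hom
  let e₀ := unitPt G
  obtain ⟨N, hN⟩ := IsNoetherianRing.isNilpotent_nilradical (G.left.presheaf.stalk e₀)
  refine ⟨N, fun x hx t ht => ?_⟩
  obtain ⟨e, rfl⟩ := exists_iso_unitPt G x hx
  haveI : IsIso e.hom.left := inferInstanceAs (IsIso ((Over.forget _).map e.hom))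
  apply (ConcreteCategory.bijective_of_isIso (e.hom.left.stalkMap e₀)).1
  rw [map_pow, map_zero]
  refine pow_eq_zero_of_le (Nat.lt_pow_self (Fact.out : p.Prime).one_lt).le ?_
  have := Ideal.pow_mem_pow (show (e.hom.left.stalkMap e₀) t ∈ nilradical _ from ht.map _) N
  rw [hN] at this
  exact (Ideal.mem_bot).mp this

/-- The positive characteristic case at the unit over an algebraically closed field. -/
theorem isCI_unit {k : Type u} [Field k] [IsAlgClosed k] (p : ℕ) [Fact p.Prime] [CharP k p]
    (G : Over (Spec (CommRingCat.of k))) [GrpObj G] [LocallyOfFiniteType G.hom] :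
    Pi1.IsCompleteIntersection (CInt.fiberStalk G.hom (unitPt G)) := by
  haveI := LocallyOfFiniteType.jacobsonSpace G.hom
  obtain ⟨n, hn⟩ := exists_nil_bound p G
  let S : Scheme.{u} := Spec (CommRingCat.of k)
  haveI : FrobSch.IsCharP G.left p := FrobSch.IsCharP.of_hom G.hom p
  obtain ⟨r, hr⟩ := FrobPow.exists_factor_nilradical p n G.left hn
  obtain ⟨gR, hgR⟩ := exists_grpObj_reduced G
  let R : Over S := Over.mk (G.left.nilradical.subschemeι ≫ G.hom)
  let i : R ⟶ G := Over.homMk G.left.nilradical.subschemeι rfl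
  haveI : IsMonHom i := hgR
  let P := Over.pullback (FrobPow.frobN p n S)
  let H := P.obj R
  letI : GrpObj H := Functor.grpObjObj
  letI : GrpObj (P.obj G) := Functor.grpObjObj
  haveI : IsMonHom (P.map i) := inferInstance
  haveI : IsIso (FrobPow.frobN p n S) := FrobPow.isIso_frobN_Spec p n k
  haveI hcl : IsClosedImmersion (P.map i).left :=
    MorphismProperty.of_isPullback (P := @IsClosedImmersion) (H19Grp.isPullback_map (FrobPow.frobN p n S) i)
      (inferInstanceAs (IsClosedImmersion G.left.nilradical.subschemeι))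
  haveI : Mono (P.map i) := Over.mono_of_mono_left _
  haveI : IsIso (pullback.fst R.hom (FrobPow.frobN p n S)) := inferInstance
  haveI : IsReduced R.left := inferInstanceAs (IsReduced G.left.nilradical.subscheme)
  haveI : IsReduced H.left := isReduced_of_isOpenImmersion (pullback.fst R.hom (FrobPow.frobN p n S))
  haveI : LocallyOfFiniteType R.hom := by dsimp [R]; infer_instance
  haveI : LocallyOfFiniteType H.hom := by dsimp [H, P]; infer_instance
  have hcond : r ≫ R.hom = G.hom ≫ FrobPow.frobN p n S := by
    show r ≫ G.left.nilradical.subschemeι ≫ G.hom = _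
    rw [reassoc_of% hr, FrobPow.frobN_comp]
  let g : G ⟶ H := Over.homMk (pullback.lift r G.hom hcond) (pullback.lift_snd _ _ _)
  let q := FrobPow.relFrobN p n S G
  haveI : IsMonHom q := FrobPow.isMonHom_relFrobN p n S G
  have hg : g ≫ P.map i = q := by
    apply Over.OverMorphism.ext
    apply pullback.hom_ext
    · simp only [g, q, P, i, FrobPow.relFrobN, Over.comp_left, Category.assoc, Over.homMk_left,
        Over.pullback_map_left, pullback.lift_fst, pullback.lift_fst_assoc]
      exact hr
    · simp only [g, q, P, i, FrobPow.relFrobN, Over.comp_left, Category.assoc, Over.homMk_left,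
        Over.pullback_map_left, pullback.lift_snd]
  haveI : IsMonHom g := by
    refine ⟨?_, ?_⟩
    · rw [← cancel_mono (P.map i), Category.assoc, hg, IsMonHom.one_hom q, IsMonHom.one_hom (P.map i)]
    · rw [← cancel_mono (P.map i), Category.assoc, hg, IsMonHom.mul_hom q, Category.assoc,
        IsMonHom.mul_hom (P.map i), ← Category.assoc, tensorHom_comp_tensorHom, hg]
  -- `g` is finite, injective and surjective
  haveI : IsIntegralHom q.left := by
    haveI : IsIntegralHom (q.left ≫ pullback.fst G.hom (FrobPow.frobN p n S)) := by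
      rw [FrobPow.relFrobN_fst]; infer_instance
    exact (MorphismProperty.cancel_right_of_respectsIso @IsIntegralHom q.left _).mp ‹_›
  haveI : LocallyOfFiniteType g.left := by
    haveI : LocallyOfFiniteType (g.left ≫ H.hom) := by rw [Over.w g]; infer_instance
    exact locallyOfFiniteType_of_comp g.left H.hom
  haveI : IsIntegralHom g.left := by
    haveI : IsIntegralHom (g.left ≫ (P.map i).left) := by rw [← Over.comp_left, hg]; infer_instance
    exact IsIntegralHom.of_comp g.left (P.map i).left
  haveI : IsFinite g.left := (IsFinite.iff_isIntegralHom_and_locallyOfFiniteType _).mpr ⟨inferInstance, inferInstance⟩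
  have hfr : ∀ z : G.left, pullback.fst G.hom (FrobPow.frobN p n S) ((P.map i).left (g.left z)) = z := fun z => by
    show ((g.left ≫ (P.map i).left) ≫ pullback.fst G.hom (FrobPow.frobN p n S)) z = z
    rw [← Over.comp_left, hg, FrobPow.relFrobN_fst]
    rfl
  have hinj : Function.Injective g.left := fun a b hab => by rw [← hfr a, ← hfr b, hab]
  haveI : Surjective g.left := ⟨fun h => by
    refine ⟨pullback.fst G.hom (FrobPow.frobN p n S) ((P.map i).left h), ?_⟩
    apply (P.map i).left.isClosedEmbedding.injective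
    apply (pullback.fst G.hom (FrobPow.frobN p n S)).homeomorph.injective
    exact hfr _⟩
  haveI : Flat g.left := flat_of_surjective_isAlgClosed g
  haveI : Smooth H.hom := smooth_of_isReduced_perfect H
  have hH : Pi1.IsCompleteIntersection (CInt.fiberStalk H.hom (g.left (unitPt G))) :=
    ((H13CI.isSyntomicMor_iff_isCIMorphism H.hom).mp (S9699.result H.hom)).2.2 _
  -- the kernel
  let N₀ := pullback g.left (η[H]).left
  let N : Over S := Over.mk (pullback.fst g.left (η[H]).left ≫ G.hom)
  let j : N ⟶ G := Over.homMk (pullback.fst g.left (η[H]).left) rfl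
  have hN : N.hom = pullback.snd g.left (η[H]).left := by
    show pullback.fst g.left (η[H]).left ≫ G.hom = _
    have h0 : η[H].left ≫ H.hom = 𝟙 _ := Over.w η[H]
    rw [← Over.w g, ← Category.assoc, pullback.condition, Category.assoc, h0, Category.comp_id]
  haveI : IsFinite N.hom := by rw [hN]; exact MorphismProperty.pullback_snd _ _ inferInstance
  haveI : IsClosedImmersion (η[H]).left := isClosedImmersion_of_comp_eq_id H.hom _ (Over.w η[H])
  haveI hjc : IsClosedImmersion j.left :=
    inferInstanceAs (IsClosedImmersion (pullback.fst g.left (η[H]).left))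
  haveI : Mono j := Over.mono_of_mono_left _
  haveI : Subsingleton N.left := by
    refine ⟨fun a b => (pullback.fst g.left (η[H]).left).isClosedEmbedding.injective (hinj ?_)⟩
    rw [← Scheme.Hom.comp_apply, ← Scheme.Hom.comp_apply, pullback.condition, Scheme.Hom.comp_apply,
      Scheme.Hom.comp_apply]
    exact congrArg _ (Subsingleton.elim (α := PrimeSpectrum k) _ _)
  have hw : j ≫ g = toUnit N ≫ η[H] := by
    apply Over.OverMorphism.ext
    show pullback.fst g.left (η[H]).left ≫ g.left = N.hom ≫ (η[H]).left
    rw [hN, pullback.condition]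
  have hker : AlgGrp.IsKernel j g := isKernel_of (by rw [hw, Hom.one_def])
    (fun T a b h => (cancel_mono j).mp h) (fun T x hx => by
      refine ⟨Over.homMk (pullback.lift x.left T.hom ?_) ?_, ?_⟩
      · have := congrArg (·.left) hx
        rw [Hom.one_def] at this
        exact this
      · show pullback.lift _ _ _ ≫ N.hom = T.hom
        rw [hN, pullback.lift_snd]
      · exact Over.OverMorphism.ext (pullback.lift_fst _ _ _))
  obtain ⟨e₀, he₀⟩ := kernel_lift hker η[G] (by rw [IsMonHom.one_hom g, Hom.one_def, toUnit_unique (toUnit (𝟙_ (Over S))) (𝟙 _), Category.id_comp])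
  obtain ⟨m₀, hm₀⟩ := kernel_lift hker ((j ⊗ₘ j) ≫ μ[G]) (by
    rw [Category.assoc, IsMonHom.mul_hom g, ← Category.assoc, tensorHom_comp_tensorHom, kernel_comp_eq_one hker]
    have : ((1 : N ⟶ H) ⊗ₘ (1 : N ⟶ H)) ≫ μ[H] = fst N N ≫ (1 : N ⟶ H) * snd N N ≫ (1 : N ⟶ H) := by
      rw [Hom.mul_def]; congr 1
    rw [this, MonObj.comp_one, MonObj.comp_one, _root_.one_mul])
  obtain ⟨i₀, hi₀⟩ := kernel_lift hker (j ≫ ι[G]) (by
    rw [Category.assoc, GrpObj.inv_hom g, ← Category.assoc, kernel_comp_eq_one hker, ← Hom.inv_def, inv_one])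
  obtain ⟨gN, -⟩ := exists_grpObj_of_mono G j e₀ he₀ m₀ hm₀ i₀ hi₀
  let z : N.left := e₀.left (IsLocalRing.closedPoint k)
  have hz : (pullback.fst g.left (η[H]).left) z = unitPt G :=
    congrArg (fun m : 𝟙_ (Over S) ⟶ G => m.left (IsLocalRing.closedPoint k)) he₀
  have hNz : Pi1.IsCompleteIntersection (CInt.fiberStalk N.hom z) :=
    (isCI_fiberStalk_iff_stalk N.hom z).mpr (isCI_of_finite_connected p N z)
  have hgu : Pi1.IsCompleteIntersection (CInt.fiberStalk g.left (unitPt G)) := by
    rw [← hz]
    refine (H13CI.fibre_ci_baseChange (f := g.left) (f' := N.hom) (g := (η[H]).left)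
      (g' := pullback.fst g.left (η[H]).left) ?_ z).mp hNz
    rw [hN]
    exact IsPullback.of_hasPullback _ _
  have := H13CI.isCI_fiberStalk_comp g.left H.hom (unitPt G) hgu hH
  rwa [Over.w g] at this

/-- Group schemes locally of finite type over algebraically closed fields are local complete intersections. -/
theorem isCI_algClosed {k : Type u} [Field k] [IsAlgClosed k] (G : Over (Spec (CommRingCat.of k))) [GrpObj G]
    [LocallyOfFiniteType G.hom] (x : G.left) : Pi1.IsCompleteIntersection (CInt.fiberStalk G.hom x) := by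
  haveI : IsNoetherianRing (CommRingCat.of k) := inferInstanceAs (IsNoetherianRing k)
  obtain ⟨p, hp⟩ := CharP.exists k
  rcases CharP.char_is_prime_or_zero k p with hprime | rfl
  · haveI : Fact p.Prime := ⟨hprime⟩
    haveI := LocallyOfFiniteType.jacobsonSpace G.hom
    haveI : LocallyOfFinitePresentation G.hom := inferInstance
    have key : ∀ y : G.left, IsClosed {y} → Pi1.IsCompleteIntersection (CInt.fiberStalk G.hom y) := by
      intro y hy
      obtain ⟨e, rfl⟩ := exists_iso_unitPt G y hy
      haveI : IsIso e.hom.left := inferInstanceAs (IsIso ((Over.forget _).map e.hom))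
      refine (H13CI.fibre_ci_baseChange (f := G.hom) (f' := G.hom) (g := 𝟙 _) (g' := e.hom.left) ?_
        (unitPt G)).mp (isCI_unit p G)
      exact IsPullback.of_horiz_isIso ⟨by rw [Over.w e.hom, Category.comp_id]⟩
    by_contra hx
    obtain ⟨y, hy, hyc⟩ := nonempty_inter_closedPoints
      (Z := {y : G.left | Pi1.IsCompleteIntersection (CInt.fiberStalk G.hom y)}ᶜ) ⟨x, hx⟩
      (H13CI.isOpen_fiberCI G.hom).isClosed_compl.isLocallyClosed
    exact hy (key y hyc)
  · haveI : CharZero k := CharP.charP_to_charZero k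
    haveI := smooth_of_charZero G
    exact ((H13CI.isSyntomicMor_iff_isCIMorphism G.hom).mp (S9699.result G.hom)).2.2 x

/-- Fibres of group schemes locally of finite type are local complete intersections. -/
theorem isCI_fiberStalk {S : Scheme.{u}} (G : Over S) [GrpObj G] [LocallyOfFiniteType G.hom] (x : G.left) :
    Pi1.IsCompleteIntersection (CInt.fiberStalk G.hom x) := by
  let K := AlgebraicClosure (S.residueField (G.hom x))
  let s : Spec (CommRingCat.of K) ⟶ S :=
    Spec.map (CommRingCat.ofHom (algebraMap (S.residueField (G.hom x)) K)) ≫ S.fromSpecResidueField (G.hom x)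
  let G' := (Over.pullback s).obj G
  letI : GrpObj G' := Functor.grpObjObj
  haveI : LocallyOfFiniteType G'.hom := MorphismProperty.pullback_snd _ _ inferInstance
  obtain ⟨z, hz, -⟩ := Scheme.Pullback.exists_preimage_pullback (f := G.hom) (g := s) x
    (IsLocalRing.closedPoint K) (by
      show G.hom x = S.fromSpecResidueField (G.hom x) _
      rw [Scheme.fromSpecResidueField_apply])
  have h := (H13CI.fibre_ci_baseChange (f := G.hom) (f' := G'.hom) (g := s) (g' := pullback.fst G.hom s)
    (IsPullback.of_hasPullback _ _) z).mp (isCI_algClosed G' z)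
  have h' : Pi1.IsCompleteIntersection (CInt.fiberStalk G.hom ((pullback.fst G.hom s) z)) := h
  exact hz ▸ h'

/-- Flat group schemes locally of finite presentation are syntomic. -/
theorem isSyntomicMor {S : Scheme.{u}} (G : Over S) [GrpObj G] [Flat G.hom] [LocallyOfFinitePresentation G.hom] :
    Synt.IsSyntomicMor G.hom :=
  (H13CI.isSyntomicMor_iff_isCIMorphism G.hom).mpr ⟨inferInstance, inferInstance, isCI_fiberStalk G⟩

end Groth.Agent.H19Grp.GroupCI
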