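import Groth.Agent.H19Grp.Kernel
import Groth.Agent.H19Grp.Basic
import Groth.Agent.H19Grp.NeutralOpen

/-!
# The kernel of a homomorphism of group schemes over any base
-/

set_option autoImplicit false
set_option linter.style.haveILetI false
set_option backward.isDefEq.respectTransparency false

universe u

open CategoryTheory CategoryTheory.Limits MonoidalCategory CartesianMonoidalCategory MonObj GrpObj AlgebraicGeometry

namespace Groth.Agent.H19Grp.KernelGrp

variable {S : Scheme.{u}}

/-- The underlying object of the kernel: the preimage of the unit section. -/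
noncomputable abbrev ker {G H : Over S} [GrpObj H] (f : G ⟶ H) : Over S :=
  Over.mk (pullback.snd f.left (η[H]).left)

/-- The inclusion of the kernel. -/
noncomputable def incl {G H : Over S} [GrpObj H] (f : G ⟶ H) : ker f ⟶ G :=
  Over.homMk (pullback.fst f.left (η[H]).left) (by
    rw [← Over.w f, reassoc_of% (pullback.condition (f := f.left) (g := (η[H]).left)), Over.w η[H]]
    exact Category.comp_id _)

theorem isKernel {G H : Over S} [GrpObj H] (f : G ⟶ H) : AlgGrp.IsKernel (incl f) f :=
  isKernel_of (by rw [Hom.one_def]; exact Over.OverMorphism.ext pullback.condition)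
    (fun T a b h => Over.OverMorphism.ext (pullback.hom_ext (congrArg (·.left) h) ((Over.w a).trans (Over.w b).symm)))
    (fun T x hx => by
      refine ⟨Over.homMk (pullback.lift x.left T.hom ?_) (pullback.lift_snd _ _ _),
        Over.OverMorphism.ext (pullback.lift_fst _ _ _)⟩
      have := congrArg (·.left) hx
      rw [Hom.one_def] at this
      exact this)

theorem exists_grpObj {G H : Over S} [GrpObj G] [GrpObj H] (f : G ⟶ H) [IsMonHom f] :
    ∃ _ : GrpObj (ker f), IsMonHom (incl f) := by
  have hker := isKernel f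
  haveI := kernel_mono hker
  obtain ⟨e₀, he₀⟩ := kernel_lift hker η[G] (by
    rw [IsMonHom.one_hom f, Hom.one_def, toUnit_unique (toUnit (𝟙_ (Over S))) (𝟙 _), Category.id_comp])
  obtain ⟨m₀, hm₀⟩ := kernel_lift hker ((incl f ⊗ₘ incl f) ≫ μ[G]) (by
    rw [show (incl f ⊗ₘ incl f) ≫ μ[G] = (fst _ _ ≫ incl f) * (snd _ _ ≫ incl f) by
        rw [Hom.mul_def, lift_fst_comp_snd_comp],
      MonObj.mul_comp, Category.assoc, Category.assoc, kernel_comp_eq_one hker,
      MonObj.comp_one, MonObj.comp_one, _root_.mul_one])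
  obtain ⟨i₀, hi₀⟩ := kernel_lift hker (incl f ≫ ι[G]) (by
    rw [← Hom.inv_def, GrpObj.inv_comp, kernel_comp_eq_one hker, inv_one])
  obtain ⟨g, hg⟩ := exists_grpObj_of_mono G (incl f) e₀ he₀ m₀ hm₀ i₀ hi₀
  exact ⟨g, hg⟩

theorem isCommMonObj {G H : Over S} [GrpObj G] [IsCommMonObj G] [GrpObj H] (f : G ⟶ H) [GrpObj (ker f)]
    [IsMonHom (incl f)] : IsCommMonObj (ker f) := by
  haveI := kernel_mono (isKernel f)
  refine ⟨?_⟩
  rw [← cancel_mono (incl f), Category.assoc, IsMonHom.mul_hom (incl f), ← Category.assoc,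
    ← BraidedCategory.braiding_naturality, Category.assoc, IsCommMonObj.mul_comm]

end Groth.Agent.H19Grp.KernelGrp
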