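import Mathlib.RingTheory.MvPolynomial.Homogeneous
import Mathlib.RingTheory.Filtration
import Mathlib.Algebra.MvPolynomial.Funext
import Mathlib.Algebra.CharZero.Infinite
import Mathlib.RingTheory.LocalRing.MaximalIdeal.Basic
import Mathlib.Data.Nat.Factorial.Basic

/-!
# Cartier's trick: enough derivations in characteristic zero make a local ring a domain
-/

universe u v

namespace Groth.Agent.H19Grp

variable {A : Type u} {k : Type v} [CommRing A] [Field k] (ε : A →+* k)

/-- An additive map satisfying the Leibniz rule. -/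
def IsLeibniz (D : A →+ A) : Prop := ∀ a b, D (a * b) = a * D b + b * D a

variable {ε} {D : A →+ A}

lemma IsLeibniz.mem_pow (hD : IsLeibniz D) {I : Ideal A} : ∀ (s : ℕ) {a : A}, a ∈ I ^ (s + 1) →
    D a ∈ I ^ s
  | 0, a, _ => by simp
  | s + 1, a, ha => by
    rw [pow_succ] at ha
    refine Submodule.mul_induction_on ha (fun b hb c hc => ?_) (fun b c hb hc => ?_)
    · rw [hD]
      refine add_mem (Ideal.mul_mem_right _ _ hb) ?_
      rw [pow_succ', ]
      exact Ideal.mul_mem_mul hc (IsLeibniz.mem_pow hD s hb)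
    · rw [map_add]; exact add_mem hb hc

lemma IsLeibniz.iterate_eq_zero (hD : IsLeibniz D) : ∀ (j : ℕ) {s : ℕ} {a : A},
    a ∈ RingHom.ker ε ^ s → j < s → ε (D^[j] a) = 0
  | 0, s, a, ha, hj => RingHom.mem_ker.mp (Ideal.pow_le_self (Nat.pos_iff_ne_zero.mp hj) ha)
  | j + 1, s + 1, a, ha, hj => by
    rw [Function.iterate_succ_apply]
    exact IsLeibniz.iterate_eq_zero hD j (hD.mem_pow s ha) (Nat.lt_of_succ_lt_succ hj)

lemma IsLeibniz.iterate_mul_right (hD : IsLeibniz D) : ∀ (s : ℕ) {a : A} (w : A),
    a ∈ RingHom.ker ε ^ s → ε (D^[s] (a * w)) = ε (D^[s] a) * ε w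
  | 0, a, w, _ => by simp
  | s + 1, a, w, ha => by
    rw [Function.iterate_succ_apply, Function.iterate_succ_apply, hD, iterate_map_add, map_add,
      hD.iterate_eq_zero s (Ideal.mul_mem_right _ _ ha) (Nat.lt_succ_self s), zero_add, mul_comm w,
      IsLeibniz.iterate_mul_right hD s w (hD.mem_pow s ha)]

lemma IsLeibniz.iterate_mul_one (hD : IsLeibniz D) {z : A} (hz : z ∈ RingHom.ker ε) :
    ∀ (s : ℕ) {a : A}, a ∈ RingHom.ker ε ^ s →
      ε (D^[s + 1] (a * z)) = (s + 1 : k) * (ε (D^[s] a) * ε (D z))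
  | 0, a, _ => by
    rw [Function.iterate_succ_apply, Function.iterate_zero_apply, Function.iterate_zero_apply, hD,
      map_add, map_mul, map_mul, RingHom.mem_ker.mp hz]
    simp
  | s + 1, a, ha => by
    rw [Function.iterate_succ_apply, hD, iterate_map_add, map_add, mul_comm z,
      IsLeibniz.iterate_mul_one hD hz s (hD.mem_pow s ha),
      hD.iterate_mul_right (s + 1) _ ha, ← Function.iterate_succ_apply]
    push_cast
    ring

variable {n : ℕ} (x : Fin n → A)

lemma IsLeibniz.iterate_monomial (hD : IsLeibniz D) (hx : ∀ i, x i ∈ RingHom.ker ε) (c : A) :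
    ∀ (s : ℕ) (d : Fin n →₀ ℕ), d.degree = s →
      c * (d.prod fun i e => x i ^ e) ∈ RingHom.ker ε ^ s ∧
      ε (D^[s] (c * d.prod fun i e => x i ^ e)) =
        (s.factorial : k) * (ε c * d.prod fun i e => ε (D (x i)) ^ e)
  | 0, d, hd => by
    rw [Finsupp.degree_eq_zero_iff] at hd
    subst hd
    simp
  | s + 1, d, hd => by
    obtain ⟨i, hi⟩ : ∃ i, d i ≠ 0 := by
      by_contra h
      push_neg at h
      rw [show d = 0 from Finsupp.ext h] at hd
      simp at hd
    have hd' : d = (d - Finsupp.single i 1) + Finsupp.single i 1 :=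
      (tsub_add_cancel_of_le (Finsupp.single_le_iff.mpr (Nat.pos_of_ne_zero hi))).symm
    have hdeg : (d - Finsupp.single i 1).degree = s := by
      rw [hd', map_add, Finsupp.degree_single] at hd
      omega
    obtain ⟨hmem, hval⟩ := IsLeibniz.iterate_monomial hD hx c s _ hdeg
    rw [hd']
    simp only [Finsupp.prod_add_index' (fun i => pow_zero _) (fun i a b => pow_add _ a b),
      Finsupp.prod_single_index, pow_zero, pow_one, ← mul_assoc c]
    refine ⟨by rw [pow_succ]; exact Ideal.mul_mem_mul hmem (hx i), ?_⟩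
    rw [hD.iterate_mul_one (hx i) s hmem, hval, Nat.factorial_succ]
    push_cast
    ring

lemma IsLeibniz.iterate_aeval (hD : IsLeibniz D) (hx : ∀ i, x i ∈ RingHom.ker ε) {s : ℕ}
    (g : MvPolynomial (Fin n) A) (hg : g.IsHomogeneous s) :
    ε (D^[s] (MvPolynomial.eval x g)) =
      (s.factorial : k) * MvPolynomial.eval (fun i => ε (D (x i))) (MvPolynomial.map ε g) := by
  rw [MvPolynomial.eval_eq, MvPolynomial.eval_map, MvPolynomial.eval₂_eq]
  rw [show (D^[s] : A → A) (∑ d ∈ g.support, g.coeff d * ∏ i ∈ d.support, x i ^ d i) =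
      ∑ d ∈ g.support, D^[s] (g.coeff d * ∏ i ∈ d.support, x i ^ d i) by
    induction g.support using Finset.induction with
    | empty => simp
    | insert a t ha ih => rw [Finset.sum_insert ha, Finset.sum_insert ha, iterate_map_add, ih],
    map_sum, Finset.mul_sum]
  refine Finset.sum_congr rfl fun d hd => ?_
  exact (hD.iterate_monomial x hx _ s d (by
    rw [Finsupp.degree_eq_weight_one]; exact hg (MvPolynomial.mem_support_iff.mp hd))).2

/-- Cartier: a Noetherian local ring with residue field k of characteristic zero is a domain as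
soon as some generators of the maximal ideal admit a dual family of derivations. -/
theorem isDomain_of_derivations [IsLocalRing A] [IsNoetherianRing A] [CharZero k]
    (hε : RingHom.ker ε = IsLocalRing.maximalIdeal A) (hsurj : Function.Surjective ε)
    (hspan : Ideal.span (Set.range x) = IsLocalRing.maximalIdeal A)
    (d : Fin n → A →+ A) (hd : ∀ i, IsLeibniz (d i))
    (hdual : ∀ i j, ε (d i (x j)) = if i = j then 1 else 0) : IsDomain A := by
  have hx : ∀ i, x i ∈ RingHom.ker ε := fun i => by
    rw [hε, ← hspan]; exact Ideal.subset_span ⟨i, rfl⟩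
  have hlead : ∀ a : A, a ≠ 0 → ∃ (s : ℕ) (g : MvPolynomial (Fin n) A), g.IsHomogeneous s ∧
      MvPolynomial.eval x g = a ∧ MvPolynomial.map ε g ≠ 0 := by
    intro a ha
    have hex : ∃ s, a ∉ IsLocalRing.maximalIdeal A ^ s := by
      by_contra h
      push_neg at h
      exact ha (by
        have := Ideal.iInf_pow_eq_bot_of_isLocalRing (IsLocalRing.maximalIdeal A)
          (IsLocalRing.maximalIdeal.isMaximal A).ne_top
        exact Ideal.mem_bot.mp (this ▸ Ideal.mem_iInf.mpr h))
    classical
    obtain ⟨s, hs⟩ : ∃ s, a ∈ IsLocalRing.maximalIdeal A ^ s ∧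
        a ∉ IsLocalRing.maximalIdeal A ^ (s + 1) := by
      have h0 : Nat.find hex ≠ 0 := fun h => by
        have := Nat.find_spec hex
        simp [h] at this
      obtain ⟨s, hs⟩ := Nat.exists_eq_succ_of_ne_zero h0
      have hspec := Nat.find_spec hex
      rw [hs] at hspec
      exact ⟨s, not_not.mp (Nat.find_min hex (by omega)), hspec⟩
    obtain ⟨g, hg, hga⟩ := (Ideal.mem_span_pow_iff_exists_isHomogeneous x a).mp (hspan.symm ▸ hs.1)
    refine ⟨s, g, hg, hga, fun h0 => hs.2 ?_⟩
    rw [← hga, MvPolynomial.eval_eq]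
    refine sum_mem fun e he => ?_
    rw [pow_succ']
    refine Ideal.mul_mem_mul ?_ ?_
    · rw [← hε, RingHom.mem_ker, ← MvPolynomial.coeff_map, h0, MvPolynomial.coeff_zero]
    · have hd0 : ∀ (D : A →+ A), D = 0 → IsLeibniz D := by rintro D rfl a b; simp
      have := ((hd0 0 rfl).iterate_monomial x hx 1 s e (by
        rw [Finsupp.degree_eq_weight_one]; exact hg (MvPolynomial.mem_support_iff.mp he))).1
      rw [hε, one_mul] at this
      exact this
  suffices NoZeroDivisors A from NoZeroDivisors.to_isDomain A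
  refine ⟨fun {a b} hab => ?_⟩
  by_contra h
  push_neg at h
  obtain ⟨s, g, hg, rfl, hg0⟩ := hlead a h.1
  obtain ⟨t, f, hf, rfl, hf0⟩ := hlead b h.2
  obtain ⟨u, hu⟩ : ∃ u : Fin n → k,
      MvPolynomial.eval u (MvPolynomial.map ε g * MvPolynomial.map ε f) ≠ 0 := by
    by_contra h'
    push_neg at h'
    exact mul_ne_zero hg0 hf0 (MvPolynomial.funext fun u => by simpa using h' u)
  choose c hc using fun i => hsurj (u i)
  let D : A →+ A := ∑ i, (AddMonoidHom.mulLeft (c i)).comp (d i)
  have hDa : ∀ a, D a = ∑ i, c i * d i a := fun a => by simp [D, AddMonoidHom.finset_sum_apply]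
  have hD : IsLeibniz D := fun a b => by
    simp only [hDa, hd _ a b, Finset.mul_sum, ← Finset.sum_add_distrib]
    exact Finset.sum_congr rfl fun i _ => by ring
  have hDx : (fun i => ε (D (x i))) = u := funext fun i => by
    simp [hDa, map_sum, hdual, hc]
  have := hD.iterate_aeval x hx (g * f) (hg.mul hf)
  rw [map_mul, map_mul, hab, hDx, iterate_map_zero, map_zero, eq_comm, mul_eq_zero] at this
  exact hu (this.resolve_left (Nat.cast_ne_zero.mpr (Nat.factorial_ne_zero _)))

end Groth.Agent.H19Grp
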