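import Groth.Agent.H19Grp.Basic
import Groth.Agent.H19Grp.LocalDomain
import Mathlib.RingTheory.DualNumber
import Mathlib.RingTheory.Ideal.Cotangent
import Mathlib.AlgebraicGeometry.Noetherian

/-!
# Tangent vectors at the unit extend to derivations; Cartier's theorem at the unit
-/

universe u

open CategoryTheory CategoryTheory.Limits MonoidalCategory CartesianMonoidalCategory MonObj GrpObj
  AlgebraicGeometry TrivSqZeroExt

namespace Groth.Agent.H19Grp

/-- The ring homomorphism attached to a derivation with values in R along f. -/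
def dualHom {A R : Type u} [CommRing A] [CommRing R] (f : A →+* R) (τ : A →+ R)
    (h : ∀ a b, τ (a * b) = f a * τ b + f b * τ a) : A →+* DualNumber R where
  toFun a := inl (f a) + inr (τ a)
  map_one' := by
    have : τ 1 = 0 := by simpa using h 1 1
    ext <;> simp [this]
  map_mul' a b := by
    ext
    · simp
    · simp [h a b, mul_comm]
  map_zero' := by ext <;> simp
  map_add' a b := by ext <;> simp [add_comm, add_left_comm]

@[simp] lemma fst_dualHom {A R : Type u} [CommRing A] [CommRing R] (f : A →+* R) (τ : A →+ R) (h)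
    (a : A) : fst (dualHom f τ h a) = f a := by simp [dualHom]

@[simp] lemma snd_dualHom {A R : Type u} [CommRing A] [CommRing R] (f : A →+* R) (τ : A →+ R) (h)
    (a : A) : TrivSqZeroExt.snd (dualHom f τ h a) = τ a := by simp [dualHom]

/-- Functoriality of the dual numbers. -/
def dualMap {A R : Type u} [CommRing A] [CommRing R] (f : A →+* R) :
    DualNumber A →+* DualNumber R where
  toFun z := inl (f z.fst) + inr (f z.snd)
  map_one' := by ext <;> simp
  map_mul' a b := by ext <;> simp [mul_comm]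
  map_zero' := by ext <;> simp
  map_add' a b := by ext <;> simp

lemma exists_hom_of_closedPoint_eq {X : Scheme.{u}} {R : CommRingCat.{u}} [IsLocalRing R]
    (g : Spec R ⟶ X) {x : X} (hx : g (IsLocalRing.closedPoint R) = x) :
    ∃ φ : X.presheaf.stalk x ⟶ R, g = Spec.map φ ≫ X.fromSpecStalk x := by
  subst hx
  exact ⟨_, (Scheme.Spec_stalkClosedPointTo_fromSpecStalk g).symm⟩

lemma hom_apply_of_comp_eq_id {A B : CommRingCat.{u}} (f : A ⟶ B) (g : B ⟶ A) (h : f ≫ g = 𝟙 A)
    (c : A) : g.hom (f.hom c) = c := by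
  rw [← CommRingCat.comp_apply, h, CommRingCat.id_apply]

variable {K : Type u} [Field K] (G : Over (Spec (CommRingCat.of K))) [GrpObj G]

/-- The unit point. -/
noncomputable def unitPt : G.left := (η[G]).left (IsLocalRing.closedPoint K)

/-- Evaluation at the unit. -/
noncomputable def unitEval : G.left.presheaf.stalk (unitPt G) ⟶ CommRingCat.of K :=
  Scheme.stalkClosedPointTo (R := CommRingCat.of K) (η[G]).left

lemma specMap_unitEval :
    Spec.map (unitEval G) ≫ G.left.fromSpecStalk (unitPt G) = (η[G]).left :=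
  Scheme.Spec_stalkClosedPointTo_fromSpecStalk (R := CommRingCat.of K) (η[G]).left

/-- The structure map of the local ring at the unit. -/
noncomputable def unitStalkAlg : CommRingCat.of K ⟶ G.left.presheaf.stalk (unitPt G) :=
  Spec.preimage (G.left.fromSpecStalk (unitPt G) ≫ G.hom)

lemma unitStalkAlg_comp_unitEval : unitStalkAlg G ≫ unitEval G = 𝟙 _ := by
  apply Spec.map_injective
  rw [Spec.map_comp, unitStalkAlg, Spec.map_preimage, Spec.map_id, ← Category.assoc,
    specMap_unitEval]
  exact Over.w η[G]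

lemma unitEval_alg (c : K) : (unitEval G).hom ((unitStalkAlg G).hom c) = c :=
  hom_apply_of_comp_eq_id (A := CommRingCat.of K) _ _ (unitStalkAlg_comp_unitEval G) c

/-- A tangent vector at an abstract local point extends to a Leibniz map. -/
theorem exists_leibniz_aux (A : CommRingCat.{u}) [IsLocalRing A] (u : Spec A ⟶ G.left) [Mono u]
    (ε : A ⟶ CommRingCat.of K) (ψ : CommRingCat.of K ⟶ A) (hψ : Spec.map ψ = u ≫ G.hom)
    (hε : Spec.map ε ≫ u = (η[G]).left) (hεψ : ψ ≫ ε = 𝟙 _)
    (hfac : ∀ (R : CommRingCat.{u}) [IsLocalRing R] (g : Spec R ⟶ G.left),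
      g (IsLocalRing.closedPoint R) = u (IsLocalRing.closedPoint A) → ∃ φ, g = Spec.map φ ≫ u)
    (τ : A →+ K) (hτ : ∀ a b, τ (a * b) = ε.hom a * τ b + ε.hom b * τ a)
    (hτ0 : ∀ c, τ (ψ.hom c) = 0) :
    ∃ D : A →+ A, IsLeibniz D ∧ ∀ a, ε.hom (D a) = τ a := by
  have hεψ' : ∀ c, ε.hom (ψ.hom c) = c := hom_apply_of_comp_eq_id ψ ε hεψ
  let R : CommRingCat.{u} := CommRingCat.of (DualNumber A)
  have : IsLocalRing (DualNumber A) := IsLocalRing.of_isUnit_or_isUnit_one_sub_self fun z => by
    simpa [TrivSqZeroExt.isUnit_iff_isUnit_fst] using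
      IsLocalRing.isUnit_or_isUnit_one_sub_self (TrivSqZeroExt.fst z)
  have : IsLocalRing R := this
  let inlA : A ⟶ R := CommRingCat.ofHom (inlHom A A)
  let fstA : R ⟶ A := CommRingCat.ofHom (fstHom A A A).toRingHom
  let ψh : K →+* A := ψ.hom
  let εh : A →+* K := ε.hom
  have hleib : ∀ a b : A, (ψh.toAddMonoidHom.comp τ) (a * b) =
      (ψh.comp εh) a * (ψh.toAddMonoidHom.comp τ) b + (ψh.comp εh) b * (ψh.toAddMonoidHom.comp τ) a := by
    intro a b
    show ψh (τ (a * b)) = ψh (εh a) * ψh (τ b) + ψh (εh b) * ψh (τ a)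
    rw [← map_mul, ← map_mul, ← map_add]
    exact congrArg ψh (hτ a b)
  let ψτ : A ⟶ R := CommRingCat.ofHom (dualHom (ψh.comp εh) (ψh.toAddMonoidHom.comp τ) hleib)
  have hφ0 : ψ ≫ ψτ = ψ ≫ inlA := by
    ext c : 2
    refine TrivSqZeroExt.ext ?_ ?_
    · show TrivSqZeroExt.fst (dualHom (ψh.comp εh) (ψh.toAddMonoidHom.comp τ) hleib (ψ.hom c)) = _
      rw [fst_dualHom]
      exact congrArg ψ.hom (hεψ' c)
    · show TrivSqZeroExt.snd (dualHom (ψh.comp εh) (ψh.toAddMonoidHom.comp τ) hleib (ψ.hom c)) = _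
      rw [snd_dualHom]
      exact (congrArg ψ.hom (hτ0 c)).trans (map_zero _)
  have hover : (Spec.map ψτ ≫ u) ≫ G.hom = Spec.map inlA ≫ u ≫ G.hom := by
    rw [Category.assoc, ← hψ, ← Spec.map_comp, ← Spec.map_comp, hφ0]
  let T : Over (Spec (CommRingCat.of K)) := Over.mk (Spec.map inlA ≫ u ≫ G.hom)
  let T0 : Over (Spec (CommRingCat.of K)) := Over.mk (u ≫ G.hom)
  let g1 : T ⟶ G := Over.homMk (Spec.map inlA ≫ u) (Category.assoc _ _ _)
  let g2 : T ⟶ G := Over.homMk (Spec.map ψτ ≫ u) hover
  have hfi : Spec.map fstA ≫ Spec.map inlA = 𝟙 _ := by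
    rw [← Spec.map_comp, ← Spec.map_id]; rfl
  let r : T0 ⟶ T := Over.homMk (Spec.map fstA) (by
    show Spec.map fstA ≫ Spec.map inlA ≫ u ≫ G.hom = u ≫ G.hom
    rw [reassoc_of% hfi])
  have hr : r ≫ (g1 * g2) = Over.homMk u rfl := by
    have h2 : r ≫ g2 = 1 := by
      rw [Hom.one_def]
      ext1
      show Spec.map fstA ≫ Spec.map ψτ ≫ u = (u ≫ G.hom) ≫ (η[G]).left
      rw [← hψ, ← hε]
      simp only [← Category.assoc, ← Spec.map_comp]
      congr 2
      ext a
      exact fst_dualHom (ψh.comp εh) (ψh.toAddMonoidHom.comp τ) hleib a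
    rw [MonObj.comp_mul, h2, _root_.mul_one]
    ext1
    show Spec.map fstA ≫ Spec.map inlA ≫ u = u
    rw [reassoc_of% hfi]
  have hpt : (g1 * g2).left (IsLocalRing.closedPoint R) = u (IsLocalRing.closedPoint A) := by
    have : IsLocalHom fstA.hom := ⟨fun z hz => TrivSqZeroExt.isUnit_iff_isUnit_fst.mpr hz⟩
    have hfst : Spec.map fstA (IsLocalRing.closedPoint A) = IsLocalRing.closedPoint R := Spec_closedPoint
    rw [← hfst]
    show ((r ≫ (g1 * g2)).left) (IsLocalRing.closedPoint A) = _
    rw [hr]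
    rfl
  obtain ⟨φ, hφ⟩ := hfac R (g1 * g2).left hpt
  have hφfst : φ ≫ fstA = 𝟙 A := by
    apply Spec.map_injective
    rw [← cancel_mono u, Spec.map_comp, Spec.map_id, Category.id_comp, Category.assoc, ← hφ]
    show (r ≫ (g1 * g2)).left = u
    rw [hr]; rfl
  let RK : CommRingCat.{u} := CommRingCat.of (DualNumber K)
  let χ : R ⟶ RK := CommRingCat.ofHom (dualMap ε.hom)
  let TK : Over (Spec (CommRingCat.of K)) := Over.mk (Spec.map χ ≫ T.hom)
  let z : TK ⟶ T := Over.homMk (Spec.map χ) rfl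
  have hinlK : inlA ≫ χ = (ε ≫ ψ) ≫ inlA ≫ χ := by
    ext a : 2
    refine TrivSqZeroExt.ext ?_ ?_
    · simp [inlA, χ, dualMap]
      exact (hεψ' _).symm
    · simp [inlA, χ, dualMap]
      exact congrArg ε.hom ((TrivSqZeroExt.snd_inl _ a).trans (TrivSqZeroExt.snd_inl _ (ψ.hom (ε.hom a))).symm)
  have hz : z ≫ (g1 * g2) = z ≫ g2 := by
    have h1 : z ≫ g1 = 1 := by
      rw [Hom.one_def]
      ext1
      show Spec.map χ ≫ Spec.map inlA ≫ u = (Spec.map χ ≫ Spec.map inlA ≫ u ≫ G.hom) ≫ (η[G]).left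
      rw [← hψ, ← hε]
      simp only [← Category.assoc, ← Spec.map_comp]
      rw [hinlK]
      simp only [Category.assoc]
    rw [MonObj.comp_mul, h1, _root_.one_mul]
  have hφsnd : ∀ a : A, ε.hom (TrivSqZeroExt.snd (φ.hom a)) = τ a := by
    have h : φ ≫ χ = ψτ ≫ χ := by
      apply Spec.map_injective
      rw [← cancel_mono u, Spec.map_comp, Spec.map_comp, Category.assoc, Category.assoc, ← hφ]
      exact congrArg (·.left) hz
    intro a
    have := congrArg (fun f => TrivSqZeroExt.snd (CommRingCat.Hom.hom f a)) h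
    simp [χ, dualMap, ψτ, ψh] at this
    refine this.trans ((congrArg ε.hom (snd_dualHom (ψh.comp εh) (ψh.toAddMonoidHom.comp τ) hleib a)).trans ?_)
    exact hεψ' (τ a)
  refine ⟨{ toFun := fun a => TrivSqZeroExt.snd (φ.hom a), map_zero' := by simp [R]
            map_add' := fun a b => by simp [R] }, fun a b => ?_, hφsnd⟩
  have h1 : ∀ a : A, TrivSqZeroExt.fst (φ.hom a) = a := fun a =>
    congrArg (fun f => CommRingCat.Hom.hom f a) hφfst
  show TrivSqZeroExt.snd (φ.hom (a * b)) = _
  rw [map_mul]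
  refine (DualNumber.snd_mul _ _).trans ?_
  rw [h1, h1, mul_comm (TrivSqZeroExt.snd (φ.hom a))]
  rfl

/-- A tangent vector at the unit extends to a Leibniz map of the local ring at the unit. -/
theorem exists_leibniz_of_tangent (τ : G.left.presheaf.stalk (unitPt G) →+ K)
    (hτ : ∀ a b, τ (a * b) = (unitEval G).hom a * τ b + (unitEval G).hom b * τ a)
    (hτ0 : ∀ c, τ ((unitStalkAlg G).hom c) = 0) :
    ∃ D : G.left.presheaf.stalk (unitPt G) →+ G.left.presheaf.stalk (unitPt G),
      IsLeibniz D ∧ ∀ a, (unitEval G).hom (D a) = τ a := by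
  refine exists_leibniz_aux G _ (G.left.fromSpecStalk (unitPt G)) (unitEval G) (unitStalkAlg G)
    (Spec.map_preimage _) (specMap_unitEval G) (unitStalkAlg_comp_unitEval G) ?_ τ hτ hτ0
  intro R _ g hg
  exact exists_hom_of_closedPoint_eq g (hg.trans Scheme.fromSpecStalk_closedPoint)

/-- Cartier: in characteristic zero the local ring at the unit of a group scheme locally of finite
type over a field is a domain. -/
theorem isDomain_stalk_unit [CharZero K] [LocallyOfFiniteType G.hom] :
    IsDomain (G.left.presheaf.stalk (unitPt G)) := by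
  have : IsLocallyNoetherian G.left := LocallyOfFiniteType.isLocallyNoetherian G.hom
  let A := G.left.presheaf.stalk (unitPt G)
  let ε : A →+* K := (unitEval G).hom
  let ψ : K →+* A := (unitStalkAlg G).hom
  have hεψ : ∀ c, ε (ψ c) = c := unitEval_alg G
  have hsurj : Function.Surjective ε := fun c => ⟨ψ c, hεψ c⟩
  have hker : RingHom.ker ε = IsLocalRing.maximalIdeal A :=
    IsLocalRing.eq_maximalIdeal (RingHom.ker_isMaximal_of_surjective ε hsurj)
  have : IsLocalHom ε := ⟨fun a ha => by
    by_contra h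
    have : a ∈ RingHom.ker ε := hker ▸ h
    rw [RingHom.mem_ker] at this
    rw [this] at ha
    simp at ha⟩
  let m := IsLocalRing.maximalIdeal A
  let b := Module.finBasis (IsLocalRing.ResidueField A) (IsLocalRing.CotangentSpace A)
  choose x hx using fun i => Ideal.toCotangent_surjective m (b i)
  have hspan : Ideal.span (Set.range fun i => (x i : A)) = m := by
    have h : Submodule.span (IsLocalRing.ResidueField A) (m.toCotangent '' Set.range x) = ⊤ := by
      rw [← Set.range_comp, show m.toCotangent ∘ x = b from funext hx, b.span_eq]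
    have := congrArg (Submodule.map m.subtype) (IsLocalRing.CotangentSpace.span_image_eq_top_iff.mp h)
    simpa [Submodule.map_span, ← Set.range_comp, Function.comp_def] using this
  have hmem : ∀ a, a - ψ (ε a) ∈ m := fun a => by
    show _ ∈ IsLocalRing.maximalIdeal A
    rw [← hker, RingHom.mem_ker, map_sub, hεψ, sub_self]
  let res := IsLocalRing.ResidueField.lift ε
  let τ : ∀ i, A →+ K := fun i =>
    { toFun := fun a => res (b.repr (m.toCotangent ⟨a - ψ (ε a), hmem a⟩) i)
      map_zero' := by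
        show res (b.repr (m.toCotangent ⟨0 - ψ (ε 0), hmem _⟩) i) = 0
        rw [show (⟨0 - ψ (ε 0), hmem _⟩ : m) = 0 from Subtype.ext (by simp)]
        simp
      map_add' := fun a a' => by
        rw [show (⟨a + a' - ψ (ε (a + a')), hmem _⟩ : m) =
            ⟨a - ψ (ε a), hmem a⟩ + ⟨a' - ψ (ε a'), hmem a'⟩ from Subtype.ext (by simp; ring)]
        rw [map_add, map_add, Finsupp.add_apply, map_add] }
  have hτ : ∀ i a a', τ i (a * a') = ε a * τ i a' + ε a' * τ i a := by
    intro i a a'
    have hc : m.toCotangent ⟨a * a' - ψ (ε (a * a')), hmem _⟩ =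
        IsLocalRing.residue A (ψ (ε a)) • m.toCotangent ⟨a' - ψ (ε a'), hmem a'⟩ +
          IsLocalRing.residue A (ψ (ε a')) • m.toCotangent ⟨a - ψ (ε a), hmem a⟩ := by
      rw [← IsLocalRing.ResidueField.algebraMap_eq, algebraMap_smul, algebraMap_smul]
      rw [← map_smul, ← map_smul, ← map_add, Ideal.toCotangent_eq]
      have := Ideal.mul_mem_mul (hmem a) (hmem a')
      rw [← pow_two] at this
      convert this using 1
      simp
      ring
    show res (b.repr (m.toCotangent ⟨a * a' - ψ (ε (a * a')), hmem _⟩) i) = _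
    rw [hc, map_add, map_smul, map_smul]
    simp [res, hεψ, τ]
  have hτ0 : ∀ i c, τ i (ψ c) = 0 := fun i c => by
    show res (b.repr (m.toCotangent ⟨ψ c - ψ (ε (ψ c)), hmem _⟩) i) = 0
    rw [show (⟨ψ c - ψ (ε (ψ c)), hmem _⟩ : m) = 0 from Subtype.ext (by simp [hεψ])]
    simp
  choose D hD hDτ using fun i => exists_leibniz_of_tangent G (τ i) (hτ i) (hτ0 i)
  refine isDomain_of_derivations (ε := ε) (fun i => (x i : A)) hker hsurj hspan D hD (fun i j => ?_)
  rw [hDτ]
  show res (b.repr (m.toCotangent ⟨(x j : A) - ψ (ε (x j)), hmem _⟩) i) = _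
  have hxj : ε (x j : A) = 0 := RingHom.mem_ker.mp (hker.symm ▸ (x j).2)
  rw [show (⟨(x j : A) - ψ (ε (x j)), hmem _⟩ : m) = x j from Subtype.ext (by simp [hxj]), hx]
  simp [Finsupp.single_apply, eq_comm, apply_ite res]

end Groth.Agent.H19Grp
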