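import Groth.Agent.H17.LocusBC
import Mathlib

/-!
# Flatness can be checked at closed points of a Jacobson scheme
-/

set_option autoImplicit false
set_option linter.style.haveILetI false
set_option backward.isDefEq.respectTransparency false

universe u

open CategoryTheory Limits AlgebraicGeometry TopologicalSpace

namespace Groth.Agent.H19Grp

/-- A morphism from a Jacobson scheme is flat if its stalk maps at closed points are. -/
theorem flat_of_forall_closedPoint {X Y : Scheme.{u}} (f : X ⟶ Y) [JacobsonSpace X]
    (h : ∀ x : X, IsClosed {x} → (f.stalkMap x).hom.Flat) : Flat f := by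
  refine HasRingHomProperty.iff_appLE.mpr fun ⟨V, hV⟩ ⟨U, hU⟩ e => ?_
  let φ := f.appLE V U e
  have key : ∀ (P : Ideal Γ(X, U)) (_ : P.IsMaximal),
      (Localization.localRingHom (P.comap φ.hom) P φ.hom rfl).Flat := by
    intro P hP
    let q : PrimeSpectrum Γ(X, U) := ⟨P, hP.isPrime⟩
    have hq : IsClosed ({q} : Set (Spec Γ(X, U))) :=
      (PrimeSpectrum.isClosed_singleton_iff_isMaximal q).mpr hP
    have hx : IsClosed ({hU.fromSpec q} : Set X) := by
      have : q ∈ hU.fromSpec ⁻¹' closedPoints X := by
        rw [hU.fromSpec.isOpenEmbedding.preimage_closedPoints]; exact hq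
      exact this
    have hflat : ((Spec.map φ).stalkMap q).hom.Flat :=
      (H17.LocusBC.flat_stalkMap_comp_iff hU.fromSpec f hV.fromSpec (Spec.map φ)
        (IsAffineOpen.SpecMap_appLE_fromSpec f hV hU e) q).mpr (h _ hx)
    haveI := RingHom.toMorphismProperty_respectsIso_iff.mp RingHom.Flat.respectsIso
    exact ((RingHom.toMorphismProperty @RingHom.Flat).arrow_mk_iso_iff
      (Scheme.arrowStalkMapSpecIso φ q)).mp hflat
  show φ.hom.Flat
  generalize φ.hom = ψ at key ⊢
  algebraize_only [ψ]
  rw [RingHom.Flat]
  apply Module.flat_of_isLocalized_maximal Γ(X, U) Γ(X, U) (fun P ↦ Localization.AtPrime P)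
    (fun P ↦ Algebra.linearMap Γ(X, U) _)
  intro P hP
  algebraize_only [Localization.localRingHom (Ideal.comap ψ P) P ψ rfl]
  have : IsScalarTower Γ(Y, V) (Localization.AtPrime (Ideal.comap ψ P)) (Localization.AtPrime P) :=
    .of_algebraMap_eq fun x ↦ (Localization.localRingHom_to_map _ _ _ rfl x).symm
  have := key P hP
  replace : Module.Flat (Localization.AtPrime (Ideal.comap ψ P)) (Localization.AtPrime P) := this
  exact Module.Flat.trans Γ(Y, V) (Localization.AtPrime <| Ideal.comap ψ P) (Localization.AtPrime P)

end Groth.Agent.H19Grp
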