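import Mathlib
import Groth.Agent.H7Flat.LocalCriterion

/-! A local homomorphism between isomorphic Noetherian local rings which generates the maximal
ideal and is surjective on residue fields is flat. -/

set_option autoImplicit false
set_option linter.style.haveILetI false
set_option backward.isDefEq.respectTransparency false

universe u

open IsLocalRing
open scoped TensorProduct

namespace Groth.Agent.H19Grp.EndoFlat

/-- A surjective endomorphism of a Noetherian ring is injective. -/
theorem injective_of_surjective_endo {R : Type*} [CommRing R] [IsNoetherianRing R] (f : R →+* R)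
    (hf : Function.Surjective f) : Function.Injective f := by
  let g : ℕ →o Ideal R :=
    { toFun := fun n => RingHom.ker (f ^ n)
      monotone' := monotone_nat_of_le_succ fun n x hx => by
        rw [RingHom.mem_ker, RingHom.coe_pow] at hx ⊢
        rw [Function.iterate_succ_apply', hx, map_zero] }
  obtain ⟨N, hN⟩ := monotone_stabilizes_iff_noetherian.2 ‹IsNoetherianRing R› g
  rw [injective_iff_map_eq_zero]
  intro a ha
  obtain ⟨b, rfl⟩ := hf.iterate N a
  have : b ∈ g (N + 1) := by
    show b ∈ RingHom.ker (f ^ (N + 1))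
    rw [RingHom.mem_ker, RingHom.coe_pow, Function.iterate_succ_apply']
    exact ha
  rw [← hN (N + 1) N.le_succ] at this
  simpa [g, RingHom.coe_pow] using this

variable {R S : Type u} [CommRing R] [CommRing S] [IsLocalRing R] [IsLocalRing S]
  [IsNoetherianRing R] [IsNoetherianRing S] [Algebra R S]

theorem exists_sub_mem_pow (hm : (maximalIdeal R).map (algebraMap R S) = maximalIdeal S)
    (hres : ∀ s : S, ∃ r : R, s - algebraMap R S r ∈ maximalIdeal S) (j : ℕ) :
    ∀ s : S, ∃ r : R, s - algebraMap R S r ∈ maximalIdeal S ^ j := by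
  induction j with
  | zero => exact fun s => ⟨0, by simp⟩
  | succ j ih =>
    intro s
    obtain ⟨r, hr⟩ := ih s
    rw [← hm, ← Ideal.map_pow] at hr
    suffices ∀ t ∈ (maximalIdeal R ^ j).map (algebraMap R S),
        ∃ r' : R, t - algebraMap R S r' ∈ maximalIdeal S ^ (j + 1) by
      obtain ⟨r', hr'⟩ := this _ hr
      exact ⟨r + r', by rw [map_add]; convert hr' using 1; ring⟩
    intro t ht
    rw [Ideal.map] at ht
    induction ht using Submodule.span_induction with
    | mem t ht =>
      obtain ⟨p, -, rfl⟩ := ht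
      exact ⟨p, by simp⟩
    | zero => exact ⟨0, by simp⟩
    | add t t' _ _ h h' =>
      obtain ⟨a, ha⟩ := h
      obtain ⟨b, hb⟩ := h'
      exact ⟨a + b, by rw [map_add]; convert add_mem ha hb using 1; ring⟩
    | smul c t ht h =>
      obtain ⟨a, ha⟩ := h
      obtain ⟨c', hc'⟩ := hres c
      have htj : t ∈ maximalIdeal S ^ j := by
        rw [← hm, ← Ideal.map_pow]; exact ht
      refine ⟨c' * a, ?_⟩
      have : c • t - algebraMap R S (c' * a) =
          algebraMap R S c' * (t - algebraMap R S a) + (c - algebraMap R S c') * t := by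
        rw [smul_eq_mul, map_mul]; ring
      rw [this]
      refine add_mem (Ideal.mul_mem_left _ _ ha) ?_
      rw [pow_succ']
      exact Ideal.mul_mem_mul hc' htj

/-- A homomorphism between isomorphic Noetherian local rings with `m_R S = m_S` and the same
residue field induces injections `R / m_R ^ j → S / m_S ^ j`. -/
theorem comap_pow_le (e : R ≃+* S) (hm : (maximalIdeal R).map (algebraMap R S) = maximalIdeal S)
    (hres : ∀ s : S, ∃ r : R, s - algebraMap R S r ∈ maximalIdeal S) (j : ℕ) :
    (maximalIdeal S ^ j).comap (algebraMap R S) ≤ maximalIdeal R ^ j := by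
  have he : (maximalIdeal S ^ j).map (e.symm : S →+* R) = maximalIdeal R ^ j := by
    rw [Ideal.map_pow]
    congr 1
    haveI : ((maximalIdeal S).map (e.symm : S →+* R)).IsMaximal := Ideal.map_isMaximal_of_equiv e.symm
    exact IsLocalRing.eq_maximalIdeal this
  let ψ : R →+* R := (e.symm : S →+* R).comp (algebraMap R S)
  have hle : maximalIdeal R ^ j ≤ (maximalIdeal R ^ j).comap ψ := by
    rw [← Ideal.map_le_iff_le_comap, ← Ideal.map_map, Ideal.map_pow, hm]
    exact he.le
  let ψb := Ideal.quotientMap (maximalIdeal R ^ j) ψ hle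
  have hsurj : Function.Surjective ψb := fun q => by
    obtain ⟨q, rfl⟩ := Ideal.Quotient.mk_surjective q
    obtain ⟨r, hr⟩ := exists_sub_mem_pow hm hres j (e q)
    refine ⟨Ideal.Quotient.mk _ r, ?_⟩
    rw [Ideal.quotientMap_mk, eq_comm, Ideal.Quotient.eq, ← he]
    have := Ideal.mem_map_of_mem (e.symm : S →+* R) hr
    simpa [ψ] using this
  intro r hr
  have h0 : ψb (Ideal.Quotient.mk _ r) = 0 := by
    rw [Ideal.quotientMap_mk, Ideal.Quotient.eq_zero_iff_mem, ← he]
    exact Ideal.mem_map_of_mem _ hr
  exact Ideal.Quotient.eq_zero_iff_mem.1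
    (injective_of_surjective_endo ψb hsurj (h0.trans (map_zero ψb).symm))

/-- A local homomorphism between isomorphic Noetherian local rings with `m_R S = m_S` and the same
residue field is flat. -/
theorem flat_of_equiv (e : R ≃+* S) (hm : (maximalIdeal R).map (algebraMap R S) = maximalIdeal S)
    (hres : ∀ s : S, ∃ r : R, s - algebraMap R S r ∈ maximalIdeal S) : Module.Flat R S := by
  haveI : IsLocalHom (algebraMap R S) :=
    ((IsLocalRing.local_hom_TFAE (algebraMap R S)).out 2 0).1 hm.le
  refine H7Flat.flat_of_injective (S := S) ?_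
  rw [injective_iff_map_eq_zero]
  intro x hx
  let L : S ⊗[R] maximalIdeal R →ₗ[S] S :=
    (TensorProduct.AlgebraTensorModule.rid R S S).toLinearMap ∘ₗ
      TensorProduct.AlgebraTensorModule.lTensor S S (maximalIdeal R).subtype
  have hL : ∀ (s : S) (a : maximalIdeal R), L (s ⊗ₜ a) = algebraMap R S a * s := fun s a => by
    simp [L, Algebra.smul_def]
  have hLx : L x = 0 := by
    show TensorProduct.AlgebraTensorModule.rid R S S ((maximalIdeal R).subtype.lTensor S x) = 0
    rw [hx, map_zero]
  suffices x ∈ ⨅ M : ℕ, maximalIdeal S ^ M • (⊤ : Submodule S (S ⊗[R] maximalIdeal R)) by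
    rwa [Ideal.iInf_pow_smul_eq_bot_of_isLocalRing _ (Ideal.IsPrime.ne_top inferInstance),
      Submodule.mem_bot] at this
  rw [Submodule.mem_iInf]
  intro M
  obtain ⟨a, ha⟩ : ∃ a : maximalIdeal R, x - (1 : S) ⊗ₜ[R] a ∈
      maximalIdeal S ^ (M + 1) • (⊤ : Submodule S (S ⊗[R] maximalIdeal R)) := by
    clear hx hLx
    induction x using TensorProduct.induction_on with
    | zero => exact ⟨0, by simp⟩
    | tmul s b =>
      obtain ⟨r, hr⟩ := exists_sub_mem_pow hm hres (M + 1) s
      refine ⟨r • b, ?_⟩
      have : s ⊗ₜ[R] b - (1 : S) ⊗ₜ[R] (r • b) = (s - algebraMap R S r) • ((1 : S) ⊗ₜ[R] b) := by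
        rw [TensorProduct.tmul_smul, TensorProduct.smul_tmul', TensorProduct.smul_tmul',
          smul_eq_mul, mul_one, TensorProduct.sub_tmul, Algebra.smul_def, mul_one]
      rw [this]
      exact Submodule.smul_mem_smul hr Submodule.mem_top
    | add x y hx hy =>
      obtain ⟨a, ha⟩ := hx
      obtain ⟨b, hb⟩ := hy
      exact ⟨a + b, by rw [TensorProduct.tmul_add]; convert add_mem ha hb using 1; abel⟩
  have hLmem : ∀ z ∈ maximalIdeal S ^ (M + 1) • (⊤ : Submodule S (S ⊗[R] maximalIdeal R)),
      L z ∈ maximalIdeal S ^ (M + 1) := fun z hz => by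
    refine Submodule.smul_induction_on hz (fun r hr t _ => ?_) fun z w hz hw => ?_
    · rw [map_smul]; exact Ideal.mul_mem_right _ _ hr
    · rw [map_add]; exact add_mem hz hw
  have hamem : (a : R) ∈ maximalIdeal R ^ (M + 1) := by
    refine comap_pow_le e hm hres (M + 1) ?_
    have := hLmem _ ha
    rw [map_sub, hLx, hL, mul_one, zero_sub, neg_mem_iff] at this
    exact this
  have hone : ∀ c : R, c ∈ maximalIdeal R ^ M * maximalIdeal R → ∃ hc : c ∈ maximalIdeal R,
      (1 : S) ⊗ₜ[R] (⟨c, hc⟩ : maximalIdeal R) ∈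
        maximalIdeal S ^ M • (⊤ : Submodule S (S ⊗[R] maximalIdeal R)) := by
    intro c hc
    refine Submodule.mul_induction_on hc (fun p hp q hq => ?_) fun u v hu hv => ?_
    · refine ⟨Ideal.mul_mem_left _ p hq, ?_⟩
      have hb : (⟨p * q, Ideal.mul_mem_left _ p hq⟩ : maximalIdeal R) =
          p • (⟨q, hq⟩ : maximalIdeal R) := rfl
      rw [hb, TensorProduct.tmul_smul, ← algebraMap_smul S p]
      exact Submodule.smul_mem_smul (by rw [← hm, ← Ideal.map_pow]; exact Ideal.mem_map_of_mem _ hp)
        Submodule.mem_top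
    · obtain ⟨hu', hu⟩ := hu
      obtain ⟨hv', hv⟩ := hv
      refine ⟨add_mem hu' hv', ?_⟩
      have hb : (⟨u + v, add_mem hu' hv'⟩ : maximalIdeal R) = ⟨u, hu'⟩ + ⟨v, hv'⟩ := rfl
      rw [hb, TensorProduct.tmul_add]
      exact add_mem hu hv
  obtain ⟨_, ha1⟩ := hone a (by rwa [← pow_succ])
  have := add_mem (Submodule.smul_mono (Ideal.pow_le_pow_right M.le_succ) le_rfl ha) ha1
  rwa [sub_add_cancel] at this

end Groth.Agent.H19Grp.EndoFlat
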