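import Groth.Agent.H19Grp.TangentDer
import Groth.Agent.H17.PointLocal
import Mathlib

/-!
# A rational point without tangent vectors is an open immersion
-/

set_option autoImplicit false
set_option linter.style.haveILetI false
set_option backward.isDefEq.respectTransparency false

universe u

open CategoryTheory CategoryTheory.Limits AlgebraicGeometry TrivSqZeroExt

namespace Groth.Agent.H19Grp

variable {K : Type u} [Field K]

/-- The reduction `K[ε] → K`. -/
noncomputable def dualFst (K : Type u) [Field K] :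
    CommRingCat.of (DualNumber K) ⟶ CommRingCat.of K :=
  CommRingCat.ofHom (fstHom K K K).toRingHom

/-- The inclusion `K → K[ε]`. -/
noncomputable def dualInl (K : Type u) [Field K] :
    CommRingCat.of K ⟶ CommRingCat.of (DualNumber K) :=
  CommRingCat.ofHom (inlHom K K)

lemma dualInl_dualFst : dualInl K ≫ dualFst K = 𝟙 _ := by
  ext c
  exact fst_inl K c

variable {X : Scheme.{u}} (f : X ⟶ Spec (CommRingCat.of K)) [LocallyOfFiniteType f]
  (σ : Spec (CommRingCat.of K) ⟶ X) (hσ : σ ≫ f = 𝟙 _)

include hσ in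
/-- Without nonzero tangent vectors the local ring at a rational point is the base field. -/
theorem isField_stalk_of_tangent_trivial
    (h : ∀ x : Spec (CommRingCat.of (DualNumber K)) ⟶ X, x ≫ f = Spec.map (dualInl K) →
      Spec.map (dualFst K) ≫ x = σ → x = Spec.map (dualInl K) ≫ σ) :
    IsField (X.presheaf.stalk (σ (IsLocalRing.closedPoint K))) := by
  classical
  haveI : IsLocallyNoetherian X := LocallyOfFiniteType.isLocallyNoetherian f
  let p : X := σ (IsLocalRing.closedPoint K)
  let A := X.presheaf.stalk p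
  let εc : A ⟶ CommRingCat.of K := Scheme.stalkClosedPointTo (R := CommRingCat.of K) σ
  let u := X.fromSpecStalk p
  have hεu : Spec.map εc ≫ u = σ :=
    Scheme.Spec_stalkClosedPointTo_fromSpecStalk (R := CommRingCat.of K) σ
  let ψc : CommRingCat.of K ⟶ A := Spec.preimage (u ≫ f)
  have hψε : ψc ≫ εc = 𝟙 _ := by
    apply Spec.map_injective
    rw [Spec.map_comp, Spec.map_preimage, reassoc_of% hεu, hσ, Spec.map_id]
  let ε : A →+* K := εc.hom
  let ψ : K →+* A := ψc.hom
  have hεψ : ∀ c, ε (ψ c) = c := hom_apply_of_comp_eq_id ψc εc hψε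
  have hsurj : Function.Surjective ε := fun c => ⟨ψ c, hεψ c⟩
  have hker : RingHom.ker ε = IsLocalRing.maximalIdeal A :=
    IsLocalRing.eq_maximalIdeal (RingHom.ker_isMaximal_of_surjective ε hsurj)
  haveI : IsLocalHom ε := ⟨fun a ha => by
    by_contra hn
    have : a ∈ RingHom.ker ε := hker ▸ hn
    rw [RingHom.mem_ker] at this
    rw [this] at ha
    simp at ha⟩
  rw [← IsLocalRing.finrank_cotangentSpace_eq_zero_iff]
  by_contra hne
  let m := IsLocalRing.maximalIdeal A
  let b := Module.finBasis (IsLocalRing.ResidueField A) (IsLocalRing.CotangentSpace A)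
  let i : Fin (Module.finrank (IsLocalRing.ResidueField A) (IsLocalRing.CotangentSpace A)) :=
    ⟨0, Nat.pos_of_ne_zero hne⟩
  obtain ⟨x₀, hx₀⟩ := Ideal.toCotangent_surjective m (b i)
  have hmem : ∀ a, a - ψ (ε a) ∈ m := fun a => by
    show _ ∈ IsLocalRing.maximalIdeal A
    rw [← hker, RingHom.mem_ker, map_sub, hεψ, sub_self]
  let res := IsLocalRing.ResidueField.lift ε
  let τ : A →+ K :=
    { toFun := fun a => res (b.repr (m.toCotangent ⟨a - ψ (ε a), hmem a⟩) i)
      map_zero' := by
        show res (b.repr (m.toCotangent ⟨0 - ψ (ε 0), hmem _⟩) i) = 0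
        rw [show (⟨0 - ψ (ε 0), hmem _⟩ : m) = 0 from Subtype.ext (by simp)]
        simp
      map_add' := fun a a' => by
        rw [show (⟨a + a' - ψ (ε (a + a')), hmem _⟩ : m) =
            ⟨a - ψ (ε a), hmem a⟩ + ⟨a' - ψ (ε a'), hmem a'⟩ from Subtype.ext (by simp; ring)]
        rw [map_add, map_add, Finsupp.add_apply, map_add] }
  have hτ : ∀ a a', τ (a * a') = ε a * τ a' + ε a' * τ a := by
    intro a a'
    have hc : m.toCotangent ⟨a * a' - ψ (ε (a * a')), hmem _⟩ =
        IsLocalRing.residue A (ψ (ε a)) • m.toCotangent ⟨a' - ψ (ε a'), hmem a'⟩ +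
          IsLocalRing.residue A (ψ (ε a')) • m.toCotangent ⟨a - ψ (ε a), hmem a⟩ := by
      rw [← IsLocalRing.ResidueField.algebraMap_eq, algebraMap_smul, algebraMap_smul]
      rw [← map_smul, ← map_smul, ← map_add, Ideal.toCotangent_eq]
      have := Ideal.mul_mem_mul (hmem a) (hmem a')
      rw [← pow_two] at this
      convert this using 1
      simp
      ring
    show res (b.repr (m.toCotangent ⟨a * a' - ψ (ε (a * a')), hmem _⟩) i) = _
    rw [hc, map_add, map_smul, map_smul]
    simp [res, hεψ, τ]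
  have hτ0 : ∀ c, τ (ψ c) = 0 := fun c => by
    show res (b.repr (m.toCotangent ⟨ψ c - ψ (ε (ψ c)), hmem _⟩) i) = 0
    rw [show (⟨ψ c - ψ (ε (ψ c)), hmem _⟩ : m) = 0 from Subtype.ext (by simp [hεψ])]
    simp
  have hτx : τ (x₀ : A) = 1 := by
    show res (b.repr (m.toCotangent ⟨(x₀ : A) - ψ (ε x₀), hmem _⟩) i) = 1
    have hxj : ε (x₀ : A) = 0 := RingHom.mem_ker.mp (hker.symm ▸ x₀.2)
    rw [show (⟨(x₀ : A) - ψ (ε x₀), hmem _⟩ : m) = x₀ from Subtype.ext (by simp [hxj]), hx₀]
    simp [res]
  let φ : A ⟶ CommRingCat.of (DualNumber K) := CommRingCat.ofHom (dualHom ε τ hτ)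
  have hφψ : ψc ≫ φ = dualInl K := by
    ext c : 2
    refine TrivSqZeroExt.ext ?_ ?_
    · show TrivSqZeroExt.fst (dualHom ε τ hτ (ψ c)) = TrivSqZeroExt.fst (inl c)
      rw [fst_dualHom, hεψ, fst_inl]
    · show TrivSqZeroExt.snd (dualHom ε τ hτ (ψ c)) = TrivSqZeroExt.snd (inl c)
      rw [snd_dualHom, hτ0, snd_inl]
  have hφfst : φ ≫ dualFst K = εc := by
    ext a
    exact fst_dualHom ε τ hτ a
  have hx := h (Spec.map φ ≫ u) (by
    rw [Category.assoc, ← hφψ, Spec.map_comp, Spec.map_preimage]) (by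
    rw [← Category.assoc, ← Spec.map_comp, hφfst, hεu])
  rw [← hεu, ← Category.assoc, ← Spec.map_comp, cancel_mono] at hx
  have h2 := ConcreteCategory.congr_hom (Spec.map_injective hx) (x₀ : A)
  have h3 : τ (x₀ : A) = 0 := by
    have h4 : TrivSqZeroExt.snd (dualHom ε τ hτ (x₀ : A)) = TrivSqZeroExt.snd (inl (ε (x₀ : A))) :=
      congrArg TrivSqZeroExt.snd h2
    rwa [snd_dualHom, snd_inl] at h4
  rw [hτx] at h3
  exact one_ne_zero h3

include hσ in
/-- A rational point without nonzero tangent vectors is an open immersion. -/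
theorem isOpenImmersion_of_tangent_trivial
    (h : ∀ x : Spec (CommRingCat.of (DualNumber K)) ⟶ X, x ≫ f = Spec.map (dualInl K) →
      Spec.map (dualFst K) ≫ x = σ → x = Spec.map (dualInl K) ≫ σ) :
    IsOpenImmersion σ := by
  haveI : IsLocallyNoetherian X := LocallyOfFiniteType.isLocallyNoetherian f
  set p : X := σ (IsLocalRing.closedPoint K) with hp
  have hF : IsField (X.presheaf.stalk p) := isField_stalk_of_tangent_trivial f σ hσ h
  letI := hF.toField
  haveI : _root_.IsReduced (X.presheaf.stalk p) := inferInstance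
  have hr : Set.range σ = {p} := by
    ext y
    exact ⟨fun ⟨a, ha⟩ => by rw [← ha, hp]; exact congrArg σ (Subsingleton.elim _ _),
      fun hy => ⟨_, hy.symm⟩⟩
  haveI : IsClosedImmersion σ := isClosedImmersion_of_comp_eq_id _ _ hσ
  have hclosed : IsClosed ({p} : Set X) := hr ▸ σ.isClosedEmbedding.isClosed_range
  have hgen : ∀ g : X, g ⤳ p → g = p := by
    intro g hg
    obtain ⟨z, hz⟩ : g ∈ Set.range (X.fromSpecStalk p) := by
      rw [Scheme.range_fromSpecStalk]; exact hg
    haveI : Subsingleton (Spec (X.presheaf.stalk p)) :=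
      inferInstanceAs (Subsingleton (PrimeSpectrum (X.presheaf.stalk p)))
    rw [← hz, Subsingleton.elim z (IsLocalRing.closedPoint (X.presheaf.stalk p)),
      Scheme.fromSpecStalk_closedPoint]
  have hopen : IsOpen ({p} : Set X) := by
    obtain ⟨_, ⟨(W : X.Opens), hW, rfl⟩, hpW, -⟩ :=
      X.isBasis_affineOpens.exists_subset_of_mem_open (Set.mem_univ p) isOpen_univ
    obtain ⟨V, -, hpV, -, hVU⟩ := H17.exists_affine_nhd_forall_generic_specializes p W hpW
      (H17.finite_genericPoints_inter_affine W hW)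
    have : (V : Set X) ⊆ {p} := by
      intro v hv
      obtain ⟨g, hg, hgv⟩ := H17.exists_genericPoint_specializes v
      have := hgen g (hVU v hv g hg hgv)
      subst this
      exact hclosed.closure_subset (hgv.mem_closure)
    exact (Set.Subset.antisymm this (Set.singleton_subset_iff.mpr hpV)) ▸ V.2
  have hiso : ∀ y, IsIso (σ.stalkMap y) := by
    intro y
    obtain rfl : y = IsLocalRing.closedPoint K := Subsingleton.elim _ _
    rw [ConcreteCategory.isIso_iff_bijective]
    exact ⟨(σ.stalkMap _).hom.injective, σ.stalkMap_surjective _⟩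
  haveI := hiso
  refine IsOpenImmersion.of_isIso_stalkMap σ ⟨σ.isClosedEmbedding.isEmbedding, ?_⟩
  rw [hr]; exact hopen

end Groth.Agent.H19Grp
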