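import Mathlib
import Groth.Agent.H19Grp.TangentTrivial
import Groth.Agent.H19Grp.EndoFlat
import Groth.Agent.H9Hens.StalkUnramified

/-! A morphism of schemes of finite type over a field which kills no tangent vector at a rational
point is unramified there, and etale there if the local rings are abstractly isomorphic. -/

set_option autoImplicit false
set_option linter.style.haveILetI false
set_option backward.isDefEq.respectTransparency false

universe u

open CategoryTheory CategoryTheory.Limits AlgebraicGeometry TrivSqZeroExt IsLocalRing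

namespace Groth.Agent.H19Grp

variable {K : Type u} [Field K] {X Y : Scheme.{u}} (f : X ⟶ Spec (CommRingCat.of K))
  [LocallyOfFiniteType f] (σ : Spec (CommRingCat.of K) ⟶ X) (hσ : σ ≫ f = 𝟙 _)
  (g : X ⟶ Y) (gY : Y ⟶ Spec (CommRingCat.of K)) (hg : g ≫ gY = f)

include hσ hg in
/-- Residue classes at a rational point come from the base field. -/
theorem exists_sub_mem_stalk (s : X.presheaf.stalk (σ (closedPoint K))) :
    ∃ r : Y.presheaf.stalk (g (σ (closedPoint K))),
      s - (g.stalkMap (σ (closedPoint K))).hom r ∈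
        maximalIdeal (X.presheaf.stalk (σ (closedPoint K))) := by
  let p : X := σ (closedPoint K)
  let A := X.presheaf.stalk p
  let εc : A ⟶ CommRingCat.of K := Scheme.stalkClosedPointTo (R := CommRingCat.of K) σ
  let u := X.fromSpecStalk p
  have hεu : Spec.map εc ≫ u = σ :=
    Scheme.Spec_stalkClosedPointTo_fromSpecStalk (R := CommRingCat.of K) σ
  let ψY : CommRingCat.of K ⟶ Y.presheaf.stalk (g p) := Spec.preimage (Y.fromSpecStalk (g p) ≫ gY)
  have hψε : (ψY ≫ g.stalkMap p) ≫ εc = 𝟙 _ := by
    apply Spec.map_injective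
    rw [Spec.map_comp, Spec.map_comp, Spec.map_preimage,
      Scheme.SpecMap_stalkMap_fromSpecStalk_assoc, hg, reassoc_of% hεu, hσ, Spec.map_id]
  refine ⟨ψY.hom (εc.hom s), ?_⟩
  have hsurj : Function.Surjective εc.hom := fun c => ⟨_, hom_apply_of_comp_eq_id _ εc hψε c⟩
  rw [← IsLocalRing.eq_maximalIdeal (RingHom.ker_isMaximal_of_surjective εc.hom hsurj),
    RingHom.mem_ker, map_sub, sub_eq_zero]
  exact (hom_apply_of_comp_eq_id _ εc hψε (εc.hom s)).symm

include hσ hg in
/-- If no nonzero tangent vector at a rational point is killed then the maximal ideal of the image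
generates the maximal ideal of the point. -/
theorem map_maximalIdeal_of_tangent
    (h : ∀ x : Spec (CommRingCat.of (DualNumber K)) ⟶ X, x ≫ f = Spec.map (dualInl K) →
      Spec.map (dualFst K) ≫ x = σ → x ≫ g = Spec.map (dualInl K) ≫ σ ≫ g →
      x = Spec.map (dualInl K) ≫ σ) :
    (maximalIdeal (Y.presheaf.stalk (g (σ (closedPoint K))))).map
        (g.stalkMap (σ (closedPoint K))).hom =
      maximalIdeal (X.presheaf.stalk (σ (closedPoint K))) := by
  classical
  haveI : IsLocallyNoetherian X := LocallyOfFiniteType.isLocallyNoetherian f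
  let p : X := σ (closedPoint K)
  let A := X.presheaf.stalk p
  let B := Y.presheaf.stalk (g p)
  let φc : B ⟶ A := g.stalkMap p
  show (maximalIdeal B).map φc.hom = maximalIdeal A
  let εc : A ⟶ CommRingCat.of K := Scheme.stalkClosedPointTo (R := CommRingCat.of K) σ
  let u := X.fromSpecStalk p
  let uY := Y.fromSpecStalk (g p)
  have hu : Spec.map φc ≫ uY = u ≫ g := Scheme.SpecMap_stalkMap_fromSpecStalk g
  have hεu : Spec.map εc ≫ u = σ :=
    Scheme.Spec_stalkClosedPointTo_fromSpecStalk (R := CommRingCat.of K) σ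
  let ψY : CommRingCat.of K ⟶ B := Spec.preimage (uY ≫ gY)
  let ψc : CommRingCat.of K ⟶ A := ψY ≫ φc
  have hψu : Spec.map ψc = u ≫ f := by
    rw [Spec.map_comp, Spec.map_preimage, reassoc_of% hu, hg]
  have hψε : ψc ≫ εc = 𝟙 _ := by
    apply Spec.map_injective
    rw [Spec.map_comp, hψu, reassoc_of% hεu, hσ, Spec.map_id]
  let ε : A →+* K := εc.hom
  let ψ : K →+* A := ψc.hom
  have hεψ : ∀ c, ε (ψ c) = c := hom_apply_of_comp_eq_id ψc εc hψε
  have hsurj : Function.Surjective ε := fun c => ⟨ψ c, hεψ c⟩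
  have hker : RingHom.ker ε = maximalIdeal A :=
    IsLocalRing.eq_maximalIdeal (RingHom.ker_isMaximal_of_surjective ε hsurj)
  haveI : IsLocalHom ε := ⟨fun a ha => by
    by_contra hn
    have : a ∈ RingHom.ker ε := hker ▸ hn
    rw [RingHom.mem_ker] at this
    rw [this] at ha
    simp at ha⟩
  let m := maximalIdeal A
  haveI : IsLocalHom φc.hom := inferInstanceAs (IsLocalHom (g.stalkMap p).hom)
  set J := (maximalIdeal B).map φc.hom with hJ
  have hJm : J ≤ m := ((IsLocalRing.local_hom_TFAE φc.hom).out 0 2).1 ‹_›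
  refine le_antisymm hJm ?_
  refine Submodule.le_of_le_smul_of_le_jacobson_bot (IsNoetherian.noetherian _)
    (maximalIdeal_le_jacobson _) ?_
  -- the image of `J` in the cotangent space
  let W : Submodule (ResidueField A) (CotangentSpace A) :=
    Submodule.span _ (m.toCotangent '' {z | (z : A) ∈ J})
  have hW : W = ⊤ := by
    by_contra hne
    obtain ⟨l, hl0, hlW⟩ := Submodule.exists_le_ker_of_lt_top W (lt_of_le_of_ne le_top hne)
    obtain ⟨v, hv⟩ : ∃ v, l v ≠ 0 := by
      by_contra hc
      push Not at hc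
      exact hl0 (LinearMap.ext hc)
    obtain ⟨x₀, hx₀⟩ := Ideal.toCotangent_surjective m v
    have hmem : ∀ a, a - ψ (ε a) ∈ m := fun a => by
      show _ ∈ maximalIdeal A
      rw [← hker, RingHom.mem_ker, map_sub, hεψ, sub_self]
    let res := ResidueField.lift ε
    let τ : A →+ K :=
      { toFun := fun a => res (l (m.toCotangent ⟨a - ψ (ε a), hmem a⟩))
        map_zero' := by
          show res (l (m.toCotangent ⟨0 - ψ (ε 0), hmem _⟩)) = 0
          rw [show (⟨0 - ψ (ε 0), hmem _⟩ : m) = 0 from Subtype.ext (by simp)]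
          simp
        map_add' := fun a a' => by
          rw [show (⟨a + a' - ψ (ε (a + a')), hmem _⟩ : m) =
              ⟨a - ψ (ε a), hmem a⟩ + ⟨a' - ψ (ε a'), hmem a'⟩ from Subtype.ext (by simp; ring)]
          rw [map_add, map_add, map_add] }
    have hτ : ∀ a a', τ (a * a') = ε a * τ a' + ε a' * τ a := by
      intro a a'
      have hc : m.toCotangent ⟨a * a' - ψ (ε (a * a')), hmem _⟩ =
          residue A (ψ (ε a)) • m.toCotangent ⟨a' - ψ (ε a'), hmem a'⟩ +
            residue A (ψ (ε a')) • m.toCotangent ⟨a - ψ (ε a), hmem a⟩ := by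
        rw [← ResidueField.algebraMap_eq, algebraMap_smul, algebraMap_smul]
        rw [← map_smul, ← map_smul, ← map_add, Ideal.toCotangent_eq]
        have := Ideal.mul_mem_mul (hmem a) (hmem a')
        rw [← pow_two] at this
        convert this using 1
        simp
        ring
      show res (l (m.toCotangent ⟨a * a' - ψ (ε (a * a')), hmem _⟩)) = _
      rw [hc, map_add, map_smul, map_smul]
      simp [res, hεψ, τ]
    have hτ0 : ∀ c, τ (ψ c) = 0 := fun c => by
      show res (l (m.toCotangent ⟨ψ c - ψ (ε (ψ c)), hmem _⟩)) = 0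
      rw [show (⟨ψ c - ψ (ε (ψ c)), hmem _⟩ : m) = 0 from Subtype.ext (by simp [hεψ])]
      simp
    have hτφ : ∀ b : B, τ (φc.hom b) = 0 := fun b => by
      have hb : φc.hom b - ψ (ε (φc.hom b)) ∈ J := by
        have e : φc.hom b - ψ (ε (φc.hom b)) = φc.hom (b - ψY.hom (ε (φc.hom b))) := by
          rw [map_sub]; rfl
        have hmemY : b - ψY.hom (ε (φc.hom b)) ∈ maximalIdeal B := by
          have hc : (maximalIdeal A).comap φc.hom = maximalIdeal B :=
            ((IsLocalRing.local_hom_TFAE φc.hom).out 0 4).1 ‹_›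
          rw [← hc, Ideal.mem_comap, ← e]
          exact hmem _
        rw [e]
        exact Ideal.mem_map_of_mem _ hmemY
      have : m.toCotangent ⟨φc.hom b - ψ (ε (φc.hom b)), hmem _⟩ ∈ W :=
        Submodule.subset_span ⟨_, hb, rfl⟩
      show res (l _) = 0
      rw [LinearMap.mem_ker.1 (hlW this), map_zero]
    let φ : A ⟶ CommRingCat.of (DualNumber K) := CommRingCat.ofHom (dualHom ε τ hτ)
    have hφψ : ψc ≫ φ = dualInl K := by
      ext c : 2
      refine TrivSqZeroExt.ext ?_ ?_
      · show TrivSqZeroExt.fst (dualHom ε τ hτ (ψ c)) = TrivSqZeroExt.fst (inl c)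
        rw [fst_dualHom, hεψ, fst_inl]
      · show TrivSqZeroExt.snd (dualHom ε τ hτ (ψ c)) = TrivSqZeroExt.snd (inl c)
        rw [snd_dualHom, hτ0, snd_inl]
    have hφfst : φ ≫ dualFst K = εc := by
      ext a
      exact fst_dualHom ε τ hτ a
    have hφφ : φc ≫ φ = φc ≫ εc ≫ dualInl K := by
      ext b : 2
      refine TrivSqZeroExt.ext ?_ ?_
      · show TrivSqZeroExt.fst (dualHom ε τ hτ (φc.hom b)) = TrivSqZeroExt.fst (inl (ε (φc.hom b)))
        rw [fst_dualHom, fst_inl]
      · show TrivSqZeroExt.snd (dualHom ε τ hτ (φc.hom b)) = TrivSqZeroExt.snd (inl (ε (φc.hom b)))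
        rw [snd_dualHom, hτφ, snd_inl]
    have hx := h (Spec.map φ ≫ u) (by
      rw [Category.assoc, ← hψu, ← Spec.map_comp, hφψ]) (by
      rw [← Category.assoc, ← Spec.map_comp, hφfst, hεu]) (by
      rw [Category.assoc, ← hu, ← Category.assoc, ← Spec.map_comp, hφφ, Spec.map_comp, Spec.map_comp,
        Category.assoc, Category.assoc, hu, reassoc_of% hεu])
    rw [← hεu, ← Category.assoc, ← Spec.map_comp, cancel_mono] at hx
    have h2 := ConcreteCategory.congr_hom (Spec.map_injective hx) (x₀ : A)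
    have h3 : τ (x₀ : A) = 0 := by
      have h4 : TrivSqZeroExt.snd (dualHom ε τ hτ (x₀ : A)) = TrivSqZeroExt.snd (inl (ε (x₀ : A))) :=
        congrArg TrivSqZeroExt.snd h2
      rwa [snd_dualHom, snd_inl] at h4
    apply hv
    have hxj : ε (x₀ : A) = 0 := RingHom.mem_ker.mp (hker.symm ▸ x₀.2)
    change res (l (m.toCotangent ⟨(x₀ : A) - ψ (ε x₀), hmem _⟩)) = 0 at h3
    rw [show (⟨(x₀ : A) - ψ (ε x₀), hmem _⟩ : m) = x₀ from Subtype.ext (by simp [hxj]), hx₀] at h3
    exact (map_eq_zero res).1 h3
  intro a ha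
  have hall : ∀ w ∈ W, ∃ z : m, (z : A) ∈ J ∧ m.toCotangent z = w := by
    intro w hw
    induction hw using Submodule.span_induction with
    | mem w hw => obtain ⟨z, hz, rfl⟩ := hw; exact ⟨z, hz, rfl⟩
    | zero => exact ⟨0, zero_mem _, map_zero _⟩
    | add w w' _ _ h h' =>
      obtain ⟨z, hz, rfl⟩ := h
      obtain ⟨z', hz', rfl⟩ := h'
      exact ⟨z + z', add_mem hz hz', map_add _ _ _⟩
    | smul c w _ h =>
      obtain ⟨z, hz, rfl⟩ := h
      obtain ⟨c, rfl⟩ := IsLocalRing.residue_surjective c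
      refine ⟨c • z, J.smul_mem c hz, ?_⟩
      rw [map_smul, ← ResidueField.algebraMap_eq, algebraMap_smul]
  obtain ⟨z, hzJ, hz⟩ := hall (m.toCotangent ⟨a, ha⟩) (hW ▸ Submodule.mem_top)
  refine Submodule.mem_sup.2 ⟨z, hzJ, a - z, ?_, add_sub_cancel _ _⟩
  rw [smul_eq_mul, ← pow_two]
  exact (Ideal.toCotangent_eq _).1 hz.symm

include hσ hg in
/-- The same condition gives etaleness near the point when the local rings are isomorphic. -/
theorem etale_nhd_of_tangent [IsLocallyNoetherian Y] [LocallyOfFiniteType g]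
    (e : Y.presheaf.stalk (g (σ (closedPoint K))) ≅ X.presheaf.stalk (σ (closedPoint K)))
    (h : ∀ x : Spec (CommRingCat.of (DualNumber K)) ⟶ X, x ≫ f = Spec.map (dualInl K) →
      Spec.map (dualFst K) ≫ x = σ → x ≫ g = Spec.map (dualInl K) ≫ σ ≫ g →
      x = Spec.map (dualInl K) ≫ σ) :
    ∃ U : X.Opens, σ (closedPoint K) ∈ U ∧ Etale (U.ι ≫ g) := by
  haveI : IsLocallyNoetherian X := LocallyOfFiniteType.isLocallyNoetherian f
  have hm := map_maximalIdeal_of_tangent f σ hσ g gY hg h
  have hres := exists_sub_mem_stalk f σ hσ g gY hg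
  refine (H9Hens.etale_nhd_iff g _).2 ⟨?_, (H9Hens.stalk_unramified_iff g _).2 ⟨hm, ?_⟩⟩
  · algebraize [(g.stalkMap (σ (closedPoint K))).hom]
    exact EndoFlat.flat_of_equiv e.commRingCatIsoToRingEquiv hm hres
  · letI := (g.residueFieldMap (σ (closedPoint K))).hom.toAlgebra
    have hsurj : Function.Surjective (algebraMap (Y.residueField (g (σ (closedPoint K))))
        (X.residueField (σ (closedPoint K)))) := fun c => by
      obtain ⟨s, rfl⟩ := IsLocalRing.residue_surjective (R := X.presheaf.stalk (σ (closedPoint K))) c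
      obtain ⟨r, hr⟩ := hres s
      refine ⟨IsLocalRing.residue _ r, ?_⟩
      show IsLocalRing.residue _ ((g.stalkMap (σ (closedPoint K))).hom r) = IsLocalRing.residue _ s
      rw [eq_comm, ← sub_eq_zero, ← map_sub, IsLocalRing.residue_eq_zero_iff]
      exact hr
    haveI : Module.Finite (Y.residueField (g (σ (closedPoint K)))) (X.residueField (σ (closedPoint K))) :=
      Module.Finite.of_surjective (Algebra.linearMap _ _) hsurj
    exact ⟨inferInstance, ⟨fun c => by
      obtain ⟨d, rfl⟩ := hsurj c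
      exact isSeparable_algebraMap d⟩⟩

end Groth.Agent.H19Grp
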