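import Mathlib
import Groth.Agent.H19Grp.UnramifiedAtPoint
import Groth.Agent.H19Grp.HomUnramified
import Groth.Agent.H19Grp.SmoothLocus
import Groth.Agent.H19Grp.FlatClosedPoints
import Groth.Agent.H19Grp.GrpdSep

/-! Endomorphisms of group schemes over a field without tangent vectors in the kernel are etale,
also when the group is not smooth. -/

set_option autoImplicit false
set_option linter.style.haveILetI false
set_option backward.isDefEq.respectTransparency false

universe u

open CategoryTheory CategoryTheory.Limits MonoidalCategory CartesianMonoidalCategory MonObj GrpObj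
  AlgebraicGeometry

namespace Groth.Agent.H19Grp

variable {K : Type u} [Field K] {G : Over (Spec (CommRingCat.of K))} [GrpObj G]
  [LocallyOfFiniteType G.hom]

/-- An endomorphism of the scheme is etale near a rational point if it kills no tangent vector there
and the local rings at the point and its image are isomorphic. -/
theorem etale_nhd_endo (f : G ⟶ G) (a : 𝟙_ (Over (Spec (CommRingCat.of K))) ⟶ G)
    (e : G.left.presheaf.stalk (f.left (a.left (IsLocalRing.closedPoint K))) ≅
      G.left.presheaf.stalk (a.left (IsLocalRing.closedPoint K)))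
    (h : ∀ x : TangentPow.sqz K K ⟶ G, TangentPow.red K K ≫ x = a → x ≫ f = (toUnit _ ≫ a) ≫ f →
      x = toUnit _ ≫ a) :
    ∃ U : G.left.Opens, a.left (IsLocalRing.closedPoint K) ∈ U ∧ Etale (U.ι ≫ f.left) := by
  haveI : IsLocallyNoetherian G.left := LocallyOfFiniteType.isLocallyNoetherian G.hom
  haveI : LocallyOfFiniteType (f.left ≫ G.hom) := by rw [Over.w f]; infer_instance
  haveI : LocallyOfFiniteType f.left := locallyOfFiniteType_of_comp f.left G.hom
  refine etale_nhd_of_tangent G.hom a.left (Over.w a) f.left G.hom (Over.w f) e fun x h1 h2 h3 => ?_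
  let xg : TangentPow.sqz K K ⟶ G := Over.homMk x h1
  have hr : TangentPow.red K K ≫ xg = a := Over.OverMorphism.ext h2
  have hf : xg ≫ f = (toUnit _ ≫ a) ≫ f := Over.OverMorphism.ext (by
    rw [Category.assoc]
    exact h3)
  exact congrArg (·.left) (h xg hr hf)

theorem etale_endo_of_tangent_isAlgClosed [IsAlgClosed K] (f : G ⟶ G) [IsMonHom f]
    (h : ∀ x : TangentPow.sqz K K ⟶ G, TangentPow.red K K ≫ x = 1 → x ≫ f = 1 → x = 1) :
    Etale f.left := by
  haveI : IsLocallyNoetherian G.left := LocallyOfFiniteType.isLocallyNoetherian G.hom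
  haveI : JacobsonSpace G.left := LocallyOfFiniteType.jacobsonSpace G.hom
  haveI : LocallyOfFiniteType (f.left ≫ G.hom) := by rw [Over.w f]; infer_instance
  haveI : LocallyOfFiniteType f.left := locallyOfFiniteType_of_comp f.left G.hom
  haveI := formallyUnramified_of_tangent f h
  haveI : Flat f.left := by
    refine flat_of_forall_closedPoint f.left fun x hx => ?_
    obtain ⟨a, hax⟩ : ∃ a : 𝟙_ (Over (Spec (CommRingCat.of K))) ⟶ G,
        a.left (IsLocalRing.closedPoint K) = x :=
      ⟨Over.homMk (pointOfClosedPoint G.hom x hx) (pointOfClosedPoint_comp _ _ _),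
        pointOfClosedPoint_apply _ _ _ _⟩
    have hfx : IsClosed ({f.left x} : Set G.left) := by
      have hfa : (a ≫ f).left (IsLocalRing.closedPoint K) = f.left x := by
        rw [Over.comp_left, Scheme.Hom.comp_apply, hax]
      haveI : Subsingleton ↥(𝟙_ (Over (Spec (CommRingCat.of K)))).left :=
        inferInstanceAs (Subsingleton (Spec (CommRingCat.of K)))
      haveI : IsSeparated G.hom := by
        haveI : Subsingleton (Spec (CommRingCat.of K)) := inferInstance
        exact (isSeparated_iff_isClosedImmersion_one G).mpr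
          (isClosedImmersion_section_of_subsingleton G.hom (η[G]).left (Over.w η[G]))
      haveI : IsClosedImmersion (a ≫ f).left := isClosedImmersion_of_comp_eq_id _ _ (Over.w (a ≫ f))
      have hr : Set.range (a ≫ f).left = {f.left x} := by
        ext y
        exact ⟨fun ⟨t, ht⟩ => by
          rw [← ht, ← hfa]; exact congrArg (a ≫ f).left (Subsingleton.elim _ _),
          fun hy => ⟨_, hfa.trans hy.symm⟩⟩
      rw [← hr]
      exact (a ≫ f).left.isClosedEmbedding.isClosed_range
    subst hax
    obtain ⟨e₁, he₁⟩ := exists_iso_unitPt G _ hx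
    obtain ⟨e₂, he₂⟩ := exists_iso_unitPt G _ hfx
    haveI : IsIso (e₁.symm ≪≫ e₂).hom.left := inferInstanceAs (IsIso ((Over.forget _).map (e₁.symm ≪≫ e₂).hom))
    have hy : (e₁.symm ≪≫ e₂).hom.left (a.left (IsLocalRing.closedPoint K)) =
        f.left (a.left (IsLocalRing.closedPoint K)) := by
      rw [← he₂, ← he₁, ← Scheme.Hom.comp_apply, ← Over.comp_left]
      simp
    let e : G.left.presheaf.stalk (f.left (a.left (IsLocalRing.closedPoint K))) ≅
        G.left.presheaf.stalk (a.left (IsLocalRing.closedPoint K)) :=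
      G.left.presheaf.stalkCongr (.of_eq hy.symm) ≪≫ asIso ((e₁.symm ≪≫ e₂).hom.left.stalkMap _)
    obtain ⟨U, hU, hUe⟩ := etale_nhd_endo f a e fun y hy1 hy2 => by
      have hz := h (y * (toUnit _ ≫ a)⁻¹) (by
        rw [MonObj.comp_mul, GrpObj.comp_inv, hy1, ← Category.assoc,
          toUnit_unique (TangentPow.red K K ≫ toUnit _) (𝟙 _), Category.id_comp, mul_inv_cancel]) (by
        rw [MonObj.mul_comp, GrpObj.inv_comp, hy2, mul_inv_cancel])
      exact eq_of_mul_inv_eq_one hz
    exact ((H9Hens.etale_nhd_iff f.left _).1 ⟨U, hU, hUe⟩).1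
  haveI : LocallyOfFinitePresentation f.left := inferInstance
  exact Etale.of_formallyUnramified_of_flat f.left

/-- Invertible powers on a commutative group scheme of finite type over a field are etale. -/
theorem etale_zpow_field' (G : Over (Spec (CommRingCat.of K))) [GrpObj G] [IsCommMonObj G]
    [LocallyOfFiniteType G.hom] (n : ℤ) (hn : (n : K) ≠ 0) : Etale (𝟙 G ^ n : G ⟶ G).left := by
  let φ := Spec.map (CommRingCat.ofHom (algebraMap K (AlgebraicClosure K)))
  let F := Over.pullback φ
  letI : GrpObj (F.obj G) := Functor.grpObjObj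
  haveI : LocallyOfFiniteType (F.obj G).hom := inferInstanceAs (LocallyOfFiniteType (geomG G).hom)
  haveI := isMonHom_zpow (𝟙 (F.obj G)) n
  have hn' : (n : AlgebraicClosure K) ≠ 0 := by
    rw [← map_intCast (algebraMap K (AlgebraicClosure K))]
    exact fun h0 => hn ((map_eq_zero _).1 h0)
  have hK : Etale (𝟙 (F.obj G) ^ n : F.obj G ⟶ F.obj G).left :=
    etale_endo_of_tangent_isAlgClosed _ fun x hx hxf => by
      rw [GrpObj.comp_zpow, Category.comp_id] at hxf
      exact TangentPow.eq_one_of_zpow_eq_one hx n hn' hxf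
  have e : F.map (𝟙 G ^ n : G ⟶ G) = 𝟙 (F.obj G) ^ n := by
    refine (map_zpow (Functor.homMonoidHom F (X := G) (M := G)) (𝟙 G) n).trans ?_
    show (F.map (𝟙 G)) ^ n = _
    rw [F.map_id]
  rw [← e] at hK
  have hp : IsPullback (F.map (𝟙 G ^ n : G ⟶ G)).left (pullback.fst G.hom φ) (pullback.fst G.hom φ)
      (𝟙 G ^ n : G ⟶ G).left := by
    refine (IsPullback.of_bot (v₂₁ := pullback.snd G.hom φ) (v₂₂ := G.hom) (h₃₁ := φ) ?_ ?_
      (IsPullback.of_hasPullback G.hom φ)).flip
    · rw [show (F.map (𝟙 G ^ n : G ⟶ G)).left ≫ pullback.snd G.hom φ = pullback.snd G.hom φ from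
        Over.w (F.map (𝟙 G ^ n : G ⟶ G)), Over.w (𝟙 G ^ n : G ⟶ G)]
      exact IsPullback.of_hasPullback G.hom φ
    · simp [F]
  exact MorphismProperty.of_isPullback_of_descendsAlong (P := @Etale)
    (Q := @Surjective ⊓ @Flat ⊓ @QuasiCompact) hp ⟨⟨inferInstance, inferInstance⟩, inferInstance⟩ hK

end Groth.Agent.H19Grp
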