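import Groth.Agent.H19Grp.CohFlat0
import Groth.Agent.H19Grp.FibreLoci
import Groth.Agent.H19Grp.GeomConnected
import Groth.Agent.H25Rig.GroupMaps
import Groth.Agent.H19Grp.ImageGroup

/-!
# Rigidity for abelian schemes over an arbitrary base
-/

set_option autoImplicit false
set_option linter.style.haveILetI false
set_option backward.isDefEq.respectTransparency false
set_option synthInstance.maxHeartbeats 100000

universe u

open CategoryTheory CategoryTheory.Limits MonoidalCategory CartesianMonoidalCategory MonObj GrpObj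
  AlgebraicGeometry

namespace Groth.Agent.H19Grp

variable {S : Scheme.{u}}

/-- Smooth morphisms have geometrically reduced fibres. -/
theorem geometricallyReduced_of_smooth_hom {X : Scheme.{u}} (f : X ⟶ S) [Smooth f] :
    GeometricallyReduced f := by
  refine ⟨fun L _ y P a b hP => ?_⟩
  haveI : Smooth b := MorphismProperty.of_isPullback (P := @Smooth) hP inferInstance
  haveI := geometricallyReduced_of_smooth b
  exact GeometricallyReduced.geometrically_isReduced (f := b) (𝟙 _) (𝟙 P) b
    (IsPullback.of_vert_isIso ⟨by simp⟩).flip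

/-- An abelian scheme has geometrically integral fibres. -/
theorem geometricallyIntegral_of_abScheme (X : Over S) [GrpObj X] [IsProper X.hom] [Flat X.hom]
    [LocallyOfFinitePresentation X.hom] [GeometricallyReduced X.hom] [GeometricallyConnected X.hom] :
    GeometricallyIntegral X.hom := by
  haveI : Smooth X.hom := smooth_of_flat_of_geometricallyReduced X
  haveI := geometricallyIrreducible_of_geometricallyConnected X
  exact GeometricallyIntegral.of_geometricallyReduced_of_geometricallyIrreducible _

theorem unit_point_apply {G : Over S} (η₀ : 𝟙_ (Over S) ⟶ G) (X : Over S) (x : X.left) :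
    (toUnit X ≫ η₀).left x = η₀.left (X.hom x) := rfl

variable {X Y : Over S} [GrpObj Y] [IsProper X.hom] [Flat X.hom] [LocallyOfFinitePresentation X.hom]
  [GeometricallyIntegral X.hom]

/-- A morphism on a product is trivial if it is on the fibres and on a slice. -/
theorem eq_one_of_fibres (x₀ : 𝟙_ (Over S) ⟶ X) {T : Over S} (h : X ⊗ T ⟶ Y)
    (hs : ∀ s : S, (Over.pullback (S.fromSpecResidueField s)).map h =
      (Over.pullback (S.fromSpecResidueField s)).map 1)
    (hT : lift (toUnit T ≫ x₀) (𝟙 T) ≫ h = 1) : h = 1 := by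
  let π : (X ⊗ T).left ⟶ T.left := (snd X T).left
  let e : T.left ⟶ (X ⊗ T).left := (lift (toUnit T ≫ x₀) (𝟙 T)).left
  haveI : IsProper π := MorphismProperty.pullback_snd X.hom T.hom inferInstance
  haveI : Flat π := MorphismProperty.pullback_snd X.hom T.hom inferInstance
  haveI : LocallyOfFinitePresentation π := MorphismProperty.pullback_snd X.hom T.hom inferInstance
  haveI : GeometricallyIntegral π := MorphismProperty.pullback_snd X.hom T.hom inferInstance
  have he : e ≫ π = 𝟙 _ := by
    rw [← Over.comp_left, lift_snd]; rfl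
  have hval' : ∀ (s : S) (z : ↥((Over.pullback (S.fromSpecResidueField s)).obj (X ⊗ T)).left),
      h.left (pullback.fst (X ⊗ T).hom _ z) = η[Y].left ((X ⊗ T).hom (pullback.fst (X ⊗ T).hom _ z)) := by
    intro s z
    rw [← Scheme.Hom.comp_apply, (isPullback_map _ h).w, hs, ← (isPullback_map _ _).w,
      Scheme.Hom.comp_apply, Hom.one_def, unit_point_apply]
  have hval : ∀ x : (X ⊗ T).left, h.left x = η[Y].left ((X ⊗ T).hom x) := by
    intro x
    obtain ⟨z, hz⟩ := exists_fibre_point (X ⊗ T) (rfl : (X ⊗ T).hom x = _)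
    have h1 := hval' _ z
    exact ((congrArg h.left hz).symm.trans h1).trans (congrArg (fun w => η[Y].left ((X ⊗ T).hom w)) hz)
  have := eq_of_const_fibre π e he h.left (fun x => by
    rw [hval, hval]
    refine congrArg η[Y].left ?_
    rw [← Scheme.Hom.comp_apply (lift (toUnit T ≫ x₀) (𝟙 T)).left, Over.w, ← Scheme.Hom.comp_apply, Over.w])
  apply Over.OverMorphism.ext
  rw [this, ← Over.comp_left, ← Over.comp_left, hT, MonObj.comp_one]

/-- Pointed morphisms out of abelian schemes into separated groups are homomorphisms. -/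
theorem isMonHom_of_one_hom_scheme [GrpObj X] [IsSeparated Y.hom] (f : X ⟶ Y) (hf : η[X] ≫ f = η[Y]) :
    IsMonHom f := by
  refine ⟨hf, ?_⟩
  rw [← div_eq_one]
  refine eq_one_of_fibres η[X] _ (fun s => ?_) ?_
  · let F := Over.pullback (S.fromSpecResidueField s)
    letI : GrpObj (F.obj X) := Functor.grpObjObj
    letI : GrpObj (F.obj Y) := Functor.grpObjObj
    haveI : IsProper (F.obj X).hom := MorphismProperty.pullback_snd X.hom _ inferInstance
    haveI : GeometricallyIntegral (F.obj X).hom := MorphismProperty.pullback_snd X.hom _ inferInstance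
    haveI : IsSeparated (F.obj Y).hom := MorphismProperty.pullback_snd Y.hom _ inferInstance
    haveI : IsMonHom (F.map f) := H25Rig.isMonHom_of_one_hom (F.map f) (by
      show (Functor.LaxMonoidal.ε F ≫ F.map η[X]) ≫ F.map f = Functor.LaxMonoidal.ε F ≫ F.map η[Y]
      rw [Category.assoc, ← F.map_comp, hf])
    have key : F.map (μ[X] ≫ f) = F.map ((f ⊗ₘ f) ≫ μ[Y]) := by
      have h1 : (Functor.LaxMonoidal.μ F X X ≫ F.map μ[X]) ≫ F.map f =
          (F.map f ⊗ₘ F.map f) ≫ Functor.LaxMonoidal.μ F Y Y ≫ F.map μ[Y] := IsMonHom.mul_hom (f := F.map f)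
      rw [← cancel_epi (Functor.LaxMonoidal.μ F X X), F.map_comp, F.map_comp, ← Category.assoc, h1,
        Functor.LaxMonoidal.μ_natural_assoc]
    show F.homMonoidHom _ = F.homMonoidHom 1
    rw [map_div, map_one, div_eq_one]
    exact key
  · have e1 : (toUnit X ≫ η[X]) = (1 : X ⟶ X) := rfl
    rw [GrpObj.comp_div, div_eq_one, ← Category.assoc, ← Category.assoc, lift_map]
    show lift (toUnit X ≫ η[X]) (𝟙 X) ≫ μ[X] ≫ f = lift ((toUnit X ≫ η[X]) ≫ f) (𝟙 X ≫ f) ≫ μ[Y]
    rw [Category.assoc (toUnit X), hf, ← Category.assoc, ← Hom.mul_def, ← Hom.mul_def, e1,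
      show toUnit X ≫ η[Y] = (1 : X ⟶ Y) from rfl, _root_.one_mul, _root_.one_mul]

omit [GrpObj Y] in
/-- Abelian schemes are commutative. -/
theorem isCommMonObj_of_proper [GrpObj X] : IsCommMonObj X := by
  haveI : IsMonHom ι[X] := isMonHom_of_one_hom_scheme ι[X] (by
    have : (η[X] : 𝟙_ (Over S) ⟶ X) = 1 := by rw [Hom.one_def, toUnit_unit, Category.id_comp]
    rw [this, ← Hom.inv_def, inv_one])
  refine ⟨?_⟩
  have h := IsMonHom.mul_hom (f := ι[X])
  have hμ : μ[X] = fst X X * snd X X := by rw [Hom.mul_def, lift_fst_snd, Category.id_comp]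
  have h2 : (fst X X * snd X X)⁻¹ = (fst X X)⁻¹ * (snd X X)⁻¹ := by
    rw [Hom.inv_def, ← hμ, h, tensorHom_def', Hom.mul_def, Hom.inv_def, Hom.inv_def]
    refine congrArg (· ≫ μ[X]) ?_
    apply CartesianMonoidalCategory.hom_ext <;> simp
  rw [_root_.mul_inv_rev] at h2
  have h3 : fst X X * snd X X = snd X X * fst X X := by
    have := congrArg (·⁻¹) h2
    simpa only [_root_.mul_inv_rev, _root_.inv_inv] using this
  calc (β_ X X).hom ≫ μ[X] = snd X X * fst X X := by
        rw [hμ, MonObj.comp_mul]
        congr 1 <;> simp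
    _ = μ[X] := by rw [hμ, h3]

end Groth.Agent.H19Grp
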