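import Mathlib
import Groth.Agent.H19Grp.DominantToAffine

/-!
The affinization `G → Spec Γ(G, O)` of an algebraic group is a homomorphism of group schemes.
-/

set_option autoImplicit false
set_option maxHeartbeats 1000000
set_option synthInstance.maxHeartbeats 100000
set_option linter.style.haveILetI false
set_option backward.isDefEq.respectTransparency false

universe u

open CategoryTheory CategoryTheory.Limits MonoidalCategory CartesianMonoidalCategory MonObj GrpObj
  AlgebraicGeometry

namespace Groth.Agent.H19Grp.Affinization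

variable {k : Type u} [Field k]

theorem appLE_top {X Y : Scheme.{u}} (f : X ⟶ Y) (e : (⊤ : X.Opens) ≤ f ⁻¹ᵁ ⊤) :
    f.appLE ⊤ ⊤ e = f.appTop := by
  simp [Scheme.Hom.appLE]

/-- Global functions of a product over a field. -/
theorem isPushout_prod {X Y P : Scheme.{u}} {fX : X ⟶ Spec (CommRingCat.of k)} {fY : Y ⟶ Spec (CommRingCat.of k)}
    {p : P ⟶ X} {q : P ⟶ Y} (H : IsPullback p q fX fY) [QuasiCompact fX] [QuasiSeparated fX]
    [QuasiCompact fY] [QuasiSeparated fY] :
    IsPushout fX.appTop fY.appTop p.appTop q.appTop := by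
  haveI : CompactSpace X := QuasiCompact.compactSpace_of_compactSpace fX
  haveI : CompactSpace Y := QuasiCompact.compactSpace_of_compactSpace fY
  haveI : QuasiSeparatedSpace X := quasiSeparatedSpace_of_quasiSeparated fX
  haveI : QuasiSeparatedSpace Y := quasiSeparatedSpace_of_quasiSeparated fY
  have hfl : (fX.appLE ⊤ ⊤ le_top).hom.Flat := by
    rw [appLE_top]
    letI : Field Γ(Spec (CommRingCat.of k), ⊤) :=
      ((Scheme.ΓSpecIso (CommRingCat.of k)).commRingCatIsoToRingEquiv.toMulEquiv.isField
        (Field.toIsField k)).toField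
    letI := fX.appTop.hom.toAlgebra
    exact (inferInstance : Module.Flat Γ(Spec (CommRingCat.of k), ⊤) Γ(X, ⊤))
  have h := (isIso_pushoutSection_iff H (US := ⊤) (UT := ⊤) (UX := ⊤) le_top le_top (UY := ⊤) (by simp)).mp
    (isIso_pushoutSection_of_isCompact_of_flat_right_of_ringHomFlat H le_top le_top (by simp)
      (isAffineOpen_top _) CompactSpace.isCompact_univ isQuasiSeparated_univ
      CompactSpace.isCompact_univ isQuasiSeparated_univ hfl)
  simp only [appLE_top] at h
  exact h

variable {X X' Y Y' Z : Over (Spec (CommRingCat.of k))}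

/-- The tensor product of two maps inducing bijections on functions does so too. -/
theorem isIso_appTop_tensorHom (f : X ⟶ X') (g : Y ⟶ Y') [QuasiCompact X.hom] [QuasiSeparated X.hom]
    [QuasiCompact X'.hom] [QuasiSeparated X'.hom] [QuasiCompact Y.hom] [QuasiSeparated Y.hom]
    [QuasiCompact Y'.hom] [QuasiSeparated Y'.hom] [IsIso f.left.appTop] [IsIso g.left.appTop] :
    IsIso (f ⊗ₘ g).left.appTop := by
  have h : IsPushout X.hom.appTop Y.hom.appTop (fst X Y).left.appTop (snd X Y).left.appTop :=
    isPushout_prod (IsPullback.of_hasPullback X.hom Y.hom)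
  have h' : IsPushout X'.hom.appTop Y'.hom.appTop (fst X' Y').left.appTop (snd X' Y').left.appTop :=
    isPushout_prod (IsPullback.of_hasPullback X'.hom Y'.hom)
  have hx : X.hom.appTop = X'.hom.appTop ≫ f.left.appTop := by
    rw [← Scheme.Hom.comp_appTop, Over.w f]
  have hy : Y.hom.appTop = Y'.hom.appTop ≫ g.left.appTop := by
    rw [← Scheme.Hom.comp_appTop, Over.w g]
  have h1 : (fst X' Y').left.appTop ≫ (f ⊗ₘ g).left.appTop = f.left.appTop ≫ (fst X Y).left.appTop := by
    rw [← Scheme.Hom.comp_appTop, ← Scheme.Hom.comp_appTop, ← Over.comp_left, ← Over.comp_left, tensorHom_fst]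
  have h2 : (snd X' Y').left.appTop ≫ (f ⊗ₘ g).left.appTop = g.left.appTop ≫ (snd X Y).left.appTop := by
    rw [← Scheme.Hom.comp_appTop, ← Scheme.Hom.comp_appTop, ← Over.comp_left, ← Over.comp_left, tensorHom_snd]
  refine ⟨h.desc (inv f.left.appTop ≫ (fst X' Y').left.appTop) (inv g.left.appTop ≫ (snd X' Y').left.appTop) ?_, ?_, ?_⟩
  · rw [hx, hy, Category.assoc, Category.assoc, IsIso.hom_inv_id_assoc, IsIso.hom_inv_id_assoc, h'.w]
  · apply h'.hom_ext
    · rw [reassoc_of% h1, h.inl_desc, IsIso.hom_inv_id_assoc, Category.comp_id]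
    · rw [reassoc_of% h2, h.inr_desc, IsIso.hom_inv_id_assoc, Category.comp_id]
  · apply h.hom_ext
    · rw [h.inl_desc_assoc, Category.assoc, h1, IsIso.inv_hom_id_assoc, Category.comp_id]
    · rw [h.inr_desc_assoc, Category.assoc, h2, IsIso.inv_hom_id_assoc, Category.comp_id]

/-- Maps into affines are determined after precomposition with a map injective on functions. -/
theorem cancel (f : X ⟶ X') [IsAffine Y.left] (hf : Function.Injective f.left.appTop) {a b : X' ⟶ Y}
    (h : f ≫ a = f ≫ b) : a = b := by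
  apply Over.OverMorphism.ext
  apply ext_of_isAffine
  ext y
  apply hf
  have := congrArg (fun m : X ⟶ Y => m.left.appTop y) h
  simpa only [Over.comp_left, Scheme.Hom.comp_appTop, CommRingCat.comp_apply] using this

/-- Maps into affines factor through maps bijective on functions into affines. -/
theorem exists_desc (f : X ⟶ X') [IsAffine X'.left] [IsAffine Y.left] [IsIso f.left.appTop] (φ : X ⟶ Y) :
    ∃ ψ : X' ⟶ Y, f ≫ ψ = φ := by
  let ψ₀ : X'.left ⟶ Y.left := X'.left.isoSpec.hom ≫ Spec.map (φ.left.appTop ≫ inv f.left.appTop) ≫ Y.left.isoSpec.inv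
  have hψ : ψ₀.appTop = φ.left.appTop ≫ inv f.left.appTop := by
    apply Spec.map_injective
    have hn : ψ₀ ≫ Y.left.isoSpec.hom = X'.left.isoSpec.hom ≫ Spec.map ψ₀.appTop :=
      (Scheme.toSpecΓ_naturality ψ₀)
    rw [← cancel_epi X'.left.isoSpec.hom, ← hn]
    simp [ψ₀]
  have hw : ψ₀ ≫ Y.hom = X'.hom := by
    apply ext_of_isAffine
    rw [Scheme.Hom.comp_appTop, hψ]
    have h1 : Y.hom.appTop ≫ φ.left.appTop = X.hom.appTop := by rw [← Scheme.Hom.comp_appTop, Over.w φ]
    have h2 : X'.hom.appTop ≫ f.left.appTop = X.hom.appTop := by rw [← Scheme.Hom.comp_appTop, Over.w f]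
    rw [reassoc_of% h1, ← h2, Category.assoc, IsIso.hom_inv_id, Category.comp_id]
  refine ⟨Over.homMk ψ₀ hw, Over.OverMorphism.ext (ext_of_isAffine ?_)⟩
  rw [Over.comp_left, Scheme.Hom.comp_appTop]
  show ψ₀.appTop ≫ f.left.appTop = φ.left.appTop
  rw [hψ, Category.assoc, IsIso.inv_hom_id, Category.comp_id]

/-- The affinization of a scheme over a field. -/
noncomputable def aff (X : Over (Spec (CommRingCat.of k))) : Over (Spec (CommRingCat.of k)) :=
  Over.mk (Spec.map X.hom.appTop ≫ (Spec (CommRingCat.of k)).isoSpec.inv)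

/-- The canonical morphism to the affinization. -/
noncomputable def rho (X : Over (Spec (CommRingCat.of k))) : X ⟶ aff X :=
  Over.homMk X.left.toSpecΓ (by
    show X.left.toSpecΓ ≫ Spec.map X.hom.appTop ≫ (Spec (CommRingCat.of k)).isoSpec.inv = X.hom
    rw [← Category.assoc, ← Scheme.toSpecΓ_naturality, Category.assoc]
    exact (congrArg (X.hom ≫ ·) (Spec (CommRingCat.of k)).isoSpec.hom_inv_id).trans (Category.comp_id _))

theorem rho_left (X : Over (Spec (CommRingCat.of k))) : (rho X).left = X.left.toSpecΓ := rfl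

instance (X : Over (Spec (CommRingCat.of k))) : IsAffine (aff X).left :=
  inferInstanceAs (IsAffine (Spec Γ(X.left, ⊤)))

instance (X : Over (Spec (CommRingCat.of k))) : IsIso (rho X).left.appTop := by
  show IsIso X.left.toSpecΓ.appTop
  rw [Scheme.toSpecΓ_appTop]
  infer_instance

instance (X : Over (Spec (CommRingCat.of k))) : QuasiCompact (aff X).hom := by
  show QuasiCompact (Spec.map X.hom.appTop ≫ (Spec (CommRingCat.of k)).isoSpec.inv); infer_instance

instance (X : Over (Spec (CommRingCat.of k))) : QuasiSeparated (aff X).hom := by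
  show QuasiSeparated (Spec.map X.hom.appTop ≫ (Spec (CommRingCat.of k)).isoSpec.inv); infer_instance

/-- The affinization of a group is a group and `rho` is a homomorphism. -/
theorem exists_grpObj (G : Over (Spec (CommRingCat.of k))) [GrpObj G] [QuasiCompact G.hom] [QuasiSeparated G.hom] :
    ∃ _ : GrpObj (aff G), IsMonHom (rho G) := by
  let A := aff G
  let r := rho G
  haveI : IsAffine (A ⊗ A).left := inferInstanceAs (IsAffine (pullback (aff G).hom (aff G).hom))
  haveI : IsAffine (A ⊗ A ⊗ A).left :=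
    haveI : IsAffine (pullback (aff G).hom (aff G).hom) := inferInstance
    inferInstanceAs (IsAffine (pullback (aff G).hom (A ⊗ A).hom))
  haveI : QuasiCompact (𝟙_ (Over (Spec (CommRingCat.of k)))).hom := inferInstanceAs (QuasiCompact (𝟙 _))
  haveI : QuasiSeparated (𝟙_ (Over (Spec (CommRingCat.of k)))).hom := inferInstanceAs (QuasiSeparated (𝟙 _))
  haveI : QuasiCompact (G ⊗ G).hom := inferInstanceAs (QuasiCompact (pullback.fst G.hom G.hom ≫ G.hom))
  haveI : QuasiSeparated (G ⊗ G).hom := inferInstanceAs (QuasiSeparated (pullback.fst G.hom G.hom ≫ G.hom))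
  haveI : QuasiCompact (A ⊗ A).hom := inferInstanceAs (QuasiCompact (pullback.fst A.hom A.hom ≫ A.hom))
  haveI : QuasiSeparated (A ⊗ A).hom := inferInstanceAs (QuasiSeparated (pullback.fst A.hom A.hom ≫ A.hom))
  haveI : IsIso (Over.Hom.left (𝟙 (𝟙_ (Over (Spec (CommRingCat.of k)))))).appTop := by
    rw [Over.id_left, Scheme.Hom.id_appTop]; infer_instance
  haveI h2 : IsIso (r ⊗ₘ r).left.appTop := isIso_appTop_tensorHom r r
  haveI h3 : IsIso ((r ⊗ₘ r) ⊗ₘ r).left.appTop := isIso_appTop_tensorHom (r ⊗ₘ r) r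
  haveI hl : IsIso (𝟙 (𝟙_ (Over (Spec (CommRingCat.of k)))) ⊗ₘ r).left.appTop := isIso_appTop_tensorHom _ r
  haveI hr : IsIso (r ⊗ₘ 𝟙 (𝟙_ (Over (Spec (CommRingCat.of k))))).left.appTop := isIso_appTop_tensorHom r _
  have inj : ∀ {U V : Over (Spec (CommRingCat.of k))} (f : U ⟶ V) [IsIso f.left.appTop],
      Function.Injective f.left.appTop := fun f _ => (ConcreteCategory.bijective_of_isIso f.left.appTop).1
  obtain ⟨m, hm⟩ := exists_desc (r ⊗ₘ r) (μ[G] ≫ r)
  obtain ⟨i, hi⟩ := exists_desc r (ι[G] ≫ r)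
  have hu : toUnit A ≫ η[G] ≫ r = toUnit A ≫ η[G] ≫ r := rfl
  let inst : GrpObj A :=
    { one := η[G] ≫ r, mul := m, inv := i
      one_mul := by
        refine cancel _ (inj (𝟙 (𝟙_ (Over (Spec (CommRingCat.of k)))) ⊗ₘ r)) ?_
        rw [← tensorHom_id, ← Category.assoc, tensorHom_comp_tensorHom, Category.id_comp, Category.comp_id,
          show (η[G] ≫ r) ⊗ₘ r = (η[G] ⊗ₘ 𝟙 G) ≫ (r ⊗ₘ r) by rw [tensorHom_comp_tensorHom, Category.id_comp],
          Category.assoc, hm, tensorHom_id, ← Category.assoc, MonObj.one_mul, leftUnitor_hom, leftUnitor_hom,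
          tensorHom_snd]
      mul_one := by
        refine cancel _ (inj (r ⊗ₘ 𝟙 (𝟙_ (Over (Spec (CommRingCat.of k)))))) ?_
        rw [← id_tensorHom, ← Category.assoc, tensorHom_comp_tensorHom, Category.id_comp, Category.comp_id,
          show r ⊗ₘ (η[G] ≫ r) = (𝟙 G ⊗ₘ η[G]) ≫ (r ⊗ₘ r) by rw [tensorHom_comp_tensorHom, Category.id_comp],
          Category.assoc, hm, id_tensorHom, ← Category.assoc, MonObj.mul_one, rightUnitor_hom, rightUnitor_hom,
          tensorHom_fst]
      mul_assoc := by
        refine cancel _ (inj ((r ⊗ₘ r) ⊗ₘ r)) ?_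
        rw [← tensorHom_id, ← Category.assoc, tensorHom_comp_tensorHom, Category.comp_id, hm,
          show (μ[G] ≫ r) ⊗ₘ r = (μ[G] ⊗ₘ 𝟙 G) ≫ (r ⊗ₘ r) by rw [tensorHom_comp_tensorHom, Category.id_comp],
          Category.assoc, hm, tensorHom_id, ← Category.assoc, MonObj.mul_assoc, Category.assoc, Category.assoc,
          associator_naturality_assoc, ← id_tensorHom A, ← Category.assoc (r ⊗ₘ r ⊗ₘ r), tensorHom_comp_tensorHom,
          Category.comp_id, hm,
          show r ⊗ₘ (μ[G] ≫ r) = (𝟙 G ⊗ₘ μ[G]) ≫ (r ⊗ₘ r) by rw [tensorHom_comp_tensorHom, Category.id_comp],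
          Category.assoc, hm, id_tensorHom]
      left_inv := by
        refine cancel _ (inj r) ?_
        rw [← Category.assoc, comp_lift, hi, Category.comp_id, ← Category.assoc r (toUnit A),
          toUnit_unique (r ≫ toUnit A) (toUnit G),
          show lift (ι[G] ≫ r) r = lift ι[G] (𝟙 G) ≫ (r ⊗ₘ r) by rw [lift_map, Category.id_comp],
          Category.assoc, hm, ← Category.assoc, GrpObj.left_inv, Category.assoc]
      right_inv := by
        refine cancel _ (inj r) ?_
        rw [← Category.assoc, comp_lift, hi, Category.comp_id, ← Category.assoc r (toUnit A),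
          toUnit_unique (r ≫ toUnit A) (toUnit G),
          show lift r (ι[G] ≫ r) = lift (𝟙 G) ι[G] ≫ (r ⊗ₘ r) by rw [lift_map, Category.id_comp],
          Category.assoc, hm, ← Category.assoc, GrpObj.right_inv, Category.assoc] }
  exact ⟨inst, @IsMonHom.mk _ _ _ _ _ _ inst.toMonObj _ rfl hm.symm⟩

/-- The affinization map is faithfully flat and the affinization is of finite type. -/
theorem flat_surjective (G : Over (Spec (CommRingCat.of k))) [GrpObj G] [LocallyOfFiniteType G.hom] [QuasiCompact G.hom] :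
    Flat (rho G).left ∧ Surjective (rho G).left ∧ LocallyOfFiniteType (aff G).hom := by
  haveI : IsNoetherianRing (CommRingCat.of k) := inferInstanceAs (IsNoetherianRing k)
  haveI : IsLocallyNoetherian G.left := LocallyOfFiniteType.isLocallyNoetherian G.hom
  haveI : QuasiSeparated G.hom := inferInstance
  obtain ⟨g, hg⟩ := exists_grpObj G
  exact DominantToAffine.main G (aff G) (rho G) (ConcreteCategory.bijective_of_isIso (rho G).left.appTop).1

end Groth.Agent.H19Grp.Affinization
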