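import Mathlib
import Groth.Agent.H19Grp.Affinization
import Groth.Agent.H18Et.FEtRestrictGamma

/-!
Anti-affine groups: the kernel of the affinization has only constant functions; connectedness.
-/

set_option autoImplicit false
set_option maxHeartbeats 1000000
set_option synthInstance.maxHeartbeats 100000
set_option linter.style.haveILetI false
set_option backward.isDefEq.respectTransparency false

universe u

open CategoryTheory CategoryTheory.Limits MonoidalCategory CartesianMonoidalCategory MonObj GrpObj
  AlgebraicGeometry TensorProduct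

namespace Groth.Agent.H19Grp.AntiAffine

/-- Global functions of a base change along a flat map out of an affine scheme. -/
theorem isPushout_of_flat_affine {X Y S P : Scheme.{u}} {f : X ⟶ S} {g : Y ⟶ S} {p : P ⟶ X} {q : P ⟶ Y}
    (H : IsPullback p q f g) [IsAffine S] [IsAffine X] [Flat f] [CompactSpace Y] [QuasiSeparatedSpace Y] :
    IsPushout f.appTop g.appTop p.appTop q.appTop := by
  have h := (isIso_pushoutSection_iff H (US := ⊤) (UT := ⊤) (UX := ⊤) le_top le_top (UY := ⊤) (by simp)).mp
    (isIso_pushoutSection_of_isQuasiSeparated_of_flat_left H le_top le_top (by simp) (isAffineOpen_top _)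
      (isAffineOpen_top _) CompactSpace.isCompact_univ isQuasiSeparated_univ)
  simp only [Affinization.appLE_top] at h
  exact h

/-- Isomorphisms descend along nonzero extensions of a field. -/
theorem bijective_of_isPushout {R A B P : CommRingCat.{u}} (hR : IsField R) [Nontrivial A] {f : R ⟶ A} {g : R ⟶ B}
    {a : A ⟶ P} {b : B ⟶ P} (h : IsPushout f g a b) [IsIso a] : Function.Bijective g.hom := by
  letI : Algebra R A := f.hom.toAlgebra
  letI : Algebra R B := g.hom.toAlgebra
  letI : Field R := hR.toField
  have h' := CommRingCat.isPushout_tensorProduct R A B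
  let e := h.isoIsPushout _ _ h'
  have he : a ≫ e.hom = CommRingCat.ofHom Algebra.TensorProduct.includeLeftRingHom :=
    h.inl_isoIsPushout_hom _ _ h'
  haveI : IsIso (CommRingCat.ofHom (Algebra.TensorProduct.includeLeftRingHom : A →+* A ⊗[R] B)) := by
    rw [← he]; infer_instance
  have hb : Function.Bijective (algebraMap A (A ⊗[R] B)) := ConcreteCategory.bijective_of_isIso
    (CommRingCat.ofHom (Algebra.TensorProduct.includeLeftRingHom : A →+* A ⊗[R] B))
  haveI : Module.Flat R A := inferInstance
  exact RingHom.FaithfullyFlat.codescendsAlong_bijective.algebraMap_tensorProduct (Q := _) (R := R) (S := A) (T := B)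
    (RingHom.faithfullyFlat_algebraMap_iff.mpr inferInstance) hb

variable {k : Type u} [Field k]

theorem isField_Γ_Spec (k : Type u) [Field k] : IsField Γ(Spec (CommRingCat.of k), ⊤) :=
  (Scheme.ΓSpecIso (CommRingCat.of k)).commRingCatIsoToRingEquiv.toMulEquiv.isField (Field.toIsField k)

theorem isIso_appTop_iff {X : Scheme.{u}} (f : X ⟶ Spec (CommRingCat.of k)) :
    IsIso f.appTop ↔ Function.Bijective ((Scheme.ΓSpecIso (CommRingCat.of k)).inv ≫ f.appTop).hom := by
  rw [← ConcreteCategory.isIso_iff_bijective, isIso_comp_left_iff]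

/-- A nonempty scheme over a field with only constant functions is connected. -/
theorem connectedSpace_of_isIso_appTop {X : Scheme.{u}} [Nonempty X] (f : X ⟶ Spec (CommRingCat.of k))
    [IsIso f.appTop] : ConnectedSpace X := by
  haveI : PreconnectedSpace X := by
    rw [preconnectedSpace_iff_clopen]
    intro W hW
    obtain ⟨e, he, rfl⟩ := H18Et.FEtRestrictGamma.exists_idempotent_of_isClopen W hW
    have hF : IsField Γ(X, ⊤) :=
      (asIso f.appTop).commRingCatIsoToRingEquiv.symm.toMulEquiv.isField (isField_Γ_Spec k)
    letI := hF.toField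
    rcases IsIdempotentElem.iff_eq_zero_or_one.mp (show IsIdempotentElem e from he) with h | h
    · exact Or.inl (by rw [h]; simp)
    · exact Or.inr (by rw [h, Scheme.basicOpen_of_isUnit _ isUnit_one]; rfl)
  exact { toNonempty := inferInstance }

/-- Having only constant functions is preserved by extension of the base field. -/
theorem isIso_appTop_baseChange {X P : Scheme.{u}} {L : Type u} [Field L] {f : X ⟶ Spec (CommRingCat.of k)}
    [QuasiCompact f] [QuasiSeparated f] [IsIso f.appTop] {π : Spec (CommRingCat.of L) ⟶ Spec (CommRingCat.of k)}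
    {p : P ⟶ Spec (CommRingCat.of L)} {q : P ⟶ X} (H : IsPullback p q π f) : IsIso p.appTop := by
  haveI : CompactSpace X := QuasiCompact.compactSpace_of_compactSpace f
  haveI : QuasiSeparatedSpace X := quasiSeparatedSpace_of_quasiSeparated f
  exact (isPushout_of_flat_affine H).isIso_inl_of_isIso

/-- The kernel of the affinization has only constant functions. -/
theorem isIso_appTop_kernel (G : Over (Spec (CommRingCat.of k))) [GrpObj G] [LocallyOfFiniteType G.hom]
    [QuasiCompact G.hom] :
    IsIso (pullback.snd G.left.toSpecΓ (η[G].left ≫ G.left.toSpecΓ) ≫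
      (𝟙_ (Over (Spec (CommRingCat.of k)))).hom).appTop := by
  haveI : IsNoetherianRing (CommRingCat.of k) := inferInstanceAs (IsNoetherianRing k)
  haveI : IsLocallyNoetherian G.left := LocallyOfFiniteType.isLocallyNoetherian G.hom
  haveI : QuasiSeparated G.hom := inferInstance
  obtain ⟨hfl, hsurj, -⟩ := Affinization.flat_surjective G
  obtain ⟨gA, hρ⟩ := Affinization.exists_grpObj G
  let A := Affinization.aff G
  let ρ := Affinization.rho G
  let e : (𝟙_ (Over (Spec (CommRingCat.of k)))).left ⟶ A.left := η[G].left ≫ G.left.toSpecΓ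
  have he : e = (η[A]).left := by
    rw [show (η[A] : _ ⟶ A) = η[G] ≫ ρ from (IsMonHom.one_hom ρ).symm]
    rfl
  let N : Over (Spec (CommRingCat.of k)) := Over.mk (pullback.snd ρ.left e ≫ (𝟙_ (Over (Spec (CommRingCat.of k)))).hom)
  have hN' : pullback.fst ρ.left e ≫ G.hom = N.hom := by
    rw [← Over.w ρ, reassoc_of% (pullback.condition (f := ρ.left) (g := e))]
    congr 1
    rw [he]
    exact Over.w η[A]
  let j : N ⟶ G := Over.homMk (pullback.fst ρ.left e) hN'
  have hw : j ≫ ρ = toUnit N ≫ η[A] := by
    apply Over.OverMorphism.ext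
    show pullback.fst ρ.left e ≫ ρ.left = (toUnit N).left ≫ η[A].left
    rw [pullback.condition, ← he]
    congr 1
  have hker : AlgGrp.IsKernel j ρ := isKernel_of (by rw [hw, Hom.one_def])
    (fun T a b h => Over.OverMorphism.ext (pullback.hom_ext (congrArg (·.left) h) (by
      have ha := Over.w a
      have hb := Over.w b
      dsimp [N] at ha hb
      simpa using ha.trans hb.symm)))
    (fun T x hx => by
      refine ⟨Over.homMk (pullback.lift x.left T.hom ?_) ?_, ?_⟩
      · have h := congrArg (·.left) hx
        rw [Hom.one_def] at h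
        rw [he]
        exact h
      · show _ ≫ pullback.snd _ _ ≫ _ = _
        rw [pullback.lift_snd_assoc]; exact Category.comp_id _
      · exact Over.OverMorphism.ext (pullback.lift_fst _ _ _))
  have hsq := (isPullback_kernel ρ j hker).map (Over.forget _)
  obtain ⟨U₀, hU, hmem, -⟩ := TopologicalSpace.Opens.isBasis_iff_nbhd.mp G.left.isBasis_affineOpens
    (show η[G].left (IsLocalRing.closedPoint k) ∈ (⊤ : G.left.Opens) from trivial)
  let U : G.left.Opens := U₀
  haveI : IsAffine U := hU
  haveI : Nonempty (U : G.left.Opens) := ⟨⟨_, hmem⟩⟩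
  haveI : Nonempty ↥(U : Scheme) := ⟨⟨_, hmem⟩⟩
  have hpb := IsPullback.of_hasPullback U.ι (fst G N).left
  have hsq' : IsPullback (fst G N).left (fst G N * (snd G N ≫ j)).left ρ.left ρ.left := hsq
  have h1 := hpb.paste_vert hsq'
  have h2 := hpb.paste_vert (IsPullback.of_hasPullback G.hom N.hom)
  haveI : IsAffine A.left := inferInstance
  haveI : Flat ρ.left := hfl
  haveI : IsIso ρ.left.appTop := inferInstance
  haveI : CompactSpace G.left := QuasiCompact.compactSpace_of_compactSpace G.hom
  haveI : QuasiSeparatedSpace G.left := quasiSeparatedSpace_of_quasiSeparated G.hom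
  haveI : QuasiCompact ρ.left := by
    haveI : QuasiCompact (ρ.left ≫ A.hom) := by rw [Over.w ρ]; infer_instance
    exact QuasiCompact.of_comp ρ.left A.hom
  haveI : IsAffine (𝟙_ (Over (Spec (CommRingCat.of k)))).left := inferInstanceAs (IsAffine (Spec _))
  haveI : IsAffineHom e := inferInstance
  haveI : QuasiCompact N.hom := by dsimp [N]; infer_instance
  haveI : QuasiSeparated N.hom := by dsimp [N]; infer_instance
  haveI : CompactSpace N.left := QuasiCompact.compactSpace_of_compactSpace N.hom
  haveI : QuasiSeparatedSpace N.left := quasiSeparatedSpace_of_quasiSeparated N.hom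
  haveI : IsIso (pullback.fst U.ι (fst G N).left).appTop := by
    have := isPushout_of_flat_affine h1
    exact this.isIso_inl_of_isIso
  haveI : Nonempty (⊤ : (U : Scheme).Opens) := ⟨⟨⟨_, hmem⟩, trivial⟩⟩
  haveI : Nontrivial Γ((U : Scheme), ⊤) := inferInstance
  haveI : CompactSpace ↥(pullback G.left.toSpecΓ (η[G].left ≫ G.left.toSpecΓ)) := ‹CompactSpace N.left›
  haveI : QuasiSeparatedSpace ↥(pullback G.left.toSpecΓ (η[G].left ≫ G.left.toSpecΓ)) := ‹QuasiSeparatedSpace N.left›
  rw [ConcreteCategory.isIso_iff_bijective]
  exact bijective_of_isPushout (isField_Γ_Spec k) (isPushout_of_flat_affine h2)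

end Groth.Agent.H19Grp.AntiAffine
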