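import Mathlib
import Groth.Agent.H19Grp.AntiAffine
import Groth.Agent.S18320
import Groth.Agent.H19Grp.ImageFactor
import Groth.Agent.H12AlgSp.FreeActionQuot
import Groth.Agent.H7Lim.Chevalley
import Groth.Agent.S5938

/-!
Anti-affine algebraic groups are smooth.

Over an algebraically closed field of characteristic `p` let `H` be the reduced subgroup and `K` the kernel of
an iterate of Frobenius whose image is reduced. Then `H × K → N` is fppf, hence `K → K / (K ∩ H)` descends to a
morphism from `N` to a finite scheme, which is constant as `N` is anti-affine. So `K ≤ H` and `N = H`.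
-/

set_option autoImplicit false
set_option maxHeartbeats 1000000
set_option synthInstance.maxHeartbeats 100000
set_option linter.style.haveILetI false
set_option backward.isDefEq.respectTransparency false

universe u

open CategoryTheory CategoryTheory.Limits MonoidalCategory CartesianMonoidalCategory MonObj GrpObj
  AlgebraicGeometry

namespace Groth.Agent.H19Grp.AntiAffineSmooth

variable {k : Type u} [Field k]

theorem isPullback_fst_snd {S : Scheme.{u}} (Y T : Over S) :
    IsPullback (fst Y T) (snd Y T) (toUnit Y) (toUnit T) := by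
  have h := IsPullback.of_is_product (C := Over S) (tensorProductIsBinaryProduct Y T) isTerminalTensorUnit
  have e1 : isTerminalTensorUnit.from Y = toUnit Y := toUnit_unique _ _
  have e2 : isTerminalTensorUnit.from T = toUnit T := toUnit_unique _ _
  simpa [e1, e2] using h

/-- A point factoring through the structure map: maps from an anti-affine scheme to an affine one are constant. -/
theorem exists_eq_toUnit {N M : Over (Spec (CommRingCat.of k))} [IsIso N.hom.appTop] [IsAffine M.left]
    (ψ : N ⟶ M) : ∃ c : 𝟙_ (Over (Spec (CommRingCat.of k))) ⟶ M, ψ = toUnit N ≫ c := by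
  haveI : IsAffine (𝟙_ (Over (Spec (CommRingCat.of k)))).left := inferInstanceAs (IsAffine (Spec _))
  haveI : IsIso (toUnit N).left.appTop := by
    have h : (toUnit N).left = N.hom := (Category.comp_id _).symm.trans (Over.w (toUnit N))
    rw [h]; infer_instance
  obtain ⟨c, hc⟩ := Affinization.exists_desc (toUnit N) ψ
  exact ⟨c, hc.symm⟩

/-- If a subgroup `H` and a finite subgroup `K` generate `N` and all functions on `N` are constant, `H = N`. -/
theorem isIso_of_fppf_product [IsAlgClosed k] (N H K : Over (Spec (CommRingCat.of k))) [GrpObj N] [GrpObj H] [GrpObj K]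
    [IsIso N.hom.appTop] [IsFinite K.hom]
    (j : H ⟶ N) [IsMonHom j] [IsClosedImmersion j.left] (i : K ⟶ N) [IsMonHom i] [IsClosedImmersion i.left]
    [Flat ((fst H K ≫ j) * (snd H K ≫ i)).left] [Surjective ((fst H K ≫ j) * (snd H K ≫ i)).left]
    [LocallyOfFinitePresentation ((fst H K ≫ j) * (snd H K ≫ i)).left]
    [QuasiCompact ((fst H K ≫ j) * (snd H K ≫ i)).left] : IsIso j.left := by
  let m : H ⊗ K ⟶ N := (fst H K ≫ j) * (snd H K ≫ i)
  haveI : Mono j := Over.mono_of_mono_left _
  haveI : Mono i := Over.mono_of_mono_left _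
  -- the intersection
  let L : Over (Spec (CommRingCat.of k)) := pullback j i
  let a : L ⟶ H := pullback.fst j i
  let l : L ⟶ K := pullback.snd j i
  have hal : a ≫ j = l ≫ i := pullback.condition
  haveI : Mono l := inferInstance
  obtain ⟨gL, hl⟩ := exists_grpObj_of_mono K l (pullback.lift η[H] η[K] (by rw [IsMonHom.one_hom, IsMonHom.one_hom]))
    (pullback.lift_snd _ _ _)
    (pullback.lift ((a ⊗ₘ a) ≫ μ[H]) ((l ⊗ₘ l) ≫ μ[K]) (by
      rw [Category.assoc, Category.assoc, IsMonHom.mul_hom, IsMonHom.mul_hom, ← Category.assoc, ← Category.assoc,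
        tensorHom_comp_tensorHom, tensorHom_comp_tensorHom, hal]))
    (pullback.lift_snd _ _ _)
    (pullback.lift (a ≫ ι[H]) (l ≫ ι[K]) (by
      rw [Category.assoc, Category.assoc, GrpObj.inv_hom, GrpObj.inv_hom, reassoc_of% hal]))
    (pullback.lift_snd _ _ _)
  haveI := hl
  haveI : IsClosedImmersion l.left := by
    have h := (IsPullback.of_hasPullback j i).map (Over.forget _)
    exact MorphismProperty.of_isPullback (P := @IsClosedImmersion) h (inferInstanceAs (IsClosedImmersion j.left))
  haveI : IsFinite L.hom := by rw [← Over.w l]; infer_instance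
  let act : AlgGrp.Action L K :=
    { act := (fst L K ≫ l) * snd L K
      one_act := by
        rw [MonObj.comp_mul, ← Category.assoc, whiskerRight_fst, whiskerRight_snd, Category.assoc,
          IsMonHom.one_hom l, leftUnitor_hom]
        rw [toUnit_unique (fst (𝟙_ _) K) (toUnit _), ← Hom.one_def, _root_.one_mul]
      mul_act := by
        have hμ : μ[L] ≫ l = (fst L L ≫ l) * (snd L L ≫ l) := by
          rw [← MonObj.mul_comp, Hom.mul_def, lift_fst_snd, Category.id_comp]
        simp only [MonObj.comp_mul, whiskerRight_fst_assoc, whiskerRight_snd, whiskerLeft_fst_assoc,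
          whiskerLeft_snd, associator_hom_fst_assoc, associator_hom_snd_fst_assoc,
          associator_hom_snd_snd, hμ]
        simp only [← _root_.mul_assoc, Category.assoc] }
  have hfree : ∀ (T : Over (Spec (CommRingCat.of k))) (g : T ⟶ L) (x : T ⟶ K), lift g x ≫ act.act = x →
      g = toUnit T ≫ η[L] := by
    intro T g x h
    rw [← cancel_mono l, Category.assoc, IsMonHom.one_hom l, ← Hom.one_def]
    have h' : (g ≫ l) * x = x := by simpa [act, MonObj.comp_mul] using h
    simpa using h'
  haveI : IsAffine K.left := isAffine_of_isAffineHom K.hom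
  haveI : IsFinite (H12AlgSp.ActionGroupoid.groupoid act).s := inferInstanceAs (IsFinite (Limits.pullback.snd L.hom K.hom))
  haveI : Flat (H12AlgSp.ActionGroupoid.groupoid act).s := inferInstanceAs (Flat (Limits.pullback.snd L.hom K.hom))
  haveI : LocallyOfFinitePresentation (H12AlgSp.ActionGroupoid.groupoid act).s :=
    inferInstanceAs (LocallyOfFinitePresentation (Limits.pullback.snd L.hom K.hom))
  haveI := H12AlgSp.ActionGroupoid.mono_j act hfree
  obtain ⟨M, q₀, q1, q2, q3, sq₀, hq⟩ := H12AlgSp.exists_finLocFree_quotient (H12AlgSp.ActionGroupoid.groupoid act)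
    (H12AlgSp.ActionGroupoid.orbit_in_affine act (Or.inl inferInstance))
  let q : K ⟶ M := q₀
  have sq : IsPullback act.act.left (snd L K).left q.left q.left := sq₀
  have hw : act.act ≫ q = snd L K ≫ q := Over.OverMorphism.ext sq.w
  haveI : IsFinite q.left := q1
  haveI : LocallyOfFinitePresentation q.left := q3
  haveI : Surjective q.left := H12AlgSp.surjective_of_isQuotient hq
  haveI : IsAffine M.left := by
    haveI : LocallyOfFiniteType M.hom := by
      haveI : Flat q.left := q2
      haveI : LocallyOfFiniteType (q.left ≫ M.hom) := by rw [Over.w q]; infer_instance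
      exact S5938.result q.left M.hom
    haveI : IsNoetherianRing (CommRingCat.of k) := inferInstanceAs (IsNoetherianRing k)
    haveI : IsLocallyNoetherian M.left := LocallyOfFiniteType.isLocallyNoetherian M.hom
    haveI : CompactSpace K.left := inferInstance
    haveI : CompactSpace M.left := ⟨by
      rw [← Set.range_eq_univ.mpr q.left.surjective]; exact isCompact_range q.left.continuous⟩
    exact H7Lim.Chevalley.isAffine_of_finite_fp_surjective q.left
  -- descend the quotient map to `N`
  obtain ⟨ψ, hψ, -⟩ := H19Grp.QuotientDesc.existsUnique_desc m (snd H K ≫ q) fun T x y hxy => by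
    have e : ((x ≫ fst H K) ≫ j) * ((x ≫ snd H K) ≫ i) = ((y ≫ fst H K) ≫ j) * ((y ≫ snd H K) ≫ i) := by
      simpa only [m, MonObj.comp_mul, Category.assoc] using hxy
    let z : T ⟶ L := pullback.lift ((x ≫ fst H K)⁻¹ * (y ≫ fst H K)) ((x ≫ snd H K) * (y ≫ snd H K)⁻¹) (by
      rw [MonObj.mul_comp, MonObj.mul_comp, GrpObj.inv_comp, GrpObj.inv_comp, inv_mul_eq_iff_eq_mul, ← _root_.mul_assoc,
        eq_mul_inv_iff_mul_eq]
      exact e.symm)
    have hz : z ≫ l = (x ≫ snd H K) * (y ≫ snd H K)⁻¹ := pullback.lift_snd _ _ _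
    have h := congrArg (lift z (y ≫ snd H K) ≫ ·) hw
    simp only [← Category.assoc, lift_snd] at h
    rw [MonObj.comp_mul, ← Category.assoc, lift_fst, lift_snd, hz, inv_mul_cancel_right] at h
    simpa only [Category.assoc] using h
  obtain ⟨c, rfl⟩ := exists_eq_toUnit ψ
  have hK : q = toUnit K ≫ c := by
    have h := congrArg (lift (toUnit K ≫ η[H]) (𝟙 K) ≫ ·) hψ
    simp only [← Category.assoc] at h
    rw [lift_snd, Category.id_comp, toUnit_unique (((lift (toUnit K ≫ η[H]) (𝟙 K)) ≫ m) ≫ toUnit N) (toUnit K)] at h
    exact h.symm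
  -- so the intersection is everything
  have sq' : IsPullback act.act (snd L K) q q :=
    IsPullback.of_map (Over.forget _) hw sq
  let t : K ⟶ L ⊗ K := sq'.lift (𝟙 K) (1 : K ⟶ K) (by rw [hK, ← Category.assoc, ← Category.assoc,
    toUnit_unique ((𝟙 K) ≫ toUnit K) ((1 : K ⟶ K) ≫ toUnit K)])
  let s : K ⟶ L := t ≫ fst L K
  have hs : s ≫ l = 𝟙 K := by
    have h1 : t ≫ act.act = 𝟙 K := sq'.lift_fst _ _ _
    have h2 : t ≫ snd L K = 1 := sq'.lift_snd _ _ _
    rw [show act.act = (fst L K ≫ l) * snd L K from rfl, MonObj.comp_mul, h2, _root_.mul_one] at h1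
    rw [Category.assoc]; exact h1
  have hi : i = (s ≫ a) ≫ j := by rw [Category.assoc, hal, ← Category.assoc, hs, Category.id_comp]
  have hm : (fst H K * (snd H K ≫ s ≫ a)) ≫ j = m := by
    rw [MonObj.mul_comp, Category.assoc, ← hi]
  obtain ⟨h, hh⟩ := exists_lift_of_cover j (𝟙 N) m (fst H K * (snd H K ≫ s ≫ a)) (by rw [hm, Category.comp_id])
  haveI : IsSplitEpi j := ⟨⟨⟨h, hh⟩⟩⟩
  haveI : IsIso j := isIso_of_mono_of_isSplitEpi j
  exact inferInstanceAs (IsIso ((Over.forget _).map j))

/-- Anti-affine groups over algebraically closed fields are smooth. -/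
theorem smooth_algClosed [IsAlgClosed k] (N : Over (Spec (CommRingCat.of k))) [GrpObj N]
    [LocallyOfFiniteType N.hom] [QuasiCompact N.hom] [IsIso N.hom.appTop] : Smooth N.hom := by
  haveI : IsNoetherianRing (CommRingCat.of k) := inferInstanceAs (IsNoetherianRing k)
  obtain ⟨p, hp⟩ := CharP.exists k
  rcases CharP.char_is_prime_or_zero k p with hprime | rfl
  swap
  · haveI : CharZero k := CharP.charP_to_charZero k
    exact smooth_of_charZero N
  haveI : Fact p.Prime := ⟨hprime⟩
  obtain ⟨n, hn⟩ := GroupCI.exists_nil_bound p N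
  haveI : FrobSch.IsCharP N.left p := FrobSch.IsCharP.of_hom N.hom p
  let F := FrobPow.frobN p n (Spec (CommRingCat.of k))
  haveI : IsIso F := FrobPow.isIso_frobN_Spec p n k
  let P := (Over.pullback F).obj N
  letI : GrpObj P := Functor.grpObjObj
  haveI : LocallyOfFiniteType P.hom := by dsimp [P]; infer_instance
  haveI := LocallyOfFiniteType.jacobsonSpace N.hom
  let g := FrobPow.relFrobN p n _ N
  haveI : IsMonHom g := FrobPow.isMonHom_relFrobN p n _ N
  haveI : IsIso (pullback.fst N.hom F) := inferInstance
  haveI : LocallyOfFiniteType g.left := by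
    haveI : LocallyOfFiniteType (g.left ≫ P.hom) := by rw [Over.w g]; infer_instance
    exact locallyOfFiniteType_of_comp g.left P.hom
  haveI : IsIntegralHom g.left := by
    haveI : IsIntegralHom (g.left ≫ pullback.fst N.hom F) := by rw [FrobPow.relFrobN_fst]; infer_instance
    exact IsIntegralHom.of_comp g.left (pullback.fst N.hom F)
  haveI : IsFinite g.left := (IsFinite.iff_isIntegralHom_and_locallyOfFiniteType _).mpr ⟨inferInstance, inferInstance⟩
  have hinj : Function.Injective g.left := fun a b hab => by
    have h' : (g.left ≫ pullback.fst N.hom F) a = (g.left ≫ pullback.fst N.hom F) b :=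
      congrArg (pullback.fst N.hom F) hab
    rw [FrobPow.relFrobN_fst] at h'
    exact h'
  obtain ⟨K, gK, i, hi, hker, hfin, hcl, -⟩ := S18320.exists_kernel g hinj
  obtain ⟨Q, gQ, v, c, hv, hc, hvc, hf, hs, hfp, hccl, hQl, hvqc⟩ := ImageFactor.exists_image_factor N P g (by
    have h : ∀ {X : Scheme.{u}} (f : X ⟶ Spec (CommRingCat.of k)), Flat f := fun f => inferInstance
    exact h _)
  -- the image is reduced
  obtain ⟨r, hr⟩ := FrobPow.exists_factor_nilradical p n N.left hn
  obtain ⟨t, -, htc⟩ := FlatMonoFactor.exists_desc v.left c.left r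
    (N.left.nilradical.subschemeι ≫ inv (pullback.fst N.hom F)) (by
      rw [← Over.comp_left, hvc, reassoc_of% hr, ← FrobPow.relFrobN_fst, Category.assoc, IsIso.hom_inv_id]
      exact (Category.comp_id _).symm)
  haveI : IsClosedImmersion t := by
    haveI : IsClosedImmersion (t ≫ N.left.nilradical.subschemeι ≫ inv (pullback.fst N.hom F)) := by
      rw [htc]; infer_instance
    exact IsClosedImmersion.of_comp t (N.left.nilradical.subschemeι ≫ inv (pullback.fst N.hom F))
  have hbase : ∀ x : N.left, g.left x = inv (pullback.fst N.hom F) x := fun x => by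
    conv_lhs => rw [show g.left = (g.left ≫ pullback.fst N.hom F) ≫ inv (pullback.fst N.hom F) by simp]
    rw [FrobPow.relFrobN_fst]
    rfl
  haveI : Surjective t := ⟨fun w => by
    refine ⟨v.left (N.left.nilradical.subschemeι w),
      (N.left.nilradical.subschemeι ≫ inv (pullback.fst N.hom F)).isClosedEmbedding.injective ?_⟩
    rw [← Scheme.Hom.comp_apply, htc, ← Scheme.Hom.comp_apply, ← Over.comp_left, hvc]
    exact hbase (N.left.nilradical.subschemeι w)⟩
  haveI : IsReduced N.left.nilradical.subscheme := inferInstance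
  haveI : IsIso t := isIso_of_isClosedImmersion_of_surjective t
  haveI : IsReduced Q.left := isReduced_of_isOpenImmersion t
  haveI : Smooth Q.hom := smooth_of_isReduced_perfect Q
  -- the reduced subgroup
  obtain ⟨gH, hj⟩ := GroupCI.exists_grpObj_reduced N
  let H := Over.mk (N.left.nilradical.subschemeι ≫ N.hom)
  let j : H ⟶ N := Over.homMk N.left.nilradical.subschemeι rfl
  haveI : IsMonHom j := hj
  haveI : IsClosedImmersion j.left := inferInstanceAs (IsClosedImmersion N.left.nilradical.subschemeι)
  haveI : Surjective j.left := ⟨fun x => by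
    have h : x ∈ Set.range N.left.nilradical.subschemeι := by rw [Scheme.IdealSheafData.range_subschemeι]; trivial
    exact h⟩
  haveI : LocallyOfFiniteType H.hom := by dsimp [H]; infer_instance
  haveI : IsMonHom (j ≫ v) := inferInstance
  haveI : QuasiCompact (j ≫ v).left := by rw [Over.comp_left]; infer_instance
  haveI : Surjective (j ≫ v).left := by rw [Over.comp_left]; infer_instance
  haveI : IsDominant (j ≫ v).left := inferInstance
  obtain ⟨h1, h2, h3⟩ := ImageFactor.flat_surjective_of_ker_eq_bot (j ≫ v)
    (@Scheme.Hom.ker_eq_bot _ _ _ (IsSchemeTheoreticallyDominant.of_isDominant (j ≫ v).left))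
  -- the product is fppf
  haveI : Mono c := Over.mono_of_mono_left _
  haveI : Mono i := Over.mono_of_mono_left _
  have hkv : AlgGrp.IsKernel i v := isKernel_of
    ((cancel_mono c).mp (by rw [Category.assoc, hvc, kernel_comp_eq_one hker, MonObj.one_comp]))
    (fun T a b h => (cancel_mono i).mp h)
    (fun T x hx => kernel_lift hker x (by rw [← hvc, reassoc_of% hx, MonObj.one_comp]))
  have hb : IsPullback (fst H K) (j ▷ K) j (fst N K) :=
    (IsPullback.of_right (by simpa using (isPullback_fst_snd H K).flip) (by simp) (isPullback_fst_snd N K).flip).flip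
  have hpb : IsPullback (fst H K).left ((j ▷ K) ≫ (fst N K * (snd N K ≫ i))).left (j ≫ v).left v.left :=
    (hb.paste_vert (isPullback_kernel v i hkv)).map (Over.forget _)
  have hm : (j ▷ K) ≫ (fst N K * (snd N K ≫ i)) = (fst H K ≫ j) * (snd H K ≫ i) := by
    rw [MonObj.comp_mul, whiskerRight_fst, whiskerRight_snd_assoc]
  rw [hm] at hpb
  haveI : QuasiCompact (j ≫ v).left := inferInstance
  haveI : Flat ((fst H K ≫ j) * (snd H K ≫ i)).left := MorphismProperty.of_isPullback (P := @Flat) hpb h1
  haveI : Surjective ((fst H K ≫ j) * (snd H K ≫ i)).left := MorphismProperty.of_isPullback (P := @Surjective) hpb h2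
  haveI : LocallyOfFinitePresentation ((fst H K ≫ j) * (snd H K ≫ i)).left :=
    MorphismProperty.of_isPullback (P := @LocallyOfFinitePresentation) hpb h3
  haveI : QuasiCompact ((fst H K ≫ j) * (snd H K ≫ i)).left :=
    MorphismProperty.of_isPullback (P := @QuasiCompact) hpb inferInstance
  haveI : IsIso j.left := isIso_of_fppf_product N H K j i
  haveI : IsReduced H.left := inferInstanceAs (IsReduced N.left.nilradical.subscheme)
  haveI : IsReduced N.left := isReduced_of_isOpenImmersion (inv j.left)
  exact smooth_of_isReduced_perfect N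

/-- Anti-affine groups are smooth. -/
theorem smooth (N : Over (Spec (CommRingCat.of k))) [GrpObj N] [LocallyOfFiniteType N.hom] [QuasiCompact N.hom]
    [IsIso N.hom.appTop] : Smooth N.hom := by
  haveI : IsNoetherianRing (CommRingCat.of k) := inferInstanceAs (IsNoetherianRing k)
  haveI : IsLocallyNoetherian N.left := LocallyOfFiniteType.isLocallyNoetherian N.hom
  let L := AlgebraicClosure k
  let π : Spec (CommRingCat.of L) ⟶ Spec (CommRingCat.of k) := Spec.map (CommRingCat.ofHom (algebraMap k L))
  haveI : Surjective π := ⟨fun x => ⟨IsLocalRing.closedPoint L, Subsingleton.elim (α := PrimeSpectrum k) _ x⟩⟩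
  let N' := (Over.pullback π).obj N
  letI : GrpObj N' := Functor.grpObjObj
  haveI : LocallyOfFiniteType N'.hom := by dsimp [N']; infer_instance
  haveI : QuasiCompact N'.hom := by dsimp [N']; infer_instance
  haveI : IsIso N'.hom.appTop :=
    AntiAffine.isIso_appTop_baseChange (p := N'.hom) (IsPullback.of_hasPullback N.hom π).flip
  have h : Smooth (pullback.snd N.hom π) := smooth_algClosed N'
  exact MorphismProperty.of_pullback_snd_of_descendsAlong (P := @Smooth) (Q := @Surjective ⊓ @Flat ⊓ @QuasiCompact)
    (f := N.hom) (g := π) ⟨⟨inferInstance, inferInstance⟩, inferInstance⟩ h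

end Groth.Agent.H19Grp.AntiAffineSmooth
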