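import Mathlib
import Groth.Agent.H19Grp.AntiAffineSmooth

/-!
The kernel of the affinization of an algebraic group, as a group: anti-affine, smooth and connected.
-/

set_option autoImplicit false
set_option maxHeartbeats 1000000
set_option synthInstance.maxHeartbeats 100000
set_option linter.style.haveILetI false
set_option backward.isDefEq.respectTransparency false

universe u

open CategoryTheory CategoryTheory.Limits MonoidalCategory CartesianMonoidalCategory MonObj GrpObj
  AlgebraicGeometry

namespace Groth.Agent.H19Grp.AffinizationKernel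

variable {k : Type u} [Field k]

/-- The kernel of the affinization, with structure map through the unit. -/
noncomputable def N (G : Over (Spec (CommRingCat.of k))) [GrpObj G] : Over (Spec (CommRingCat.of k)) :=
  Over.mk (pullback.snd G.left.toSpecΓ (η[G].left ≫ G.left.toSpecΓ) ≫ (𝟙_ (Over (Spec (CommRingCat.of k)))).hom)

/-- The inclusion of the kernel. -/
noncomputable def incl (G : Over (Spec (CommRingCat.of k))) [GrpObj G] : N G ⟶ G :=
  Over.homMk (pullback.fst G.left.toSpecΓ (η[G].left ≫ G.left.toSpecΓ)) (by
    show pullback.fst _ _ ≫ G.hom = pullback.snd _ _ ≫ _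
    rw [← Over.w (Affinization.rho G), Affinization.rho_left,
      reassoc_of% (pullback.condition (f := G.left.toSpecΓ) (g := η[G].left ≫ G.left.toSpecΓ))]
    congr 1
    rw [← Affinization.rho_left, ← Over.comp_left_assoc]
    exact Over.w (η[G] ≫ Affinization.rho G))

theorem incl_left (G : Over (Spec (CommRingCat.of k))) [GrpObj G] :
    (incl G).left = pullback.fst G.left.toSpecΓ (η[G].left ≫ G.left.toSpecΓ) := rfl

variable (G : Over (Spec (CommRingCat.of k))) [GrpObj G] [LocallyOfFiniteType G.hom] [QuasiCompact G.hom]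

theorem lift_rho {T : Over (Spec (CommRingCat.of k))} (x : T ⟶ G) (hx : x ≫ Affinization.rho G = toUnit T ≫ η[G] ≫ Affinization.rho G) :
    ∃ y : T ⟶ N G, y ≫ incl G = x := by
  refine ⟨Over.homMk (pullback.lift x.left T.hom ?_) ?_, Over.OverMorphism.ext (pullback.lift_fst _ _ _)⟩
  · have h := congrArg (·.left) hx
    have ht : (toUnit T).left = T.hom := (Category.comp_id _).symm.trans (Over.w (toUnit T))
    simp only [Over.comp_left, Affinization.rho_left, ht] at h
    exact h
  · show _ ≫ pullback.snd _ _ ≫ _ = _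
    rw [pullback.lift_snd_assoc]; exact Category.comp_id _

theorem incl_rho : incl G ≫ Affinization.rho G = toUnit (N G) ≫ η[G] ≫ Affinization.rho G := by
  apply Over.OverMorphism.ext
  have ht : (toUnit (N G)).left = (N G).hom := (Category.comp_id _).symm.trans (Over.w (toUnit _))
  simp only [Over.comp_left, Affinization.rho_left, ht, incl_left, pullback.condition]
  show _ = (pullback.snd _ _ ≫ 𝟙 _) ≫ _
  rw [Category.comp_id]

instance isClosedImmersion_incl : IsClosedImmersion (incl G).left := by
  haveI : IsClosedImmersion (η[G].left ≫ G.left.toSpecΓ) := by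
    haveI : IsSeparated (Affinization.aff G).hom := by
      show IsSeparated (Spec.map G.hom.appTop ≫ (Spec (CommRingCat.of k)).isoSpec.inv); infer_instance
    exact isClosedImmersion_of_comp_eq_id (Affinization.aff G).hom _ (Over.w (η[G] ≫ Affinization.rho G))
  exact MorphismProperty.pullback_fst (P := @IsClosedImmersion) _ _ inferInstance

/-- The kernel of the affinization is a subgroup. -/
theorem exists_grpObj : ∃ _ : GrpObj (N G), IsMonHom (incl G) := by
  haveI : IsNoetherianRing (CommRingCat.of k) := inferInstanceAs (IsNoetherianRing k)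
  haveI : IsLocallyNoetherian G.left := LocallyOfFiniteType.isLocallyNoetherian G.hom
  haveI : QuasiSeparated G.hom := inferInstance
  obtain ⟨gA, hρ⟩ := Affinization.exists_grpObj G
  have h1 : ∀ (T : Over (Spec (CommRingCat.of k))), (1 : T ⟶ G) ≫ Affinization.rho G = toUnit T ≫ η[G] ≫ Affinization.rho G := fun T => by
    rw [Hom.one_def, Category.assoc]
  have hn : ∀ {T : Over (Spec (CommRingCat.of k))} (y : T ⟶ N G), (y ≫ incl G) ≫ Affinization.rho G = 1 := fun {T} y => by
    rw [Category.assoc, incl_rho, ← Category.assoc y, toUnit_unique (y ≫ toUnit _) (toUnit T), ← h1, MonObj.one_comp]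
  haveI : Mono (incl G) := Over.mono_of_mono_left _
  obtain ⟨e₀, he₀⟩ := lift_rho G η[G] (by rw [toUnit_unique (toUnit (𝟙_ _)) (𝟙 _), Category.id_comp])
  obtain ⟨m₀, hm₀⟩ := lift_rho G ((incl G ⊗ₘ incl G) ≫ μ[G]) (by
    rw [← h1, MonObj.one_comp, show (incl G ⊗ₘ incl G) ≫ μ[G] = (fst _ _ ≫ incl G) * (snd _ _ ≫ incl G) by
      rw [Hom.mul_def, lift_fst_comp_snd_comp], MonObj.mul_comp, hn, hn, _root_.mul_one])
  obtain ⟨i₀, hi₀⟩ := lift_rho G (incl G ≫ ι[G]) (by
    rw [← h1, MonObj.one_comp, ← Hom.inv_def, GrpObj.inv_comp]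
    have := hn (𝟙 (N G))
    rw [Category.id_comp] at this
    rw [this, inv_one])
  exact exists_grpObj_of_mono G (incl G) e₀ he₀ m₀ hm₀ i₀ hi₀

theorem smooth_and_connected : IsIso (N G).hom.appTop ∧ Smooth (N G).hom ∧ ConnectedSpace (N G).left := by
  haveI h : IsIso (N G).hom.appTop := AntiAffine.isIso_appTop_kernel G
  obtain ⟨gN, -⟩ := exists_grpObj G
  haveI : LocallyOfFiniteType (N G).hom := by rw [← Over.w (incl G)]; infer_instance
  haveI : QuasiCompact (N G).hom := by rw [← Over.w (incl G)]; infer_instance
  haveI : Nonempty (N G).left := ⟨unitPt (N G)⟩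
  exact ⟨h, AntiAffineSmooth.smooth (N G), AntiAffine.connectedSpace_of_isIso_appTop (N G).hom⟩

end Groth.Agent.H19Grp.AffinizationKernel
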