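import Mathlib
import Groth.Agent.H19Grp.AntiAffine

/-!
Rigidity for a factor with only constant functions: a morphism `X ⊗ Y ⟶ Z` contracting a slice factors through
the projection near that slice.
-/

set_option autoImplicit false
set_option maxHeartbeats 1000000
set_option synthInstance.maxHeartbeats 100000
set_option linter.style.haveILetI false
set_option backward.isDefEq.respectTransparency false

universe u

open CategoryTheory CategoryTheory.Limits MonoidalCategory CartesianMonoidalCategory MonObj GrpObj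
  AlgebraicGeometry TensorProduct TopologicalSpace

namespace Groth.Agent.H19Grp.AntiAffineRigid

variable {k : Type u} [Field k]

/-- Joint injectivity on functions is preserved by tensoring with an algebra over a field. -/
theorem tensor_jointly_injective {R A : Type u} [Field R] [CommRing A] [Algebra R A] {B : Type u} [CommRing B] [Algebra R B]
    {I : Type*} {C : I → Type u} [∀ i, CommRing (C i)] [∀ i, Algebra R (C i)] (π : ∀ i, B →ₐ[R] C i)
    (h : ∀ b, (∀ i, π i b = 0) → b = 0) (x : A ⊗[R] B)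
    (hx : ∀ i, Algebra.TensorProduct.map (AlgHom.id R A) (π i) x = 0) : x = 0 := by
  let ℬ := Module.Free.chooseBasis R A
  apply (TensorProduct.equivFinsuppOfBasisLeft ℬ).injective
  rw [map_zero]
  ext j
  apply h
  intro i
  have e : ∀ z : A ⊗[R] B, TensorProduct.equivFinsuppOfBasisLeft ℬ (Algebra.TensorProduct.map (AlgHom.id R A) (π i) z) j
      = π i (TensorProduct.equivFinsuppOfBasisLeft ℬ z j) := by
    intro z
    induction z with
    | zero => simp
    | tmul a b => simp [TensorProduct.equivFinsuppOfBasisLeft_apply_tmul_apply]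
    | add z w hz hw => simp only [map_add, Finsupp.add_apply, hz, hw]
  rw [← e, hx, map_zero]
  rfl

/-- Joint injectivity on functions is preserved by products with affine schemes. -/
theorem appTop_jointly_injective_whiskerLeft {W V : Over (Spec (CommRingCat.of k))} [IsAffine W.left] [IsAffine V.left]
    {I : Type*} (T : I → Over (Spec (CommRingCat.of k))) [∀ i, IsAffine (T i).left] (t : ∀ i, T i ⟶ V)
    (h : ∀ b, (∀ i, (t i).left.appTop b = 0) → b = 0) (x : Γ((W ⊗ V).left, ⊤))
    (hx : ∀ i, (W ◁ t i).left.appTop x = 0) : x = 0 := by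
  letI : Field Γ(Spec (CommRingCat.of k), ⊤) := (AntiAffine.isField_Γ_Spec k).toField
  letI : Algebra Γ(Spec (CommRingCat.of k), ⊤) Γ(W.left, ⊤) := W.hom.appTop.hom.toAlgebra
  letI : Algebra Γ(Spec (CommRingCat.of k), ⊤) Γ(V.left, ⊤) := V.hom.appTop.hom.toAlgebra
  letI : ∀ i, Algebra Γ(Spec (CommRingCat.of k), ⊤) Γ((T i).left, ⊤) := fun i => (T i).hom.appTop.hom.toAlgebra
  let π : ∀ i, Γ(V.left, ⊤) →ₐ[Γ(Spec (CommRingCat.of k), ⊤)] Γ((T i).left, ⊤) := fun i =>
    { (t i).left.appTop.hom with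
      commutes' := fun r => by
        show (V.hom.appTop ≫ (t i).left.appTop) r = (T i).hom.appTop r
        rw [← Scheme.Hom.comp_appTop, Over.w] }
  have h₁ : IsPushout W.hom.appTop V.hom.appTop (fst W V).left.appTop (snd W V).left.appTop :=
    AntiAffine.isPushout_of_flat_affine (IsPullback.of_hasPullback W.hom V.hom)
  have h₂ : ∀ i, IsPushout W.hom.appTop (T i).hom.appTop (fst W (T i)).left.appTop (snd W (T i)).left.appTop := fun i =>
    AntiAffine.isPushout_of_flat_affine (IsPullback.of_hasPullback W.hom (T i).hom)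
  have hV := CommRingCat.isPushout_tensorProduct Γ(Spec (CommRingCat.of k), ⊤) Γ(W.left, ⊤) Γ(V.left, ⊤)
  have hT := fun i => CommRingCat.isPushout_tensorProduct Γ(Spec (CommRingCat.of k), ⊤) Γ(W.left, ⊤) Γ((T i).left, ⊤)
  let e := h₁.isoIsPushout _ _ hV
  let e' := fun i => (h₂ i).isoIsPushout _ _ (hT i)
  have key : ∀ i, (W ◁ t i).left.appTop ≫ (e' i).hom =
      e.hom ≫ CommRingCat.ofHom (Algebra.TensorProduct.map (AlgHom.id Γ(Spec (CommRingCat.of k), ⊤) Γ(W.left, ⊤)) (π i)).toRingHom := by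
    intro i
    apply h₁.hom_ext
    · rw [← Category.assoc, ← Scheme.Hom.comp_appTop, ← Over.comp_left, whiskerLeft_fst,
        (h₂ i).inl_isoIsPushout_hom, h₁.inl_isoIsPushout_hom_assoc]
      ext a
      show a ⊗ₜ (1 : Γ((T i).left, ⊤)) = Algebra.TensorProduct.map _ (π i) (a ⊗ₜ 1)
      simp
    · rw [← Category.assoc, ← Scheme.Hom.comp_appTop, ← Over.comp_left, whiskerLeft_snd, Over.comp_left,
        Scheme.Hom.comp_appTop, Category.assoc, (h₂ i).inr_isoIsPushout_hom, h₁.inr_isoIsPushout_hom_assoc]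
      ext b
      show (1 : Γ(W.left, ⊤)) ⊗ₜ ((t i).left.appTop b) = Algebra.TensorProduct.map _ (π i) (1 ⊗ₜ b)
      simp [π]
  apply (ConcreteCategory.bijective_of_isIso e.hom).1
  rw [map_zero]
  refine tensor_jointly_injective π h _ fun i => ?_
  refine ((congrArg (fun φ => φ x) (key i)).symm.trans ?_ : _)
  show (e' i).hom ((W ◁ t i).left.appTop x) = 0
  rw [hx i, map_zero]

/-- Morphisms from an affine scheme to a separated one agreeing on a jointly injective family agree. -/
theorem eq_of_jointly_injective {S : Scheme.{u}} {V Z : Over S} [IsAffine V.left] [IsSeparated Z.hom]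
    {I : Type*} (T : I → Over S) (t : ∀ i, T i ⟶ V) (h : ∀ b, (∀ i, (t i).left.appTop b = 0) → b = 0)
    (a b : V ⟶ Z) (hab : ∀ i, t i ≫ a = t i ≫ b) : a = b := by
  let e := (equalizer.ι a b).left
  haveI : IsClosedImmersion e := inferInstance
  have hfac : ∀ i, (equalizer.lift (t i) (hab i)).left ≫ e = (t i).left := fun i => by
    rw [← Over.comp_left, equalizer.lift_ι]
  have hker : e.ker = ⊥ := by
    apply Scheme.IdealSheafData.ext_of_isAffine
    rw [Scheme.Hom.ker_apply, Scheme.IdealSheafData.ideal_bot, Pi.bot_apply]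
    refine eq_bot_iff.mpr fun x hx => ?_
    rw [RingHom.mem_ker] at hx
    refine Ideal.mem_bot.mpr (h x fun i => ?_)
    rw [← hfac i, Scheme.Hom.comp_appTop, CommRingCat.comp_apply]
    show (equalizer.lift (t i) (hab i)).left.appTop (e.app ⊤ x) = 0
    erw [hx]
    exact map_zero _
  haveI : IsIso e := IsClosedImmersion.isIso_iff_ker_eq_bot.mpr hker
  haveI : Epi (equalizer.ι a b) := (Over.forget S).epi_of_epi_map (inferInstanceAs (Epi e))
  exact (cancel_epi (equalizer.ι a b)).mp (equalizer.condition a b)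

/-- The infinitesimal neighbourhoods of a closed point are jointly injective on a small affine neighbourhood. -/
theorem exists_nbhd {Y : Over (Spec (CommRingCat.of k))} [IsLocallyNoetherian Y.left] (y : Y.left) (hy : IsClosed {y})
    (O : Y.left.Opens) (hO : y ∈ O) :
    ∃ (V : Over (Spec (CommRingCat.of k))) (v : V ⟶ Y) (T : ℕ → Over (Spec (CommRingCat.of k))) (t : ∀ n, T n ⟶ V),
      IsOpenImmersion v.left ∧ IsAffine V.left ∧ y ∈ Set.range v.left ∧ Set.range v.left ⊆ O ∧
      (∀ n, IsAffine (T n).left) ∧ (∀ (n : ℕ) (p : (T n).left), v.left ((t n).left p) = y) ∧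
      ∀ b, (∀ n, (t n).left.appTop b = 0) → b = 0 := by
  obtain ⟨U₀, hU, hyU, hUO⟩ := exists_isAffineOpen_mem_and_subset (X := Y.left) hO
  let A := Γ(Y.left, U₀)
  haveI : IsNoetherianRing A := IsLocallyNoetherian.component_noetherian ⟨U₀, hU⟩
  let m : Ideal A := (hU.primeIdealOf ⟨y, hyU⟩).asIdeal
  haveI hm : m.IsMaximal := hU.primeIdealOf_isMaximal_of_isClosed ⟨y, hyU⟩ hy
  let J : Submodule A A := ⨅ i : ℕ, m ^ i • ⊤
  obtain ⟨r, hr, hrJ⟩ := Submodule.exists_mem_and_smul_eq_self_of_fg_of_le_smul m J (IsNoetherian.noetherian J) (by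
    intro x hx
    obtain ⟨r, hr⟩ := (m.mem_iInf_smul_pow_eq_bot_iff x).mp hx
    rw [← hr]
    exact Submodule.smul_mem_smul r.2 hx)
  let f : A := 1 - r
  have hf : f ∉ m := fun h => hm.ne_top ((Ideal.eq_top_iff_one _).mpr (by
    have := m.add_mem h hr
    rwa [sub_add_cancel] at this))
  let A' := Localization.Away f
  let v₀ : Spec (CommRingCat.of A') ⟶ Y.left := Spec.map (CommRingCat.ofHom (algebraMap A A')) ≫ hU.fromSpec
  haveI : IsOpenImmersion (Spec.map (CommRingCat.ofHom (algebraMap A A'))) := IsOpenImmersion.of_isLocalization f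
  haveI : IsOpenImmersion v₀ := inferInstance
  let V : Over (Spec (CommRingCat.of k)) := Over.mk (v₀ ≫ Y.hom)
  let v : V ⟶ Y := Over.homMk v₀ rfl
  have hu : ∀ n : ℕ, IsUnit (Ideal.Quotient.mk (m ^ (n + 1)) f) := by
    intro n
    obtain ⟨x, hx⟩ := hm.exists_inv hf
    obtain ⟨i, hi, hi'⟩ := hx
    have h1 : Ideal.Quotient.mk (m ^ (n + 1)) x * Ideal.Quotient.mk _ f = 1 - Ideal.Quotient.mk _ i := by
      rw [← map_mul, eq_sub_iff_add_eq, ← map_add, hi', map_one]
    have h2 : IsNilpotent (Ideal.Quotient.mk (m ^ (n + 1)) i) := ⟨n + 1, by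
      rw [← map_pow, Ideal.Quotient.eq_zero_iff_mem]; exact Ideal.pow_mem_pow hi _⟩
    have h3 : IsUnit (Ideal.Quotient.mk (m ^ (n + 1)) x * Ideal.Quotient.mk _ f) := h1 ▸ h2.isUnit_one_sub
    exact isUnit_of_mul_isUnit_right h3
  let g : ∀ n : ℕ, A' →+* A ⧸ m ^ (n + 1) := fun n => IsLocalization.Away.lift f (hu n)
  have hg : ∀ n a, g n (algebraMap A A' a) = Ideal.Quotient.mk _ a := fun n a => IsLocalization.Away.lift_eq f (hu n) a
  let T : ℕ → Over (Spec (CommRingCat.of k)) := fun n => Over.mk (Spec.map (CommRingCat.ofHom (g n)) ≫ V.hom)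
  let t : ∀ n, T n ⟶ V := fun n => Over.homMk (Spec.map (CommRingCat.ofHom (g n))) rfl
  haveI : ∀ n, IsAffine (T n).left := fun n => inferInstanceAs (IsAffine (Spec _))
  have hpt : ∀ (n : ℕ) (p : PrimeSpectrum (A ⧸ m ^ (n + 1))),
      v₀ (Spec.map (CommRingCat.ofHom (g n)) p) = y := by
    intro n p
    have hp : (p.comap (Ideal.Quotient.mk (m ^ (n + 1)))).asIdeal = m := by
      refine (hm.eq_of_le (p.comap _).2.ne_top ?_).symm
      intro a ha
      have h0 : Ideal.Quotient.mk (m ^ (n + 1)) a ^ (n + 1) ∈ p.asIdeal := by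
        rw [← map_pow, (Ideal.Quotient.eq_zero_iff_mem).mpr (Ideal.pow_mem_pow ha _)]
        exact p.asIdeal.zero_mem
      exact p.2.mem_of_pow_mem _ h0
    have hp' : PrimeSpectrum.comap (algebraMap A A') (PrimeSpectrum.comap (g n) p) = hU.primeIdealOf ⟨y, hyU⟩ := by
      apply PrimeSpectrum.ext
      rw [show PrimeSpectrum.comap (algebraMap A A') (PrimeSpectrum.comap (g n) p) =
        p.comap (Ideal.Quotient.mk (m ^ (n + 1))) from PrimeSpectrum.ext (Ideal.ext fun a => by simp [hg])]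
      exact hp
    show hU.fromSpec (PrimeSpectrum.comap (algebraMap A A') (PrimeSpectrum.comap (g n) p)) = y
    rw [hp']
    exact hU.fromSpec_primeIdealOf ⟨y, hyU⟩
  refine ⟨V, v, T, t, ‹IsOpenImmersion v₀›, inferInstanceAs (IsAffine (Spec _)), ?_, ?_, inferInstance, hpt, ?_⟩
  · haveI : Nontrivial (A ⧸ m ^ (0 + 1)) :=
      Ideal.Quotient.nontrivial_iff.mpr (by rw [pow_one]; exact hm.ne_top)
    obtain ⟨p⟩ : Nonempty (PrimeSpectrum (A ⧸ m ^ (0 + 1))) := inferInstance
    exact ⟨_, hpt 0 p⟩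
  · rintro _ ⟨q, rfl⟩
    apply hUO
    show hU.fromSpec _ ∈ U₀
    rw [← SetLike.mem_coe, ← hU.range_fromSpec]
    exact ⟨_, rfl⟩
  · intro b hb
    obtain ⟨c, rfl⟩ : ∃ c, (Scheme.ΓSpecIso (CommRingCat.of A')).inv c = b :=
      ⟨(Scheme.ΓSpecIso (CommRingCat.of A')).hom b, Iso.hom_inv_id_apply _ b⟩
    have hc : ∀ n, g n c = 0 := fun n => by
      apply (ConcreteCategory.bijective_of_isIso (Scheme.ΓSpecIso (CommRingCat.of (A ⧸ m ^ (n + 1)))).inv).1
      rw [map_zero]
      refine Eq.trans ?_ (hb n)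
      exact congrArg (fun φ => φ c) (Scheme.ΓSpecIso_inv_naturality (CommRingCat.ofHom (g n)))
    obtain ⟨⟨a, s⟩, hs⟩ := IsLocalization.surj (Submonoid.powers f) c
    have ha : a ∈ J := by
      rw [Submodule.mem_iInf]
      intro i
      have h1 : Ideal.Quotient.mk (m ^ (i + 1)) a = 0 := by
        rw [← hg, ← hs, map_mul, hc, zero_mul]
      rw [smul_eq_mul, Ideal.mul_top]
      exact Ideal.pow_le_pow_right i.le_succ (Ideal.Quotient.eq_zero_iff_mem.mp h1)
    have h0 : algebraMap A A' a = 0 := by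
      have hfa : f * a = 0 := by
        rw [sub_mul, _root_.one_mul, sub_eq_zero]
        exact (hrJ a ha).symm
      have := congrArg (algebraMap A A') hfa
      rw [map_mul, map_zero] at this
      exact (IsLocalization.Away.algebraMap_isUnit f).mul_right_eq_zero.mp this
    rw [h0] at hs
    rw [(IsLocalization.map_units A' s).mul_left_eq_zero.mp hs, map_zero]

variable {X Y Z : Over (Spec (CommRingCat.of k))}

/-- Rigidity on a slice over a small affine scheme. -/
theorem slice_eq [QuasiCompact X.hom] [QuasiSeparated X.hom] [IsIso X.hom.appTop]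
    (x₀ : 𝟙_ (Over (Spec (CommRingCat.of k))) ⟶ X) {T : Over (Spec (CommRingCat.of k))} [IsAffine T.left]
    (h : X ⊗ T ⟶ Z) (U : Z.left.Opens) (hU : IsAffineOpen U) (hh : ∀ p, h.left p ∈ U) :
    h = snd X T ≫ lift (toUnit T ≫ x₀) (𝟙 T) ≫ h := by
  haveI : IsAffine (U : Scheme.{u}) := hU
  haveI : CompactSpace X.left := QuasiCompact.compactSpace_of_compactSpace X.hom
  haveI : QuasiSeparatedSpace X.left := quasiSeparatedSpace_of_quasiSeparated X.hom
  haveI : IsIso (snd X T).left.appTop :=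
    (AntiAffine.isPushout_of_flat_affine (IsPullback.of_hasPullback X.hom T.hom).flip).isIso_inl_of_isIso
  let Z' : Over (Spec (CommRingCat.of k)) := Over.mk (U.ι ≫ Z.hom)
  let j : Z' ⟶ Z := Over.homMk U.ι rfl
  haveI : IsAffine Z'.left := hU
  have hr : Set.range h.left ⊆ Set.range U.ι := by
    rintro _ ⟨p, rfl⟩
    rw [U.range_ι]; exact hh p
  let h' : X ⊗ T ⟶ Z' := Over.homMk (IsOpenImmersion.lift U.ι h.left hr) (by
    show _ ≫ U.ι ≫ Z.hom = _
    rw [IsOpenImmersion.lift_fac_assoc]; exact Over.w h)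
  have hj : h' ≫ j = h := Over.OverMorphism.ext (IsOpenImmersion.lift_fac _ _ _)
  obtain ⟨c, hc⟩ := Affinization.exists_desc (snd X T) h'
  rw [← hj, ← hc]
  simp only [Category.assoc, lift_snd_assoc, Category.id_comp]

/-- Rigidity near a contracted slice. -/
theorem eq_near [QuasiCompact X.hom] [QuasiSeparated X.hom] [IsIso X.hom.appTop]
    [IsLocallyNoetherian Y.left] [IsSeparated Z.hom] (x₀ : 𝟙_ (Over (Spec (CommRingCat.of k))) ⟶ X)
    (f : X ⊗ Y ⟶ Z) (y : Y.left) (hy : IsClosed {y})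
    (hf : ∀ p, (snd X Y).left p = y → f.left p = (lift (toUnit Y ≫ x₀) (𝟙 Y) ≫ f).left y) :
    ∃ (V : Over (Spec (CommRingCat.of k))) (v : V ⟶ Y), IsOpenImmersion v.left ∧ y ∈ Set.range v.left ∧
      (X ◁ v) ≫ f = (X ◁ v) ≫ snd X Y ≫ lift (toUnit Y ≫ x₀) (𝟙 Y) ≫ f := by
  let g := lift (toUnit Y ≫ x₀) (𝟙 Y) ≫ f
  obtain ⟨U, hU, hzU, -⟩ := exists_isAffineOpen_mem_and_subset (X := Z.left) (x := g.left y) (U := ⊤) trivial
  obtain ⟨V, v, T, t, hv, hVa, hyV, -, hTa, hpt, hinj⟩ := exists_nbhd y hy ⊤ trivial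
  haveI := hv
  haveI := hVa
  haveI := hTa
  refine ⟨V, v, hv, hyV, ?_⟩
  have hslice : ∀ n, (X ◁ (t n ≫ v)) ≫ f = (X ◁ (t n ≫ v)) ≫ snd X Y ≫ g := by
    intro n
    have h := slice_eq x₀ ((X ◁ (t n ≫ v)) ≫ f) U hU (fun p => by
      rw [Over.comp_left, Scheme.Hom.comp_apply, hf _ ?_]
      · exact hzU
      · rw [← Scheme.Hom.comp_apply, ← Over.comp_left, whiskerLeft_snd, Over.comp_left, Over.comp_left,
          Scheme.Hom.comp_apply, Scheme.Hom.comp_apply]
        exact hpt n _)
    rw [h, whiskerLeft_snd_assoc]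
    congr 1
    rw [← Category.assoc, ← Category.assoc]
    congr 1
    apply CartesianMonoidalCategory.hom_ext
    · simp only [Category.assoc, whiskerLeft_fst, lift_fst]
      rw [← Category.assoc (t n), ← Category.assoc ((t n ≫ v)), toUnit_unique ((t n ≫ v) ≫ toUnit Y) (toUnit _)]
    · simp
  -- cover `X` by affines
  apply Over.OverMorphism.ext
  refine Scheme.Cover.hom_ext (Scheme.Pullback.openCoverOfLeft X.left.affineCover X.hom V.hom) _ _ fun i => ?_
  let W : Over (Spec (CommRingCat.of k)) := Over.mk (X.left.affineCover.f i ≫ X.hom)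
  let w : W ⟶ X := Over.homMk (X.left.affineCover.f i) rfl
  haveI : IsAffine W.left := inferInstanceAs (IsAffine (X.left.affineCover.X i))
  have hfac : (Scheme.Pullback.openCoverOfLeft X.left.affineCover X.hom V.hom).f i = (w ▷ V).left := by
    apply pullback.hom_ext
    · exact (pullback.lift_fst _ _ _).trans ((congrArg (·.left) (whiskerRight_fst w V)).symm.trans (Over.comp_left _ _ _ _ _))
    · refine (pullback.lift_snd _ _ _).trans ((Category.comp_id _).trans ?_)
      exact (congrArg (·.left) (whiskerRight_snd w V)).symm.trans (Over.comp_left _ _ _ _ _)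
  rw [hfac, ← Over.comp_left, ← Over.comp_left]
  congr 1
  haveI : IsAffine (W ⊗ V).left := inferInstanceAs (IsAffine (pullback W.hom V.hom))
  refine eq_of_jointly_injective (fun n => W ⊗ T n) (fun n => W ◁ t n)
    (fun x hx => appTop_jointly_injective_whiskerLeft T t hinj x hx) _ _ fun n => ?_
  rw [← whisker_exchange_assoc, ← whisker_exchange_assoc, ← whiskerLeft_comp_assoc, ← whiskerLeft_comp_assoc]
  rw [whisker_exchange_assoc, whisker_exchange_assoc]
  exact congrArg ((w ▷ T n) ≫ ·) (hslice n)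

end Groth.Agent.H19Grp.AntiAffineRigid
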