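import Mathlib
import Groth.Agent.H19Grp.AntiAffineRigid
import Groth.Agent.H28NT.GoodReduction

/-!
Rigidity for a factor with only constant functions: global statements.
-/

set_option autoImplicit false
set_option maxHeartbeats 1000000
set_option synthInstance.maxHeartbeats 100000
set_option linter.style.haveILetI false
set_option backward.isDefEq.respectTransparency false

universe u

open CategoryTheory CategoryTheory.Limits MonoidalCategory CartesianMonoidalCategory MonObj GrpObj
  AlgebraicGeometry TopologicalSpace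

namespace Groth.Agent.H19Grp.AntiAffineRigid

variable {k : Type u} [Field k] {X Y Z : Over (Spec (CommRingCat.of k))}

theorem toUnit_left (T : Over (Spec (CommRingCat.of k))) : (toUnit T).left = T.hom :=
  (Category.comp_id _).symm.trans (Over.w (toUnit T))

/-- The image of a rational point is closed. -/
theorem isClosed_point {W : Over (Spec (CommRingCat.of k))} [IsSeparated W.hom]
    (r : 𝟙_ (Over (Spec (CommRingCat.of k))) ⟶ W) : IsClosed {r.left (IsLocalRing.closedPoint k)} := by
  haveI : IsClosedImmersion r.left := isClosedImmersion_of_comp_eq_id W.hom _ (Over.w r)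
  have h := r.left.isClosedEmbedding.isClosed_range
  convert h using 1
  ext z
  constructor
  · rintro rfl; exact ⟨_, rfl⟩
  · rintro ⟨x, rfl⟩; exact congrArg r.left (Subsingleton.elim (α := PrimeSpectrum k) x _)

/-- The image of a rational point of a scheme locally of finite type is closed. -/
theorem isClosed_point_of_lft {W : Over (Spec (CommRingCat.of k))} [LocallyOfFiniteType W.hom]
    (r : 𝟙_ (Over (Spec (CommRingCat.of k))) ⟶ W) : IsClosed {r.left (IsLocalRing.closedPoint k)} := by
  set y := r.left (IsLocalRing.closedPoint k)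
  haveI := LocallyOfFiniteType.jacobsonSpace W.hom
  obtain ⟨U, hU, hyU, -⟩ := exists_isAffineOpen_mem_and_subset (X := W.left) (x := y) (U := ⊤) trivial
  haveI : IsAffine (U : Scheme.{u}) := hU
  let W' : Over (Spec (CommRingCat.of k)) := Over.mk (U.ι ≫ W.hom)
  haveI : IsSeparated W'.hom := by
    haveI : IsAffine W'.left := hU
    infer_instance
  have hr : Set.range r.left ⊆ Set.range U.ι := by
    rintro _ ⟨p, rfl⟩
    rw [U.range_ι, show p = IsLocalRing.closedPoint k from Subsingleton.elim (α := PrimeSpectrum k) _ _]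
    exact hyU
  let r' : 𝟙_ (Over (Spec (CommRingCat.of k))) ⟶ W' := Over.homMk (IsOpenImmersion.lift U.ι r.left hr) (by
    show _ ≫ U.ι ≫ W.hom = _
    rw [IsOpenImmersion.lift_fac_assoc]; exact Over.w r)
  have h := (isClosed_point r').isLocallyClosed.image U.ι.isOpenEmbedding.isInducing
    (by rw [U.range_ι]; exact U.isOpen.isLocallyClosed)
  rw [Set.image_singleton, show U.ι (r'.left (IsLocalRing.closedPoint k)) = y from
    congrArg (fun m : (𝟙_ (Over (Spec (CommRingCat.of k)))).left ⟶ W.left => m (IsLocalRing.closedPoint k))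
      (IsOpenImmersion.lift_fac U.ι r.left hr)] at h
  obtain ⟨z, hz, hzc⟩ := nonempty_inter_closedPoints (Z := ({y} : Set W.left)) ⟨y, rfl⟩ h
  rw [Set.mem_singleton_iff] at hz
  exact hz ▸ hzc

theorem eq_point {W : Over (Spec (CommRingCat.of k))} {T : Over (Spec (CommRingCat.of k))}
    (r : 𝟙_ (Over (Spec (CommRingCat.of k))) ⟶ W) (p : T.left) :
    (toUnit T ≫ r).left p = r.left (IsLocalRing.closedPoint k) := by
  rw [Over.comp_left, Scheme.Hom.comp_apply]
  exact congrArg r.left (Subsingleton.elim (α := PrimeSpectrum k) _ _)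

/-- The slice through the base point. -/
theorem slice_base (x₀ : 𝟙_ (Over (Spec (CommRingCat.of k))) ⟶ X) (y₀ : 𝟙_ (Over (Spec (CommRingCat.of k))) ⟶ Y)
    (f : X ⊗ Y ⟶ Z) :
    (lift (toUnit Y ≫ x₀) (𝟙 Y) ≫ f).left (y₀.left (IsLocalRing.closedPoint k)) =
      (lift x₀ y₀ ≫ f).left (IsLocalRing.closedPoint k) := by
  have h : lift x₀ y₀ ≫ f = y₀ ≫ lift (toUnit Y ≫ x₀) (𝟙 Y) ≫ f := by
    rw [← Category.assoc y₀, comp_lift, Category.comp_id, ← Category.assoc, toUnit_unique (y₀ ≫ toUnit Y) (𝟙 _),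
      Category.id_comp]
  conv_rhs => rw [h, Over.comp_left, Scheme.Hom.comp_apply]

/-- A constant slice gives the pointwise condition used for rigidity. -/
theorem slice_of_const (x₀ : 𝟙_ (Over (Spec (CommRingCat.of k))) ⟶ X) (y₀ : 𝟙_ (Over (Spec (CommRingCat.of k))) ⟶ Y)
    (z₀ : 𝟙_ (Over (Spec (CommRingCat.of k))) ⟶ Z) (f : X ⊗ Y ⟶ Z) (hf : (X ◁ y₀) ≫ f = toUnit _ ≫ z₀)
    (p : (X ⊗ Y).left) (hp : (snd X Y).left p = y₀.left (IsLocalRing.closedPoint k)) :
    f.left p = (lift (toUnit Y ≫ x₀) (𝟙 Y) ≫ f).left (y₀.left (IsLocalRing.closedPoint k)) := by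
  have hb : IsPullback (snd X (𝟙_ (Over (Spec (CommRingCat.of k))))) (X ◁ y₀) y₀ (snd X Y) := by
    refine ⟨⟨(whiskerLeft_snd X y₀).symm⟩, ⟨PullbackCone.isLimitAux' _ fun s => ⟨lift (s.snd ≫ fst X Y) s.fst, lift_snd _ _, ?_, ?_⟩⟩⟩
    · show lift (s.snd ≫ fst X Y) s.fst ≫ (X ◁ y₀) = s.snd
      apply CartesianMonoidalCategory.hom_ext
      · simp
      · simp only [Category.assoc, whiskerLeft_snd, lift_snd_assoc]; exact s.condition
    · intro m h1 h2
      apply CartesianMonoidalCategory.hom_ext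
      · rw [lift_fst]
        show m ≫ fst X _ = _
        rw [← h2]
        exact ((Category.assoc _ _ _).trans (congrArg (m ≫ ·) (whiskerLeft_fst X y₀))).symm
      · rw [lift_snd]; exact h1
  obtain ⟨q, hq⟩ : p ∈ Set.range (X ◁ y₀).left := by
    obtain ⟨q, -, hq⟩ := Scheme.exists_preimage_of_isPullback (hb.map (Over.forget _)) (IsLocalRing.closedPoint k) p hp.symm
    exact ⟨q, hq⟩
  rw [slice_base, ← hq, ← Scheme.Hom.comp_apply, ← Over.comp_left, hf, eq_point]
  have h : z₀ = lift x₀ y₀ ≫ f := by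
    have := congrArg (lift x₀ (𝟙 _) ≫ ·) hf
    simp only [← Category.assoc, lift_whiskerLeft, Category.id_comp] at this
    rw [this, toUnit_unique (lift x₀ (𝟙 _) ≫ toUnit _) (𝟙 _), Category.id_comp]
  rw [h]

variable [QuasiCompact X.hom] [QuasiSeparated X.hom] [IsIso X.hom.appTop]

omit [QuasiCompact X.hom] [QuasiSeparated X.hom] [IsIso X.hom.appTop] in
/-- Equality glues over a family of open immersions covering the second factor. -/
theorem eq_of_cover {a b : X ⊗ Y ⟶ Z}
    (h : ∀ y : Y.left, ∃ (V : Over (Spec (CommRingCat.of k))) (v : V ⟶ Y), IsOpenImmersion v.left ∧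
      y ∈ Set.range v.left ∧ (X ◁ v) ≫ a = (X ◁ v) ≫ b) : a = b := by
  apply Over.OverMorphism.ext
  refine Scheme.hom_ext_of_forall _ _ fun p => ?_
  obtain ⟨V, v, hv, hp, he⟩ := h ((snd X Y).left p)
  haveI := hv
  let O : (X ⊗ Y).left.Opens := (snd X Y).left ⁻¹ᵁ v.left.opensRange
  refine ⟨O, hp, ?_⟩
  have hr : Set.range (O.ι ≫ (snd X Y).left) ⊆ Set.range v.left := by
    rintro _ ⟨q, rfl⟩
    exact q.2
  let u := IsOpenImmersion.lift v.left (O.ι ≫ (snd X Y).left) hr
  have hu : u ≫ v.left = O.ι ≫ (snd X Y).left := IsOpenImmersion.lift_fac _ _ _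
  let T : Over (Spec (CommRingCat.of k)) := Over.mk (O.ι ≫ (X ⊗ Y).hom)
  let o : T ⟶ X ⊗ Y := Over.homMk O.ι rfl
  let u' : T ⟶ V := Over.homMk u (by
    show u ≫ V.hom = O.ι ≫ (X ⊗ Y).hom
    rw [← Over.w v, reassoc_of% hu, Over.w (snd X Y)])
  have ho : lift (o ≫ fst X Y) u' ≫ (X ◁ v) = o := by
    apply CartesianMonoidalCategory.hom_ext
    · simp
    · simp only [Category.assoc, whiskerLeft_snd, lift_snd_assoc]
      exact Over.OverMorphism.ext hu
  have := congrArg (fun m => (lift (o ≫ fst X Y) u' ≫ m).left) he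
  simp only [← Category.assoc, ho] at this
  exact this

/-- Rigidity over an irreducible reduced base. -/
theorem eq_of_isReduced [IsLocallyNoetherian Y.left] [IrreducibleSpace Y.left] [IsReduced Y.left] [IsSeparated Z.hom]
    (x₀ : 𝟙_ (Over (Spec (CommRingCat.of k))) ⟶ X) (f : X ⊗ Y ⟶ Z) (y : Y.left) (hy : IsClosed {y})
    (hf : ∀ p, (snd X Y).left p = y → f.left p = (lift (toUnit Y ≫ x₀) (𝟙 Y) ≫ f).left y) :
    f = snd X Y ≫ lift (toUnit Y ≫ x₀) (𝟙 Y) ≫ f := by
  obtain ⟨V, v, hv, hyV, he⟩ := eq_near x₀ f y hy hf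
  haveI := hv
  haveI : Nonempty V.left := by obtain ⟨q, -⟩ := hyV; exact ⟨q⟩
  haveI : QuasiCompact v.left := inferInstance
  haveI : IsDominant v.left := ⟨v.left.isOpenEmbedding.isOpen_range.dense ⟨y, hyV⟩⟩
  haveI : IsSchemeTheoreticallyDominant v.left := IsSchemeTheoreticallyDominant.of_isDominant _
  have hsq : IsPullback (X ◁ v).left (snd X V).left (snd X Y).left v.left := by
    refine IsPullback.of_right ?_ ((Over.comp_left _ _ _ _ _).symm.trans ((congrArg (·.left) (whiskerLeft_snd X v)).trans (Over.comp_left _ _ _ _ _)))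
      (IsPullback.of_hasPullback X.hom Y.hom)
    show IsPullback ((X ◁ v).left ≫ (fst X Y).left) _ _ _
    rw [← Over.comp_left, whiskerLeft_fst, Over.w v]
    exact IsPullback.of_hasPullback X.hom V.hom
  haveI : Flat (snd X Y).left := inferInstanceAs (Flat (pullback.snd X.hom Y.hom))
  haveI : IsSchemeTheoreticallyDominant (X ◁ v).left := IsSchemeTheoreticallyDominant.of_isPullback hsq.flip
  apply Over.OverMorphism.ext
  exact H19Grp.ext_of_ker_eq_bot (X ◁ v).left (Scheme.Hom.ker_eq_bot _) Z.hom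
    ((Over.w f).trans (Over.w _).symm) (congrArg (·.left) he)

/-- Rigidity over a connected base, algebraically closed field. -/
theorem eq_of_algClosed [IsAlgClosed k] [LocallyOfFiniteType X.hom] [LocallyOfFiniteType Y.hom]
    [PreconnectedSpace Y.left] [IsSeparated Z.hom]
    (x₀ : 𝟙_ (Over (Spec (CommRingCat.of k))) ⟶ X) (f : X ⊗ Y ⟶ Z) (y₀ : Y.left) (hy₀ : IsClosed {y₀})
    (hf : ∀ p, (snd X Y).left p = y₀ → f.left p = (lift (toUnit Y ≫ x₀) (𝟙 Y) ≫ f).left y₀) :
    f = snd X Y ≫ lift (toUnit Y ≫ x₀) (𝟙 Y) ≫ f := by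
  haveI : IsNoetherianRing (CommRingCat.of k) := inferInstanceAs (IsNoetherianRing k)
  haveI : IsLocallyNoetherian Y.left := LocallyOfFiniteType.isLocallyNoetherian Y.hom
  haveI := LocallyOfFiniteType.jacobsonSpace Y.hom
  haveI : LocallyOfFiniteType (X ⊗ Y).hom := inferInstanceAs (LocallyOfFiniteType (pullback.fst X.hom Y.hom ≫ X.hom))
  haveI := LocallyOfFiniteType.jacobsonSpace (X ⊗ Y).hom
  let g := lift (toUnit Y ≫ x₀) (𝟙 Y) ≫ f
  let S : Set Y.left := {y | ∃ (V : Over (Spec (CommRingCat.of k))) (v : V ⟶ Y), IsOpenImmersion v.left ∧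
      y ∈ Set.range v.left ∧ (X ◁ v) ≫ f = (X ◁ v) ≫ snd X Y ≫ g}
  have hS : IsOpen S := by
    rw [isOpen_iff_forall_mem_open]
    rintro y ⟨V, v, hv, hy, he⟩
    exact ⟨Set.range v.left, fun z hz => ⟨V, v, hv, hz, he⟩, (haveI := hv; v.left.isOpenEmbedding.isOpen_range), hy⟩
  have hSc : IsClosed S := by
    rw [← closure_subset_iff_isClosed]
    by_contra hne
    obtain ⟨y, ⟨hy, hyS⟩, hyc⟩ := nonempty_inter_closedPoints (Z := closure S \ S)
      (Set.diff_nonempty.mpr hne) (isClosed_closure.isLocallyClosed.inter hS.isClosed_compl.isLocallyClosed)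
    apply hyS
    obtain ⟨b, hb⟩ := (pointEquivClosedPoint Y.hom).surjective ⟨y, hyc⟩
    have hb' : b.1 (IsLocalRing.closedPoint k) = y := congrArg Subtype.val hb
    have hgy : IsClosed {g.left y} := by
      have h := isClosed_point (Over.homMk b.1 (by exact b.2) ≫ g)
      rw [Over.comp_left, Scheme.Hom.comp_apply] at h
      exact hb' ▸ h
    have hcl : IsClosed ((snd X Y).left ⁻¹' {y}) := hyc.preimage (snd X Y).left.continuous
    have hA : IsClosed (f.left ⁻¹' {g.left y}) := hgy.preimage f.left.continuous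
    have hsub : (snd X Y).left ⁻¹' {y} ⊆ f.left ⁻¹' {g.left y} := by
      by_contra hne'
      obtain ⟨p, ⟨hp, hpA⟩, hpc⟩ := nonempty_inter_closedPoints (Set.diff_nonempty.mpr hne')
        (hcl.isLocallyClosed.inter hA.isOpen_compl.isLocallyClosed)
      apply hpA
      obtain ⟨r, hr⟩ := (pointEquivClosedPoint (X ⊗ Y).hom).surjective ⟨p, hpc⟩
      have hr' : r.1 (IsLocalRing.closedPoint k) = p := congrArg Subtype.val hr
      let r' : 𝟙_ (Over (Spec (CommRingCat.of k))) ⟶ X ⊗ Y := Over.homMk r.1 (by exact r.2)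
      let a := r' ≫ fst X Y
      let m := lift (toUnit Y ≫ a) (𝟙 Y) ≫ f
      have hm : m.left y = g.left y := by
        haveI : IsClosedImmersion (equalizer.ι m g).left := inferInstance
        have hsub : S ⊆ Set.range (equalizer.ι m g).left := by
          rintro z ⟨V, v, hv, ⟨w, rfl⟩, he⟩
          have e : v ≫ m = v ≫ g := by
            have := congrArg (lift (toUnit V ≫ a) (𝟙 V) ≫ ·) he
            simp only [← Category.assoc, lift_whiskerLeft, Category.id_comp] at this
            rw [lift_snd] at this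
            simp only [m, ← Category.assoc, comp_lift, Category.comp_id]
            rw [toUnit_unique (v ≫ toUnit Y) (toUnit V)]
            exact this
          exact ⟨(equalizer.lift v e).left w, by rw [← Scheme.Hom.comp_apply, ← Over.comp_left, equalizer.lift_ι]⟩
        obtain ⟨z, rfl⟩ := closure_minimal hsub (equalizer.ι m g).left.isClosedEmbedding.isClosed_range hy
        rw [← Scheme.Hom.comp_apply, ← Scheme.Hom.comp_apply, ← Over.comp_left, ← Over.comp_left, equalizer.condition]
      show f.left p ∈ ({g.left y} : Set Z.left)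
      rw [Set.mem_singleton_iff, ← hm]
      have hpy : (r' ≫ snd X Y).left (IsLocalRing.closedPoint k) = y := by
        rw [Over.comp_left, Scheme.Hom.comp_apply]
        exact hr' ▸ hp
      rw [← hpy]
      show f.left p = _
      rw [← Scheme.Hom.comp_apply, ← Over.comp_left]
      have e : (r' ≫ snd X Y) ≫ m = r' ≫ f := by
        simp only [m, ← Category.assoc]
        congr 1
        apply CartesianMonoidalCategory.hom_ext
        · simp only [Category.assoc, lift_fst]
          rw [← Category.assoc (snd X Y), ← Category.assoc r', toUnit_unique (r' ≫ snd X Y ≫ toUnit Y) (𝟙 _), Category.id_comp]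
        · simp
      rw [e, Over.comp_left, Scheme.Hom.comp_apply, ← hr']
      rfl
    exact eq_near x₀ f y hyc fun p hp => hsub hp
  have huniv : S = Set.univ := IsClopen.eq_univ ⟨hSc, hS⟩ ⟨y₀, eq_near x₀ f y₀ hy₀ hf⟩
  exact eq_of_cover fun y => (huniv.ge (Set.mem_univ y) : y ∈ S)

/-- Morphisms are determined after extension of the base field. -/
theorem eq_of_map {L : Type u} [Field L] (π : Spec (CommRingCat.of L) ⟶ Spec (CommRingCat.of k))
    {P W : Over (Spec (CommRingCat.of k))} {a b : P ⟶ W}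
    (h : (Over.pullback π).map a = (Over.pullback π).map b) : a = b := by
  haveI : Surjective π := ⟨fun x => ⟨IsLocalRing.closedPoint L, Subsingleton.elim (α := PrimeSpectrum k) _ x⟩⟩
  haveI : Epi (pullback.fst P.hom π) := Flat.epi_of_flat_of_surjective _
  apply Over.OverMorphism.ext
  rw [← cancel_epi (pullback.fst P.hom π)]
  have h' := congrArg (fun m => m.left ≫ pullback.fst W.hom π) h
  simpa only [Over.pullback_map_left, pullback.lift_fst] using h'

open Functor in
/-- Rigidity over a connected base with a rational point. -/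
theorem eq_of_connected [LocallyOfFiniteType X.hom] [LocallyOfFiniteType Y.hom] [ConnectedSpace Y.left] [IsSeparated Z.hom]
    (x₀ : 𝟙_ (Over (Spec (CommRingCat.of k))) ⟶ X) (y₀ : 𝟙_ (Over (Spec (CommRingCat.of k))) ⟶ Y)
    (z₀ : 𝟙_ (Over (Spec (CommRingCat.of k))) ⟶ Z) (f : X ⊗ Y ⟶ Z) (hf : (X ◁ y₀) ≫ f = toUnit _ ≫ z₀) :
    f = snd X Y ≫ lift (toUnit Y ≫ x₀) (𝟙 Y) ≫ f := by
  let L := AlgebraicClosure k
  let π : Spec (CommRingCat.of L) ⟶ Spec (CommRingCat.of k) := Spec.map (CommRingCat.ofHom (algebraMap k L))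
  apply eq_of_map π
  let B := Over.pullback π
  haveI : LocallyOfFiniteType (B.obj X).hom := by dsimp [B]; infer_instance
  haveI : LocallyOfFiniteType (B.obj Y).hom := by dsimp [B]; infer_instance
  haveI : QuasiCompact (B.obj X).hom := by dsimp [B]; infer_instance
  haveI : QuasiSeparated (B.obj X).hom := by dsimp [B]; infer_instance
  haveI : IsSeparated (B.obj Z).hom := by dsimp [B]; infer_instance
  haveI : IsIso (B.obj X).hom.appTop :=
    AntiAffine.isIso_appTop_baseChange (p := (B.obj X).hom) (IsPullback.of_hasPullback X.hom π).flip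
  haveI : GeometricallyConnected Y.hom := H28NT.geometricallyConnected_of_section Y.hom y₀.left (Over.w y₀)
  haveI : ConnectedSpace (B.obj Y).left :=
    GeometricallyConnected.geometrically_connectedSpace (f := Y.hom) π _ _ (IsPullback.of_hasPullback Y.hom π)
  let x₁ := LaxMonoidal.ε B ≫ B.map x₀
  let y₁ := LaxMonoidal.ε B ≫ B.map y₀
  let z₁ := LaxMonoidal.ε B ≫ B.map z₀
  let F := LaxMonoidal.μ B X Y ≫ B.map f
  have hF : (B.obj X ◁ y₁) ≫ F = toUnit _ ≫ z₁ := by
    simp only [F, y₁, z₁, MonoidalCategory.whiskerLeft_comp, Category.assoc, LaxMonoidal.μ_natural_right_assoc,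
      ← Functor.map_comp, hf]
    rw [Functor.map_comp, ← Category.assoc (B.obj X ◁ _), ← Category.assoc, ← Category.assoc (toUnit _)]
    congr 1
    rw [← cancel_mono (OplaxMonoidal.η B)]
    exact toUnit_unique _ _
  have h := eq_of_algClosed (X := B.obj X) (Y := B.obj Y) (Z := B.obj Z) x₁ F (y₁.left (IsLocalRing.closedPoint L))
    (isClosed_point_of_lft y₁) (slice_of_const x₁ y₁ z₁ F hF)
  haveI : IsIso (LaxMonoidal.μ B X Y) := inferInstance
  rw [← cancel_epi (LaxMonoidal.μ B X Y)]
  refine h.trans ?_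
  show snd _ _ ≫ lift (toUnit _ ≫ x₁) (𝟙 _) ≫ LaxMonoidal.μ B X Y ≫ B.map f = _
  simp only [Functor.map_comp]
  rw [← Category.assoc (LaxMonoidal.μ B X Y), Functor.Monoidal.μ_snd]
  congr 1
  rw [← Category.assoc]
  congr 1
  rw [← cancel_mono (OplaxMonoidal.δ B X Y), Category.assoc, Functor.Monoidal.μ_δ, Category.comp_id]
  apply CartesianMonoidalCategory.hom_ext
  · rw [lift_fst, Category.assoc, OplaxMonoidal.δ_fst, ← Functor.map_comp, lift_fst, Functor.map_comp]
    simp only [x₁, ← Category.assoc]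
    congr 1
    rw [← cancel_mono (OplaxMonoidal.η B)]
    exact toUnit_unique _ _
  · rw [lift_snd, Category.assoc, OplaxMonoidal.δ_snd, ← Functor.map_comp, lift_snd, CategoryTheory.Functor.map_id]

end Groth.Agent.H19Grp.AntiAffineRigid
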