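import Mathlib
import Groth.Agent.H19Grp.AntiAffineRigidGlobal
import Groth.Agent.H19Grp.AffinizationKernel
import Groth.Agent.H19Grp.PointsEq
import Groth.Agent.H19Grp.ImageFactor
import Groth.Agent.H13AlgSp.MonoIso

/-!
Anti-affine groups: commutative, central in connected groups, pointed morphisms are homomorphisms.
-/

set_option autoImplicit false
set_option maxHeartbeats 1000000
set_option synthInstance.maxHeartbeats 100000
set_option linter.style.haveILetI false
set_option backward.isDefEq.respectTransparency false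

universe u

open CategoryTheory CategoryTheory.Limits MonoidalCategory CartesianMonoidalCategory MonObj GrpObj
  AlgebraicGeometry

namespace Groth.Agent.H19Grp.AntiAffineGroup

variable {k : Type u} [Field k]

/-- Rigidity on points: a slice with constant value makes a morphism independent of the anti-affine factor. -/
theorem pt_eq {X Y Z : Over (Spec (CommRingCat.of k))} [LocallyOfFiniteType X.hom] [QuasiCompact X.hom]
    [IsIso X.hom.appTop] [LocallyOfFiniteType Y.hom] [ConnectedSpace Y.left] [IsSeparated Z.hom]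
    (x₀ : 𝟙_ (Over (Spec (CommRingCat.of k))) ⟶ X) (y₀ : 𝟙_ (Over (Spec (CommRingCat.of k))) ⟶ Y)
    (z₀ : 𝟙_ (Over (Spec (CommRingCat.of k))) ⟶ Z) (f : X ⊗ Y ⟶ Z)
    (h : ∀ {T : Over (Spec (CommRingCat.of k))} (x : T ⟶ X), lift x (toUnit T ≫ y₀) ≫ f = toUnit T ≫ z₀)
    {T : Over (Spec (CommRingCat.of k))} (x : T ⟶ X) (y : T ⟶ Y) :
    lift x y ≫ f = lift (toUnit T ≫ x₀) y ≫ f := by
  haveI : IsNoetherianRing (CommRingCat.of k) := inferInstanceAs (IsNoetherianRing k)
  haveI : IsLocallyNoetherian X.left := LocallyOfFiniteType.isLocallyNoetherian X.hom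
  haveI : QuasiSeparated X.hom := inferInstance
  have hf : (X ◁ y₀) ≫ f = toUnit _ ≫ z₀ := by
    rw [← h (fst X (𝟙_ _))]
    congr 1
    apply CartesianMonoidalCategory.hom_ext
    · simp
    · rw [lift_snd, whiskerLeft_snd, toUnit_unique (snd X (𝟙_ _)) (toUnit _)]
  have e := congrArg (lift x y ≫ ·) (AntiAffineRigid.eq_of_connected x₀ y₀ z₀ f hf)
  simp only [lift_snd_assoc] at e
  rw [e, ← Category.assoc, comp_lift, Category.comp_id, ← Category.assoc, toUnit_unique (y ≫ toUnit Y) (toUnit T)]

variable {G H : Over (Spec (CommRingCat.of k))} [GrpObj G] [GrpObj H]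
  [LocallyOfFiniteType H.hom] [QuasiCompact H.hom] [IsIso H.hom.appTop]

/-- Anti-affine groups are connected. -/
theorem connectedSpace (H : Over (Spec (CommRingCat.of k))) [GrpObj H] [IsIso H.hom.appTop] : ConnectedSpace H.left :=
  haveI : Nonempty H.left := ⟨η[H].left (IsLocalRing.closedPoint k)⟩
  AntiAffine.connectedSpace_of_isIso_appTop H.hom

/-- Homomorphisms from an anti-affine group to a connected group are central. -/
theorem central [LocallyOfFiniteType G.hom] [ConnectedSpace G.left] (φ : H ⟶ G) [IsMonHom φ]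
    {T : Over (Spec (CommRingCat.of k))} (x : T ⟶ H) (g : T ⟶ G) : (x ≫ φ) * g = g * (x ≫ φ) := by
  haveI := PointsDense.isSeparated_grp G
  let f : H ⊗ G ⟶ G := (fst H G ≫ φ) * snd H G * (fst H G ≫ φ)⁻¹
  have hpt : ∀ {T : Over (Spec (CommRingCat.of k))} (x : T ⟶ H) (g : T ⟶ G),
      lift x g ≫ f = (x ≫ φ) * g * (x ≫ φ)⁻¹ := fun x g => by
    simp only [f, MonObj.comp_mul, GrpObj.comp_inv, lift_fst_assoc, lift_snd]
  have h := pt_eq η[H] η[G] η[G] f (fun {T} x => by
    rw [hpt, ← Hom.one_def, _root_.mul_one, mul_inv_cancel]) x g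
  rw [hpt, hpt, Category.assoc, IsMonHom.one_hom φ, ← Hom.one_def, _root_.one_mul, inv_one, _root_.mul_one,
    mul_inv_eq_iff_eq_mul] at h
  exact h

/-- Anti-affine groups are commutative. -/
theorem isCommMonObj (H : Over (Spec (CommRingCat.of k))) [GrpObj H] [LocallyOfFiniteType H.hom] [QuasiCompact H.hom]
    [IsIso H.hom.appTop] : IsCommMonObj H := by
  haveI := connectedSpace H
  haveI : IsMonHom (𝟙 H) := inferInstance
  refine ⟨?_⟩
  have h := central (G := H) (𝟙 H) (snd H H) (fst H H)
  simp only [Category.comp_id, Hom.mul_def, lift_fst_snd, Category.id_comp] at h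
  rw [← h]
  congr 1

/-- Pointed morphisms from anti-affine groups to groups are homomorphisms. -/
theorem isMonHom_of_one_hom [LocallyOfFiniteType G.hom] (f : H ⟶ G) (hf : η[H] ≫ f = η[G]) : IsMonHom f := by
  haveI := PointsDense.isSeparated_grp G
  haveI := connectedSpace H
  have h1 : ∀ (T : Over (Spec (CommRingCat.of k))), (1 : T ⟶ H) ≫ f = 1 := fun T => by
    rw [Hom.one_def, Category.assoc, hf, Hom.one_def]
  let F : H ⊗ H ⟶ G := ((fst H H * snd H H) ≫ f) * (snd H H ≫ f)⁻¹ * (fst H H ≫ f)⁻¹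
  have hpt : ∀ {T : Over (Spec (CommRingCat.of k))} (x y : T ⟶ H),
      lift x y ≫ F = ((x * y) ≫ f) * (y ≫ f)⁻¹ * (x ≫ f)⁻¹ := fun x y => by
    simp only [F, MonObj.comp_mul, GrpObj.comp_inv, lift_fst_assoc, lift_snd_assoc]
    rw [← Category.assoc, MonObj.comp_mul, lift_fst, lift_snd]
  refine ⟨hf, ?_⟩
  have h := pt_eq η[H] η[H] η[G] F (fun {T} x => by
    rw [hpt, ← Hom.one_def, _root_.mul_one, h1, inv_one, _root_.mul_one, mul_inv_cancel, Hom.one_def]) (fst H H) (snd H H)
  rw [hpt, hpt, ← Hom.one_def, _root_.one_mul, h1, inv_one, mul_inv_cancel, _root_.one_mul, mul_inv_eq_one,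
    mul_inv_eq_iff_eq_mul] at h
  rw [Hom.mul_def, lift_fst_snd, Category.id_comp] at h
  rw [h, Hom.mul_def]
  congr 1

/-- Constant functions pass to flat surjective images. -/
theorem isIso_appTop_of_flat_surjective {X Y : Over (Spec (CommRingCat.of k))} [IsIso X.hom.appTop] (p : X ⟶ Y)
    [Flat p.left] [Surjective p.left] : IsIso Y.hom.appTop := by
  have h : Y.hom.appTop ≫ p.left.appTop = X.hom.appTop := by rw [← Scheme.Hom.comp_appTop, Over.w p]
  rw [ConcreteCategory.isIso_iff_bijective]
  have hb := ConcreteCategory.bijective_of_isIso X.hom.appTop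
  refine ⟨fun a b hab => hb.1 ?_, fun y => ?_⟩
  · rw [← h, CommRingCat.comp_apply, CommRingCat.comp_apply, hab]
  · obtain ⟨a, ha⟩ := hb.2 (p.left.appTop y)
    refine ⟨a, H13AlgSp.MonoIso.appTop_injective_of_flat_surjective p.left ?_⟩
    rw [← ha, ← h, CommRingCat.comp_apply]

/-- Homomorphisms from anti-affine groups to affine groups are trivial. -/
theorem eq_one_of_isAffine [IsAffine G.left] (f : H ⟶ G) (hf : η[H] ≫ f = η[G]) : f = 1 := by
  obtain ⟨c, rfl⟩ := AntiAffineSmooth.exists_eq_toUnit f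
  rw [← Category.assoc, toUnit_unique (η[H] ≫ toUnit H) (𝟙 _), Category.id_comp] at hf
  rw [hf, Hom.one_def]

/-- The image of an anti-affine group is anti-affine. -/
theorem exists_image [LocallyOfFiniteType G.hom] [QuasiCompact G.hom] (f : H ⟶ G) [IsMonHom f] :
    ∃ (C : Over (Spec (CommRingCat.of k))) (_ : GrpObj C) (p : H ⟶ C) (i : C ⟶ G), IsMonHom i ∧ p ≫ i = f ∧
      IsClosedImmersion i.left ∧ IsIso C.hom.appTop ∧ LocallyOfFiniteType C.hom ∧ QuasiCompact C.hom := by
  haveI : IsNoetherianRing (CommRingCat.of k) := inferInstanceAs (IsNoetherianRing k)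
  haveI : IsLocallyNoetherian G.left := LocallyOfFiniteType.isLocallyNoetherian G.hom
  haveI : QuasiSeparated G.hom := inferInstance
  haveI : QuasiCompact f.left := by
    haveI : QuasiCompact (f.left ≫ G.hom) := by rw [Over.w f]; infer_instance
    exact QuasiCompact.of_comp f.left G.hom
  obtain ⟨C, gC, p, i, -, hi, hpi, hfl, hs, -, hcl, hC, -⟩ := ImageFactor.exists_image_factor H G f (by
    have h : ∀ {X : Scheme.{u}} (g : X ⟶ Spec (CommRingCat.of k)), Flat g := fun g => inferInstance
    exact h _)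
  haveI := hcl
  haveI : QuasiCompact C.hom := by rw [← Over.w i]; infer_instance
  exact ⟨C, gC, p, i, hi, hpi, hcl, isIso_appTop_of_flat_surjective p, hC, inferInstance⟩

omit [LocallyOfFiniteType H.hom] [QuasiCompact H.hom] [IsIso H.hom.appTop] in
/-- A group whose affinization map is trivial has only constant functions. -/
theorem isIso_appTop_of_rho_const (G : Over (Spec (CommRingCat.of k))) [GrpObj G]
    (c : 𝟙_ (Over (Spec (CommRingCat.of k))) ⟶ Affinization.aff G) (hc : Affinization.rho G = toUnit G ≫ c) :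
    IsIso G.hom.appTop := by
  haveI : Nonempty G.left := ⟨η[G].left (IsLocalRing.closedPoint k)⟩
  have h : (Affinization.rho G).left.appTop = c.left.appTop ≫ G.hom.appTop := by
    rw [hc, Over.comp_left, Scheme.Hom.comp_appTop, AntiAffineRigid.toUnit_left]
  rw [ConcreteCategory.isIso_iff_bijective]
  refine ⟨fun a b hab => ?_, fun y => ?_⟩
  · have e := congrArg η[G].left.appTop hab
    rw [← CommRingCat.comp_apply, ← CommRingCat.comp_apply, ← Scheme.Hom.comp_appTop, Over.w η[G]] at e
    have hi : Function.Bijective (𝟙_ (Over (Spec (CommRingCat.of k)))).hom.appTop := by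
      show Function.Bijective (Scheme.Hom.appTop (𝟙 (Spec (CommRingCat.of k))))
      rw [Scheme.Hom.id_appTop]; exact Function.bijective_id
    exact hi.1 e
  · obtain ⟨a, ha⟩ := (ConcreteCategory.bijective_of_isIso (Affinization.rho G).left.appTop).2 y
    exact ⟨c.left.appTop a, by rw [← ha, h]; rfl⟩

end Groth.Agent.H19Grp.AntiAffineGroup
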