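import Groth.Agent.H19Grp.Components
import Groth.Agent.H19Grp.GrpToGrpd

/-!
# The intersection of the clopen neighbourhoods of a point as a flat closed subscheme,
and the identity component of a group scheme over a field
-/

set_option autoImplicit false
set_option linter.style.haveILetI false
set_option backward.isDefEq.respectTransparency false

universe u

open CategoryTheory Limits AlgebraicGeometry

namespace Groth.Agent.H19Grp

section scheme

variable {X : Scheme.{u}} (x : X)

/-- The closed subscheme cut out by all clopen neighbourhoods of a point. -/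
noncomputable def clopenIdeal : X.IdealSheafData :=
  ⨆ W : {W : X.Opens // IsClosed (W : Set X) ∧ x ∈ W}, W.1.ι.ker

theorem quasiCompact_ι_of_isClosed {W : X.Opens} (h : IsClosed (W : Set X)) : QuasiCompact W.ι := by
  refine ⟨fun V hV hVc => ?_⟩
  rw [W.ι.isOpenEmbedding.isInducing.isCompact_iff, Set.image_preimage_eq_inter_range,
    Scheme.Opens.range_ι]
  exact hVc.inter_right h

theorem support_clopenIdeal :
    ((clopenIdeal x).support : Set X) = ⋂ W : {W : X.Opens // IsClosed (W : Set X) ∧ x ∈ W}, (W.1 : Set X) := by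
  rw [clopenIdeal, Scheme.IdealSheafData.support_iSup, TopologicalSpace.Closeds.coe_iInf]
  refine Set.iInter_congr fun W => ?_
  haveI := quasiCompact_ι_of_isClosed W.2.1
  rw [Scheme.Hom.support_ker]
  show closure (Set.range W.1.ι) = _
  rw [Scheme.Opens.range_ι, W.2.1.closure_eq]

/-- A morphism landing in every clopen neighbourhood factors through the subscheme. -/
theorem clopenIdeal_le_ker {T : Scheme.{u}} (f : T ⟶ X)
    (h : ∀ W : X.Opens, IsClosed (W : Set X) → x ∈ W → Set.range f ⊆ W) :
    clopenIdeal x ≤ f.ker := by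
  refine iSup_le fun W => ?_
  have hf : IsOpenImmersion.lift W.1.ι f (by
      rw [Scheme.Opens.range_ι]; exact h W.1 W.2.1 W.2.2) ≫ W.1.ι = f :=
    IsOpenImmersion.lift_fac _ _ _
  rw [← hf]
  exact Scheme.Hom.le_ker_comp _ _

theorem exists_mul_eq_of_mem_ker {W : X.Opens} (hW : IsClosed (W : Set X)) (U : X.affineOpens)
    (a : Γ(X, U.1)) (ha : a ∈ W.ι.ker.ideal U) : ∃ e ∈ W.ι.ker.ideal U, a = a * e := by
  haveI := quasiCompact_ι_of_isClosed hW
  have hker : ∀ b : Γ(X, U.1), b ∈ W.ι.ker.ideal U ↔
      X.presheaf.map (homOfLE (inf_le_left : U.1 ⊓ W ≤ U.1)).op b = 0 := by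
    intro b
    rw [Scheme.Hom.ker_apply, RingHom.mem_ker, Scheme.Opens.ι_app]
    have heq : W.ι ''ᵁ W.ι ⁻¹ᵁ U.1 = U.1 ⊓ W := by
      rw [Scheme.Hom.image_preimage_eq_opensRange_inf, Scheme.Opens.opensRange_ι, inf_comm]
    constructor
    · intro hb
      have := congrArg (X.presheaf.map (eqToHom heq.symm).op) hb
      rw [map_zero] at this
      refine Eq.trans ?_ this
      show _ = ((X.presheaf.map _) ≫ (X.presheaf.map _)) b
      rw [← Functor.map_comp]
      rfl
    · intro hb
      have := congrArg (X.presheaf.map (eqToHom heq).op) hb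
      rw [map_zero] at this
      refine Eq.trans ?_ this
      show _ = ((X.presheaf.map _) ≫ (X.presheaf.map _)) b
      rw [← Functor.map_comp]
      rfl
  have hclopen : IsClopen (U.2.fromSpec ⁻¹' ((W : Set X)ᶜ)) :=
    ⟨(W.2.isClosed_compl).preimage U.2.fromSpec.continuous,
      hW.isOpen_compl.preimage U.2.fromSpec.continuous⟩
  obtain ⟨e, he, hes⟩ := PrimeSpectrum.exists_idempotent_basicOpen_eq_of_isClopen hclopen
  have hbe : (X.basicOpen e : Set X) = (U.1 : Set X) ∩ (W : Set X)ᶜ := by
    have h1 : U.2.fromSpec ⁻¹ᵁ X.basicOpen e = PrimeSpectrum.basicOpen e :=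
      U.2.fromSpec_preimage_basicOpen e
    have h2 : (U.2.fromSpec ⁻¹' (X.basicOpen e : Set X)) = U.2.fromSpec ⁻¹' ((W : Set X)ᶜ) := by
      rw [hes]
      exact congrArg SetLike.coe h1
    have h3 := congrArg (U.2.fromSpec '' ·) h2
    simp only [Set.image_preimage_eq_inter_range, U.2.range_fromSpec] at h3
    rw [Set.inter_eq_left.mpr (X.basicOpen_le e), Set.inter_comm] at h3
    exact h3
  have hzero : ∀ b : Γ(X, U.1), IsIdempotentElem b → ∀ O : X.Opens, ∀ hO : O ≤ U.1,
      IsCompact (O : Set X) → O ⊓ X.basicOpen b = ⊥ →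
      X.presheaf.map (homOfLE hO).op b = 0 := by
    intro b hb O hO hOc hdisj
    have hn : IsNilpotent (X.presheaf.map (homOfLE hO).op b) := by
      rw [Scheme.isNilpotent_iff_basicOpen_eq_bot_of_isCompact hOc, Scheme.basicOpen_res]
      exact hdisj
    exact (hb.map (X.presheaf.map (homOfLE hO).op).hom).eq_zero_of_isNilpotent hn
  have hcW : IsCompact ((U.1 ⊓ W : X.Opens) : Set X) := U.2.isCompact.inter_right hW
  have heI : e ∈ W.ι.ker.ideal U := by
    rw [hker]
    refine hzero e he _ inf_le_left hcW ?_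
    ext z
    simp only [TopologicalSpace.Opens.coe_inf, Set.mem_inter_iff, hbe, Set.mem_compl_iff,
      TopologicalSpace.Opens.coe_bot, Set.mem_empty_iff_false, iff_false]
    tauto
  refine ⟨e, heI, ?_⟩
  -- check on the two pieces
  let Wc : X.Opens := ⟨(W : Set X)ᶜ, hW.isOpen_compl⟩
  have hcWc : IsCompact ((U.1 ⊓ Wc : X.Opens) : Set X) := U.2.isCompact.inter_right W.2.isClosed_compl
  have hsub : X.presheaf.map (homOfLE (inf_le_left : U.1 ⊓ Wc ≤ U.1)).op (1 - e) = 0 := by
    refine hzero (1 - e) he.one_sub _ inf_le_left hcWc ?_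
    ext z
    simp only [TopologicalSpace.Opens.coe_inf, Set.mem_inter_iff,
      TopologicalSpace.Opens.coe_bot, Set.mem_empty_iff_false, iff_false]
    rintro ⟨⟨hzU, hzc⟩, hz⟩
    have hze : z ∈ (X.basicOpen e : Set X) := by rw [hbe]; exact ⟨hzU, hzc⟩
    have hmul : z ∈ X.basicOpen (e * (1 - e)) := by rw [X.basicOpen_mul]; exact ⟨hze, hz⟩
    rw [mul_sub, mul_one, he.eq, sub_self, X.basicOpen_zero] at hmul
    exact hmul
  rw [← sub_eq_zero, ← mul_one_sub]
  apply TopCat.Sheaf.eq_of_locally_eq' X.sheaf (fun b : Bool => cond b (U.1 ⊓ W) (U.1 ⊓ Wc)) U.1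
    (fun b => homOfLE (by cases b <;> exact inf_le_left))
  · intro z hz
    rw [TopologicalSpace.Opens.mem_iSup]
    by_cases hzW : z ∈ W
    · exact ⟨true, hz, hzW⟩
    · exact ⟨false, hz, hzW⟩
  · intro b
    cases b
    · show X.presheaf.map _ _ = X.presheaf.map _ 0
      rw [map_zero, map_mul]
      exact mul_eq_zero_of_right _ hsub
    · show X.presheaf.map _ _ = X.presheaf.map _ 0
      rw [map_zero, map_mul]
      exact mul_eq_zero_of_left ((hker a).mp ha) _

theorem exists_mul_eq_of_mem_clopenIdeal (U : X.affineOpens) (a : Γ(X, U.1))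
    (ha : a ∈ (clopenIdeal x).ideal U) : ∃ e ∈ (clopenIdeal x).ideal U, a = a * e := by
  rw [clopenIdeal, Scheme.IdealSheafData.ideal_iSup, iSup_apply] at ha ⊢
  haveI : Nonempty {W : X.Opens // IsClosed (W : Set X) ∧ x ∈ W} :=
    ⟨⟨⊤, by simp, trivial⟩⟩
  have hdir : Directed (· ≤ ·) fun W : {W : X.Opens // IsClosed (W : Set X) ∧ x ∈ W} =>
      W.1.ι.ker.ideal U := by
    intro W₁ W₂
    refine ⟨⟨W₁.1 ⊓ W₂.1, W₁.2.1.inter W₂.2.1, W₁.2.2, W₂.2.2⟩, ?_, ?_⟩
    · show W₁.1.ι.ker.ideal U ≤ (W₁.1 ⊓ W₂.1).ι.ker.ideal U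
      rw [← X.homOfLE_ι (inf_le_left : W₁.1 ⊓ W₂.1 ≤ W₁.1)]
      exact (Scheme.Hom.le_ker_comp _ _) U
    · show W₂.1.ι.ker.ideal U ≤ (W₁.1 ⊓ W₂.1).ι.ker.ideal U
      rw [← X.homOfLE_ι (inf_le_right : W₁.1 ⊓ W₂.1 ≤ W₂.1)]
      exact (Scheme.Hom.le_ker_comp _ _) U
  rw [Submodule.mem_iSup_of_directed _ hdir] at ha
  obtain ⟨W, hW⟩ := ha
  obtain ⟨e, he, hae⟩ := exists_mul_eq_of_mem_ker W.2.1 U a hW
  exact ⟨e, Submodule.mem_iSup_of_mem W he, hae⟩

/-- The subscheme is flat over the ambient scheme. -/
theorem flat_clopenIdeal_subschemeι : Flat (clopenIdeal x).subschemeι := by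
  refine IsZariskiLocalAtSource.of_openCover (P := @Flat) (clopenIdeal x).subschemeCover.openCover
    fun U => ?_
  show Flat ((clopenIdeal x).subschemeCover.f U ≫ (clopenIdeal x).subschemeι)
  rw [Scheme.IdealSheafData.subschemeCover_map_subschemeι]
  haveI : Flat ((clopenIdeal x).glueDataObjι U) := by
    haveI : Flat (Spec.map (CommRingCat.ofHom (Ideal.Quotient.mk ((clopenIdeal x).ideal U)))) := by
      rw [Flat.SpecMap_iff]
      haveI : ((clopenIdeal x).ideal U).Pure := by
        refine Ideal.Pure.of_inf_eq_mul _ fun J _ => le_antisymm ?_ Ideal.mul_le_inf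
        intro a ha
        obtain ⟨e, he, hae⟩ := exists_mul_eq_of_mem_clopenIdeal x U a ha.1
        rw [hae, mul_comm a e]
        exact Ideal.mul_mem_mul he ha.2
      exact RingHom.flat_algebraMap_iff.mpr ‹_›
    unfold Scheme.IdealSheafData.glueDataObjι
    infer_instance
  infer_instance

end scheme

section group

open MonoidalCategory CartesianMonoidalCategory MonObj GrpObj

variable {K : Type u} [Field K] (G : Over (Spec (CommRingCat.of K))) [GrpObj G]

/-- The unit point of a group scheme over a field. -/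
local notation "pte" => ePt (grpToGrpd G) (Iso.refl _)

theorem clopen_iInter_eq :
    (⋂ W : {W : G.left.Opens // IsClosed (W : Set G.left) ∧ pte ∈ W}, (W.1 : Set G.left)) =
      connectedComponent (α := G.left) pte := by
  refine Set.Subset.antisymm ?_ (Set.subset_iInter fun W =>
    (IsClopen.connectedComponent_subset ⟨W.2.1, W.1.2⟩ W.2.2))
  intro y hy
  rw [show connectedComponent (α := G.left) pte = irreducibleComponent (X := G.left) pte from
    connectedComponent_eq_irreducibleComponent (grpToGrpd G) (Iso.refl _) pte,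
    mem_irreducibleComponent_iff_zeta (dirGen (grpToGrpd G) (Iso.refl _))]
  by_contra hne
  have hns : ¬ (zeta y ⤳ zeta pte) := fun h =>
    hne (eq_zeta_of_specializes (dirGen (grpToGrpd G) (Iso.refl _)) h)
  rw [not_specializes_iff_exists_open] at hns
  obtain ⟨O, hO, hxO, hyO⟩ := hns
  obtain ⟨_, ⟨(W : G.left.Opens), (hW : IsAffineOpen W), rfl⟩, hxW, hWO⟩ :=
    G.left.isBasis_affineOpens.exists_subset_of_mem_open hxO hO
  have hc := isClopen_sat (grpToGrpd G) (Iso.refl _) W hW.isCompact
  exact hyO (hWO (Set.mem_iInter.mp hy ⟨⟨_, hc.2⟩, hc.1, hxW⟩))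

/-- The underlying scheme of the identity component. -/
noncomputable def idComp : Over (Spec (CommRingCat.of K)) :=
  Over.mk ((clopenIdeal (X := G.left) pte).subschemeι ≫ G.hom)

/-- The inclusion of the identity component. -/
noncomputable def idCompι : idComp G ⟶ G :=
  Over.homMk (clopenIdeal (X := G.left) pte).subschemeι rfl

theorem range_idCompι : Set.range (idCompι G).left = connectedComponent (α := G.left) pte := by
  show Set.range (clopenIdeal (X := G.left) pte).subschemeι = _
  rw [Scheme.IdealSheafData.range_subschemeι, support_clopenIdeal]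
  exact clopen_iInter_eq G

instance : IsClosedImmersion (idCompι G).left :=
  inferInstanceAs (IsClosedImmersion (clopenIdeal (X := G.left) pte).subschemeι)

instance : Mono (idCompι G) := Over.mono_of_mono_left _

theorem idComp_lift {T : Over (Spec (CommRingCat.of K))} (f : T ⟶ G)
    (h : Set.range f.left ⊆ connectedComponent (α := G.left) pte) :
    ∃ g : T ⟶ idComp G, g ≫ idCompι G = f := by
  have hle : (idCompι G).left.ker ≤ f.left.ker := by
    show (clopenIdeal (X := G.left) pte).subschemeι.ker ≤ _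
    rw [Scheme.IdealSheafData.ker_subschemeι]
    exact clopenIdeal_le_ker _ _ fun W hW hx =>
      h.trans (IsClopen.connectedComponent_subset ⟨hW, W.2⟩ hx)
  refine ⟨Over.homMk (IsClosedImmersion.lift (idCompι G).left f.left hle) ?_,
    Over.OverMorphism.ext (IsClosedImmersion.lift_fac _ _ _)⟩
  rw [← Over.w (idCompι G), IsClosedImmersion.lift_fac_assoc, Over.w f]

theorem mem_component_iff (y : G.left) : y ∈ connectedComponent (α := G.left) pte ↔
    zeta y = zeta pte := by
  rw [show connectedComponent (α := G.left) pte = irreducibleComponent (X := G.left) pte from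
    connectedComponent_eq_irreducibleComponent (grpToGrpd G) (Iso.refl _) pte,
    mem_irreducibleComponent_iff_zeta (dirGen (grpToGrpd G) (Iso.refl _))]

theorem mul_mem_component (w : (G ⊗ G).left)
    (h1 : (fst G G).left w ∈ connectedComponent (α := G.left) pte)
    (h2 : (snd G G).left w ∈ connectedComponent (α := G.left) pte) :
    μ[G].left w ∈ connectedComponent (α := G.left) pte := by
  rw [← clopen_iInter_eq G, Set.mem_iInter] at h1 ⊢
  intro W
  have hd := dirGen (grpToGrpd G) (Iso.refl _)
  have hsat : sat (α := G.left) (W.1 : Set G.left) = W.1 := by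
    ext y
    exact ⟨fun hy => (zeta_specializes y).mem_closed W.2.1 hy,
      fun hy => W.1.2.stableUnderGeneralization (zeta_specializes y) hy⟩
  rw [← hsat, sat_eq_image (grpToGrpd G) (Iso.refl _) W.1 ⊤ trivial]
  refine ⟨w, ⟨h1 W, ?_, trivial⟩, rfl⟩
  rw [← connectedComponent_eq_irreducibleComponent (grpToGrpd G) (Iso.refl _) pte]
  exact h2

theorem exists_grpObj_idComp : ∃ (_ : GrpObj (idComp G)), IsMonHom (idCompι G) := by
  have hrange : ∀ {T : Over (Spec (CommRingCat.of K))} (f : T ⟶ idComp G),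
      Set.range (f ≫ idCompι G).left ⊆ connectedComponent (α := G.left) pte := by
    intro T f
    rw [← range_idCompι]
    rintro _ ⟨z, rfl⟩
    exact ⟨f.left z, rfl⟩
  obtain ⟨e₀, he₀⟩ := idComp_lift G η[G] (by
    rintro _ ⟨z, rfl⟩
    rw [show η[G].left z = pte from e_apply_eq (grpToGrpd G) (Iso.refl _) z]
    exact mem_connectedComponent)
  obtain ⟨m₀, hm₀⟩ := idComp_lift G ((idCompι G ⊗ₘ idCompι G) ≫ μ[G]) (by
    rintro _ ⟨z, rfl⟩
    show μ[G].left ((idCompι G ⊗ₘ idCompι G).left z) ∈ _
    apply mul_mem_component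
    · rw [← Scheme.Hom.comp_apply, ← Over.comp_left, tensorHom_fst]
      exact hrange _ ⟨z, rfl⟩
    · rw [← Scheme.Hom.comp_apply, ← Over.comp_left, tensorHom_snd]
      exact hrange _ ⟨z, rfl⟩)
  obtain ⟨i₀, hi₀⟩ := idComp_lift G (idCompι G ≫ ι[G]) (by
    rintro _ ⟨z, rfl⟩
    show ι[G].left ((idCompι G).left z) ∈ _
    have hz : (idCompι G).left z ∈ connectedComponent (α := G.left) pte := by
      rw [← range_idCompι]; exact ⟨z, rfl⟩
    rw [mem_component_iff] at hz ⊢
    rw [show zeta (ι[G].left ((idCompι G).left z)) = ι[G].left (zeta ((idCompι G).left z)) from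
      (zeta_i (grpToGrpd G) (Iso.refl _) _).symm, hz]
    exact i_zeta_ePt (grpToGrpd G) (Iso.refl _))
  have key : ∀ {T : Over (Spec (CommRingCat.of K))} (f : T ⟶ idComp G ⊗ idComp G),
      f ≫ m₀ ≫ idCompι G = (f ≫ fst _ _ ≫ idCompι G) * (f ≫ snd _ _ ≫ idCompι G) := by
    intro T f
    rw [hm₀, Hom.mul_def, ← Category.assoc]
    congr 1
    apply CartesianMonoidalCategory.hom_ext <;> simp
  have hone : ∀ {T : Over (Spec (CommRingCat.of K))} (f : T ⟶ 𝟙_ _),
      f ≫ e₀ ≫ idCompι G = (1 : T ⟶ G) := by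
    intro T f
    rw [he₀, Hom.one_def, Subsingleton.elim f (toUnit T)]
  let inst : GrpObj (idComp G) :=
    { one := e₀, mul := m₀, inv := i₀
      one_mul := by
        rw [← cancel_mono (idCompι G), Category.assoc, key, ← Category.assoc, ← Category.assoc,
          whiskerRight_fst, Category.assoc, Category.assoc, whiskerRight_snd_assoc,
          hone, _root_.one_mul, leftUnitor_hom]
      mul_one := by
        rw [← cancel_mono (idCompι G), Category.assoc, key, whiskerLeft_fst_assoc,
          whiskerLeft_snd_assoc, hone, _root_.mul_one, rightUnitor_hom]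
      mul_assoc := by
        rw [← cancel_mono (idCompι G)]
        simp only [Category.assoc, key, whiskerRight_fst_assoc, whiskerRight_snd_assoc,
          whiskerLeft_fst_assoc, whiskerLeft_snd_assoc, MonObj.comp_mul, associator_hom_fst_assoc,
          associator_hom_snd_fst_assoc, associator_hom_snd_snd_assoc, _root_.mul_assoc]
      left_inv := by
        rw [← cancel_mono (idCompι G), Category.assoc, key, lift_fst_assoc, lift_snd_assoc,
          Category.assoc, hone, hi₀, Category.id_comp, ← Hom.inv_def]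
        exact inv_mul_cancel (idCompι G)
      right_inv := by
        rw [← cancel_mono (idCompι G), Category.assoc, key, lift_fst_assoc, lift_snd_assoc,
          Category.assoc, hone, hi₀, Category.id_comp, ← Hom.inv_def]
        exact mul_inv_cancel (idCompι G) }
  exact ⟨inst, @IsMonHom.mk _ _ _ _ _ inst.toMonObj _ _ he₀ hm₀⟩

end group

end Groth.Agent.H19Grp
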