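import Groth.Prelude.Def_Red
import Groth.Prelude.Def_SGA3x
import Groth.Agent.H19Grp.IdentityComponent

/-!
# The union of the neutral components of the fibres

For a group scheme G over S and a morphism x from the spectrum of a field to S, the preimage of
`SGA3x.neutralSet G` in G ×_S Spec K is the connected component of the unit point.
-/

set_option autoImplicit false
set_option linter.style.haveILetI false
set_option backward.isDefEq.respectTransparency false

universe u

open CategoryTheory Limits MonoidalCategory CartesianMonoidalCategory MonObj GrpObj AlgebraicGeometry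

namespace Groth.Agent.H19Grp

section bc

variable {S S' : Scheme.{u}}

/-- The unit section of a base change. -/
theorem bc_one (f : S' ⟶ S) (G : Over S) [GrpObj G] :
    (η[Red.bc f G]).left ≫ pullback.fst G.hom f = f ≫ (η[G]).left := by
  rw [show η[Red.bc f G] = Functor.LaxMonoidal.ε (Over.pullback f) ≫ (Over.pullback f).map η[G] from
    Functor.obj.η_def (F := Over.pullback f) G, Over.comp_left, Category.assoc]
  erw [pullback.lift_fst]
  rw [← Category.assoc]
  congr 1
  have hw : (Functor.LaxMonoidal.ε (Over.pullback f)).left ≫ pullback.snd (𝟙_ (Over S)).hom f = 𝟙 S' :=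
    Over.w (Functor.LaxMonoidal.ε (Over.pullback f))
  have hc := congrArg (fun m => (Functor.LaxMonoidal.ε (Over.pullback f)).left ≫ m)
    (pullback.condition (f := (𝟙_ (Over S)).hom) (g := f))
  try simp only at hc
  rw [← Category.assoc _ (pullback.snd _ _), hw] at hc
  exact (congrArg (fun m => (Functor.LaxMonoidal.ε (Over.pullback f)).left ≫ m)
    (Category.comp_id _).symm).trans (hc.trans (Category.id_comp f))

theorem fst_one_apply (f : S' ⟶ S) (G : Over S) [GrpObj G] (s' : S') :
    pullback.fst G.hom f ((η[Red.bc f G]).left s') = (η[G]).left (f s') := by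
  exact congrArg (fun m : S' ⟶ G.left => m s') (bc_one f G)

theorem hom_one_apply (G : Over S) [GrpObj G] (s : S) : G.hom ((η[G]).left s) = s := by
  rw [← Scheme.Hom.comp_apply, Over.w η[G]]
  rfl

/-- The neutral component of the fibre over s, as a subset. -/
def neutralAt (G : Over S) [GrpObj G] (s : S) : Set G.left :=
  connectedComponentIn (G.hom ⁻¹' {s}) ((η[G]).left s)

theorem mem_neutralSet_iff (G : Over S) [GrpObj G] (x : G.left) :
    x ∈ SGA3x.neutralSet G ↔ x ∈ neutralAt G (G.hom x) := by
  constructor
  · intro hx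
    obtain ⟨p, hp⟩ := Set.mem_iUnion.1 hx
    have : G.hom x = p := connectedComponentIn_subset (G.hom ⁻¹' {p}) (η[G].left p) hp
    rw [this]
    exact hp
  · exact fun hx => Set.mem_iUnion.2 ⟨G.hom x, hx⟩

theorem one_mem_neutralSet (G : Over S) [GrpObj G] (s : S) :
    (η[G]).left s ∈ SGA3x.neutralSet G :=
  Set.mem_iUnion.2 ⟨s, mem_connectedComponentIn (hom_one_apply G s)⟩

theorem neutralAt_subset_neutralSet (G : Over S) [GrpObj G] (s : S) :
    neutralAt G s ⊆ SGA3x.neutralSet G :=
  Set.subset_iUnion (fun p : ↥(𝟙_ (Over S)).left =>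
    connectedComponentIn (G.hom ⁻¹' {(𝟙_ (Over S)).hom p}) (η[G].left p)) s

theorem neutralSet_inter_fibre (G : Over S) [GrpObj G] (s : S) :
    SGA3x.neutralSet G ∩ G.hom ⁻¹' {s} = neutralAt G s := by
  ext x
  refine ⟨fun ⟨hx, hxs⟩ => ?_, fun hx => ⟨neutralAt_subset_neutralSet G s hx,
    connectedComponentIn_subset _ _ hx⟩⟩
  rw [mem_neutralSet_iff] at hx
  rwa [show G.hom x = s from hxs] at hx

end bc

theorem homeomorph_image_component {α β : Type u} [TopologicalSpace α] [TopologicalSpace β]
    (h : α ≃ₜ β) (x : α) : h '' connectedComponent x = connectedComponent (h x) := by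
  rw [← connectedComponentIn_univ, ← connectedComponentIn_univ,
    h.image_connectedComponentIn (Set.mem_univ x), Set.image_univ_of_surjective h.surjective]

theorem homeomorph_preimage_component {α β : Type u} [TopologicalSpace α] [TopologicalSpace β]
    (h : α ≃ₜ β) (x : α) : h ⁻¹' connectedComponent (h x) = connectedComponent x := by
  rw [← homeomorph_image_component, Set.preimage_image_eq _ h.injective]

section field

variable {K : Type u} [Field K] (G : Over (Spec (CommRingCat.of K))) [GrpObj G]

/-- The unit point. -/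
noncomputable abbrev ept : G.left := η[G].left (IsLocalRing.closedPoint K)

theorem geometricallyIrreducible_idComp : GeometricallyIrreducible (idComp G).hom := by
  have h := geometricallyIrreducible_t (grpToGrpd G) (Iso.refl _) _ (idCompι G).left
    ((range_idCompι G).trans
      (connectedComponent_eq_irreducibleComponent (grpToGrpd G) (Iso.refl _) _))
  simp at h
  exact h

theorem isIrreducible_component : IsIrreducible (connectedComponent (ept G)) :=
  (component_unit (grpToGrpd G) (Iso.refl _)).1

theorem isCompact_component_ept : IsCompact (connectedComponent (ept G)) :=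
  (component_unit (grpToGrpd G) (Iso.refl _)).2

theorem range_idCompι_ept : Set.range (idCompι G).left = connectedComponent (ept G) :=
  range_idCompι G

/-- The preimage of the component of the unit under a field extension. -/
theorem preimage_component_of_field {L : Type u} [Field L]
    (φ : Spec (CommRingCat.of L) ⟶ Spec (CommRingCat.of K)) :
    pullback.fst G.hom φ ⁻¹' connectedComponent (ept G) =
      connectedComponent (α := (Red.bc φ G).left) (ept (Red.bc φ G)) := by
  have he : pullback.fst G.hom φ (ept (Red.bc φ G)) = ept G := by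
    rw [fst_one_apply]
    congr 1
    exact @Subsingleton.elim (PrimeSpectrum K) inferInstance _ _
  refine Set.Subset.antisymm ?_ ?_
  · haveI := geometricallyIrreducible_idComp G
    haveI : IrreducibleSpace ↥(pullback (idComp G).hom φ) :=
      GeometricallyIrreducible.geometrically_irreducibleSpace _ _ _
        (IsPullback.of_hasPullback (idComp G).hom φ)
    let m : pullback (idComp G).hom φ ⟶ pullback G.hom φ :=
      pullback.map _ _ _ _ (idCompι G).left (𝟙 _) (𝟙 _)
        (by simp) (by simp)
    have hm : Set.range m = pullback.fst G.hom φ ⁻¹' connectedComponent (ept G) := by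
      erw [Scheme.Pullback.range_map]
      rw [range_idCompι_ept]
      simp
    rw [← hm]
    exact (isPreconnected_range m.continuous).subset_connectedComponent
      (by rw [hm]; exact Set.mem_preimage.2 (he ▸ mem_connectedComponent))
  · intro y hy
    show pullback.fst G.hom φ y ∈ connectedComponent (ept G)
    refine ((isPreconnected_connectedComponent (x := ept (Red.bc φ G))).image _
      (pullback.fst G.hom φ).continuous.continuousOn).subset_connectedComponent ?_ ⟨y, hy, rfl⟩
    exact ⟨_, mem_connectedComponent, he⟩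

end field

section main

variable {S : Scheme.{u}} (G : Over S) [GrpObj G]

theorem preimage_neutralSet_residueField (s : S) :
    pullback.fst G.hom (S.fromSpecResidueField s) ⁻¹' SGA3x.neutralSet G =
      connectedComponent (α := (Red.bc (S.fromSpecResidueField s) G).left)
        (ept (Red.bc (S.fromSpecResidueField s) G)) := by
  let e := G.hom.fiberHomeo s
  let p : G.hom.fiber s := ept (Red.bc (S.fromSpecResidueField s) G)
  have hp : (G.hom.fiberι s) p = η[G].left s := by
    exact (fst_one_apply (S.fromSpecResidueField s) G _).trans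
      (congrArg η[G].left (S.fromSpecResidueField_apply s _))
  have hrange : ∀ x, G.hom ((G.hom.fiberι s) x) = s := fun x => (e x).2
  ext x
  show (G.hom.fiberι s) x ∈ SGA3x.neutralSet G ↔ x ∈ connectedComponent p
  erw [mem_neutralSet_iff, hrange]
  unfold neutralAt
  erw [connectedComponentIn_eq_image (F := G.hom ⁻¹' {s}) (hom_one_apply G s)]
  have hep : e p = ⟨η[G].left s, hom_one_apply G s⟩ := Subtype.ext hp
  rw [← hep, ← homeomorph_image_component e]
  constructor
  · rintro ⟨_, ⟨y, hy, rfl⟩, hyx⟩
    rwa [show x = y from (G.hom.fiberι s).isEmbedding.injective hyx.symm]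
  · exact fun hx => ⟨_, ⟨x, hx, rfl⟩, rfl⟩

theorem preimage_neutralSet_comp {K : Type u} [Field K] (s : S)
    (φ : Spec (CommRingCat.of K) ⟶ Spec (S.residueField s)) :
    pullback.fst G.hom (φ ≫ S.fromSpecResidueField s) ⁻¹' SGA3x.neutralSet G =
      connectedComponent (α := (Red.bc (φ ≫ S.fromSpecResidueField s) G).left)
        (ept (Red.bc (φ ≫ S.fromSpecResidueField s) G)) := by
  let G₀ := Red.bc (S.fromSpecResidueField s) G
  let c : (Red.bc (φ ≫ S.fromSpecResidueField s) G).left ≅ (Red.bc φ G₀).left :=
    (pullbackLeftPullbackSndIso G.hom (S.fromSpecResidueField s) φ).symm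
  have h₀ := preimage_component_of_field G₀ φ
  have h₁ := preimage_neutralSet_residueField G s
  have hc : ∀ y, pullback.fst G.hom (S.fromSpecResidueField s) (pullback.fst G₀.hom φ (c.hom y)) =
      pullback.fst G.hom (φ ≫ S.fromSpecResidueField s) y := fun y =>
    congrArg (fun m : (Red.bc (φ ≫ S.fromSpecResidueField s) G).left ⟶ G.left => m y)
      (pullbackLeftPullbackSndIso_inv_fst G.hom (S.fromSpecResidueField s) φ)
  have hiff : ∀ y, pullback.fst G.hom (φ ≫ S.fromSpecResidueField s) y ∈ SGA3x.neutralSet G ↔
      c.hom y ∈ connectedComponent (ept (Red.bc φ G₀)) := fun y => by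
    rw [← h₀, ← hc, Set.mem_preimage, ← h₁]
    exact Iff.rfl
  have hmem : c.hom (ept (Red.bc (φ ≫ S.fromSpecResidueField s) G)) ∈
      connectedComponent (ept (Red.bc φ G₀)) :=
    (hiff _).1 ((fst_one_apply (φ ≫ S.fromSpecResidueField s) G _).symm ▸ one_mem_neutralSet G _)
  rw [← homeomorph_preimage_component c.hom.homeomorph]
  ext y
  show _ ↔ c.hom y ∈ connectedComponent (c.hom (ept (Red.bc (φ ≫ S.fromSpecResidueField s) G)))
  rw [← connectedComponent_eq hmem]
  exact hiff y

/-- The preimage of the neutral set in a fibre over a field-valued point is the component of the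
unit. -/
theorem preimage_neutralSet_field {K : Type u} [Field K] (x : Spec (CommRingCat.of K) ⟶ S) :
    pullback.fst G.hom x ⁻¹' SGA3x.neutralSet G =
      connectedComponent (α := (Red.bc x G).left) (ept (Red.bc x G)) := by
  obtain ⟨⟨s, φ⟩, rfl⟩ := (Scheme.SpecToEquivOfField K S).symm.surjective x
  exact preimage_neutralSet_comp G s (Spec.map φ)

theorem one_pullback_comp {S' T : Scheme.{u}} (f : S' ⟶ S) (x : T ⟶ S') :
    (η[Red.bc (x ≫ f) G]).left ≫ (pullbackLeftPullbackSndIso G.hom f x).inv ≫
        pullback.fst (pullback.snd G.hom f) x = x ≫ (η[Red.bc f G]).left := by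
  have h1 : (η[Red.bc (x ≫ f) G]).left ≫ pullback.snd G.hom (x ≫ f) = 𝟙 T :=
    Over.w η[Red.bc (x ≫ f) G]
  have h2 : (η[Red.bc f G]).left ≫ pullback.snd G.hom f = 𝟙 S' := Over.w η[Red.bc f G]
  apply pullback.hom_ext
  · rw [Category.assoc, Category.assoc, pullbackLeftPullbackSndIso_inv_fst, Category.assoc]
    erw [bc_one, bc_one]
    exact Category.assoc _ _ _
  · rw [Category.assoc, Category.assoc, Category.assoc, pullback.condition]
    rw [pullbackLeftPullbackSndIso_inv_snd_snd_assoc]
    exact ((Category.assoc _ _ _).symm.trans ((congrArg (· ≫ x) h1).trans (Category.id_comp x))).trans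
      ((congrArg (x ≫ ·) h2).trans (Category.comp_id x)).symm

theorem neutralSet_baseChange {S' : Scheme.{u}} (f : S' ⟶ S) :
    SGA3x.neutralSet (Red.bc f G) = pullback.fst G.hom f ⁻¹' SGA3x.neutralSet G := by
  ext y
  let s' := pullback.snd G.hom f y
  let x := S'.fromSpecResidueField s'
  let G' := Red.bc f G
  let c : (Red.bc (x ≫ f) G).left ≅ (Red.bc x G').left :=
    (pullbackLeftPullbackSndIso G.hom f x).symm
  have h₁ := preimage_neutralSet_field G' x
  have h₂ := preimage_neutralSet_field G (x ≫ f)
  have hc : ∀ z, pullback.fst G.hom f (pullback.fst G'.hom x (c.hom z)) =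
      pullback.fst G.hom (x ≫ f) z := fun z =>
    congrArg (fun m : (Red.bc (x ≫ f) G).left ⟶ G.left => m z)
      (pullbackLeftPullbackSndIso_inv_fst G.hom f x)
  have hmem : c.hom (ept (Red.bc (x ≫ f) G)) ∈ connectedComponent (ept (Red.bc x G')) := by
    refine (isPreconnected_connectedComponent (x := ept (Red.bc x G'))).subset_connectedComponent
      mem_connectedComponent ?_
    rw [← h₁]
    have h4 : pullback.fst G'.hom x (c.hom (ept (Red.bc (x ≫ f) G))) = η[G'].left s' :=
      (congrArg (fun m : Spec (S'.residueField s') ⟶ G'.left => m (IsLocalRing.closedPoint _))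
        (one_pullback_comp G f x)).trans (congrArg η[G'].left (S'.fromSpecResidueField_apply s' _))
    exact Set.mem_preimage.2 (h4 ▸ one_mem_neutralSet G' s')
  obtain ⟨z, hz⟩ : ∃ z, pullback.fst G'.hom x z = y := by
    rw [← Set.mem_range]
    erw [G'.hom.range_fiberι s']
    rfl
  rw [← hz, ← Set.mem_preimage, ← Set.mem_preimage]
  erw [h₁]
  obtain ⟨w, rfl⟩ := c.hom.homeomorph.surjective z
  rw [connectedComponent_eq hmem, ← Set.mem_preimage]
  erw [homeomorph_preimage_component c.hom.homeomorph, ← h₂, Set.mem_preimage, ← hc]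
  exact Iff.rfl

end main

section hom

variable {S : Scheme.{u}} {G H : Over S} [GrpObj G] [GrpObj H]

theorem hom_one_apply_map (f : G ⟶ H) [IsMonHom f] (s : S) :
    f.left ((η[G]).left s) = (η[H]).left s := by
  have := congrArg (fun m : 𝟙_ (Over S) ⟶ H => m.left s) (IsMonHom.one_hom (f := f))
  exact this

/-- A homomorphism sends neutral components into neutral components. -/
theorem image_neutralSet_subset (f : G ⟶ H) [IsMonHom f] :
    f.left '' SGA3x.neutralSet G ⊆ SGA3x.neutralSet H := by
  rintro _ ⟨x, hx, rfl⟩
  rw [mem_neutralSet_iff] at hx ⊢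
  have hw : ∀ y, H.hom (f.left y) = G.hom y := fun y =>
    congrArg (fun m : G.left ⟶ S => m y) (Over.w f)
  rw [hw]
  refine ((isPreconnected_connectedComponentIn (x := η[G].left (G.hom x))).image _
    f.left.continuous.continuousOn).subset_connectedComponentIn ?_ ?_ ⟨x, hx, rfl⟩
  · exact ⟨_, mem_connectedComponentIn (hom_one_apply G _), hom_one_apply_map f _⟩
  · rintro _ ⟨y, hy, rfl⟩
    exact (hw y).trans (connectedComponentIn_subset (G.hom ⁻¹' {G.hom x}) (η[G].left (G.hom x)) hy)

theorem bc_map_fst {S' : Scheme.{u}} (x : S' ⟶ S) (f : G ⟶ H) :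
    ((Over.pullback x).map f).left ≫ pullback.fst H.hom x = pullback.fst G.hom x ≫ f.left := by
  simp

theorem range_bc_map {S' : Scheme.{u}} (x : S' ⟶ S) (f : G ⟶ H) :
    Set.range ((Over.pullback x).map f).left = pullback.fst H.hom x ⁻¹' Set.range f.left := by
  rw [show ((Over.pullback x).map f).left = pullback.map G.hom x H.hom x f.left (𝟙 _) (𝟙 _)
    (by simp) (by simp) from pullback.hom_ext (by simp) (by simp)]
  erw [Scheme.Pullback.range_map]
  simp

theorem neutralSet_subset_of_fibres (W : Set G.left)
    (h : ∀ s : S, connectedComponent (α := (Red.bc (S.fromSpecResidueField s) G).left)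
      (ept (Red.bc (S.fromSpecResidueField s) G)) ⊆ pullback.fst G.hom (S.fromSpecResidueField s) ⁻¹' W) :
    SGA3x.neutralSet G ⊆ W := by
  intro x hx
  let s := G.hom x
  have := G.hom.fiberι_asFiber x
  rw [← this]
  apply h s
  rw [← preimage_neutralSet_residueField]
  exact (show G.hom.fiberι s (G.hom.asFiber x) ∈ SGA3x.neutralSet G from this.symm ▸ hx)

/-- A homomorphism with open image over a field has the component of the unit in its image. -/
theorem component_subset_range_of_isOpen {K : Type u} [Field K]
    {Z G : Over (Spec (CommRingCat.of K))} [GrpObj Z] [GrpObj G] (j : Z ⟶ G) [IsMonHom j]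
    (hj : IsOpen (Set.range j.left)) : connectedComponent (ept G) ⊆ Set.range j.left := by
  let W : G.left.Opens := ⟨Set.range j.left, hj⟩
  have he : ept G ∈ W := ⟨_, hom_one_apply_map j _⟩
  have hze : zeta (ept G) ∈ W := (zeta_specializes (ept G)).mem_open hj he
  have hC : connectedComponent (ept G) = irreducibleComponent (ept G) :=
    connectedComponent_eq_irreducibleComponent (grpToGrpd G) (Iso.refl _) _
  intro x hx
  rw [hC, mem_irreducibleComponent_iff_zeta (dirGen (grpToGrpd G) (Iso.refl _))] at hx
  have hsat : x ∈ sat (α := G.left) (W : Set G.left) := show zeta x ∈ W from hx ▸ hze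
  rw [sat_eq_image (grpToGrpd G) (Iso.refl _) W W hze] at hsat
  obtain ⟨z, ⟨h1, -, h2⟩, rfl⟩ := hsat
  obtain ⟨w, hw⟩ : z ∈ Set.range (j ⊗ₘ j).left := by
    rw [Over.tensorHom_left]
    erw [Scheme.Pullback.range_map]
    exact ⟨h1, h2⟩
  refine ⟨μ[Z].left w, ?_⟩
  rw [← hw, ← Scheme.Hom.comp_apply, ← Over.comp_left, IsMonHom.mul_hom (f := j)]
  rfl

end hom

end Groth.Agent.H19Grp
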