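import Groth.Agent.H19Grp.CharRigid
import Groth.Agent.H19Grp.AntiAffineGroup
import Groth.Agent.H19Grp.AffinizationKernel
import Groth.Agent.H19Grp.QuotientDesc
import Groth.Agent.H19Grp.HomFlat
import Groth.Agent.H19Grp.Kernel
import Groth.Agent.H19Grp.QuasiFiniteHom
import Groth.Agent.H19Grp.GroupCI
import Groth.Agent.H19Grp.IdentityComponent
import Groth.Agent.H19Grp.Neutral
import Groth.Agent.H19Grp.SepFG
import Groth.Agent.H20Comod.LineTensor
import Groth.Agent.H18Descent.Basic

/-!
# A quotient group of an affine algebraic group is affine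

The only homomorphism from a smooth connected affine group onto an anti-affine group is the trivial one:
for a line stabilised exactly by the kernel, the functions `g ↦ (g v)_i (g⁻¹ v)_j` descend to the target.
-/

set_option autoImplicit false
set_option maxHeartbeats 1000000
set_option synthInstance.maxHeartbeats 400000
set_option linter.style.haveILetI false
set_option backward.isDefEq.respectTransparency false

universe u

open CategoryTheory CategoryTheory.Limits MonoidalCategory CartesianMonoidalCategory MonObj GrpObj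
  AlgebraicGeometry WithConv

namespace Groth.Agent.H19Grp.AffineQuotient

attribute [-instance] instCommGrpObjSpecAsOverSpec
attribute [-instance] isCommMonObj_spec_asOver_spec
attribute [-instance] CategoryTheory.Hom.commGroup

variable {k : Type u} [Field k]

section Core

variable {A : CommRingCat.{u}} [HopfAlgebra (CommRingCat.of k) A]

/-- The point with values in an affine scheme attached to an algebra map. -/
noncomputable def ptOf {C : Type u} [CommRing C] [Algebra k C] (n : WithConv (A →ₐ[k] C)) :
    (Spec (CommRingCat.of C)).asOver (Spec (CommRingCat.of k)) ⟶ (Spec A).asOver (Spec (CommRingCat.of k)) :=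
  Spec.mapMulEquiv (R := k) (S := A) (T := C) n

theorem ptOf_mul {C : Type u} [CommRing C] [Algebra k C] (n m : WithConv (A →ₐ[k] C)) :
    ptOf (n * m) = ptOf n * ptOf m := map_mul (Spec.mapMulEquiv (R := k) (S := A) (T := C)) n m

theorem ptOf_one {C : Type u} [CommRing C] [Algebra k C] : ptOf (1 : WithConv (A →ₐ[k] C)) = 1 :=
  map_one (Spec.mapMulEquiv (R := k) (S := A) (T := C))

theorem ptOf_left {C : Type u} [CommRing C] [Algebra k C] (n : WithConv (A →ₐ[k] C)) :
    (ptOf n).left = Spec.map (CommRingCat.ofHom n.ofConv.toRingHom) := rfl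

theorem ptOf_pinv {C : Type u} [CommRing C] [Algebra k C] (n : WithConv (A →ₐ[k] C)) :
    ptOf (CharRigid.pinv n) = (ptOf n)⁻¹ :=
  eq_inv_of_mul_eq_one_left (by rw [← ptOf_mul, CharRigid.pinv_mul, ptOf_one])

theorem ptOf_ofPt {C : Type u} [CommRing C] [Algebra k C]
    (p : (Spec (CommRingCat.of C)).asOver (Spec (CommRingCat.of k)) ⟶ (Spec A).asOver (Spec (CommRingCat.of k))) :
    ptOf (CosetMap.ofPt p) = p :=
  (Spec.mapMulEquiv (R := k) (S := A) (T := C)).apply_symm_apply p

variable [IsAlgClosed k] [IsDomain A] [Algebra.FiniteType k A]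
  {M : Over (Spec (CommRingCat.of k))} [GrpObj M] [IsIso M.hom.appTop]
  (r : (Spec A).asOver (Spec (CommRingCat.of k)) ⟶ M) [IsMonHom r] [Flat r.left] [Surjective r.left]
  [LocallyOfFinitePresentation r.left]

theorem eq_one_of_kernel (I : Ideal A) [I.IsHopfIdeal k]
    (hI : ∀ (C : Type u) [CommRing C] [Algebra k C] (n : WithConv (A →ₐ[k] C)),
      ptOf n ≫ r = 1 ↔ ∀ a ∈ I, n.ofConv a = 0) : r = 1 := by
  classical
  haveI : IsNoetherianRing A := Algebra.FiniteType.isNoetherianRing k A
  obtain ⟨V, _, _, _, _, v, hv, hrep⟩ := H20Comod.exists_line_stabilizer (k := k) (A := A) I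
  haveI : Nontrivial V := ⟨v, 0, hv⟩
  obtain ⟨d, hd⟩ : ∃ d, Module.finrank k V = d := ⟨_, rfl⟩
  let b : Module.Basis (Fin d) k V := (Module.finBasis k V).reindex (finCongr hd)
  let s : Fin d → A := fun i => H20Dyn.mcoef (b.coord i) v
  have hK : ∀ (C : Type u) [CommRing C] [Algebra k C] (n : WithConv (A →ₐ[k] C)),
      ptOf n ≫ r = 1 → SGA3.StabilizesLine k A v C n.ofConv :=
    fun C _ _ n hn => (hrep C n.ofConv).mp ((hI C n).mp hn)
  have hinv := CharRigid.mul_antipode_invariant b hv (fun C _ _ n => ptOf n ≫ r = 1) I hI hK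
    (fun C _ _ n m hn hm => by rw [ptOf_mul, MonObj.mul_comp, hn, hm, _root_.mul_one])
    (fun C _ _ n hn => by rw [ptOf_pinv, GrpObj.inv_comp, hn, inv_one])
    (fun C _ _ => by rw [ptOf_one, MonObj.one_comp])
    (fun C _ _ g n hn => by
      rw [ptOf_mul, ptOf_mul, ptOf_pinv, MonObj.mul_comp, MonObj.mul_comp, GrpObj.inv_comp, hn,
        _root_.mul_one, mul_inv_cancel])
  -- the invariant functions are constant
  have hconst : ∀ i j, s i * HopfAlgebra.antipode k (s j) = algebraMap k A (b.coord i v * b.coord j v) := by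
    intro i j
    let w : A := s i * HopfAlgebra.antipode k (s j)
    let 𝔸 : Over (Spec (CommRingCat.of k)) := (Spec (CommRingCat.of (Polynomial k))).asOver (Spec (CommRingCat.of k))
    let W : (Spec A).asOver (Spec (CommRingCat.of k)) ⟶ 𝔸 :=
      Over.homMk (Spec.map (CommRingCat.ofHom (Polynomial.aeval (R := k) w).toRingHom)) (by
        show Spec.map _ ≫ Spec.map (CommRingCat.ofHom (algebraMap k (Polynomial k))) =
          Spec.map (CommRingCat.ofHom (algebraMap k A))
        rw [← Spec.map_comp, ← CommRingCat.ofHom_comp]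
        congr 2
        exact RingHom.ext fun x => (Polynomial.aeval (R := k) w).commutes x)
    have hpW : ∀ {C : Type u} [CommRing C] [Algebra k C] (n : WithConv (A →ₐ[k] C)),
        (ptOf n ≫ W).left = Spec.map (CommRingCat.ofHom (Polynomial.aeval (R := k) (n.ofConv w)).toRingHom) := by
      intro C _ _ n
      rw [Over.comp_left, ptOf_left]
      show Spec.map _ ≫ Spec.map _ = _
      rw [← Spec.map_comp, ← CommRingCat.ofHom_comp]
      congr 2
      exact congrArg AlgHom.toRingHom (Polynomial.aeval_algHom n.ofConv w).symm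
    obtain ⟨W', hW', -⟩ := QuotientDesc.existsUnique_desc r W fun T x y hxy => by
      refine CosetMap.hom_ext_affine _ _ fun C _ _ p => ?_
      have e := congrArg (p ≫ ·) hxy
      simp only [← Category.assoc] at e ⊢
      generalize p ≫ x = px at e ⊢
      generalize p ≫ y = py at e ⊢
      rw [← ptOf_ofPt px, ← ptOf_ofPt py] at e ⊢
      generalize CosetMap.ofPt px = gx at e ⊢
      generalize CosetMap.ofPt py = gy at e ⊢
      have hn : ptOf (CharRigid.pinv gx * gy) ≫ r = 1 := by
        rw [ptOf_mul, ptOf_pinv, MonObj.mul_comp, GrpObj.inv_comp, e, inv_mul_cancel]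
      have h := hinv C gx (CharRigid.pinv gx * gy) hn i j
      rw [← _root_.mul_assoc, CharRigid.mul_pinv, _root_.one_mul] at h
      apply Over.OverMorphism.ext
      rw [hpW, hpW]
      exact congrArg (fun z : C => Spec.map (CommRingCat.ofHom (Polynomial.aeval (R := k) z).toRingHom)) h.symm
    haveI : IsAffine 𝔸.left := inferInstanceAs (IsAffine (Spec (CommRingCat.of (Polynomial k))))
    obtain ⟨c, rfl⟩ := AntiAffineSmooth.exists_eq_toUnit W'
    have e : ptOf (toConv (AlgHom.id k A)) ≫ W = ptOf (1 : WithConv (A →ₐ[k] A)) ≫ W := by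
      rw [← hW']
      simp only [← Category.assoc]
      congr 1
      exact toUnit_unique _ _
    have e' := congrArg (·.left) e
    simp only [hpW] at e'
    have e'' := congr($(Spec.map_injective e').hom Polynomial.X)
    simp only [CommRingCat.hom_ofHom, AlgHom.toRingHom_eq_coe, RingHom.coe_coe, Polynomial.aeval_X] at e''
    have hS : ∀ a : A, (1 : WithConv (A →ₐ[k] A)).ofConv (HopfAlgebra.antipode k a) =
        (1 : WithConv (A →ₐ[k] A)).ofConv a := fun a => by
      simp [HopfAlgebra.counit_antipode]
    refine Eq.trans e'' ?_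
    rw [map_mul, hS, CosetMap.one_mcoef, CosetMap.one_mcoef, map_mul, ← Algebra.algebraMap_eq_smul_one,
      ← Algebra.algebraMap_eq_smul_one]
  -- hence the universal point stabilises the line
  have hst : SGA3.StabilizesLine k A v A (AlgHom.id k A) := by
    have hun := congrArg (Ideal.map (HopfAlgebra.antipodeAlgHom k A : A →+* A)) (CosetMap.span_mcoef b hv (A := A))
    rw [Ideal.map_span, Ideal.map_top, ← Set.range_comp] at hun
    obtain ⟨a, ha⟩ := Ideal.mem_span_range_iff_exists_fun.mp ((Ideal.eq_top_iff_one _).mp hun)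
    rw [H20Dyn.stabilizesLine_iff]
    refine ⟨∑ j, a j * algebraMap k A (b.coord j v), fun φ => ?_⟩
    have hsi : ∀ i, s i = algebraMap k A (b.coord i v) * ∑ j, a j * algebraMap k A (b.coord j v) := fun i => by
      calc s i = s i * ∑ j, a j * HopfAlgebra.antipode k (s j) := by
            rw [show ∑ j, a j * HopfAlgebra.antipode k (s j) = 1 from ha, _root_.mul_one]
        _ = _ := by
            rw [Finset.mul_sum, Finset.mul_sum]
            refine Finset.sum_congr rfl fun j _ => ?_
            rw [mul_left_comm, hconst, map_mul, mul_left_comm]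
    show H20Dyn.mcoef φ v = _
    rw [H20Dyn.mcoef, CosetMap.coact_eq_sum b v, map_sum, map_sum]
    simp only [LinearMap.rTensor_tmul, TensorProduct.lid_tmul]
    rw [show φ v = ∑ i, φ (b.repr v i • b i) by rw [← map_sum, b.sum_repr], Finset.sum_smul]
    refine Finset.sum_congr rfl fun i _ => ?_
    rw [show H20Dyn.mcoef (H := A) (b.coord i) v = s i from rfl, hsi i, map_smul, smul_eq_mul, mul_smul,
      Algebra.smul_def (b.repr v i)]
    simp only [Algebra.smul_def, Module.Basis.coord_apply]
    ring
  have h1 := (hI A (toConv (AlgHom.id k A))).mpr ((hrep A (AlgHom.id k A)).mpr hst)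
  have e : ptOf (toConv (AlgHom.id k A)) = 𝟙 ((Spec A).asOver (Spec (CommRingCat.of k))) :=
    Over.OverMorphism.ext (Spec.map_id A)
  rw [e] at h1
  exact (Category.id_comp r).symm.trans h1

end Core

section Groups

theorem isSeparated_of_grp (G : Over (Spec (CommRingCat.of k))) [GrpObj G] : IsSeparated G.hom :=
  haveI : Subsingleton (Spec (CommRingCat.of k)) := subsingleton_spec_field
  (isSeparated_iff_isClosedImmersion_one G).mpr
    (isClosedImmersion_section_of_subsingleton G.hom (η[G]).left (Over.w η[G]))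

theorem isClosedImmersion_unit (M : Over (Spec (CommRingCat.of k))) [GrpObj M] [IsSeparated M.hom] :
    IsClosedImmersion η[M].left := isClosedImmersion_of_comp_eq_id M.hom _ (Over.w η[M])

/-- The kernel of a homomorphism. -/
theorem exists_kernel {G H : Over (Spec (CommRingCat.of k))} [GrpObj G] [GrpObj H] [IsSeparated H.hom]
    (f : G ⟶ H) [IsMonHom f] :
    ∃ (N : Over (Spec (CommRingCat.of k))) (_ : GrpObj N) (i : N ⟶ G),
      IsMonHom i ∧ IsClosedImmersion i.left ∧ AlgGrp.IsKernel i f := by
  let Kr : Over (Spec (CommRingCat.of k)) := Over.mk (pullback.snd f.left η[H].left)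
  have hKw : pullback.fst f.left η[H].left ≫ G.hom = Kr.hom := by
    rw [← Over.w f, reassoc_of% (pullback.condition (f := f.left) (g := η[H].left)), Over.w η[H]]
    exact Category.comp_id _
  let i : Kr ⟶ G := Over.homMk (pullback.fst f.left η[H].left) hKw
  have hker : AlgGrp.IsKernel i f := Groth.Agent.H19Grp.isKernel_of
    (by rw [Hom.one_def]; exact Over.OverMorphism.ext pullback.condition)
    (fun T a b h => Over.OverMorphism.ext (pullback.hom_ext (congrArg (·.left) h) ((Over.w a).trans (Over.w b).symm)))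
    (fun T x hx => by
      refine ⟨Over.homMk (pullback.lift x.left T.hom ?_) (pullback.lift_snd _ _ _), Over.OverMorphism.ext (pullback.lift_fst _ _ _)⟩
      have := congrArg (·.left) hx
      rw [Hom.one_def] at this
      exact this)
  haveI : IsClosedImmersion i.left := MorphismProperty.pullback_fst (P := @IsClosedImmersion) _ _ (isClosedImmersion_unit H)
  haveI := Groth.Agent.H19Grp.kernel_mono hker
  obtain ⟨e₀, he₀⟩ := Groth.Agent.H19Grp.kernel_lift hker η[G] (by
    rw [IsMonHom.one_hom f, Hom.one_def, toUnit_unique (toUnit (𝟙_ (Over (Spec (CommRingCat.of k))))) (𝟙 _), Category.id_comp])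
  obtain ⟨m₀, hm₀⟩ := Groth.Agent.H19Grp.kernel_lift hker ((i ⊗ₘ i) ≫ μ[G]) (by
    rw [show (i ⊗ₘ i) ≫ μ[G] = (fst _ _ ≫ i) * (snd _ _ ≫ i) by rw [Hom.mul_def, lift_fst_comp_snd_comp],
      MonObj.mul_comp, Category.assoc, Category.assoc, Groth.Agent.H19Grp.kernel_comp_eq_one hker,
      MonObj.comp_one, MonObj.comp_one, _root_.mul_one])
  obtain ⟨i₀, hi₀⟩ := Groth.Agent.H19Grp.kernel_lift hker (i ≫ ι[G]) (by
    rw [← Hom.inv_def, GrpObj.inv_comp, Groth.Agent.H19Grp.kernel_comp_eq_one hker, inv_one])
  obtain ⟨g, hg⟩ := Groth.Agent.H19Grp.exists_grpObj_of_mono G i e₀ he₀ m₀ hm₀ i₀ hi₀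
  exact ⟨Kr, g, i, hg, ‹_›, hker⟩

variable [IsAlgClosed k]

/-- A smooth connected affine group has no non-trivial anti-affine quotient. -/
theorem eq_one_of_smooth_connected (Z M : Over (Spec (CommRingCat.of k))) [GrpObj Z] [GrpObj M]
    [Smooth Z.hom] [IsAffine Z.left] [ConnectedSpace Z.left] [IsSeparated M.hom] [IsIso M.hom.appTop]
    (r : Z ⟶ M) [IsMonHom r] [Flat r.left] [Surjective r.left] [LocallyOfFinitePresentation r.left] : r = 1 := by
  haveI : IsReduced Z.left := H13AlgSp.isReduced_of_smooth_mor Z.hom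
  haveI : IrreducibleSpace Z.left := by
    have h := isIrreducible_component (G := Z)
    rw [PreconnectedSpace.connectedComponent_eq_univ] at h
    exact (irreducibleSpace_def _).mpr h
  haveI : IsIntegral Z.left := isIntegral_of_irreducibleSpace_of_isReduced Z.left
  haveI : IsDomain Γ(Z.left, ⊤) := inferInstance
  letI : Z.left.Over (Spec (CommRingCat.of k)) := ⟨Z.hom⟩
  letI : GrpObj (Z.left.asOver (Spec (CommRingCat.of k))) := ‹GrpObj Z›
  letI : HopfAlgebra (CommRingCat.of k) Γ(Z.left, ⊤) := AffinePoints.hopfOf _ Z.left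
  haveI : Algebra.FiniteType k Γ(Z.left, ⊤) := by
    haveI : LocallyOfFiniteType (Z.left.isoSpec.inv ≫ Z.hom) := inferInstance
    have e : Z.left.isoSpec.inv ≫ Z.hom = Spec.map (CommRingCat.ofHom (algebraMap (CommRingCat.of k) Γ(Z.left, ⊤))) := by
      rw [algebraMap_presheafObj]
      exact (Spec.fullyFaithful.map_preimage _).symm
    have h : LocallyOfFiniteType (Spec.map (CommRingCat.ofHom (algebraMap (CommRingCat.of k) Γ(Z.left, ⊤)))) := e ▸ ‹_›
    rw [HasRingHomProperty.Spec_iff (P := @LocallyOfFiniteType)] at h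
    exact RingHom.finiteType_algebraMap.mp h
  let e : Z ≅ (Spec Γ(Z.left, ⊤)).asOver (Spec (CommRingCat.of k)) :=
    ⟨Z.left.isoSpec.hom.asOver _, Z.left.isoSpec.inv.asOver _,
      Over.OverMorphism.ext Z.left.isoSpec.hom_inv_id, Over.OverMorphism.ext Z.left.isoSpec.inv_hom_id⟩
  haveI : IsMonHom e.hom := AffinePoints.isMonHom_isoSpec (CommRingCat.of k) Z.left
  haveI : IsMonHom e.inv := @instIsMonHomInvOfHom _ _ _ _ _ _ _ e (AffinePoints.isMonHom_isoSpec (CommRingCat.of k) Z.left)
  haveI : IsIso e.inv.left := inferInstanceAs (IsIso ((Over.forget _).map e.inv))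
  haveI : Flat (e.inv ≫ r).left := by rw [Over.comp_left]; infer_instance
  haveI : Surjective (e.inv ≫ r).left := by rw [Over.comp_left]; infer_instance
  haveI : LocallyOfFinitePresentation (e.inv ≫ r).left := by rw [Over.comp_left]; infer_instance
  obtain ⟨N, gN, i, hi, hic, hker⟩ := exists_kernel r
  haveI := hi
  haveI := hic
  haveI : IsAffine N.left := isAffine_of_isAffineHom i.left
  letI : N.left.Over (Spec (CommRingCat.of k)) := ⟨N.hom⟩
  letI : GrpObj (N.left.asOver (Spec (CommRingCat.of k))) := gN
  letI : HopfAlgebra (CommRingCat.of k) Γ(N.left, ⊤) := AffinePoints.hopfOf _ N.left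
  let i₀ : N.left.asOver (Spec (CommRingCat.of k)) ⟶ Z.left.asOver (Spec (CommRingCat.of k)) := i
  haveI : IsMonHom i₀ := hi
  obtain ⟨α, hα⟩ := AffinePoints.exists_bialgHom i₀
  change i.left ≫ Z.left.isoSpec.hom = _ at hα
  have hαs : Function.Surjective α := by
    have hc : IsClosedImmersion (Spec.map (CommRingCat.ofHom (α : Γ(Z.left, ⊤) →ₐ[CommRingCat.of k] Γ(N.left, ⊤)).toRingHom)) := by
      rw [← Iso.inv_hom_id_assoc N.left.isoSpec (Spec.map _), ← hα]; infer_instance
    have h2 := ((HasAffineProperty.iff_of_isAffine (P := @IsClosedImmersion)).mp hc).2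
    intro b
    obtain ⟨z, hz⟩ := h2 ((Scheme.ΓSpecIso Γ(N.left, ⊤)).inv b)
    refine ⟨(Scheme.ΓSpecIso Γ(Z.left, ⊤)).hom z, ?_⟩
    have e := congr($(Scheme.ΓSpecIso_naturality (CommRingCat.ofHom (α : Γ(Z.left, ⊤) →ₐ[CommRingCat.of k] Γ(N.left, ⊤)).toRingHom)).hom z)
    simp only [CommRingCat.hom_comp, RingHom.comp_apply] at e
    rw [hz] at e
    exact e.symm.trans ((Scheme.ΓSpecIso Γ(N.left, ⊤)).inv_hom_id_apply b)
  let α' : Γ(Z.left, ⊤) →ₐ[k] Γ(N.left, ⊤) := (α : Γ(Z.left, ⊤) →ₐ[CommRingCat.of k] Γ(N.left, ⊤))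
  haveI : (RingHom.ker α').IsHopfIdeal k := H20Comod.isHopfIdeal_ker_bialgHom (k := k) α hαs
  have h1 : e.inv ≫ r = 1 := eq_one_of_kernel (e.inv ≫ r) (RingHom.ker α') fun C _ _ n => by
    have hleft : (ptOf n ≫ e.inv).left =
        Spec.map (CommRingCat.ofHom n.ofConv.toRingHom) ≫ Z.left.isoSpec.inv := rfl
    refine ⟨fun hn a ha => ?_, fun hn => ?_⟩
    · obtain ⟨y, hy⟩ := kernel_lift hker (ptOf n ≫ e.inv) (by rw [Category.assoc, hn])
      have h := congrArg (fun t => t.left ≫ Z.left.isoSpec.hom) hy
      rw [Over.comp_left, Category.assoc] at h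
      erw [hα, hleft] at h
      rw [Category.assoc, Iso.inv_hom_id, Category.comp_id, ← Category.assoc] at h
      obtain ⟨β, hβ⟩ := Spec.map_surjective (y.left ≫ N.left.isoSpec.hom)
      erw [← hβ, ← Spec.map_comp] at h
      have := congr($(Spec.map_injective h).hom a)
      exact this.symm.trans ((congrArg β.hom (RingHom.mem_ker.mp ha)).trans (map_zero _))
    · let β : Γ(N.left, ⊤) →+* C := (α' : Γ(Z.left, ⊤) →+* Γ(N.left, ⊤)).liftOfSurjective hαs
        ⟨(n.ofConv : Γ(Z.left, ⊤) →+* C), fun a ha => hn a ha⟩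
      have hm : (Spec.map (CommRingCat.ofHom β) ≫ N.left.isoSpec.inv) ≫ i.left = (ptOf n ≫ e.inv).left := by
        rw [hleft, ← cancel_mono Z.left.isoSpec.hom]
        simp only [Category.assoc]
        erw [hα]
        rw [Iso.inv_hom_id, Category.comp_id, Iso.inv_hom_id_assoc, ← Spec.map_comp, ← CommRingCat.ofHom_comp]
        congr 2
        exact RingHom.liftOfRightInverse_comp _ _ _ _
      let m : (Spec (CommRingCat.of C)).asOver (Spec (CommRingCat.of k)) ⟶ N :=
        Over.homMk (Spec.map (CommRingCat.ofHom β) ≫ N.left.isoSpec.inv) (by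
          rw [← Over.w i, ← Category.assoc, hm]; exact Over.w _)
      have hmi : m ≫ i = ptOf n ≫ e.inv := Over.OverMorphism.ext hm
      rw [← Category.assoc, ← hmi, Category.assoc, kernel_comp_eq_one hker, MonObj.comp_one]
  rw [← Iso.hom_inv_id_assoc e r, h1, MonObj.comp_one]

/-- A group receiving a faithfully flat homomorphism from an affine algebraic group is affine, over an
algebraically closed field. -/
theorem isAffine_of_flat_surjective_algClosed (G Q : Over (Spec (CommRingCat.of k))) [GrpObj G] [GrpObj Q]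
    [IsAffine G.left] [LocallyOfFiniteType G.hom] [LocallyOfFiniteType Q.hom] [QuasiCompact Q.hom]
    (q : G ⟶ Q) [IsMonHom q] [Flat q.left] [Surjective q.left] : IsAffine Q.left := by
  haveI : IsNoetherianRing (CommRingCat.of k) := inferInstanceAs (IsNoetherianRing k)
  haveI : IsLocallyNoetherian Q.left := LocallyOfFiniteType.isLocallyNoetherian Q.hom
  haveI : IsSeparated Q.hom := isSeparated_of_grp Q
  obtain ⟨gA, hρ⟩ := Affinization.exists_grpObj Q
  obtain ⟨-, -, hAl⟩ := Affinization.flat_surjective Q
  haveI : LocallyOfFiniteType (Affinization.aff Q).hom := hAl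
  haveI : IsSeparated (Affinization.aff Q).hom := inferInstance
  obtain ⟨gM, hM⟩ := AffinizationKernel.exists_grpObj Q
  obtain ⟨hMiso, hMs, hMc⟩ := AffinizationKernel.smooth_and_connected Q
  let M := AffinizationKernel.N Q
  let l : M ⟶ Q := AffinizationKernel.incl Q
  haveI : IsClosedImmersion l.left := AffinizationKernel.isClosedImmersion_incl Q
  haveI : Mono l := Over.mono_of_mono_left _
  haveI : LocallyOfFiniteType M.hom := by rw [← Over.w l]; infer_instance
  haveI : QuasiCompact M.hom := by rw [← Over.w l]; infer_instance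
  haveI : IsSeparated M.hom := by rw [← Over.w l]; infer_instance
  haveI := hMs
  haveI := hMc
  suffices hl : l = 1 by
    haveI : Mono (Affinization.rho Q) := by
      refine ⟨fun {T} x y hxy => ?_⟩
      obtain ⟨z, hz⟩ := AffinizationKernel.lift_rho Q (x * y⁻¹) (by
        rw [← Category.assoc, ← Hom.one_def, MonObj.one_comp, MonObj.mul_comp, GrpObj.inv_comp, hxy, mul_inv_cancel])
      have : x * y⁻¹ = 1 := by rw [← hz, show AffinizationKernel.incl Q = 1 from hl, MonObj.comp_one]
      exact mul_inv_eq_one.mp this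
    haveI : QuasiCompact (Affinization.rho Q).left := by
      haveI : QuasiCompact ((Affinization.rho Q).left ≫ (Affinization.aff Q).hom) := by rw [Over.w]; infer_instance
      exact QuasiCompact.of_comp (Affinization.rho Q).left (Affinization.aff Q).hom
    haveI : Mono (Affinization.rho Q).left := (Over.forget _).map_mono (Affinization.rho Q)
    haveI := QuasiFiniteHom.isClosedImmersion_of_mono (Affinization.rho Q)
    exact isAffine_of_isAffineHom (Affinization.rho Q).left
  -- the preimage of the anti-affine part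
  obtain ⟨P, gP, iP, hiP, hiPc, hkP⟩ := exists_kernel (q ≫ Affinization.rho Q)
  haveI := hiP
  haveI := hiPc
  haveI : LocallyOfFiniteType P.hom := by rw [← Over.w iP]; infer_instance
  obtain ⟨gR, hR⟩ := GroupCI.exists_grpObj_reduced P
  let R : Over (Spec (CommRingCat.of k)) := Over.mk (P.left.nilradical.subschemeι ≫ P.hom)
  let iR : R ⟶ P := Over.homMk P.left.nilradical.subschemeι rfl
  haveI : IsMonHom iR := hR
  haveI : IsClosedImmersion iR.left := inferInstanceAs (IsClosedImmersion P.left.nilradical.subschemeι)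
  haveI : IsReduced R.left := inferInstanceAs (IsReduced P.left.nilradical.subscheme)
  haveI : LocallyOfFiniteType R.hom := by rw [← Over.w iR]; infer_instance
  haveI : Smooth R.hom := smooth_of_isReduced_perfect R
  haveI : IsAffine P.left := isAffine_of_isAffineHom iP.left
  haveI : IsAffine R.left := isAffine_of_isAffineHom iR.left
  obtain ⟨r', hr'⟩ := AffinizationKernel.lift_rho Q (iR ≫ iP ≫ q) (by
    rw [← Category.assoc (toUnit R), ← Hom.one_def, MonObj.one_comp, Category.assoc, Category.assoc,
      kernel_comp_eq_one hkP, MonObj.comp_one])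
  have hr'M : IsMonHom r' := by
    haveI : IsMonHom l := hM
    constructor
    · rw [← cancel_mono l, Category.assoc, hr', IsMonHom.one_hom l, IsMonHom.one_hom (iR ≫ iP ≫ q)]
    · rw [← cancel_mono l, Category.assoc, hr', Category.assoc, IsMonHom.mul_hom l,
        ← Category.assoc (r' ⊗ₘ r'), tensorHom_comp_tensorHom, hr', IsMonHom.mul_hom (iR ≫ iP ≫ q)]
  haveI := hr'M
  haveI : Surjective r'.left := by
    refine ⟨fun m => ?_⟩
    obtain ⟨g, hg⟩ := q.left.surjective (l.left m)
    have hφ : (q ≫ Affinization.rho Q).left g = η[Affinization.aff Q].left (M.hom m) := by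
      have e := congrArg (·.left) (AffinizationKernel.incl_rho Q)
      rw [IsMonHom.one_hom (Affinization.rho Q)] at e
      have ht : (toUnit M).left = M.hom := (Category.comp_id _).symm.trans (Over.w (toUnit M))
      simp only [Over.comp_left, ht] at e
      rw [Over.comp_left, Scheme.Hom.comp_apply, hg, ← Scheme.Hom.comp_apply, e, Scheme.Hom.comp_apply]
      rfl
    have hsq := IsPullback.map (Over.forget _) hkP
    obtain ⟨p, hp, -⟩ := Scheme.exists_preimage_of_isPullback hsq g (M.hom m) hφ
    obtain ⟨z, hz⟩ : ∃ z, iR.left z = p := by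
      have : Set.range P.left.nilradical.subschemeι = Set.univ := by
        rw [Scheme.IdealSheafData.range_subschemeι]; rfl
      exact (this ▸ Set.mem_univ p : p ∈ Set.range iR.left)
    refine ⟨z, l.left.isEmbedding.injective ?_⟩
    rw [← Scheme.Hom.comp_apply, ← Over.comp_left, hr']
    show q.left (iP.left (iR.left z)) = _
    rw [hz]; erw [hp]; exact hg
  haveI : QuasiCompact R.hom := inferInstance
  haveI : QuasiCompact r'.left := by
    haveI : QuasiCompact (r'.left ≫ M.hom) := by rw [Over.w r']; infer_instance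
    exact QuasiCompact.of_comp r'.left M.hom
  haveI : Flat r'.left := flat_of_surjective r'
  haveI : IsLocallyNoetherian M.left := LocallyOfFiniteType.isLocallyNoetherian M.hom
  haveI : LocallyOfFinitePresentation r'.left := by
    haveI : LocallyOfFiniteType (r'.left ≫ M.hom) := by rw [Over.w r']; infer_instance
    haveI : LocallyOfFiniteType r'.left := locallyOfFiniteType_of_comp r'.left M.hom
    infer_instance
  -- its identity component
  obtain ⟨gZ, hZ⟩ := exists_grpObj_idComp R
  let Z := idComp R
  let j : Z ⟶ R := idCompι R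
  haveI : IsMonHom j := hZ
  haveI : IsClosedImmersion j.left := inferInstanceAs (IsClosedImmersion (idCompι R).left)
  haveI : Flat j.left := flat_clopenIdeal_subschemeι _
  haveI : IsLocallyNoetherian R.left := LocallyOfFiniteType.isLocallyNoetherian R.hom
  haveI : LocallyOfFinitePresentation j.left := inferInstance
  haveI : IsOpenImmersion j.left := IsOpenImmersion.of_flat_of_mono j.left
  haveI : Smooth Z.hom := by rw [← Over.w j]; infer_instance
  haveI : IsAffine Z.left := isAffine_of_isAffineHom j.left
  haveI : ConnectedSpace Z.left := by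
    haveI : Nonempty Z.left := ⟨η[Z].left (IsLocalRing.closedPoint k)⟩
    haveI : PreconnectedSpace Z.left := ⟨by
      rw [← j.left.isEmbedding.isInducing.isPreconnected_image, Set.image_univ]
      erw [range_idCompι R]
      exact isPreconnected_connectedComponent⟩
    exact ⟨inferInstance⟩
  haveI : IsMonHom (j ≫ r') := inferInstance
  haveI : Flat (j ≫ r').left := by rw [Over.comp_left]; infer_instance
  haveI : LocallyOfFinitePresentation (j ≫ r').left := by rw [Over.comp_left]; infer_instance
  haveI : Surjective (j ≫ r').left := by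
    haveI : QuasiCompact (j ≫ r').left := by rw [Over.comp_left]; infer_instance
    obtain ⟨C, gC, p, c, hp, hc, hpc, hpf, hps, -, hcl, -, -⟩ :=
      ImageFactor.exists_image_factor Z M (j ≫ r') (by
        have h : ∀ {X : Scheme.{u}} (g : X ⟶ Spec (CommRingCat.of k)), Flat g := fun g => inferInstance
        exact h _)
    have hrange : Set.range (j ≫ r').left = Set.range c.left := by
      rw [← hpc, Over.comp_left, Scheme.Hom.comp_base, TopCat.coe_comp, Set.range_comp,
        Set.range_eq_univ.mpr (hps.1), Set.image_univ]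
    have hclopen : IsClopen (Set.range (j ≫ r').left) :=
      ⟨hrange ▸ c.left.isClosedEmbedding.isClosed_range, (j ≫ r').left.isOpenMap.isOpen_range⟩
    haveI : Nonempty Z.left := ⟨η[Z].left (IsLocalRing.closedPoint k)⟩
    exact ⟨Set.range_eq_univ.mp (hclopen.eq_univ (Set.range_nonempty _))⟩
  have h0 := eq_one_of_smooth_connected Z M (j ≫ r')
  haveI : Epi (j ≫ r') := (Over.forget _).epi_of_epi_map
    (show Epi (j ≫ r').left from Flat.epi_of_flat_of_surjective _)
  have : (𝟙 M) = (1 : M ⟶ M) := by rw [← cancel_epi (j ≫ r'), Category.comp_id, MonObj.comp_one, h0]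
  rw [← Category.id_comp l, this]
  haveI : IsMonHom l := hM
  exact MonObj.one_comp l

omit [IsAlgClosed k] in
/-- A group receiving a faithfully flat homomorphism from an affine algebraic group is affine. -/
theorem isAffine_of_flat_surjective (G Q : Over (Spec (CommRingCat.of k))) [GrpObj G] [GrpObj Q]
    [IsAffine G.left] [LocallyOfFiniteType G.hom] [LocallyOfFiniteType Q.hom] [QuasiCompact Q.hom]
    (q : G ⟶ Q) [IsMonHom q] [Flat q.left] [Surjective q.left] : IsAffine Q.left := by
  let g : Spec (CommRingCat.of (AlgebraicClosure k)) ⟶ Spec (CommRingCat.of k) :=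
    Spec.map (CommRingCat.ofHom (algebraMap k (AlgebraicClosure k)))
  let F := Over.pullback g
  letI : GrpObj (F.obj G) := Functor.grpObjObj
  letI : GrpObj (F.obj Q) := Functor.grpObjObj
  haveI : IsMonHom (F.map q) := inferInstance
  haveI : LocallyOfFiniteType (F.obj G).hom := by dsimp [F]; infer_instance
  haveI : LocallyOfFiniteType (F.obj Q).hom := by dsimp [F]; infer_instance
  haveI : QuasiCompact (F.obj Q).hom := by dsimp [F]; infer_instance
  haveI : IsAffineHom G.hom := inferInstance
  haveI : IsAffine (F.obj G).left :=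
    haveI : IsAffineHom (pullback.snd G.hom g) := MorphismProperty.pullback_snd _ _ ‹IsAffineHom G.hom›
    isAffine_of_isAffineHom (pullback.snd G.hom g)
  have hsq : IsPullback (pullback.fst G.hom g) (F.map q).left q.left (pullback.fst Q.hom g) := by
    refine IsPullback.of_bot ?_ ?_ (IsPullback.of_hasPullback Q.hom g)
    · simpa [F] using IsPullback.of_hasPullback G.hom g
    · simp [F]
  haveI : Flat (F.map q).left := MorphismProperty.of_isPullback hsq inferInstance
  haveI : Surjective (F.map q).left := MorphismProperty.of_isPullback hsq inferInstance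
  haveI : IsAffine (pullback Q.hom g) := isAffine_of_flat_surjective_algClosed (F.obj G) (F.obj Q) (F.map q)
  haveI : Surjective g := ⟨fun x => ⟨Classical.arbitrary _, Subsingleton.elim _ _⟩⟩
  haveI : IsAffineHom (pullback.snd Q.hom g) := (HasAffineProperty.iff_of_isAffine (P := @IsAffineHom)).mpr inferInstance
  haveI : IsAffineHom Q.hom :=
    MorphismProperty.of_pullback_snd_of_descendsAlong (P := @IsAffineHom) (Q := H18Descent.fpqc)
      (f := Q.hom) (g := g) ⟨⟨inferInstance, inferInstance⟩, inferInstance⟩ inferInstance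
  exact isAffine_of_isAffineHom Q.hom

end Groups

end Groth.Agent.H19Grp.AffineQuotient
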