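import Groth.Agent.H19Grp.ProjPoint
import Groth.Agent.H19Grp.AffinePoints
import Groth.Agent.H20Dyn.BigCellField
import Groth.Agent.H20Comod.Chevalley

/-!
# A morphism from an affine algebraic group whose fibres are the cosets of a closed subgroup
-/

set_option autoImplicit false
set_option maxHeartbeats 1000000
set_option synthInstance.maxHeartbeats 400000
set_option linter.style.haveILetI false
set_option backward.isDefEq.respectTransparency false

universe u

open CategoryTheory CategoryTheory.Limits MonoidalCategory CartesianMonoidalCategory AlgebraicGeometry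
open TensorProduct WithConv

namespace Groth.Agent.H19Grp.CosetMap

open H20Dyn (mcoef)
open ProjPoint (IsUnimod pt)

variable {k : Type u} [Field k]

section Algebra

variable {A : Type u} [CommRing A] [HopfAlgebra k A]
variable {V : Type u} [AddCommGroup V] [Module k V] [HopfRep.Comod k A V]
variable {σ : Type} [Fintype σ] (b : Module.Basis σ k V)

theorem coact_eq_sum (v : V) :
    HopfRep.Comod.coact (k := k) (A := A) v = ∑ i, b i ⊗ₜ[k] mcoef (H := A) (b.coord i) v := by
  classical
  have key : ∀ z : V ⊗[k] A, z = ∑ i, b i ⊗ₜ[k] TensorProduct.lid k A ((b.coord i).rTensor A z) := by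
    intro z
    induction z using TensorProduct.induction_on with
    | zero => simp
    | tmul x a =>
      conv_lhs => rw [← b.sum_repr x, TensorProduct.sum_tmul]
      refine Finset.sum_congr rfl fun i _ => ?_
      simp [TensorProduct.smul_tmul']
    | add x y hx hy =>
      simp only [map_add, TensorProduct.tmul_add, Finset.sum_add_distrib]
      rw [← hx, ← hy]
  exact key _

theorem comul_mcoef (φ : V →ₗ[k] k) (v : V) :
    CoalgebraStruct.comul (R := k) (mcoef (H := A) φ v) =
      ∑ i, mcoef (H := A) φ (b i) ⊗ₜ[k] mcoef (H := A) (b.coord i) v := by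
  have h := LinearMap.congr_fun (HopfRep.Comod.coassoc (k := k) (A := A) (V := V)) v
  let Φ : V ⊗[k] (A ⊗[k] A) →ₗ[k] A ⊗[k] A := (TensorProduct.lid k (A ⊗[k] A)).toLinearMap ∘ₗ φ.rTensor (A ⊗[k] A)
  have h1 := congrArg Φ h
  simp only [LinearMap.comp_apply, LinearEquiv.coe_coe] at h1
  have hR : ∀ z : V ⊗[k] A, Φ ((CoalgebraStruct.comul (R := k) (A := A)).lTensor V z) =
      CoalgebraStruct.comul (R := k) (TensorProduct.lid k A (φ.rTensor A z)) := by
    intro z
    induction z using TensorProduct.induction_on with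
    | zero => simp
    | tmul x a => simp [Φ]
    | add x y hx hy => simp only [map_add, hx, hy]
  have hL : ∀ (x : V) (a : A), Φ (TensorProduct.assoc k V A A (HopfRep.Comod.coact (k := k) (A := A) x ⊗ₜ[k] a)) =
      mcoef (H := A) φ x ⊗ₜ[k] a := by
    intro x a
    rw [mcoef]
    generalize HopfRep.Comod.coact (k := k) (A := A) x = z
    induction z using TensorProduct.induction_on with
    | zero => simp
    | tmul y c => simp [Φ, TensorProduct.smul_tmul']
    | add y c hy hc => simp only [TensorProduct.add_tmul, map_add, hy, hc]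
  rw [hR, coact_eq_sum b v, map_sum, map_sum, map_sum] at h1
  simp only [LinearMap.rTensor_tmul, hL] at h1
  rw [mcoef, coact_eq_sum b v]
  exact h1.symm

variable {C : Type u} [CommRing C] [Algebra k C]

theorem convMul_mcoef (x y : WithConv (A →ₐ[k] C)) (φ : V →ₗ[k] k) (v : V) :
    (x * y).ofConv (mcoef φ v) = ∑ i, x.ofConv (mcoef φ (b i)) * y.ofConv (mcoef (b.coord i) v) := by
  rw [AlgHom.convMul_apply, comul_mcoef b φ v, map_sum]
  simp

theorem one_mcoef (φ : V →ₗ[k] k) (v : V) :
    (1 : WithConv (A →ₐ[k] C)).ofConv (mcoef φ v) = φ v • (1 : C) := by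
  rw [Algebra.smul_def, mul_one, ← H20Dyn.counit_mcoef (H := A) φ v]
  simp

theorem comp_antipode_mul_self (f : A →ₐ[k] C) :
    toConv (f.comp (HopfAlgebra.antipodeAlgHom k A)) * toConv f = 1 := by
  refine WithConv.ext (AlgHom.ext fun a => ?_)
  let r := Coalgebra.Repr.arbitrary k a
  rw [AlgHom.convMul_apply, show CoalgebraStruct.comul (R := k) a = ∑ i ∈ r.index, r.left i ⊗ₜ[k] r.right i
    from r.eq.symm, map_sum]
  simp only [Algebra.TensorProduct.lift_tmul, WithConv.ofConv_toConv, AlgHom.comp_apply,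
    HopfAlgebra.antipodeAlgHom_apply, ← map_mul]
  rw [← map_sum, HopfAlgebra.sum_antipode_mul_eq_algebraMap_counit r]
  simp

/-- The coordinates of the orbit of `v` generate the unit ideal. -/
theorem span_mcoef {v : V} (hv : v ≠ 0) : Ideal.span (Set.range fun i => mcoef (H := A) (b.coord i) v) = ⊤ := by
  set J := Ideal.span (Set.range fun i => mcoef (H := A) (b.coord i) v)
  by_contra hJ
  obtain ⟨ψ, hψ⟩ : ∃ ψ : V →ₗ[k] k, ψ v ≠ 0 := by
    by_contra hcon
    push Not at hcon
    exact hv ((Module.forall_dual_apply_eq_zero_iff k v).1 hcon)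
  haveI : Nontrivial (A ⧸ J) := Ideal.Quotient.nontrivial_iff.mpr hJ
  let q : WithConv (A →ₐ[k] A ⧸ J) := toConv (Ideal.Quotient.mkₐ k J)
  have h := one_mcoef (C := A ⧸ J) (A := A) ψ v
  rw [← comp_antipode_mul_self (Ideal.Quotient.mkₐ k J), convMul_mcoef b] at h
  rw [Finset.sum_eq_zero fun i _ => ?_, eq_comm, smul_eq_zero] at h
  · exact h.elim hψ one_ne_zero
  · rw [show q.ofConv (mcoef (b.coord i) v) = 0 from
      Ideal.Quotient.eq_zero_iff_mem.mpr (Ideal.subset_span ⟨i, rfl⟩), mul_zero]

/-- Two points move `v` to proportional vectors iff they differ by a point stabilising the line. -/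
theorem stabilizesLine_iff_proportional {v : V} (hv : v ≠ 0) (x g₁ g₂ : WithConv (A →ₐ[k] C))
    (hxg : x * g₁ = 1) (hgx : g₁ * x = 1) :
    SGA3.StabilizesLine k A v C (x * g₂).ofConv ↔
      ∃ c : C, IsUnit c ∧ ∀ i, g₂.ofConv (mcoef (b.coord i) v) = c * g₁.ofConv (mcoef (b.coord i) v) := by
  rw [H20Dyn.stabilizesLine_iff]
  refine ⟨fun ⟨c, hc⟩ => ?_, fun ⟨c, _, hc⟩ => ⟨c, fun φ => ?_⟩⟩
  · have e : ∀ i, g₂.ofConv (mcoef (b.coord i) v) = c * g₁.ofConv (mcoef (b.coord i) v) := fun i => by
      conv_lhs => rw [show g₂ = g₁ * (x * g₂) by rw [← mul_assoc, hgx, one_mul]]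
      rw [H20Dyn.mul_apply_mcoef g₁ (x * g₂) v c (b.coord i) hc, mul_comm]
    refine ⟨c, ?_, e⟩
    have h := congrArg (Ideal.map (g₂.ofConv : A →+* C)) (span_mcoef b hv (A := A))
    rw [Ideal.map_span, Ideal.map_top, ← Set.range_comp, eq_top_iff] at h
    have hle : Ideal.span (Set.range ((g₂.ofConv : A →+* C) ∘ fun i => mcoef (H := A) (b.coord i) v)) ≤
        Ideal.span {c} := by
      rw [Ideal.span_le]
      rintro _ ⟨i, rfl⟩
      exact Ideal.mem_span_singleton'.mpr ⟨g₁.ofConv (mcoef (b.coord i) v), by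
        rw [mul_comm]; exact (e i).symm⟩
    exact Ideal.span_singleton_eq_top.mp (eq_top_iff.mpr (h.trans hle))
  · rw [convMul_mcoef b, Finset.sum_congr rfl fun i _ => by rw [hc i, mul_left_comm], ← Finset.mul_sum,
      ← convMul_mcoef b, hxg, one_mcoef, mul_smul_comm, mul_one]

end Algebra

section Scheme

open MonObj

variable {A B : CommRingCat.{u}} [HopfAlgebra (CommRingCat.of k) A] [Algebra (CommRingCat.of k) B]

attribute [-instance] instCommGrpObjSpecAsOverSpec
attribute [-instance] isCommMonObj_spec_asOver_spec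

/-- The points of `Spec A` with values in an affine scheme. -/
noncomputable def ofPt {C : Type u} [CommRing C] [Algebra k C]
    (p : (Spec (CommRingCat.of C)).asOver (Spec (CommRingCat.of k)) ⟶ (Spec A).asOver (Spec (CommRingCat.of k))) :
    WithConv (A →ₐ[k] C) :=
  (Spec.mapMulEquiv (R := k) (S := A) (T := C)).symm p

theorem ofPt_left {C : Type u} [CommRing C] [Algebra k C]
    (p : (Spec (CommRingCat.of C)).asOver (Spec (CommRingCat.of k)) ⟶ (Spec A).asOver (Spec (CommRingCat.of k))) :
    p.left = Spec.map (CommRingCat.ofHom (ofPt p).ofConv.toRingHom) :=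
  (congrArg (·.left) ((Spec.mapMulEquiv (R := k) (S := A) (T := C)).apply_symm_apply p)).symm

/-- Equality of morphisms out of any scheme can be checked on affine points. -/
theorem exists_affine_cover (T : Over (Spec (CommRingCat.of k))) :
    ∃ (𝒰 : Scheme.OpenCover.{u} T.left), ∀ i, ∃ (C : CommRingCat.{u}) (_ : Algebra k C) (e : Spec C ≅ 𝒰.X i)
      (p : (Spec (CommRingCat.of C)).asOver (Spec (CommRingCat.of k)) ⟶ T), p.left = e.hom ≫ 𝒰.f i := by
  refine ⟨T.left.affineOpenCover.openCover, fun i => ?_⟩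
  let C := T.left.affineOpenCover.X i
  let w : Spec C ⟶ Spec (CommRingCat.of k) := T.left.affineOpenCover.f i ≫ T.hom
  letI alg : Algebra k C := (Spec.preimage w).hom.toAlgebra
  refine ⟨C, alg, Iso.refl _, Over.homMk (T.left.affineOpenCover.f i) ?_, (Category.id_comp _).symm⟩
  show w = Spec.map _
  rw [RingHom.algebraMap_toAlgebra]
  exact (Spec.map_preimage w).symm

/-- A point factors through a closed subscheme when all its affine points do. -/
theorem exists_factor (h : (Spec B).asOver (Spec (CommRingCat.of k)) ⟶ (Spec A).asOver (Spec (CommRingCat.of k)))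
    [Mono h.left] {T : Over (Spec (CommRingCat.of k))} (d : T ⟶ (Spec A).asOver (Spec (CommRingCat.of k)))
    (H : ∀ (C : Type u) [CommRing C] [Algebra k C] (p : (Spec (CommRingCat.of C)).asOver (Spec (CommRingCat.of k)) ⟶ T),
      ∃ m : Spec (CommRingCat.of C) ⟶ Spec B, m ≫ h.left = (p ≫ d).left) :
    ∃ n : T ⟶ (Spec B).asOver (Spec (CommRingCat.of k)), n ≫ h = d := by
  obtain ⟨𝒰, h𝒰⟩ := exists_affine_cover T
  have hm : ∀ i, ∃ m : 𝒰.X i ⟶ Spec B, m ≫ h.left = 𝒰.f i ≫ d.left := fun i => by
    obtain ⟨C, _, e, p, hp⟩ := h𝒰 i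
    obtain ⟨m, hm⟩ := H C p
    refine ⟨e.inv ≫ m, ?_⟩
    rw [Category.assoc, hm, Over.comp_left, hp, Category.assoc, Iso.inv_hom_id_assoc]
  choose m hm using hm
  let n := 𝒰.glueMorphisms m fun i j => by
    rw [← cancel_mono h.left, Category.assoc, Category.assoc, hm, hm, pullback.condition_assoc]
  have hn : n ≫ h.left = d.left := 𝒰.hom_ext _ _ fun i => by
    rw [Scheme.Cover.ι_glueMorphisms_assoc, hm]
  refine ⟨Over.homMk n ?_, Over.OverMorphism.ext hn⟩
  show n ≫ ((Spec B).asOver (Spec (CommRingCat.of k))).hom = T.hom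
  rw [← Over.w h, ← Category.assoc, hn]
  exact Over.w d

/-- Equality can be checked on affine points. -/
theorem hom_ext_affine {T X : Over (Spec (CommRingCat.of k))} (a b : T ⟶ X)
    (H : ∀ (C : Type u) [CommRing C] [Algebra k C] (p : (Spec (CommRingCat.of C)).asOver (Spec (CommRingCat.of k)) ⟶ T),
      p ≫ a = p ≫ b) : a = b := by
  obtain ⟨𝒰, h𝒰⟩ := exists_affine_cover T
  refine Over.OverMorphism.ext (𝒰.hom_ext _ _ fun i => ?_)
  obtain ⟨C, _, e, p, hp⟩ := h𝒰 i
  have := congrArg (·.left) (H C p)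
  simp only [Over.comp_left, hp, Category.assoc] at this
  exact (cancel_epi e.hom).mp this

/-- A closed subgroup of an affine algebraic group is the fibre structure of a morphism to a
projective space. -/
theorem exists_cosetMap [Algebra.FiniteType k A]
    (I : Ideal A) [I.IsHopfIdeal k] (α : A →ₐ[k] B) (hα : Function.Surjective α) (hI : RingHom.ker α = I)
    (h : (Spec B).asOver (Spec (CommRingCat.of k)) ⟶ (Spec A).asOver (Spec (CommRingCat.of k)))
    (hh : h.left = Spec.map (CommRingCat.ofHom α.toRingHom)) :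
    ∃ (X : Over (Spec (CommRingCat.of k))) (f : (Spec A).asOver (Spec (CommRingCat.of k)) ⟶ X),
      LocallyOfFiniteType X.hom ∧
      IsPullback (fst _ _) ((_ ◁ h) ≫ μ[(Spec A).asOver (Spec (CommRingCat.of k))]) f f := by
  classical
  haveI : IsNoetherianRing A := Algebra.FiniteType.isNoetherianRing k A
  obtain ⟨V, _, _, _, _, v, hv, hrep⟩ := H20Comod.exists_line_stabilizer (k := k) (A := A) I
  haveI : Nontrivial V := ⟨v, 0, hv⟩
  obtain ⟨n, hn⟩ : ∃ n, Module.finrank k V = n + 1 :=
    ⟨_, (Nat.sub_add_cancel (Module.finrank_pos (R := k) (M := V))).symm⟩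
  let b : Module.Basis (Fin (n + 1)) k V := (Module.finBasis k V).reindex (finCongr hn)
  let s : Fin (n + 1) → A := fun i => mcoef (b.coord i) v
  have hs : IsUnimod s := span_mcoef b hv
  let X : Over (Spec (CommRingCat.of k)) := Over.mk (CohB1.ProjSpace.toSpec n k)
  let f : (Spec A).asOver (Spec (CommRingCat.of k)) ⟶ X := Over.homMk (pt k s hs) (ProjPoint.pt_toSpec s hs)
  haveI : Mono h.left := by
    haveI : IsClosedImmersion (Spec.map (CommRingCat.ofHom α.toRingHom)) := IsClosedImmersion.spec_of_surjective _ hα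
    rw [hh]; infer_instance
  haveI : Mono h := (Over.forget _).mono_of_mono_map (inferInstanceAs (Mono h.left))
  have hpf : ∀ {C : Type u} [CommRing C] [Algebra k C]
      (p : (Spec (CommRingCat.of C)).asOver (Spec (CommRingCat.of k)) ⟶ (Spec A).asOver (Spec (CommRingCat.of k))),
      (p ≫ f).left = pt k (fun i => (ofPt p).ofConv (s i)) (hs.map ((ofPt p).ofConv : A →+* C)) := by
    intro C _ _ p
    rw [Over.comp_left, ofPt_left p]
    exact ProjPoint.map_pt (ofPt p).ofConv s hs
  -- two affine points have the same image iff they differ by a point of the subgroup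
  have hiff : ∀ {C : Type u} [CommRing C] [Algebra k C]
      (p q : (Spec (CommRingCat.of C)).asOver (Spec (CommRingCat.of k)) ⟶ (Spec A).asOver (Spec (CommRingCat.of k))),
      p ≫ f = q ≫ f ↔ ∃ m : Spec (CommRingCat.of C) ⟶ Spec B, m ≫ h.left = (p⁻¹ * q).left := by
    intro C _ _ p q
    have e1 : ofPt p⁻¹ * ofPt q = ofPt (p⁻¹ * q) := by simp [ofPt]
    have hxg : ofPt p⁻¹ * ofPt p = 1 := by simp [ofPt, ← map_mul]
    have hgx : ofPt p * ofPt p⁻¹ = 1 := by simp [ofPt, ← map_mul]
    have e2 : (p ≫ f = q ≫ f) ↔ SGA3.StabilizesLine k A v C (ofPt p⁻¹ * ofPt q).ofConv := by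
      rw [stabilizesLine_iff_proportional b hv _ _ _ hxg hgx]
      refine ⟨fun e => ?_, fun ⟨c, hc, e⟩ => Over.OverMorphism.ext ?_⟩
      · have e' := congrArg (·.left) e
        simp only [hpf] at e'
        exact ProjPoint.exists_smul_of_pt_eq _ _ _ _ e'
      · rw [hpf, hpf]
        symm
        have hc' : IsUnimod fun i => c * (ofPt p).ofConv (s i) := by
          have := hs.map ((ofPt q).ofConv : A →+* C)
          simpa [s, e] using this
        refine Eq.trans ?_ (ProjPoint.pt_smul _ _ c hc hc')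
        congr 1
        exact funext e
    refine e2.trans ((hrep C (ofPt p⁻¹ * ofPt q).ofConv).symm.trans ?_)
    rw [e1, ofPt_left (p⁻¹ * q), hh]
    refine ⟨fun hk => ?_, fun ⟨m, hm⟩ a ha => ?_⟩
    · let β : B →+* C := (α : A →+* B).liftOfSurjective hα ⟨((ofPt (p⁻¹ * q)).ofConv : A →+* C), fun a ha => hk a (hI ▸ ha)⟩
      refine ⟨Spec.map (CommRingCat.ofHom β), ?_⟩
      rw [← Spec.map_comp, ← CommRingCat.ofHom_comp]
      congr 2
      exact RingHom.liftOfRightInverse_comp _ _ _ _
    · obtain ⟨β, rfl⟩ := Spec.map_surjective m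
      rw [← Spec.map_comp] at hm
      have := congr($(Spec.map_injective hm).hom a)
      rw [← hI, RingHom.mem_ker] at ha
      simp only [CommRingCat.hom_comp, RingHom.comp_apply, CommRingCat.hom_ofHom] at this
      exact this.symm.trans ((congrArg _ ha).trans (map_zero _))
  refine ⟨X, f, ?_, ?_⟩
  · exact Groth.Agent.H19Grp.ProjPoint.lft_toSpec n
  have hmu : ∀ {T : Over (Spec (CommRingCat.of k))} (t : T ⟶ (Spec A).asOver (Spec (CommRingCat.of k)) ⊗ (Spec B).asOver (Spec (CommRingCat.of k))),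
      t ≫ (_ ◁ h) ≫ μ[(Spec A).asOver (Spec (CommRingCat.of k))] = (t ≫ fst _ _) * (t ≫ snd _ _ ≫ h) :=
    fun {T} t => by
      rw [Hom.mul_def, ← Category.assoc]
      congr 1
      apply CartesianMonoidalCategory.hom_ext <;> simp
  have w : fst _ _ ≫ f = ((_ ◁ h) ≫ μ[(Spec A).asOver (Spec (CommRingCat.of k))]) ≫ f := by
    refine hom_ext_affine _ _ fun C _ _ t => ?_
    rw [← Category.assoc, ← Category.assoc, hiff, hmu, inv_mul_cancel_left]
    exact ⟨(t ≫ snd _ _).left, by rw [← Over.comp_left, Category.assoc]⟩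
  have hfac : ∀ z : PullbackCone f f, ∃ m : z.pt ⟶ (Spec B).asOver (Spec (CommRingCat.of k)),
      m ≫ h = z.fst⁻¹ * z.snd := fun z => exists_factor h _ fun C _ _ p => by
    have e := congrArg (p ≫ ·) z.condition
    simp only [← Category.assoc] at e
    rw [hiff] at e
    rwa [MonObj.comp_mul, GrpObj.comp_inv]
  choose m hm using hfac
  refine ⟨⟨w⟩, ⟨PullbackCone.IsLimit.mk _ (fun z => lift z.fst (m z)) (fun z => lift_fst _ _) (fun z => ?_)
    (fun z t h1 h2 => ?_)⟩⟩
  · rw [hmu, lift_fst, lift_snd_assoc, hm, mul_inv_cancel_left]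
  · apply CartesianMonoidalCategory.hom_ext
    · rw [lift_fst, h1]
    · rw [lift_snd, ← cancel_mono h, hm, Category.assoc, ← h1, ← h2, hmu, inv_mul_cancel_left]

end Scheme

end Groth.Agent.H19Grp.CosetMap
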