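import Groth.Prelude.Def_AlgGrp
import Groth.Agent.H19Grp.ImageGroup
import Groth.Agent.H19Grp.SmoothLocus
import Mathlib

/-!
# Reduced orbits are smooth
-/

set_option autoImplicit false
set_option linter.style.haveILetI false
set_option backward.isDefEq.respectTransparency false

universe u

open CategoryTheory CategoryTheory.Limits MonoidalCategory CartesianMonoidalCategory MonObj GrpObj
  AlgebraicGeometry

namespace Groth.Agent.H19Grp

/-- A reduced scheme over an algebraically closed field whose closed points are permuted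
transitively by automorphisms is smooth. -/
theorem smooth_of_transitive {K : Type u} [Field K] [IsAlgClosed K] {O : Scheme.{u}}
    (f : O ⟶ Spec (CommRingCat.of K)) [LocallyOfFiniteType f] [IsReduced O]
    (h : ∀ x y : O, IsClosed ({x} : Set O) → IsClosed ({y} : Set O) →
      ∃ e : O ⟶ O, IsIso e ∧ e ≫ f = f ∧ e x = y) : Smooth f := by
  haveI := LocallyOfFiniteType.jacobsonSpace f
  rw [← Scheme.Hom.smoothLocus_eq_top_iff, ← TopologicalSpace.Opens.coe_eq_univ,
    ← not_ne_iff, ← Set.nonempty_compl]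
  intro H
  obtain ⟨x, hx, hxc⟩ :=
    nonempty_inter_closedPoints H f.smoothLocus.2.isClosed_compl.isLocallyClosed
  haveI : Nonempty O := ⟨x⟩
  have hd : Dense (f.smoothLocus : Set O) := f.dense_smoothLocus_of_perfectField
  obtain ⟨y, hy, hyc⟩ := nonempty_inter_closedPoints hd.nonempty f.smoothLocus.2.isLocallyClosed
  obtain ⟨e, he, hef, hex⟩ := h x y hxc hyc
  apply hx
  have h1 : x ∈ e ⁻¹ᵁ f.smoothLocus := by rw [Scheme.Hom.mem_preimage, hex]; exact hy
  rw [Scheme.Hom.preimage_smoothLocus_eq] at h1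
  simp only [hef] at h1
  exact h1

section action

variable {S : Scheme.{u}} {G X : Over S} [GrpObj G] (a : AlgGrp.Action G X)

lemma act_one {T : Over S} (z : T ⟶ X) : lift (1 : T ⟶ G) z ≫ a.act = z := by
  have h : lift (1 : T ⟶ G) z = lift (toUnit T) z ≫ (η[G] ▷ X) := by
    rw [lift_whiskerRight, Hom.one_def]
  rw [h, Category.assoc, a.one_act, lift_leftUnitor_hom]

lemma act_mul {T : Over S} (g h : T ⟶ G) (z : T ⟶ X) :
    lift (g * h) z ≫ a.act = lift g (lift h z ≫ a.act) ≫ a.act := by
  have h1 : lift (g * h) z = lift (lift g h) z ≫ (μ[G] ▷ X) := by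
    rw [lift_whiskerRight, Hom.mul_def]
  rw [h1, Category.assoc, a.mul_act, lift_lift_associator_hom_assoc, ← Category.assoc,
    lift_whiskerLeft]

/-- Translation by a T-point on X × T. -/
noncomputable def trans {T : Over S} (g : T ⟶ G) : X ⊗ T ⟶ X ⊗ T :=
  lift (lift (snd X T ≫ g) (fst X T) ≫ a.act) (snd X T)

/-- Left multiplication by a T-point on G × T. -/
noncomputable def leftMul {T : Over S} (g : T ⟶ G) : G ⊗ T ⟶ G ⊗ T :=
  lift ((snd G T ≫ g) * fst G T) (snd G T)

lemma trans_trans {T : Over S} (g h : T ⟶ G) : trans a g ≫ trans a h = trans a (h * g) := by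
  apply CartesianMonoidalCategory.hom_ext
  · simp only [trans, Category.assoc, lift_fst, comp_lift_assoc, lift_snd_assoc,
      MonObj.comp_mul, act_mul]
  · simp [trans]

lemma trans_one {T : Over S} : trans a (1 : T ⟶ G) = 𝟙 _ := by
  apply CartesianMonoidalCategory.hom_ext
  · simp only [trans, lift_fst, MonObj.comp_one, act_one, Category.id_comp]
  · simp [trans]

lemma leftMul_orbit (o : 𝟙_ (Over S) ⟶ X) {T : Over S} (g : T ⟶ G) :
    leftMul g ≫ (a.orbitMap o ▷ T) = (a.orbitMap o ▷ T) ≫ trans a g := by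
  apply CartesianMonoidalCategory.hom_ext
  · simp only [leftMul, trans, AlgGrp.Action.orbitMap, lift_whiskerRight, lift_fst, Category.assoc,
      whiskerRight_fst, comp_lift_assoc, whiskerRight_snd_assoc, Category.comp_id, act_mul]
    congr 2
    rw [← Category.assoc, toUnit_unique (_ ≫ toUnit G) (fst G T ≫ toUnit G), Category.assoc]
  · simp [leftMul, trans]

end action

/-- Reduced orbits are smooth. -/
theorem smooth_orbit {k : Type u} [Field k] {G X : Over (Spec (CommRingCat.of k))} [GrpObj G]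
    [LocallyOfFiniteType G.hom] (a : AlgGrp.Action G X)
    (o : 𝟙_ (Over (Spec (CommRingCat.of k))) ⟶ X) (O : Over (Spec (CommRingCat.of k)))
    [GeometricallyReduced O.hom] [LocallyOfFiniteType O.hom] (i : O ⟶ X) [IsImmersion i.left]
    (g₀ : G ⟶ O) [Surjective g₀.left] (hg : g₀ ≫ i = a.orbitMap o) : Smooth O.hom := by
  let s := Spec.map (CommRingCat.ofHom (algebraMap k (AlgebraicClosure k)))
  let T : Over (Spec (CommRingCat.of k)) := Over.mk s
  haveI : IsReduced (O ⊗ T).left :=
    inferInstanceAs (IsReduced (pullback O.hom s))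
  haveI : IsImmersion (i ▷ T).left :=
    MorphismProperty.pullbackMap (P := @IsImmersion) (inferInstanceAs (IsImmersion i.left))
      (inferInstanceAs (IsImmersion (𝟙 T.left))) (Over.w i).symm (Category.id_comp _).symm
  haveI : Mono (i ▷ T) := (Over.forget _).mono_of_mono_map (inferInstanceAs (Mono (i ▷ T).left))
  haveI : Surjective (g₀ ▷ T).left :=
    MorphismProperty.pullbackMap (P := @Surjective) (inferInstanceAs (Surjective g₀.left))
      (inferInstanceAs (Surjective (𝟙 T.left))) (Over.w g₀).symm (Category.id_comp _).symm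
  have key : ∀ g : T ⟶ G, (g₀ ▷ T) ≫ (i ▷ T) ≫ trans a g = (leftMul g ≫ (g₀ ▷ T)) ≫ (i ▷ T) := by
    intro g
    rw [Category.assoc, ← comp_whiskerRight_assoc, hg, ← comp_whiskerRight, hg, leftMul_orbit]
  have hlift : ∀ g : T ⟶ G, ∃ σ : O ⊗ T ⟶ O ⊗ T, σ ≫ (i ▷ T) = (i ▷ T) ≫ trans a g := by
    intro g
    let F := ((i ▷ T) ≫ trans a g).left
    let j := (i ▷ T).left
    have hr : Set.range F ⊆ Set.range j := by
      rintro _ ⟨z, rfl⟩
      obtain ⟨w, rfl⟩ := (g₀ ▷ T).left.surjective z
      exact ⟨((leftMul g ≫ (g₀ ▷ T))).left w, (congrArg (fun m => m.left w) (key g)).symm⟩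
    have hr' : Set.range F ⊆ Set.range j.coborderRange.ι := by
      rintro _ hz
      obtain ⟨w, hw⟩ := hr hz
      refine ⟨j.liftCoborder w, ?_⟩
      rw [← Scheme.Hom.comp_apply, Scheme.Hom.liftCoborder_ι]
      exact hw
    obtain ⟨F₁, hF₁⟩ : ∃ F₁, F₁ ≫ j.coborderRange.ι = F :=
      ⟨IsOpenImmersion.lift _ F hr', IsOpenImmersion.lift_fac _ _ _⟩
    obtain ⟨σ, hσ⟩ := H17.exists_lift_of_range_subset F₁ j.liftCoborder (by
      rintro _ ⟨z, rfl⟩
      obtain ⟨w, hw⟩ := hr ⟨z, rfl⟩
      refine ⟨w, j.coborderRange.ι.isOpenEmbedding.injective ?_⟩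
      rw [← Scheme.Hom.comp_apply, ← Scheme.Hom.comp_apply, Scheme.Hom.liftCoborder_ι, hF₁]
      exact hw)
    have hσ' : σ ≫ j = F := by rw [← hF₁, ← hσ, Category.assoc, Scheme.Hom.liftCoborder_ι]
    refine ⟨Over.homMk σ ?_, Over.OverMorphism.ext hσ'⟩
    rw [← Over.w (i ▷ T), ← Category.assoc, hσ']
    exact (Over.w ((i ▷ T) ≫ trans a g)).trans (Over.w (i ▷ T)).symm
  choose σ hσ using hlift
  have hσmul : ∀ g h, σ g ≫ σ h = σ (h * g) := fun g h => by
    rw [← cancel_mono (i ▷ T), Category.assoc, hσ, reassoc_of% (hσ g), hσ, trans_trans]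
  have hσone : σ 1 = 𝟙 _ := by
    rw [← cancel_mono (i ▷ T), hσ, trans_one, Category.comp_id, Category.id_comp]
  let fb : (O ⊗ T).left ⟶ Spec (CommRingCat.of (AlgebraicClosure k)) := (snd O T).left
  haveI : LocallyOfFiniteType fb := inferInstanceAs (LocallyOfFiniteType (pullback.snd O.hom s))
  have hsm : Smooth fb := by
    refine smooth_of_transitive fb fun x y hx hy => ?_
    haveI : LocallyOfFiniteType (snd G T).left :=
      inferInstanceAs (LocallyOfFiniteType (pullback.snd G.hom s))
    haveI : JacobsonSpace T.left :=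
      inferInstanceAs (JacobsonSpace (Spec (CommRingCat.of (AlgebraicClosure k))))
    haveI : JacobsonSpace (G ⊗ T).left := LocallyOfFiniteType.jacobsonSpace (snd G T).left
    have hpt : ∀ z : (O ⊗ T).left, IsClosed ({z} : Set (O ⊗ T).left) →
        ∃ p : T ⟶ G, ∀ t, ((lift p (𝟙 T)) ≫ (g₀ ▷ T)).left t = z := by
      intro z hz
      obtain ⟨w, hw, hwc⟩ := nonempty_inter_closedPoints
        (Z := (g₀ ▷ T).left ⁻¹' {z}) ((g₀ ▷ T).left.surjective z)
        (hz.preimage (g₀ ▷ T).left.continuous).isLocallyClosed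
      let q : T ⟶ G ⊗ T := Over.homMk (pointOfClosedPoint (snd G T).left w hwc) (by
        rw [← Over.w (snd G T), ← Category.assoc, pointOfClosedPoint_comp]
        exact Category.id_comp _)
      have hq : lift (q ≫ fst G T) (𝟙 T) = q := by
        apply CartesianMonoidalCategory.hom_ext
        · simp
        · simp only [lift_snd]
          ext1
          exact (pointOfClosedPoint_comp _ _ _).symm
      refine ⟨q ≫ fst G T, fun t => ?_⟩
      rw [hq, Over.comp_left, Scheme.Hom.comp_apply]
      exact (congrArg (g₀ ▷ T).left (pointOfClosedPoint_apply _ _ _ t)).trans hw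
    obtain ⟨p, hp⟩ := hpt x hx
    obtain ⟨q, hq⟩ := hpt y hy
    let e : O ⊗ T ≅ O ⊗ T :=
      ⟨σ (q * p⁻¹), σ (q * p⁻¹)⁻¹, by rw [hσmul, inv_mul_cancel, hσone],
        by rw [hσmul, mul_inv_cancel, hσone]⟩
    refine ⟨e.hom.left, ((Over.forget _).mapIso e).isIso_hom, ?_, ?_⟩
    · have : σ (q * p⁻¹) ≫ snd O T = snd O T := by
        have h := congrArg (· ≫ snd X T) (hσ (q * p⁻¹))
        simpa [trans] using h
      exact congrArg (·.left) this
    · have h : (lift p (𝟙 T) ≫ (g₀ ▷ T)) ≫ σ (q * p⁻¹) = lift q (𝟙 T) ≫ (g₀ ▷ T) := by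
        rw [← cancel_mono (i ▷ T), Category.assoc, Category.assoc, hσ, key, ← Category.assoc,
          ← Category.assoc]
        congr 2
        apply CartesianMonoidalCategory.hom_ext
        · simp [leftMul, MonObj.comp_mul, _root_.mul_assoc]
        · simp [leftMul]
      have h2 := congrArg (fun m => m.left (IsLocalRing.closedPoint (AlgebraicClosure k))) h
      simp only [Over.comp_left, Scheme.Hom.comp_apply] at h2
      rw [← hp (IsLocalRing.closedPoint _), ← hq (IsLocalRing.closedPoint _)]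
      exact h2
  apply MorphismProperty.of_pullback_snd_of_descendsAlong
    (Q := @Surjective ⊓ @Flat ⊓ @QuasiCompact) (g := s)
  · exact ⟨⟨inferInstance, inferInstance⟩, inferInstance⟩
  · exact hsm

end Groth.Agent.H19Grp
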