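import Groth.Agent.H19Grp.AffineQuotient
import Groth.Agent.H19Grp.AntiAffineGroup
import Groth.Agent.H19Grp.KernelSquare
import Groth.Agent.H19Grp.ImageFactor
import Groth.Agent.H19Grp.Quotient
import Groth.Agent.S3278
import Groth.Agent.S14580

/-!
# The largest anti-affine subgroup

The largest anti-affine subgroup is the kernel of the homomorphism to the affinization; images of normal
subgroups under faithfully flat homomorphisms are normal.
-/

set_option autoImplicit false
set_option maxHeartbeats 1000000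
set_option synthInstance.maxHeartbeats 400000
set_option linter.style.haveILetI false
set_option backward.isDefEq.respectTransparency false

universe u

open CategoryTheory CategoryTheory.Limits MonoidalCategory CartesianMonoidalCategory MonObj GrpObj
  AlgebraicGeometry

namespace Groth.Agent.H19Grp.AntPart

variable {k : Type u} [Field k]

/-- A fibre product of two points over the base. -/
theorem exists_square {T U Y : Over (Spec (CommRingCat.of k))} (f : T ⟶ Y) (g : U ⟶ Y) :
    ∃ (P : Over (Spec (CommRingCat.of k))) (a : P ⟶ T) (b : P ⟶ U), a ≫ f = b ≫ g ∧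
      ([Surjective g.left] → Surjective a.left) ∧ ([Flat g.left] → Flat a.left) ∧
      ([QuasiCompact g.left] → QuasiCompact a.left) := by
  refine ⟨Over.mk (pullback.fst f.left g.left ≫ T.hom), Over.homMk (pullback.fst f.left g.left) rfl,
    Over.homMk (pullback.snd f.left g.left) ?_, Over.OverMorphism.ext pullback.condition, ?_, ?_, ?_⟩
  · show pullback.snd f.left g.left ≫ U.hom = pullback.fst f.left g.left ≫ T.hom
    rw [← Over.w f, ← Over.w g, pullback.condition_assoc]
  · intro _; exact inferInstanceAs (Surjective (pullback.fst f.left g.left))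
  · intro _; exact inferInstanceAs (Flat (pullback.fst f.left g.left))
  · intro _; exact inferInstanceAs (QuasiCompact (pullback.fst f.left g.left))

/-- The image of a normal subgroup under a faithfully flat homomorphism is normal. -/
theorem isNormalHom_image {G A N C : Over (Spec (CommRingCat.of k))} [GrpObj G] [GrpObj A] [GrpObj N] [GrpObj C]
    (f : G ⟶ A) [IsMonHom f] [Flat f.left] [Surjective f.left] [QuasiCompact f.left]
    (i : N ⟶ G) (hN : AlgGrp.IsNormalHom i) (c : C ⟶ A) [IsMonHom c] [IsClosedImmersion c.left]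
    (p : N ⟶ C) [Flat p.left] [Surjective p.left] [QuasiCompact p.left] (hpc : p ≫ c = i ≫ f) :
    AlgGrp.IsNormalHom c := by
  have key : ∀ {T T' : Over (Spec (CommRingCat.of k))} (π : T' ⟶ T) [Flat π.left] [Surjective π.left]
      [QuasiCompact π.left] (a : T ⟶ A) (x : T ⟶ C) (g : T' ⟶ G) (n : T' ⟶ N), g ≫ f = π ≫ a → n ≫ p = π ≫ x →
      ∃ y : T ⟶ C, a * (x ≫ c) * a⁻¹ = y ≫ c := fun {T T'} π _ _ _ a x g n hg hn => by
    obtain ⟨n', hn'⟩ := hN T' g n
    have e : (n' ≫ p) ≫ c = π ≫ (a * (x ≫ c) * a⁻¹) := by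
      rw [Category.assoc, hpc, ← Category.assoc, ← hn', MonObj.mul_comp, MonObj.mul_comp, GrpObj.inv_comp,
        Category.assoc, ← hpc, ← Category.assoc n, hn, hg, MonObj.comp_mul, MonObj.comp_mul, GrpObj.comp_inv,
        Category.assoc]
    obtain ⟨h, hh⟩ := H19Grp.exists_lift_of_cover c _ π (n' ≫ p) e
    exact ⟨h, hh.symm⟩
  intro T a x
  obtain ⟨P, π₁, g, hg, hs₁, hf₁, hq₁⟩ := exists_square a f
  obtain ⟨P', π₂, n, hn, hs₂, hf₂, hq₂⟩ := exists_square (π₁ ≫ x) p
  haveI := @hs₁ ‹_›; haveI := @hf₁ ‹_›; haveI := @hq₁ ‹_›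
  haveI := @hs₂ ‹_›; haveI := @hf₂ ‹_›; haveI := @hq₂ ‹_›
  haveI : Flat (π₂ ≫ π₁).left := by rw [Over.comp_left]; infer_instance
  haveI : Surjective (π₂ ≫ π₁).left := by rw [Over.comp_left]; infer_instance
  haveI : QuasiCompact (π₂ ≫ π₁).left := by rw [Over.comp_left]; infer_instance
  exact key (π₂ ≫ π₁) a x (π₂ ≫ g) n (by rw [Category.assoc, Category.assoc, hg]) (by rw [← hn, Category.assoc])

variable (G : Over (Spec (CommRingCat.of k))) [GrpObj G] [LocallyOfFiniteType G.hom] [QuasiCompact G.hom]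
  {M : Over (Spec (CommRingCat.of k))} [GrpObj M] [LocallyOfFiniteType M.hom] [QuasiCompact M.hom]

/-- The largest anti-affine subgroup is the kernel of a faithfully flat homomorphism to an affine group. -/
theorem exists_affinization (j : M ⟶ G) [IsMonHom j]
    (hM : Function.Bijective ((Scheme.ΓSpecIso (CommRingCat.of k)).inv ≫ M.hom.appTop).hom)
    (hmax : ∀ (M₁ : Over (Spec (CommRingCat.of k))) [GrpObj M₁] [LocallyOfFiniteType M₁.hom] [QuasiCompact M₁.hom]
      (j₁ : M₁ ⟶ G) [IsMonHom j₁] [IsClosedImmersion j₁.left],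
      Function.Bijective ((Scheme.ΓSpecIso (CommRingCat.of k)).inv ≫ M₁.hom.appTop).hom → ∃ g : M₁ ⟶ M, g ≫ j = j₁) :
    ∃ (A : Over (Spec (CommRingCat.of k))) (_ : GrpObj A) (r : G ⟶ A), IsMonHom r ∧ IsAffine A.left ∧
      LocallyOfFiniteType A.hom ∧ QuasiCompact A.hom ∧ Flat r.left ∧ Surjective r.left ∧ QuasiCompact r.left ∧
      j ≫ r = 1 ∧ ∀ {T : Over (Spec (CommRingCat.of k))} (x : T ⟶ G), x ≫ r = 1 → ∃ y : T ⟶ M, y ≫ j = x := by
  haveI : IsNoetherianRing (CommRingCat.of k) := inferInstanceAs (IsNoetherianRing k)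
  haveI : IsLocallyNoetherian G.left := LocallyOfFiniteType.isLocallyNoetherian G.hom
  haveI : QuasiSeparated G.hom := inferInstance
  obtain ⟨gA, hρ⟩ := Affinization.exists_grpObj G
  obtain ⟨hf, hs, hl⟩ := Affinization.flat_surjective G
  haveI : LocallyOfFiniteType (Affinization.aff G).hom := hl
  haveI : IsSeparated (Affinization.aff G).hom := inferInstance
  have hqc : QuasiCompact (Affinization.rho G).left := by
    haveI : QuasiCompact ((Affinization.rho G).left ≫ (Affinization.aff G).hom) := by rw [Over.w]; infer_instance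
    exact QuasiCompact.of_comp (Affinization.rho G).left (Affinization.aff G).hom
  haveI : IsIso M.hom.appTop := (AntiAffine.isIso_appTop_iff M.hom).mpr hM
  refine ⟨Affinization.aff G, gA, Affinization.rho G, hρ, inferInstance, hl, inferInstance, hf, hs, hqc,
    AntiAffineGroup.eq_one_of_isAffine (j ≫ Affinization.rho G) (IsMonHom.one_hom _), fun {T} x hx => ?_⟩
  obtain ⟨gN, hiN⟩ := AffinizationKernel.exists_grpObj G
  haveI : LocallyOfFiniteType (AffinizationKernel.N G).hom := by
    rw [← Over.w (AffinizationKernel.incl G)]; infer_instance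
  haveI : QuasiCompact (AffinizationKernel.N G).hom := by
    rw [← Over.w (AffinizationKernel.incl G)]; infer_instance
  obtain ⟨g, hg⟩ := hmax (AffinizationKernel.N G) (AffinizationKernel.incl G)
    ((AntiAffine.isIso_appTop_iff _).mp (AffinizationKernel.smooth_and_connected G).1)
  obtain ⟨y, hy⟩ := AffinizationKernel.lift_rho G x (by
    rw [hx, Hom.one_def, IsMonHom.one_hom (Affinization.rho G)])
  exact ⟨y ≫ g, by rw [Category.assoc, hg, hy]⟩


/-- Anti-affine subgroups of a quotient are covered by the kernel of a homomorphism to an affine group. -/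
theorem range_le_of_affine {P Y K M' D A : Over (Spec (CommRingCat.of k))} [GrpObj P] [GrpObj Y] [GrpObj K]
    [GrpObj M'] [GrpObj A] [LocallyOfFiniteType K.hom] [QuasiCompact K.hom] [LocallyOfFiniteType A.hom] [IsAffine A.left]
    [IsIso M'.hom.appTop] [LocallyOfFiniteType M'.hom] [QuasiCompact M'.hom] (q : P ⟶ Y) [IsMonHom q] [Flat q.left] [Surjective q.left] [QuasiCompact q.left]
    (i : K ⟶ P) [IsMonHom i] [QuasiCompact i.left] (hq : AlgGrp.IsKernel i q)
    (r : P ⟶ A) [IsMonHom r] [Flat r.left] [Surjective r.left] [QuasiCompact r.left]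
    (j : D ⟶ P) (hlift : ∀ {T : Over (Spec (CommRingCat.of k))} (x : T ⟶ P), x ≫ r = 1 → ∃ y : T ⟶ D, y ≫ j = x)
    (j' : M' ⟶ Y) (hj' : η[M'] ≫ j' = η[Y]) :
    Set.range j'.left ⊆ Set.range (j ≫ q).left := by
  have hN : AlgGrp.IsNormalHom i := fun T g n => by
    obtain ⟨m, hm⟩ := H19Grp.kernel_lift hq (g * (n ≫ i) * g⁻¹) (by
      rw [MonObj.mul_comp, MonObj.mul_comp, Category.assoc, H19Grp.kernel_comp_eq_one hq, MonObj.comp_one,
        _root_.mul_one, GrpObj.inv_comp, mul_inv_cancel])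
    exact ⟨m, hm.symm⟩
  haveI : IsSeparated A.hom := inferInstance
  haveI : QuasiCompact (i ≫ r).left := by rw [Over.comp_left]; infer_instance
  obtain ⟨C, gC, p, c, hp, hc, hpc, hpf, hps, hplfp, hccl, hCl, hpq⟩ :=
    H19Grp.ImageFactor.exists_image_factor K A (i ≫ r) (by
      have h : ∀ {X : Scheme.{u}} (g : X ⟶ Spec (CommRingCat.of k)), Flat g := fun g => inferInstance
      exact h _)
  haveI := hc
  have hCn := isNormalHom_image r i hN c p hpc
  obtain ⟨A', gA', r', hr', hA', hA'l, hr'f, hr's, hker⟩ := S3278.result k A C c hCn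
  haveI := hr'
  obtain ⟨φ, hφm, hφ, -⟩ := H19Grp.exists_monHom_desc q hq (r ≫ r') (by
    rw [← Category.assoc, ← hpc, Category.assoc, H19Grp.kernel_comp_eq_one hker, MonObj.comp_one, Hom.one_def])
  haveI := hφm
  have hj'φ : j' ≫ φ = 1 := H19Grp.AntiAffineGroup.eq_one_of_isAffine (j' ≫ φ)
    (by rw [← Category.assoc, hj', IsMonHom.one_hom φ])
  obtain ⟨T, a, g, hag, hs₁, -, -⟩ := exists_square j' q
  haveI := @hs₁ ‹_›
  obtain ⟨x, hx⟩ := H19Grp.kernel_lift hker (g ≫ r) (by
    rw [Category.assoc, ← hφ, ← Category.assoc g, ← hag, Category.assoc, hj'φ, MonObj.comp_one])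
  obtain ⟨T', b, n, hbn, hs₂, -, -⟩ := exists_square x p
  haveI := @hs₂ ‹_›
  obtain ⟨m, hm⟩ := hlift ((b ≫ g) * (n ≫ i)⁻¹) (by
    rw [MonObj.mul_comp, GrpObj.inv_comp, Category.assoc, ← hx, Category.assoc, ← hpc, ← Category.assoc b, hbn,
      Category.assoc, mul_inv_cancel])
  have he : m ≫ (j ≫ q) = (b ≫ a) ≫ j' := by
    rw [← Category.assoc, hm, MonObj.mul_comp, GrpObj.inv_comp, Category.assoc _ i q,
      H19Grp.kernel_comp_eq_one hq, MonObj.comp_one, inv_one, _root_.mul_one, Category.assoc, ← hag, Category.assoc]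
  rintro y ⟨z, rfl⟩
  obtain ⟨t, rfl⟩ := a.left.surjective z
  obtain ⟨t', rfl⟩ := b.left.surjective t
  exact ⟨m.left t', congrArg (fun f : T' ⟶ Y => f.left t') he⟩

/-- If a subgroup maps onto the quotient, it generates the group together with the kernel. -/
theorem surjective_mul {P Y K D : Over (Spec (CommRingCat.of k))} [GrpObj P] [GrpObj Y]
    (q : P ⟶ Y) [IsMonHom q] (i : K ⟶ P) (hq : AlgGrp.IsKernel i q) (j : D ⟶ P) [Surjective (j ≫ q).left] :
    Surjective ((i ⊗ₘ j) ≫ μ[P]).left ∧ Surjective ((j ⊗ₘ i) ≫ μ[P]).left := by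
  obtain ⟨T, a, d, had, hs, -, -⟩ := exists_square q (j ≫ q)
  haveI := @hs ‹_›
  obtain ⟨n, hn⟩ := H19Grp.kernel_lift hq (a * (d ≫ j)⁻¹) (by
    rw [MonObj.mul_comp, GrpObj.inv_comp, Category.assoc, ← had, mul_inv_cancel])
  obtain ⟨n', hn'⟩ := H19Grp.kernel_lift hq ((d ≫ j)⁻¹ * a) (by
    rw [MonObj.mul_comp, GrpObj.inv_comp, Category.assoc, ← had, inv_mul_cancel])
  have e₁ : lift n d ≫ (i ⊗ₘ j) ≫ μ[P] = a := by
    rw [lift_map_assoc, ← Hom.mul_def, hn, inv_mul_cancel_right]
  have e₂ : lift d n' ≫ (j ⊗ₘ i) ≫ μ[P] = a := by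
    rw [lift_map_assoc, ← Hom.mul_def, hn', mul_inv_cancel_left]
  refine ⟨⟨fun y => ?_⟩, ⟨fun y => ?_⟩⟩
  · obtain ⟨t, rfl⟩ := a.left.surjective y
    exact ⟨(lift n d).left t, congrArg (fun f : T ⟶ P => f.left t) e₁⟩
  · obtain ⟨t, rfl⟩ := a.left.surjective y
    exact ⟨(lift d n').left t, congrArg (fun f : T ⟶ P => f.left t) e₂⟩

/-- The anti-affine kernel maps onto a connected proper quotient. -/
theorem surjective_comp_of_isProper {P Y D K A : Over (Spec (CommRingCat.of k))} [GrpObj P] [GrpObj Y] [GrpObj K]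
    [GrpObj A] [LocallyOfFiniteType A.hom] [IsAffine A.left]
    [IsProper Y.hom] [ConnectedSpace Y.left] [LocallyOfFiniteType K.hom] [QuasiCompact K.hom]
    (q : P ⟶ Y) [IsMonHom q] [Flat q.left] [Surjective q.left] [QuasiCompact q.left]
    (i : K ⟶ P) [IsMonHom i] [QuasiCompact i.left] (hq : AlgGrp.IsKernel i q)
    (r : P ⟶ A) [IsMonHom r] [Flat r.left] [Surjective r.left] [QuasiCompact r.left]
    (j : D ⟶ P) (hlift : ∀ {T : Over (Spec (CommRingCat.of k))} (x : T ⟶ P), x ≫ r = 1 → ∃ y : T ⟶ D, y ≫ j = x) :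
    Surjective (j ≫ q).left := by
  haveI : QuasiCompact Y.hom := inferInstance
  obtain ⟨gN, hiN⟩ := AffinizationKernel.exists_grpObj Y
  haveI := (AffinizationKernel.smooth_and_connected Y).1
  haveI : LocallyOfFiniteType (AffinizationKernel.N Y).hom := by
    rw [← Over.w (AffinizationKernel.incl Y)]; infer_instance
  haveI : QuasiCompact (AffinizationKernel.N Y).hom := by
    rw [← Over.w (AffinizationKernel.incl Y)]; infer_instance
  have hsub := range_le_of_affine q i hq r j hlift (AffinizationKernel.incl Y) (IsMonHom.one_hom _)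
  refine ⟨Set.range_eq_univ.mp (Set.eq_univ_of_univ_subset (le_trans ?_ hsub))⟩
  have h := S14580.result k Y (IsLocalRing.closedPoint k)
  rw [PreconnectedSpace.connectedComponent_eq_univ] at h
  exact h.symm.le

end Groth.Agent.H19Grp.AntPart
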