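import Groth.Agent.H19Grp.AffineQuotient
import Groth.Agent.H19Grp.Dimension
import Groth.Agent.H19Grp.PointsEq
import Groth.Agent.H19Grp.AntPart
import Groth.Agent.S8049

/-!
# Normality of smooth subgroups is detected by rational points

Over an algebraically closed field; the reduced identity component of a normal subgroup of a smooth group.
-/

set_option autoImplicit false
set_option maxHeartbeats 1000000
set_option synthInstance.maxHeartbeats 400000
set_option linter.style.haveILetI false
set_option backward.isDefEq.respectTransparency false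

universe u

open CategoryTheory CategoryTheory.Limits MonoidalCategory CartesianMonoidalCategory MonObj GrpObj
  AlgebraicGeometry

namespace Groth.Agent.H19Grp.NormalPts

variable {k : Type u} [Field k]

/-- The base point, as it is used by the density lemmas. -/
noncomputable abbrev Ko (k : Type u) [Field k] : Over (Spec (CommRingCat.of k)) :=
  Over.mk (Spec.map (CommRingCat.ofHom (algebraMap k k)))

theorem Ko_hom : (Ko k).hom = 𝟙 (Spec (CommRingCat.of k)) := by
  show Spec.map (CommRingCat.ofHom (algebraMap k k)) = _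
  rw [← Spec.map_id]; rfl

/-- The base point is a final object. -/
theorem exists_to_Ko : ∃ e : 𝟙_ (Over (Spec (CommRingCat.of k))) ⟶ Ko k, toUnit (Ko k) ≫ e = 𝟙 (Ko k) := by
  refine ⟨Over.homMk (𝟙 _) ?_, ?_⟩
  · exact (Category.id_comp _).trans Ko_hom
  · apply Over.OverMorphism.ext
    have ht : (toUnit (Ko k)).left = (Ko k).hom := (Category.comp_id _).symm.trans (Over.w (toUnit _))
    exact (Category.comp_id _).trans (ht.trans Ko_hom)

/-- Normality of a smooth closed subgroup can be checked on rational points. -/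
theorem isNormalHom_of_pts [IsAlgClosed k] {G N : Over (Spec (CommRingCat.of k))} [GrpObj G] [GrpObj N]
    [Smooth G.hom] [Smooth N.hom] (i : N ⟶ G) [IsMonHom i] [IsClosedImmersion i.left]
    (h : ∀ (g : Ko k ⟶ G) (n : Ko k ⟶ N), ∃ n' : Ko k ⟶ N, g * (n ≫ i) * g⁻¹ = n' ≫ i) :
    AlgGrp.IsNormalHom i := by
  haveI := PointsDense.smooth_tensor G N
  obtain ⟨f, hf⟩ := PointsDense.exists_factor (K := k) i (fst G N * (snd G N ≫ i) * (fst G N)⁻¹) fun w => by
    obtain ⟨n', hn'⟩ := h (w ≫ fst G N) (w ≫ snd G N)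
    refine ⟨n', ?_⟩
    rw [← hn', MonObj.comp_mul, MonObj.comp_mul, GrpObj.comp_inv, Category.assoc]
  intro T g n
  refine ⟨lift g n ≫ f, ?_⟩
  rw [Category.assoc, hf, MonObj.comp_mul, MonObj.comp_mul, GrpObj.comp_inv, lift_fst, lift_snd_assoc]

/-- Conjugation of a normal subgroup by a rational point. -/
theorem exists_conj {G K : Over (Spec (CommRingCat.of k))} [GrpObj G] [GrpObj K] (j : K ⟶ G) [IsMonHom j] [Mono j]
    (hK : AlgGrp.IsNormalHom j) (g : Ko k ⟶ G) :
    ∃ (c c' : K ⟶ K), IsMonHom c ∧ c ≫ c' = 𝟙 K ∧ c' ≫ c = 𝟙 K ∧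
      ∀ x : Ko k ⟶ K, (x ≫ c) ≫ j = g * (x ≫ j) * g⁻¹ := by
  obtain ⟨e, he⟩ := exists_to_Ko (k := k)
  let cg : K ⟶ G := toUnit K ≫ e ≫ g
  obtain ⟨c, hc⟩ := hK K cg (𝟙 K)
  obtain ⟨c', hc'⟩ := hK K cg⁻¹ (𝟙 K)
  rw [Category.id_comp] at hc hc'
  rw [_root_.inv_inv] at hc'
  have hγ : ∀ {T : Over (Spec (CommRingCat.of k))} (x : T ⟶ K), x ≫ cg = toUnit T ≫ e ≫ g := fun {T} x => by
    simp only [cg]
    rw [← Category.assoc x, toUnit_unique (x ≫ toUnit K) (toUnit T)]
  have key : ∀ {T : Over (Spec (CommRingCat.of k))} (x : T ⟶ K),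
      (x ≫ c) ≫ j = (toUnit T ≫ e ≫ g) * (x ≫ j) * (toUnit T ≫ e ≫ g)⁻¹ := fun x => by
    rw [Category.assoc, ← hc, MonObj.comp_mul, MonObj.comp_mul, GrpObj.comp_inv, hγ]
  have key' : ∀ {T : Over (Spec (CommRingCat.of k))} (x : T ⟶ K),
      (x ≫ c') ≫ j = (toUnit T ≫ e ≫ g)⁻¹ * (x ≫ j) * (toUnit T ≫ e ≫ g) := fun x => by
    rw [Category.assoc, ← hc', MonObj.comp_mul, MonObj.comp_mul, GrpObj.comp_inv, hγ]
  refine ⟨c, c', ⟨?_, ?_⟩, ?_, ?_, fun x => ?_⟩
  · rw [← cancel_mono j, key η[K], IsMonHom.one_hom j, show η[G] = (1 : 𝟙_ _ ⟶ G) by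
      rw [Hom.one_def, toUnit_unique (toUnit (𝟙_ (Over (Spec (CommRingCat.of k))))) (𝟙 _), Category.id_comp],
      _root_.mul_one, mul_inv_cancel]
  · rw [← cancel_mono j, key μ[K], Category.assoc (c ⊗ₘ c), IsMonHom.mul_hom j, ← Category.assoc (c ⊗ₘ c),
      tensorHom_comp_tensorHom, show (j ⊗ₘ j) ≫ μ[G] = (fst K K ≫ j) * (snd K K ≫ j) by
        rw [Hom.mul_def, lift_fst_comp_snd_comp],
      show ((c ≫ j) ⊗ₘ (c ≫ j)) ≫ μ[G] = (fst K K ≫ c ≫ j) * (snd K K ≫ c ≫ j) by
        rw [Hom.mul_def, lift_fst_comp_snd_comp],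
      ← Category.assoc (fst K K) c j, ← Category.assoc (snd K K) c j, key (fst K K), key (snd K K)]
    group
  · rw [← cancel_mono j, key' c, Category.id_comp, ← Category.id_comp c, key (𝟙 K), Category.id_comp]
    group
  · rw [← cancel_mono j, key c', Category.id_comp, ← Category.id_comp c', key' (𝟙 K), Category.id_comp]
    group
  · rw [key x, ← Category.assoc, he, Category.id_comp]

/-- Subgroups characterised by maximality among normal ones of the ambient normal subgroup are stable. -/
theorem isNormalHom_conj {G' K N : Over (Spec (CommRingCat.of k))} [GrpObj K] [GrpObj N] [GrpObj G']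
    (i : N ⟶ K) (hN : AlgGrp.IsNormalHom i) (c : K ⟶ G') [IsMonHom c] (c' : G' ⟶ K)
    (hc : c' ≫ c = 𝟙 G') : AlgGrp.IsNormalHom (i ≫ c) := by
  intro T x n
  obtain ⟨n', hn'⟩ := hN T (x ≫ c') n
  refine ⟨n', ?_⟩
  have h := congrArg (· ≫ c) hn'
  simp only [MonObj.mul_comp, GrpObj.inv_comp, Category.assoc, hc, Category.comp_id] at h
  exact h

/-- A normal subgroup of a smooth group has a smooth connected part of full dimension which is normal. -/
theorem exists_reduced_component [IsAlgClosed k] {G P : Over (Spec (CommRingCat.of k))} [GrpObj G] [GrpObj P]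
    [Smooth G.hom] [QuasiCompact G.hom] (j : P ⟶ G) [IsMonHom j] [IsClosedImmersion j.left]
    (hP : AlgGrp.IsNormalHom j) :
    ∃ (Z : Over (Spec (CommRingCat.of k))) (_ : GrpObj Z) (z : Z ⟶ P), IsMonHom z ∧ IsClosedImmersion z.left ∧
      Smooth Z.hom ∧ ConnectedSpace Z.left ∧ AlgGrp.IsNormalHom (z ≫ j) ∧
      topologicalKrullDim Z.left = topologicalKrullDim P.left := by
  haveI : LocallyOfFiniteType P.hom := by rw [← Over.w j]; infer_instance
  obtain ⟨gR, hR⟩ := GroupCI.exists_grpObj_reduced P
  let R : Over (Spec (CommRingCat.of k)) := Over.mk (P.left.nilradical.subschemeι ≫ P.hom)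
  let iR : R ⟶ P := Over.homMk P.left.nilradical.subschemeι rfl
  haveI : IsMonHom iR := hR
  haveI : IsClosedImmersion iR.left := inferInstanceAs (IsClosedImmersion P.left.nilradical.subschemeι)
  haveI : IsReduced R.left := inferInstanceAs (IsReduced P.left.nilradical.subscheme)
  haveI : Surjective iR.left := ⟨Set.range_eq_univ.mp (by
    show Set.range P.left.nilradical.subschemeι = Set.univ
    rw [Scheme.IdealSheafData.range_subschemeι]; rfl)⟩
  haveI : LocallyOfFiniteType R.hom := by rw [← Over.w iR]; infer_instance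
  haveI : Smooth R.hom := smooth_of_isReduced_perfect R
  have hRn : AlgGrp.IsNormalHom (iR ≫ j) := S8049.result k G P R j hP iR
  haveI : IsClosedImmersion (iR ≫ j).left := by rw [Over.comp_left]; infer_instance
  haveI : Mono (iR ≫ j) := Over.mono_of_mono_left _
  obtain ⟨gZ, hZ⟩ := exists_grpObj_idComp R
  let Z := idComp R
  let l : Z ⟶ R := idCompι R
  haveI : IsMonHom l := hZ
  haveI : IsClosedImmersion l.left := inferInstanceAs (IsClosedImmersion (idCompι R).left)
  haveI : Flat l.left := flat_clopenIdeal_subschemeι _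
  haveI : IsNoetherianRing (CommRingCat.of k) := inferInstanceAs (IsNoetherianRing k)
  haveI : IsLocallyNoetherian R.left := LocallyOfFiniteType.isLocallyNoetherian R.hom
  haveI : LocallyOfFinitePresentation l.left := inferInstance
  haveI : IsOpenImmersion l.left := IsOpenImmersion.of_flat_of_mono l.left
  haveI : Smooth Z.hom := by rw [← Over.w l]; infer_instance
  haveI : ConnectedSpace Z.left := by
    haveI : Nonempty Z.left := ⟨η[Z].left (IsLocalRing.closedPoint k)⟩
    haveI : PreconnectedSpace Z.left := ⟨by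
      rw [← l.left.isEmbedding.isInducing.isPreconnected_image, Set.image_univ]
      erw [range_idCompι R]
      exact isPreconnected_connectedComponent⟩
    exact ⟨inferInstance⟩
  haveI : IsClosedImmersion (l ≫ iR).left := by rw [Over.comp_left]; infer_instance
  haveI : IsClosedImmersion ((l ≫ iR) ≫ j).left := by rw [Over.comp_left]; infer_instance
  refine ⟨Z, gZ, l ≫ iR, inferInstance, inferInstance, inferInstance, inferInstance, ?_, ?_⟩
  · apply isNormalHom_of_pts
    intro g n
    obtain ⟨c, c', hc, -, -, hcx⟩ := exists_conj (iR ≫ j) hRn g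
    haveI := hc
    have hsub : Set.range (l ≫ c).left ⊆
        connectedComponent (α := R.left) (ePt (grpToGrpd R) (Iso.refl _)) := by
      refine IsPreconnected.subset_connectedComponent (isPreconnected_range (l ≫ c).left.continuous) ?_
      refine ⟨η[Z].left (ePt (grpToGrpd (𝟙_ (Over (Spec (CommRingCat.of k))))) (Iso.refl _)), ?_⟩
      rw [← Scheme.Hom.comp_apply, ← Over.comp_left, IsMonHom.one_hom (l ≫ c)]
      exact congrArg η[R].left (Subsingleton.elim (α := PrimeSpectrum k) _ _)
    obtain ⟨f, hf⟩ := idComp_lift R (l ≫ c) hsub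
    refine ⟨n ≫ f, ?_⟩
    have e := hcx (n ≫ l)
    rw [Category.assoc] at e
    rw [show g * (n ≫ (l ≫ iR) ≫ j) * g⁻¹ = g * ((n ≫ l) ≫ iR ≫ j) * g⁻¹ by simp only [Category.assoc], ← e]
    simp only [Category.assoc]
    rw [← reassoc_of% hf]
  · have hd := topologicalKrullDim_component (grpToGrpd R) (Iso.refl _)
      (connectedComponent (α := R.left) (ePt (grpToGrpd R) (Iso.refl _))) (by
        rw [show connectedComponent (α := R.left) (ePt (grpToGrpd R) (Iso.refl _)) =
          irreducibleComponent (X := R.left) (ePt (grpToGrpd R) (Iso.refl _)) from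
          connectedComponent_eq_irreducibleComponent (grpToGrpd R) (Iso.refl _) _]
        exact irreducibleComponent_mem_irreducibleComponents _)
    have e1 : topologicalKrullDim Z.left = topologicalKrullDim R.left := by
      refine Eq.trans ?_ hd
      rw [← range_idCompι R]
      exact IsHomeomorph.topologicalKrullDim_eq _ (l.left.isEmbedding.toHomeomorph.isHomeomorph)
    rw [e1]
    exact IsHomeomorph.topologicalKrullDim_eq _
      ((iR.left.isEmbedding.toHomeomorphOfSurjective iR.left.surjective).isHomeomorph)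

end Groth.Agent.H19Grp.NormalPts
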