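import Groth.Agent.H19Grp.HomFlat
import Groth.Agent.H19Grp.Neutral
import Groth.Agent.H17.Topology

/-!
# Homomorphisms of algebraic groups flat on a non-empty open are flat
-/

set_option autoImplicit false
set_option linter.style.haveILetI false
set_option backward.isDefEq.respectTransparency false

universe u

open CategoryTheory CategoryTheory.Limits MonoidalCategory CartesianMonoidalCategory MonObj GrpObj
  AlgebraicGeometry

namespace Groth.Agent.H19Grp

variable {K : Type u} [Field K]

/-- Homogeneity over an algebraically closed field. -/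
theorem flat_of_flat_open_isAlgClosed [IsAlgClosed K] {G H : Over (Spec (CommRingCat.of K))}
    [GrpObj G] [GrpObj H] [LocallyOfFiniteType G.hom] (f : G ⟶ H) [IsMonHom f]
    (U : G.left.Opens) (hne : (U : Set G.left).Nonempty) [Flat (U.ι ≫ f.left)] : Flat f.left := by
  haveI := LocallyOfFiniteType.jacobsonSpace G.hom
  obtain ⟨v, hv, hvc⟩ := nonempty_inter_closedPoints hne U.2.isLocallyClosed
  have hpt : ∀ x : G.left, IsClosed {x} → ∃ g : 𝟙_ (Over (Spec (CommRingCat.of K))) ⟶ G,
      g.left (IsLocalRing.closedPoint K) = x := fun x hx =>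
    ⟨Over.homMk (pointOfClosedPoint G.hom x hx) (pointOfClosedPoint_comp _ _ _),
      pointOfClosedPoint_apply G.hom x hx _⟩
  have key : ∀ x : G.left, IsClosed {x} → ∃ V : G.left.Opens, x ∈ V ∧ Flat (V.ι ≫ f.left) := by
    intro x hx
    obtain ⟨gx, hgx⟩ := hpt x hx
    obtain ⟨gv, hgv⟩ := hpt v hvc
    let g := gx⁻¹ * gv
    let e1 := GrpObj.mulRight g
    let e2 := GrpObj.mulRight (g ≫ f)
    have hc : e1.hom ≫ f = f ≫ e2.hom := by
      simp only [e1, e2, GrpObj.mulRight_hom, ← Hom.mul_def, MonObj.comp_mul, MonObj.mul_comp,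
        Category.comp_id, Category.id_comp, Category.assoc]
      rw [← Category.assoc f (toUnit H), toUnit_unique (f ≫ toUnit H) (toUnit G)]
    haveI : IsIso e1.hom.left := ((Over.forget _).mapIso e1).isIso_hom
    haveI : IsIso e2.hom.left := ((Over.forget _).mapIso e2).isIso_hom
    have he1x : e1.hom.left x = v := by
      have h1 : gx ≫ e1.hom = gv := by
        simp only [e1, GrpObj.mulRight_hom, ← Hom.mul_def, MonObj.comp_mul, Category.comp_id]
        rw [← Category.assoc gx (toUnit G), toUnit_unique (gx ≫ toUnit G) (𝟙 _), Category.id_comp]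
        exact mul_inv_cancel_left gx gv
      rw [← hgx, ← hgv]
      exact congrArg (fun φ => φ.left (IsLocalRing.closedPoint K)) h1
    let V := e1.hom.left ⁻¹ᵁ U
    refine ⟨V, (show e1.hom.left x ∈ U from he1x.symm ▸ hv), ?_⟩
    rw [← MorphismProperty.cancel_right_of_respectsIso @Flat (V.ι ≫ f.left) e2.hom.left,
      Category.assoc, ← Over.comp_left, ← hc, Over.comp_left, ← Category.assoc,
      ← morphismRestrict_ι e1.hom.left U, Category.assoc]
    infer_instance
  refine IsZariskiLocalAtSource.of_openCover (P := @Flat)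
    (G.left.openCoverOfIsOpenCover (fun V : {V : G.left.Opens // Flat (V.ι ≫ f.left)} => V.1) ?_)
    fun V => V.2
  rw [TopologicalSpace.IsOpenCover]
  by_contra hne'
  have hne2 : (((⨆ V : {V : G.left.Opens // Flat (V.ι ≫ f.left)}, V.1 : G.left.Opens) :
      Set G.left))ᶜ.Nonempty := by
    rw [Set.nonempty_compl]
    exact fun h => hne' (TopologicalSpace.Opens.coe_eq_univ.mp h)
  obtain ⟨y, hy, hyc⟩ := nonempty_inter_closedPoints hne2
    (TopologicalSpace.Opens.isOpen _).isClosed_compl.isLocallyClosed
  obtain ⟨V, hyV, hV⟩ := key y hyc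
  exact hy (TopologicalSpace.Opens.mem_iSup.mpr ⟨⟨V, hV⟩, hyV⟩)

/-- A homomorphism of algebraic groups which is flat on a non-empty open is flat. -/
theorem flat_of_flat_open {G H : Over (Spec (CommRingCat.of K))} [GrpObj G] [GrpObj H]
    [LocallyOfFiniteType G.hom] (f : G ⟶ H) [IsMonHom f]
    (U : G.left.Opens) (hne : (U : Set G.left).Nonempty) [Flat (U.ι ≫ f.left)] : Flat f.left := by
  let g : Spec (CommRingCat.of (AlgebraicClosure K)) ⟶ Spec (CommRingCat.of K) :=
    Spec.map (CommRingCat.ofHom (algebraMap K (AlgebraicClosure K)))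
  let F := Over.pullback g
  let : GrpObj (F.obj G) := Functor.grpObjObj
  let : GrpObj (F.obj H) := Functor.grpObjObj
  haveI : IsMonHom (F.map f) := inferInstance
  haveI : LocallyOfFiniteType (F.obj G).hom := by dsimp [F]; infer_instance
  haveI : Surjective g := ⟨fun x => ⟨Classical.arbitrary _, Subsingleton.elim _ _⟩⟩
  have hsq : IsPullback (pullback.fst G.hom g) (F.map f).left f.left (pullback.fst H.hom g) := by
    refine IsPullback.of_bot ?_ ?_ (IsPullback.of_hasPullback H.hom g)
    · simpa [F] using IsPullback.of_hasPullback G.hom g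
    · simp [F]
  let U' := pullback.fst G.hom g ⁻¹ᵁ U
  haveI : Flat (U'.ι ≫ (F.map f).left) :=
    MorphismProperty.of_isPullback
      ((isPullback_morphismRestrict (pullback.fst G.hom g) U).paste_vert hsq) inferInstance
  haveI : Flat (F.map f).left := by
    refine flat_of_flat_open_isAlgClosed (F.map f) U' ?_
    obtain ⟨x, hx⟩ := hne
    obtain ⟨y, rfl⟩ := (pullback.fst G.hom g).surjective x
    exact ⟨y, hx⟩
  haveI : Flat (pullback.fst G.hom g ≫ f.left) := by
    rw [hsq.w]; exact MorphismProperty.comp_mem _ _ _ inferInstance (MorphismProperty.pullback_fst _ _ inferInstance)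
  haveI : Flat (𝟙 _ ≫ pullback.fst G.hom g) := by rw [Category.id_comp]; infer_instance
  haveI : Surjective (𝟙 _ ≫ pullback.fst G.hom g) := by rw [Category.id_comp]; infer_instance
  exact H13Desc.flat_of_refinement (pullback.fst G.hom g) f.left (𝟙 _)

theorem isOpen_component
    (G : Over (Spec (CommRingCat.of K))) [GrpObj G] [LocallyOfFiniteType G.hom] :
    IsOpen (connectedComponent (ept G)) := by
  haveI : IsLocallyNoetherian G.left := LocallyOfFiniteType.isLocallyNoetherian G.hom
  haveI : LocallyConnectedSpace G.left :=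
    H17.locallyConnectedSpace_of_locallyNoetherian fun x => by
      obtain ⟨_, ⟨(V : G.left.Opens), (hV : IsAffineOpen V), rfl⟩, hxV, -⟩ :=
        G.left.isBasis_affineOpens.exists_subset_of_mem_open (Set.mem_univ x) isOpen_univ
      haveI : IsNoetherianRing Γ(G.left, V) := IsLocallyNoetherian.component_noetherian ⟨V, hV⟩
      exact ⟨V, V.2.mem_nhds hxV, hV.isoSpec.hom.homeomorph.isEmbedding.noetherianSpace⟩
  exact isOpen_connectedComponent

/-- A homomorphism to a reduced algebraic group mapping the component of the unit onto the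
component of the unit is flat. -/
theorem flat_of_image_component {G H : Over (Spec (CommRingCat.of K))} [GrpObj G] [GrpObj H]
    [LocallyOfFiniteType G.hom] [LocallyOfFiniteType H.hom] [IsReduced H.left] (f : G ⟶ H)
    [IsMonHom f] (h : f.left '' connectedComponent (ept G) = connectedComponent (ept H)) :
    Flat f.left := by
  haveI : H.left.IsSeparated :=
    haveI : IsAffine (grpToGrpd H).U := inferInstanceAs (IsAffine (Spec (CommRingCat.of K)))
    haveI : Subsingleton (grpToGrpd H).U :=
      inferInstanceAs (Subsingleton (Spec (CommRingCat.of K)))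
    isSeparated_grpd (grpToGrpd H)
  let W : G.left.Opens := ⟨connectedComponent (ept G), isOpen_component G⟩
  haveI : CompactSpace W.toScheme := isCompact_iff_compactSpace.mp (isCompact_component_ept G)
  haveI : LocallyOfFiniteType f.left := by
    haveI : LocallyOfFiniteType (f.left ≫ H.hom) := by rw [Over.w f]; infer_instance
    exact locallyOfFiniteType_of_comp f.left H.hom
  haveI : QuasiCompact (W.ι ≫ f.left) := by
    haveI : QuasiSeparatedSpace H.left := inferInstance
    exact quasiCompact_of_compactSpace _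
  obtain ⟨U, hU, hUf, -⟩ := H7Flat.exists_dense_flatLFP (W.ι ≫ f.left)
  obtain ⟨y, hy, hyU⟩ := hU.inter_open_nonempty _ (isOpen_component H)
    ⟨_, mem_connectedComponent⟩
  rw [← h] at hy
  obtain ⟨x, hx, hxy⟩ := hy
  let V : W.toScheme.Opens := (W.ι ≫ f.left) ⁻¹ᵁ U
  haveI : Flat ((W.ι ''ᵁ V).ι ≫ f.left) := by
    rw [← Scheme.Hom.isoImage_inv_ι W.ι V, Category.assoc, Category.assoc]
    rw [← morphismRestrict_ι (W.ι ≫ f.left) U]
    infer_instance
  refine flat_of_flat_open f (W.ι ''ᵁ V) ⟨x, ?_⟩
  exact ⟨⟨x, hx⟩, (show f.left x ∈ U from hxy ▸ hyU), rfl⟩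

end Groth.Agent.H19Grp
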