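import Groth.Agent.H19Grp.NeutralPts
import Groth.Agent.H19Grp.HomFlatOpen
import Groth.Agent.H19Grp.Dimension
import Groth.Agent.H06EGA15.Component
import Groth.Agent.H17.IndCons
import Groth.Agent.H28Top.Spectral
import Groth.Agent.H7Lim.Topology

/-!
# Universal openness along the neutral components for locally constant fibre dimension
-/

set_option autoImplicit false
set_option linter.style.haveILetI false
set_option backward.isDefEq.respectTransparency false

universe u

open CategoryTheory Limits MonoidalCategory CartesianMonoidalCategory MonObj GrpObj AlgebraicGeometry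
open Topology

namespace Groth.Agent.H19Grp

/-- An ind-constructible set stable under generization is open. -/
theorem isOpen_of_chartInd {X : Scheme.{u}} {E : Set X} (hE : H17.IndCons.ChartInd E)
    (hs : StableUnderGeneralization E) : IsOpen E := by
  rw [isOpen_iff_forall_mem_open]
  intro x hx
  obtain ⟨R, a, _, ha⟩ := H17.IndCons.exists_chart x
  refine ⟨a '' (a ⁻¹' E), Set.image_preimage_subset _ _, a.isOpenEmbedding.isOpenMap _ ?_, ?_⟩
  · haveI : SpectralSpace (Spec R) := inferInstanceAs (SpectralSpace (PrimeSpectrum R))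
    refine H28Top.isOpen_of_isOpen_constr ?_ fun p q hpq hp => hs (hpq.map a.continuous) hp
    refine (@isOpen_iff_forall_mem_open (Spec R) (constructibleTopology (Spec R)) _).mpr ?_
    intro y hy
    obtain ⟨T, hT, hyT, hTE⟩ := hE R a y hy
    exact ⟨T, hTE, H28Top.isOpen_constr_of_isConstructible hT, hyT⟩
  · obtain ⟨y, rfl⟩ := ha
    exact ⟨y, hx, rfl⟩

variable {S : Scheme.{u}} (G : Over S) [GrpObj G]

/-- The hypothesis that the dimension of the fibres is locally constant. -/
abbrev DimLocConst : Prop :=
  IsLocallyConstant (fun s : S => topologicalKrullDim ↥(G.hom ⁻¹' {s}))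

theorem one_comp_hom : η[G].left ≫ G.hom = 𝟙 S := Over.w η[G]

theorem geomIrr_neutral : H06EGA15.GeomIrr G.hom η[G].left := by
  intro y K _ _
  let φ := Spec.map (CommRingCat.ofHom (algebraMap (IsLocalRing.ResidueField (S.presheaf.stalk y)) K))
  let x : Spec (CommRingCat.of K) ⟶ S := φ ≫ S.fromSpecResidueField y
  let e : FBase.bc (G.hom.fiberToSpecResidueField y) K ≅ (Red.bc x G).left :=
    pullbackLeftPullbackSndIso G.hom (S.fromSpecResidueField y) φ
  have he : ∀ p, pullback.fst G.hom x (e.hom p) =
      G.hom.fiberι y (FBase.bcπ (G.hom.fiberToSpecResidueField y) K p) := fun p =>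
    congrArg (fun m : FBase.bc (G.hom.fiberToSpecResidueField y) K ⟶ G.left => m p)
      (pullbackLeftPullbackSndIso_hom_fst G.hom (S.fromSpecResidueField y) φ)
  have hset : (FBase.bcπ (G.hom.fiberToSpecResidueField y) K ≫ G.hom.fiberι y) ⁻¹'
      connectedComponentIn (G.hom ⁻¹' {y}) (η[G].left y) =
      e.hom ⁻¹' connectedComponent (α := (Red.bc x G).left) (ept (Red.bc x G)) := by
    rw [← preimage_neutralSet_field G x]
    ext p
    show G.hom.fiberι y (FBase.bcπ (G.hom.fiberToSpecResidueField y) K p) ∈ neutralAt G y ↔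
      pullback.fst G.hom x (e.hom p) ∈ SGA3x.neutralSet G
    rw [he, mem_neutralSet_iff]
    have hy : G.hom (G.hom.fiberι y (FBase.bcπ (G.hom.fiberToSpecResidueField y) K p)) = y :=
      (G.hom.range_fiberι y).le ⟨_, rfl⟩
    rw [hy]
  erw [hset]
  exact (isIrreducible_component (Red.bc x G)).preimage e.hom.isOpenEmbedding
    ⟨_, mem_connectedComponent, e.hom.homeomorph.surjective _⟩

theorem dim_neutralAt [LocallyOfFiniteType G.hom] (s : S) :
    topologicalKrullDim ↥(connectedComponentIn (G.hom ⁻¹' {s}) (η[G].left s)) =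
      topologicalKrullDim ↥(G.hom ⁻¹' {s}) := by
  let x := S.fromSpecResidueField s
  let Gs := Red.bc x G
  haveI : LocallyOfFiniteType Gs.hom :=
    show LocallyOfFiniteType (pullback.snd G.hom x) from inferInstance
  haveI : JacobsonSpace Gs.left := LocallyOfFiniteType.jacobsonSpace Gs.hom
  let O : Gs.left.Opens := ⟨connectedComponent (ept Gs), isOpen_component Gs⟩
  have hO : topologicalKrullDim (O : Set Gs.left) = topologicalKrullDim Gs.left := by
    apply le_antisymm (topologicalKrullDim_subspace_le _ _)
    obtain ⟨p, hpO, hp⟩ := nonempty_inter_closedPoints (Z := (O : Set Gs.left))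
      ⟨_, mem_connectedComponent⟩ O.2.isLocallyClosed
    haveI : QuasiSober (O : Set Gs.left) := O.2.isOpenEmbedding_subtypeVal.quasiSober
    exact le_topologicalKrullDim_of_mem (grpToGrpd Gs) (Iso.refl _) _ p hp fun a ha =>
      O.2.stableUnderGeneralization ha hpO
  have himg : G.hom.fiberι s '' (O : Set Gs.left) = neutralAt G s := by
    show pullback.fst G.hom x '' connectedComponent (ept Gs) = _
    rw [← preimage_neutralSet_residueField, Set.image_preimage_eq_inter_range,
      show Set.range (pullback.fst G.hom x) = G.hom ⁻¹' {s} from G.hom.range_fiberι s,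
      neutralSet_inter_fibre]
  let e₂ := Topology.IsEmbedding.homeomorphImage (G.hom.fiberι s).isEmbedding (O : Set Gs.left)
  calc topologicalKrullDim ↥(neutralAt G s)
      = topologicalKrullDim ↥(G.hom.fiberι s '' (O : Set Gs.left)) := by rw [himg]
    _ = topologicalKrullDim (O : Set Gs.left) :=
        (IsHomeomorph.topologicalKrullDim_eq e₂ e₂.isHomeomorph).symm
    _ = topologicalKrullDim Gs.left := hO
    _ = topologicalKrullDim ↥(G.hom ⁻¹' {s}) :=
        IsHomeomorph.topologicalKrullDim_eq (G.hom.fiberHomeo s) (G.hom.fiberHomeo s).isHomeomorph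

omit [GrpObj G] in
theorem dim_eq_of_specializes (hdim : DimLocConst G) {y y' : S} (h : y' ⤳ y) :
    topologicalKrullDim ↥(G.hom ⁻¹' {y}) = topologicalKrullDim ↥(G.hom ⁻¹' {y'}) := by
  obtain ⟨U, hU, hyU, hconst⟩ := (IsLocallyConstant.iff_exists_open _).mp hdim y
  exact (hconst y' (h.mem_open hU hyU)).symm

/-- The group is universally open at every point of the neutral set. -/
theorem isUnivOpenAt_neutralSet [LocallyOfFinitePresentation G.hom] (hdim : DimLocConst G)
    {x : G.left} (hx : x ∈ SGA3x.neutralSet G) : EGA43.IsUnivOpenAt G.hom x := by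
  rw [mem_neutralSet_iff] at hx
  refine H06EGA15.isUnivOpenAt_of_dim_component_const G.hom η[G].left (one_comp_hom G)
    (geomIrr_neutral G) (fun y' hy' => ?_) hx
  erw [dim_neutralAt, dim_neutralAt, dim_eq_of_specializes G hdim hy']

/-- Base change does not change the dimension of the neutral components. -/
theorem dim_neutralAt_bc [LocallyOfFiniteType G.hom] {S' : Scheme.{u}} (k : S' ⟶ S) (t : S') :
    topologicalKrullDim
        ↥(connectedComponentIn ((Red.bc k G).hom ⁻¹' {t}) (η[Red.bc k G].left t)) =
      topologicalKrullDim ↥(G.hom ⁻¹' {k t}) := by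
  haveI : LocallyOfFiniteType (Red.bc k G).hom :=
    show LocallyOfFiniteType (pullback.snd G.hom k) from inferInstance
  erw [H06EGA15.dim_component_eq _ _ (one_comp_hom (Red.bc k G)) t
    ((geomIrr_neutral (Red.bc k G)).isIrreducible _ _ (one_comp_hom (Red.bc k G)) t),
    show FlatMor.fibreDimAt (Red.bc k G).hom (η[Red.bc k G].left t) = _ from
      H8Props.FieldDim.fibreDimAt_baseChange G.hom (IsPullback.of_hasPullback G.hom k) _,
    ← dim_neutralAt, H06EGA15.dim_component_eq _ _ (one_comp_hom G) (k t)
      ((geomIrr_neutral G).isIrreducible _ _ (one_comp_hom G) (k t))]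
  congr 1
  exact fst_one_apply k G t

/-- The neutral component over a point lies in the closure of the neutral components over its
generizations, after any base change. -/
theorem neutralAt_subset_closure [LocallyOfFiniteType G.hom] (hdim : DimLocConst G) {S' : Scheme.{u}}
    (k : S' ⟶ S) {y y' : S'} (h : y' ⤳ y) :
    neutralAt (Red.bc k G) y ⊆ closure (neutralAt (Red.bc k G) y') := by
  haveI : LocallyOfFiniteType (Red.bc k G).hom :=
    show LocallyOfFiniteType (pullback.snd G.hom k) from inferInstance
  refine H06EGA15.component_subset_closure _ _ (one_comp_hom (Red.bc k G))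
    ((geomIrr_neutral (Red.bc k G)).isIrreducible _ _ (one_comp_hom (Red.bc k G))) h ?_
  erw [dim_neutralAt_bc, dim_neutralAt_bc, dim_eq_of_specializes G hdim (h.map k.continuous)]
  exact le_refl _

end Groth.Agent.H19Grp
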