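import Groth.Agent.H19Grp.NeutralOpen
import Groth.Agent.H17.SchDense
import Mathlib.AlgebraicGeometry.Morphisms.SchemeTheoreticallyDominant

/-!
# Schematic images of homomorphisms of group schemes
-/

set_option autoImplicit false
set_option linter.style.haveILetI false
set_option backward.isDefEq.respectTransparency false

universe u

open CategoryTheory CategoryTheory.Limits MonoidalCategory CartesianMonoidalCategory MonObj GrpObj
  AlgebraicGeometry

namespace Groth.Agent.H19Grp

variable {S : Scheme.{u}}

/-- A morphism factors through a closed subscheme if it does so after a schematically dominant one. -/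
theorem exists_factor_closed {X Y Z : Over S} (g : X ⟶ Y) [IsSchemeTheoreticallyDominant g.left]
    {W : Over S} (i : W ⟶ Z) [IsClosedImmersion i.left] (φ : Y ⟶ Z) (h : X ⟶ W) (w : g ≫ φ = h ≫ i) :
    ∃ ψ : Y ⟶ W, ψ ≫ i = φ := by
  let p := pullback.fst φ.left i.left
  haveI : IsClosedImmersion p := inferInstance
  have e : g.left = pullback.lift g.left h.left (congrArg Over.Hom.left w) ≫ p := by simp [p]
  haveI : IsIso p := IsClosedImmersion.isIso_iff_ker_eq_bot.2 <| le_bot_iff.1 <| by
    rw [← Scheme.Hom.ker_eq_bot g.left, e]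
    exact Scheme.Hom.le_ker_comp _ _
  refine ⟨Over.homMk (inv p ≫ pullback.snd φ.left i.left) ?_, ?_⟩
  · rw [← Over.w i, Category.assoc, ← pullback.condition_assoc, IsIso.inv_hom_id_assoc, Over.w φ]
  · apply Over.OverMorphism.ext
    show (inv p ≫ pullback.snd φ.left i.left) ≫ i.left = φ.left
    rw [Category.assoc, ← pullback.condition, IsIso.inv_hom_id_assoc]

variable {H G : Over S} [GrpObj H] [GrpObj G] (f : H ⟶ G) [IsMonHom f] [QuasiCompact f.left]

/-- The schematic image of a homomorphism is a subgroup, as soon as the structure morphisms of the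
source and of the image are flat. -/
theorem exists_schemImage [Flat H.hom] [Flat (f.left.imageι ≫ G.hom)] :
    ∃ (H' : Over S) (_ : GrpObj H') (i : H' ⟶ G) (f' : H ⟶ H'),
      IsMonHom i ∧ IsMonHom f' ∧ f' ≫ i = f ∧ IsClosedImmersion i.left ∧
      IsSchemeTheoreticallyDominant f'.left ∧ QuasiCompact f'.left := by
  let H' : Over S := Over.mk (f.left.imageι ≫ G.hom)
  let i : H' ⟶ G := Over.homMk f.left.imageι rfl
  let f' : H ⟶ H' := Over.homMk f.left.toImage (by
    show f.left.toImage ≫ f.left.imageι ≫ G.hom = H.hom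
    rw [Scheme.Hom.toImage_imageι_assoc, Over.w f])
  haveI : IsClosedImmersion i.left := inferInstanceAs (IsClosedImmersion f.left.imageι)
  haveI : Mono i := (Over.forget S).mono_of_mono_map (show Mono i.left from inferInstance)
  haveI : QuasiCompact f'.left := inferInstanceAs (QuasiCompact f.left.toImage)
  haveI : IsSchemeTheoreticallyDominant f'.left := ⟨H17.ker_toImage f.left⟩
  have hfi : f' ≫ i = f := Over.OverMorphism.ext f.left.toImage_imageι
  obtain ⟨i₀, hi₀⟩ := exists_factor_closed f' i (i ≫ ι[G]) (ι[H] ≫ f') (by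
    rw [reassoc_of% hfi, Category.assoc, hfi, GrpObj.inv_hom])
  haveI : Flat H'.hom := ‹Flat (f.left.imageι ≫ G.hom)›
  have hsq1 : IsPullback (fst H H).left (f' ▷ H).left f'.left (fst H' H).left := by
    refine IsPullback.of_bot (v₂₁ := (snd H' H).left) (v₂₂ := H'.hom) (h₃₁ := H.hom) ?_
      (congrArg Over.Hom.left (whiskerRight_fst f' H).symm) (IsPullback.of_hasPullback H'.hom H.hom)
    rw [← Over.comp_left, whiskerRight_snd, Over.w f']
    exact IsPullback.of_hasPullback H.hom H.hom
  have hsq2 : IsPullback (snd H' H).left (H' ◁ f').left f'.left (snd H' H').left := by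
    refine IsPullback.of_bot (v₂₁ := (fst H' H').left) (v₂₂ := H'.hom) (h₃₁ := H'.hom) ?_
      (congrArg Over.Hom.left (whiskerLeft_snd H' f').symm) (IsPullback.of_hasPullback H'.hom H'.hom).flip
    rw [← Over.comp_left, whiskerLeft_fst, Over.w f']
    exact (IsPullback.of_hasPullback H'.hom H.hom).flip
  haveI : Flat (fst H' H).left := inferInstanceAs (Flat (pullback.fst H'.hom H.hom))
  haveI : Flat (snd H' H').left := inferInstanceAs (Flat (pullback.snd H'.hom H'.hom))
  haveI : IsSchemeTheoreticallyDominant (f' ▷ H).left := .of_isPullback hsq1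
  haveI : IsSchemeTheoreticallyDominant (H' ◁ f').left := .of_isPullback hsq2
  haveI : IsSchemeTheoreticallyDominant (f' ▷ H ≫ H' ◁ f').left := by
    rw [Over.comp_left]; infer_instance
  obtain ⟨m₀, hm₀⟩ := exists_factor_closed (f' ▷ H ≫ H' ◁ f') i ((i ⊗ₘ i) ≫ μ[G]) (μ[H] ≫ f') (by
    rw [Category.assoc (μ[H]), hfi, IsMonHom.mul_hom (f := f), ← Category.assoc]
    refine congrArg (· ≫ μ[G]) ?_
    apply CartesianMonoidalCategory.hom_ext <;> simp [← hfi])
  obtain ⟨inst, hi⟩ := exists_grpObj_of_mono G i (η[H] ≫ f') (by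
    rw [Category.assoc, hfi, IsMonHom.one_hom]) m₀ hm₀ i₀ hi₀
  refine ⟨H', inst, i, f', hi, ?_, hfi, inferInstance, inferInstance, inferInstance⟩
  haveI := hi
  refine ⟨?_, ?_⟩
  · rw [← cancel_mono i, Category.assoc, hfi, IsMonHom.one_hom, IsMonHom.one_hom]
  · rw [← cancel_mono i, Category.assoc, hfi, IsMonHom.mul_hom (f := f), Category.assoc,
      IsMonHom.mul_hom (f := i), ← Category.assoc]
    refine congrArg (· ≫ μ[G]) ?_
    apply CartesianMonoidalCategory.hom_ext <;> simp [← hfi]

end Groth.Agent.H19Grp
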