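import Groth.Agent.H19Grp.Components
import Groth.Agent.H19Grp.GrpToGrpd
import Mathlib

/-!
# Group schemes with connected fibres have irreducible geometric fibres; open equality loci
-/

set_option autoImplicit false
set_option linter.style.haveILetI false
set_option backward.isDefEq.respectTransparency false

universe u

open CategoryTheory CategoryTheory.Limits MonoidalCategory CartesianMonoidalCategory MonObj GrpObj
  AlgebraicGeometry

namespace Groth.Agent.H19Grp

/-- A connected group scheme, locally of finite type over a field, is geometrically irreducible. -/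
theorem geometricallyIrreducible_of_connectedSpace_group {k : Type u} [Field k]
    (G : Over (Spec (CommRingCat.of k))) [GrpObj G] [LocallyOfFiniteType G.hom] [ConnectedSpace G.left] :
    GeometricallyIrreducible G.hom := by
  haveI : LocallyOfFiniteType (grpToGrpd G).s := inferInstanceAs (LocallyOfFiniteType G.hom)
  haveI : LocallyOfFiniteType (grpToGrpd G).t := inferInstanceAs (LocallyOfFiniteType G.hom)
  have hr : Set.range (𝟙 G.left : G.left ⟶ G.left) =
      irreducibleComponent (ePt (grpToGrpd G) (Iso.refl _)) := by
    rw [← connectedComponent_eq_irreducibleComponent (grpToGrpd G) (Iso.refl _)]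
    simp [PreconnectedSpace.connectedComponent_eq_univ]
  have h := geometricallyIrreducible_t (grpToGrpd G) (Iso.refl _) G.left (𝟙 _) hr
  simpa using h

/-- A group scheme with connected fibres has irreducible fibres at field-valued points. -/
theorem irreducibleSpace_pullback_of_connected_fibres {S : Scheme.{u}} (G : Over S) [GrpObj G]
    [LocallyOfFiniteType G.hom] (hconn : ∀ s : S, ConnectedSpace (G.hom.fiber s)) {Ω : Type u} [Field Ω]
    (y : Spec (CommRingCat.of Ω) ⟶ S) : IrreducibleSpace ↥(pullback G.hom y) := by
  obtain ⟨⟨s, φ⟩, rfl⟩ := (Scheme.SpecToEquivOfField Ω S).symm.surjective y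
  let Gs : Over (Spec (CommRingCat.of (S.residueField s))) := (Over.pullback (S.fromSpecResidueField s)).obj G
  letI : GrpObj Gs := Functor.grpObjObj
  haveI : LocallyOfFiniteType Gs.hom :=
    inferInstanceAs (LocallyOfFiniteType (pullback.snd G.hom (S.fromSpecResidueField s)))
  haveI : ConnectedSpace Gs.left := hconn s
  haveI := geometricallyIrreducible_of_connectedSpace_group Gs
  haveI h : IrreducibleSpace ↥(pullback Gs.hom (Spec.map φ)) :=
    GeometricallyIrreducible.geometrically_irreducibleSpace _ _ _ (.of_hasPullback _ _)
  let e := pullbackLeftPullbackSndIso G.hom (S.fromSpecResidueField s) (Spec.map φ)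
  change IrreducibleSpace ↥(pullback G.hom (Spec.map φ ≫ S.fromSpecResidueField s))
  exact (Scheme.Hom.homeomorph e.hom).irreducibleSpace_iff.mp h

/-- Two morphisms into an étale `Y`-scheme with the same image in `Y` agree if they agree at geometric points. -/
theorem eq_of_geometric_points {W X Y : Scheme.{u}} (f : X ⟶ Y) [IsOpenImmersion (pullback.diagonal f)]
    (a b : W ⟶ X) (h : a ≫ f = b ≫ f)
    (hp : ∀ (Ω : Type u) [Field Ω] [IsAlgClosed Ω] (p : Spec (CommRingCat.of Ω) ⟶ W), p ≫ a = p ≫ b) :
    a = b := by
  let c := pullback.lift a b h
  let j := pullback.fst c (pullback.diagonal f)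
  have hj : j ≫ a = j ≫ b := by
    have e := pullback.condition (f := c) (g := pullback.diagonal f)
    have e1 := congrArg (· ≫ pullback.fst f f) e
    have e2 := congrArg (· ≫ pullback.snd f f) e
    simp only [Category.assoc, c, pullback.lift_fst, pullback.lift_snd, pullback.diagonal_fst,
      pullback.diagonal_snd, Category.comp_id] at e1 e2
    exact e1.trans e2.symm
  haveI : IsIso j := by
    haveI : Surjective j := ⟨fun x => by
      let Ω := AlgebraicClosure (W.residueField x)
      let p : Spec (CommRingCat.of Ω) ⟶ W :=
        Spec.map (CommRingCat.ofHom (algebraMap (W.residueField x) Ω)) ≫ W.fromSpecResidueField x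
      have hpc : p ≫ c = (p ≫ a) ≫ pullback.diagonal f := by
        apply pullback.hom_ext
        · simp only [c, Category.assoc, pullback.lift_fst, pullback.diagonal_fst, Category.comp_id]
        · simp only [c, Category.assoc, pullback.lift_snd, pullback.diagonal_snd, Category.comp_id]
          exact (hp Ω p).symm
      refine ⟨pullback.lift p (p ≫ a) hpc (IsLocalRing.closedPoint Ω), ?_⟩
      rw [← Scheme.Hom.comp_apply, pullback.lift_fst]
      exact (Scheme.Hom.comp_apply _ _ _).trans (W.fromSpecResidueField_apply x _)⟩
    exact (isIso_iff_isOpenImmersion_and_epi_base j).mpr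
      ⟨inferInstance, (TopCat.epi_iff_surjective _).mpr j.surjective⟩
  exact (cancel_epi j).mp hj

end Groth.Agent.H19Grp
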