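import Groth.Agent.H19Grp.Basic
import Mathlib.AlgebraicGeometry.Morphisms.FormallyUnramified

/-!
# The diagonal of a group scheme is a base change of the unit section
-/

universe u

open CategoryTheory CategoryTheory.Limits MonoidalCategory CartesianMonoidalCategory MonObj GrpObj
  AlgebraicGeometry

namespace Groth.Agent.H19Grp

set_option backward.isDefEq.respectTransparency false

variable {S : Scheme.{u}}

lemma isPullback_diag (G : Over S) [GrpObj G] :
    IsPullback (lift (𝟙 G) (𝟙 G)) (toUnit G) (fst G G / snd G G) η[G] := by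
  refine ⟨⟨?_⟩, ⟨PullbackCone.IsLimit.mk _ (fun s => s.fst ≫ fst G G) ?_
    (fun s => Subsingleton.elim _ _) ?_⟩⟩
  · rw [GrpObj.comp_div, lift_fst, lift_snd, div_self', Hom.one_def]
  · intro s
    have h := s.condition
    rw [GrpObj.comp_div, Subsingleton.elim s.snd (toUnit _), ← Hom.one_def,
      div_eq_one] at h
    ext
    · simp
    · have h' : (s.fst ≫ fst G G).left = (s.fst ≫ snd G G).left := congrArg (·.left) h
      simpa using h'
  · intro s m h1 _
    simpa using congrArg (· ≫ fst G G) h1

lemma isPullback_diagonal_left (G : Over S) [GrpObj G] :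
    IsPullback (pullback.diagonal G.hom) G.hom (fst G G / snd G G).left (η[G]).left := by
  have h := (isPullback_diag G).map (Over.forget S)
  have h1 : (lift (𝟙 G) (𝟙 G)).left = pullback.diagonal G.hom := by
    rw [Over.lift_left]; ext <;> simp
  simp only [Over.forget_map, Over.toUnit_left, h1] at h
  exact h

lemma diagonal_of_unit (G : Over S) [GrpObj G] (P : MorphismProperty Scheme.{u})
    [P.IsStableUnderBaseChange] (h : P (η[G]).left) : P (pullback.diagonal G.hom) :=
  P.of_isPullback (isPullback_diagonal_left G).flip h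

/-- A section is a base change of the diagonal. -/
lemma isPullback_section {X Y : Scheme.{u}} (f : X ⟶ Y) (σ : Y ⟶ X) (h : σ ≫ f = 𝟙 Y) :
    IsPullback σ σ (pullback.lift (𝟙 X) (f ≫ σ)
      (by rw [Category.assoc, h, Category.id_comp, Category.comp_id])) (pullback.diagonal f) := by
  refine ⟨⟨?_⟩, ⟨PullbackCone.IsLimit.mk _ (fun s => s.fst ≫ f) ?_ ?_ ?_⟩⟩
  · ext <;> simp [reassoc_of% h]
  · intro s
    have h1 := congrArg (· ≫ pullback.fst f f) s.condition
    have h2 := congrArg (· ≫ pullback.snd f f) s.condition
    simp at h1 h2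
    simp [h2, ← h1]
  · intro s
    have h2 := congrArg (· ≫ pullback.snd f f) s.condition
    simp at h2
    simpa using h2
  · intro s m h1 _
    simp [← h1, h]

lemma unit_of_diagonal (G : Over S) [GrpObj G] (P : MorphismProperty Scheme.{u})
    [P.IsStableUnderBaseChange] (h : P (pullback.diagonal G.hom)) : P (η[G]).left :=
  P.of_isPullback (isPullback_section G.hom (η[G]).left (Over.w η[G])).flip h

lemma isSeparated_iff_isClosedImmersion_one (G : Over S) [GrpObj G] :
    IsSeparated G.hom ↔ IsClosedImmersion (η[G]).left :=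
  ⟨fun h => unit_of_diagonal G @IsClosedImmersion h.1,
    fun h => ⟨diagonal_of_unit G @IsClosedImmersion h⟩⟩

lemma quasiSeparated_iff_quasiCompact_one (G : Over S) [GrpObj G] :
    QuasiSeparated G.hom ↔ QuasiCompact (η[G]).left :=
  ⟨fun h => unit_of_diagonal G @QuasiCompact h.1,
    fun h => ⟨diagonal_of_unit G @QuasiCompact h⟩⟩

lemma formallyUnramified_iff_isOpenImmersion_one (G : Over S) [GrpObj G]
    [LocallyOfFiniteType G.hom] :
    FormallyUnramified G.hom ↔ IsOpenImmersion (η[G]).left := by
  refine ⟨fun _ => unit_of_diagonal G @IsOpenImmersion inferInstance, fun h => ?_⟩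
  have : IsOpenImmersion (pullback.diagonal G.hom) := diagonal_of_unit G @IsOpenImmersion h
  infer_instance

end Groth.Agent.H19Grp
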