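import Groth.Agent.H19Grp.PiClosed
import Mathlib

/-!
# The largest closed subscheme of the base over which a closed subscheme contains everything: gluing
-/

set_option autoImplicit false
set_option linter.style.haveILetI false
set_option backward.isDefEq.respectTransparency false

universe u v

open CategoryTheory CategoryTheory.Limits AlgebraicGeometry TensorProduct

namespace Groth.Agent.H19Grp

variable {S Z Y : Scheme.{u}} {f : Z ⟶ S} {j : Y ⟶ Z}

variable (f j) in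
/-- Locally on `S` there is a universal ideal. -/
def HasUnivLocally : Prop :=
  ∀ s : S, ∃ (A : CommRingCat.{u}) (σ : Spec A ⟶ S) (𝔞 : Ideal A),
    IsOpenImmersion σ ∧ s ∈ Set.range σ ∧ HasUniv f j σ 𝔞

lemma exists_hasUniv_basicOpen (W : S.affineOpens) (x : S) (hx : x ∈ W.1) {A : CommRingCat.{u}}
    (σ : Spec A ⟶ S) [IsOpenImmersion σ] (hσ : x ∈ Set.range σ) {𝔞 : Ideal A}
    (h : HasUniv f j σ 𝔞) :
    ∃ r : Γ(S, W.1), x ∈ S.basicOpen r ∧ ∃ ψ : A ⟶ Γ(S, S.basicOpen r),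
      HasUniv f j (W.2.basicOpen r).fromSpec (𝔞.map ψ.hom) := by
  obtain ⟨r, hle, hxr⟩ := W.2.exists_basicOpen_le (V := σ.opensRange) ⟨x, hσ⟩ hx
  have hr : Set.range (W.2.basicOpen r).fromSpec ⊆ Set.range σ := by
    rw [IsAffineOpen.range_fromSpec]; exact hle
  refine ⟨r, hxr, Spec.preimage (IsOpenImmersion.lift σ (W.2.basicOpen r).fromSpec hr), ?_⟩
  have := h.map (Spec.preimage (IsOpenImmersion.lift σ (W.2.basicOpen r).fromSpec hr))
  rwa [Spec.map_preimage, IsOpenImmersion.lift_fac] at this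

lemma flat_section_basicOpen {W : S.Opens} (hW : IsAffineOpen W) (r : Γ(S, W)) :
    Module.Flat Γ(S, W) Γ(S, S.basicOpen r) :=
  haveI := hW.isLocalization_basicOpen r
  IsLocalization.flat _ (Submonoid.powers r)

lemma exists_comap_basicOpen_eq {W : S.Opens} (hW : IsAffineOpen W) {ι : Type} (r : ι → Γ(S, W))
    (hr : ∀ x ∈ W, ∃ k, x ∈ S.basicOpen (r k)) (p : PrimeSpectrum Γ(S, W)) :
    ∃ k, ∃ q : PrimeSpectrum Γ(S, S.basicOpen (r k)),
      q.comap (algebraMap Γ(S, W) Γ(S, S.basicOpen (r k))) = p := by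
  obtain ⟨k, hk⟩ := hr (hW.fromSpec p)
    (hW.range_fromSpec.subset ⟨p, rfl⟩)
  obtain ⟨q, hq⟩ := (hW.basicOpen (r k)).range_fromSpec.superset hk
  refine ⟨k, q, hW.fromSpec.isOpenEmbedding.injective ?_⟩
  rw [← hq, ← hW.map_fromSpec (hW.basicOpen (r k)) (homOfLE (S.basicOpen_le (r k))).op,
    Scheme.Hom.comp_apply]
  rfl

theorem exists_hasUniv_affine [IsClosedImmersion j] (hloc : HasUnivLocally f j) (W : S.affineOpens) :
    ∃ 𝔞 : Ideal Γ(S, W.1), HasUniv f j W.2.fromSpec 𝔞 := by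
  have : ∀ x : W.1, ∃ r : Γ(S, W.1), x.1 ∈ S.basicOpen r ∧
      ∃ 𝔟 : Ideal Γ(S, S.basicOpen r), HasUniv f j (W.2.basicOpen r).fromSpec 𝔟 := by
    intro x
    obtain ⟨A, σ, 𝔞, hσ, hx, h⟩ := hloc x.1
    obtain ⟨r, hr, ψ, hψ⟩ := exists_hasUniv_basicOpen W x.1 x.2 σ hx h
    exact ⟨r, hr, _, hψ⟩
  choose r hr 𝔟 h𝔟 using this
  obtain ⟨t, ht⟩ := W.2.isCompact.elim_finite_subcover (fun x : W.1 => (S.basicOpen (r x) : Set S))
    (fun x => (S.basicOpen _).2) (fun x hx => Set.mem_iUnion.mpr ⟨⟨x, hx⟩, hr _⟩)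
  let pt : Fin t.card → W.1 := fun k => (t.equivFin.symm k).1
  haveI : ∀ k, Module.Flat Γ(S, W.1) Γ(S, S.basicOpen (r (pt k))) :=
    fun k => flat_section_basicOpen W.2 _
  refine hasUniv_of_family (A := Γ(S, W.1)) W.2.fromSpec
    (fun k => Γ(S, S.basicOpen (r (pt k))))
    (exists_comap_basicOpen_eq W.2 (fun k => r (pt k)) fun x hx => ?_) (fun k => 𝔟 (pt k)) fun k => ?_
  · obtain ⟨y, hy, hxy⟩ := Set.mem_iUnion₂.mp (ht hx)
    exact ⟨t.equivFin ⟨y, hy⟩, by simpa [pt] using hxy⟩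
  · have := W.2.map_fromSpec (W.2.basicOpen (r (pt k))) (homOfLE (S.basicOpen_le (r (pt k)))).op
    show HasUniv f j (Spec.map (S.presheaf.map (homOfLE (S.basicOpen_le (r (pt k)))).op) ≫ W.2.fromSpec) _
    rw [this]
    exact h𝔟 _

/-- The ideal sheaf of the largest closed subscheme of `S` over which `j` is an isomorphism. -/
noncomputable def univIdeal [IsClosedImmersion j] (hloc : HasUnivLocally f j) : S.IdealSheafData where
  ideal W := (exists_hasUniv_affine hloc W).choose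
  map_ideal_basicOpen W r := by
    have h := ((exists_hasUniv_affine hloc W).choose_spec).map
      (S.presheaf.map (homOfLE (S.basicOpen_le r)).op)
    rw [W.2.map_fromSpec (W.2.basicOpen r)] at h
    exact h.unique (exists_hasUniv_affine hloc (S.affineBasicOpen r)).choose_spec

lemma hasUniv_univIdeal [IsClosedImmersion j] (hloc : HasUnivLocally f j) (W : S.affineOpens) :
    HasUniv f j W.2.fromSpec ((univIdeal hloc).ideal W) :=
  (exists_hasUniv_affine hloc W).choose_spec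

lemma contains_subschemeι [IsClosedImmersion j] (hloc : HasUnivLocally f j) :
    Contains f j (univIdeal hloc).subschemeι := by
  refine contains_of_flat_family _ (fun U => (univIdeal hloc).subschemeCover.f U) ?_ fun U => ?_
  · intro x
    obtain ⟨y, hy⟩ := (univIdeal hloc).subschemeCover.covers x
    exact ⟨_, y, hy⟩
  · rw [Scheme.IdealSheafData.subschemeCover_map_subschemeι, Scheme.IdealSheafData.glueDataObjι,
      Category.assoc, IsAffineOpen.isoSpec_inv_ι]
    exact (hasUniv_univIdeal hloc U).contains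

/-- The closed subscheme cut out by the universal ideals represents `Contains`. -/
theorem contains_iff_factors [IsClosedImmersion j] (hloc : HasUnivLocally f j) {S' : Scheme.{u}}
    (g : S' ⟶ S) : (∃ g', g' ≫ (univIdeal hloc).subschemeι = g) ↔ Contains f j g := by
  constructor
  · rintro ⟨g', rfl⟩
    exact (contains_subschemeι hloc).comp g'
  · intro hg
    refine ⟨IsClosedImmersion.lift (univIdeal hloc).subschemeι g ?_,
      IsClosedImmersion.lift_fac _ _ _⟩
    rw [Scheme.IdealSheafData.ker_subschemeι]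
    refine le_ker_of_forall_appLE _ _ fun U V e => (hasUniv_univIdeal hloc U _ (g.appLE U V e)).mp ?_
    rw [U.2.SpecMap_appLE_fromSpec g V.2 e]
    exact hg.comp _

/-- Finite generation of the universal ideals is local. -/
lemma fg_univIdeal [IsClosedImmersion j] (hloc : HasUnivLocally f j)
    (hfg : ∀ s : S, ∃ (A : CommRingCat.{u}) (σ : Spec A ⟶ S) (𝔞 : Ideal A),
      IsOpenImmersion σ ∧ s ∈ Set.range σ ∧ HasUniv f j σ 𝔞 ∧ 𝔞.FG)
    (W : S.affineOpens) : ((univIdeal hloc).ideal W).FG := by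
  have : ∀ x : W.1, ∃ r : Γ(S, W.1), x.1 ∈ S.basicOpen r ∧
      ((univIdeal hloc).ideal (S.affineBasicOpen r)).FG := by
    intro x
    obtain ⟨A, σ, 𝔞, hσ, hx, h, h𝔞⟩ := hfg x.1
    obtain ⟨r, hr, ψ, hψ⟩ := exists_hasUniv_basicOpen W x.1 x.2 σ hx h
    refine ⟨r, hr, ?_⟩
    rw [(hasUniv_univIdeal hloc (S.affineBasicOpen r)).unique hψ]
    exact h𝔞.map _
  choose r hr h𝔟 using this
  obtain ⟨t, ht⟩ := W.2.isCompact.elim_finite_subcover (fun x : W.1 => (S.basicOpen (r x) : Set S))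
    (fun x => (S.basicOpen _).2) (fun x hx => Set.mem_iUnion.mpr ⟨⟨x, hx⟩, hr _⟩)
  let pt : Fin t.card → W.1 := fun k => (t.equivFin.symm k).1
  haveI : ∀ k, Module.Flat Γ(S, W.1) Γ(S, S.basicOpen (r (pt k))) :=
    fun k => flat_section_basicOpen W.2 _
  refine fg_of_forall_map (fun k => Γ(S, S.basicOpen (r (pt k))))
    (exists_comap_basicOpen_eq W.2 (fun k => r (pt k)) fun x hx => ?_) fun k => ?_
  · obtain ⟨y, hy, hxy⟩ := Set.mem_iUnion₂.mp (ht hx)
    exact ⟨t.equivFin ⟨y, hy⟩, by simpa [pt] using hxy⟩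
  · show (((univIdeal hloc).ideal W).map
      (S.presheaf.map (homOfLE (S.basicOpen_le (r (pt k)))).op).hom).FG
    rw [Scheme.IdealSheafData.map_ideal_basicOpen]
    exact h𝔟 _

/-- A closed subscheme with finitely generated ideals is of finite presentation. -/
lemma locallyOfFinitePresentation_subschemeι (I : S.IdealSheafData) (hI : ∀ W, (I.ideal W).FG) :
    LocallyOfFinitePresentation I.subschemeι := by
  refine (IsZariskiLocalAtSource.iff_of_openCover (P := @LocallyOfFinitePresentation)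
    I.subschemeCover.openCover).mpr fun (U : S.affineOpens) => ?_
  rw [Scheme.AffineOpenCover.openCover_f, Scheme.IdealSheafData.subschemeCover_map_subschemeι,
    Scheme.IdealSheafData.glueDataObjι, Category.assoc, IsAffineOpen.isoSpec_inv_ι]
  haveI : LocallyOfFinitePresentation (Spec.map (CommRingCat.ofHom (Ideal.Quotient.mk (I.ideal U)))) := by
    rw [HasRingHomProperty.Spec_iff (P := @LocallyOfFinitePresentation)]
    exact RingHom.FinitePresentation.of_surjective _ Ideal.Quotient.mk_surjective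
      (by rw [CommRingCat.hom_ofHom, Ideal.mk_ker]; exact hI U)
  infer_instance

/-- Charts by affine opens with projective rings of sections give universal ideals. -/
theorem hasUniv_of_opens [IsClosedImmersion j] {X : Scheme.{u}} [IsAffine X] (q : X ⟶ S)
    (hV : ∀ z : ↥(pullback f q), ∃ V : (pullback f q).Opens, z ∈ V ∧ IsAffineOpen V ∧
      (letI := (V.ι ≫ pullback.snd f q).appTop.hom.toAlgebra
       Module.Projective Γ(X, ⊤) Γ(↑V, ⊤))) :
    ∃ 𝔞 : Ideal Γ(X, ⊤), HasUniv f j (X.isoSpec.inv ≫ q) 𝔞 ∧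
      (CompactSpace ↥(pullback f q) → LocallyOfFinitePresentation j → 𝔞.FG) := by
  choose V hzV hVa hVp using hV
  let e : pullback f q ≅ pullback f (X.isoSpec.inv ≫ q) :=
    asIso (pullback.map f q f (X.isoSpec.inv ≫ q) (𝟙 _) X.isoSpec.hom (𝟙 _) (by simp) (by simp))
  letI alg : ∀ z, Algebra Γ(X, ⊤) Γ(↑(V z), ⊤) := fun z => ((V z).ι ≫ pullback.snd f q).appTop.hom.toAlgebra
  haveI : ∀ z, IsAffine ↑(V z) := hVa
  haveI : ∀ z, Module.Projective Γ(X, ⊤) Γ(↑(V z), ⊤) := hVp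
  have hm : ∀ z, ((V z).toScheme.isoSpec.inv ≫ (V z).ι ≫ e.hom) ≫ pullback.snd f (X.isoSpec.inv ≫ q) =
      Spec.map (CommRingCat.ofHom (algebraMap Γ(X, ⊤) Γ(↑(V z), ⊤))) := by
    intro z
    rw [Category.assoc, Category.assoc, show e.hom ≫ pullback.snd f (X.isoSpec.inv ≫ q) =
      pullback.snd f q ≫ X.isoSpec.hom from pullback.lift_snd _ _ _, ← Category.assoc (V z).ι,
      ← Scheme.isoSpec_hom_naturality, Iso.inv_hom_id_assoc]
    rfl
  have hcov : ∀ (T : Set ↥(pullback f q)), (∀ x, ∃ z ∈ T, x ∈ V z) →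
      ∀ y, ∃ z : T, y ∈ Set.range ((V z).toScheme.isoSpec.inv ≫ (V z).ι ≫ e.hom) := by
    intro T hT y
    obtain ⟨z, hz, hy⟩ := hT (e.inv y)
    refine ⟨⟨z, hz⟩, (V z).toScheme.isoSpec.hom ⟨e.inv y, hy⟩, ?_⟩
    rw [← Scheme.Hom.comp_apply, Iso.hom_inv_id_assoc, Scheme.Hom.comp_apply, Scheme.Opens.ι_apply,
      ← Scheme.Hom.comp_apply, Iso.inv_hom_id]
    rfl
  obtain ⟨𝔞, h𝔞, -⟩ := hasUniv_of_charts (f := f) (j := j) (A := Γ(X, ⊤)) (X.isoSpec.inv ≫ q)
    (ι := (Set.univ : Set ↥(pullback f q))) (fun z => Γ(↑(V z), ⊤))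
    (fun z => (V z).toScheme.isoSpec.inv ≫ (V z).ι ≫ e.hom) (fun z => hm z)
    (hcov _ fun x => ⟨x, trivial, hzV x⟩)
  refine ⟨𝔞, h𝔞, fun hc hj => ?_⟩
  obtain ⟨t, ht⟩ := isCompact_univ.elim_finite_subcover (fun z => (V z : Set ↥(pullback f q)))
    (fun z => (V z).2) (fun x _ => Set.mem_iUnion.mpr ⟨x, hzV x⟩)
  obtain ⟨𝔞', h𝔞', hfg⟩ := hasUniv_of_charts (f := f) (j := j) (A := Γ(X, ⊤)) (X.isoSpec.inv ≫ q)
    (ι := (t : Set ↥(pullback f q))) (fun z => Γ(↑(V z), ⊤))
    (fun z => (V z).toScheme.isoSpec.inv ≫ (V z).ι ≫ e.hom) (fun z => hm z)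
    (hcov _ fun x => by
      obtain ⟨z, hz, hxz⟩ := Set.mem_iUnion₂.mp (ht (Set.mem_univ x))
      exact ⟨z, hz, hxz⟩)
  rw [h𝔞.unique h𝔞']
  exact hfg inferInstance hj

end Groth.Agent.H19Grp
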