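import Groth.Prelude.Def_Grpd

/-!
# Calculus of T-points of groupoid schemes
-/

universe u

open CategoryTheory CategoryTheory.Limits AlgebraicGeometry

namespace Groth.Agent.H19Grp

variable {S : Scheme.{u}} (G : Grpd.GroupoidScheme S) {T T' : Scheme.{u}}

/-- Composition of T-valued arrows. -/
noncomputable def mulR (a b : T ⟶ G.R) (h : a ≫ G.s = b ≫ G.t) : T ⟶ G.R :=
  pullback.lift a b h ≫ G.c

lemma mulR_s (a b : T ⟶ G.R) (h) : mulR G a b h ≫ G.s = b ≫ G.s := G.comp_s a b h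

lemma mulR_t (a b : T ⟶ G.R) (h) : mulR G a b h ≫ G.t = a ≫ G.t := G.comp_t a b h

lemma mulR_congr {a a' b b' : T ⟶ G.R} (ha : a = a') (hb : b = b') (h) :
    mulR G a b h = mulR G a' b' (by rw [← ha, ← hb]; exact h) := by
  subst ha; subst hb; rfl

lemma comp_mulR (f : T' ⟶ T) (a b : T ⟶ G.R) (h) :
    f ≫ mulR G a b h =
      mulR G (f ≫ a) (f ≫ b) (by rw [Category.assoc, Category.assoc, h]) := by
  rw [mulR, mulR, ← Category.assoc]
  congr 1
  apply pullback.hom_ext <;> simp only [Category.assoc, pullback.lift_fst, pullback.lift_snd]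

lemma c_eq : G.c = mulR G (pullback.fst G.s G.t) (pullback.snd G.s G.t) pullback.condition := by
  have hl : pullback.lift (pullback.fst G.s G.t) (pullback.snd G.s G.t) pullback.condition =
      𝟙 (pullback G.s G.t) := by ext <;> simp
  rw [mulR, hl, Category.id_comp]

@[reassoc]
lemma c_s : G.c ≫ G.s = pullback.snd G.s G.t ≫ G.s := by rw [c_eq G, mulR_s]

@[reassoc]
lemma c_t : G.c ≫ G.t = pullback.fst G.s G.t ≫ G.t := by rw [c_eq G, mulR_t]

lemma mulR_assoc (a b d : T ⟶ G.R) (h₁ : a ≫ G.s = b ≫ G.t) (h₂ : b ≫ G.s = d ≫ G.t) :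
    mulR G (mulR G a b h₁) d ((mulR_s G a b h₁).trans h₂) =
      mulR G a (mulR G b d h₂) (h₁.trans (mulR_t G b d h₂).symm) :=
  G.assoc a b d h₁ h₂

/-- Inverse of a T-valued arrow. -/
noncomputable def invR (a : T ⟶ G.R) : T ⟶ G.R := a ≫ G.i

lemma invR_s (a : T ⟶ G.R) : invR G a ≫ G.s = a ≫ G.t := by rw [invR, Category.assoc, G.i_s]

lemma invR_t (a : T ⟶ G.R) : invR G a ≫ G.t = a ≫ G.s := by rw [invR, Category.assoc, G.i_t]

lemma comp_invR (f : T' ⟶ T) (a : T ⟶ G.R) : f ≫ invR G a = invR G (f ≫ a) :=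
  (Category.assoc _ _ _).symm

lemma invR_mulR_cancel (a b : T ⟶ G.R) (h : a ≫ G.s = b ≫ G.t) :
    mulR G (invR G a) (mulR G a b h) ((invR_s G a).trans (mulR_t G a b h).symm) = b := by
  rw [← mulR_assoc G (invR G a) a b (invR_s G a) h]
  have h1 : mulR G (invR G a) a (invR_s G a) = b ≫ G.t ≫ G.e := by
    rw [← Category.assoc, ← h, Category.assoc]; exact G.i_comp a
  rw [mulR_congr G h1 rfl]
  exact G.e_comp b

lemma mulR_invR_cancel (a b : T ⟶ G.R) (h : a ≫ G.t = b ≫ G.t) :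
    mulR G a (mulR G (invR G a) b ((invR_s G a).trans h))
      ((mulR_t G (invR G a) b _).trans (invR_t G a)).symm = b := by
  rw [← mulR_assoc G a (invR G a) b (invR_t G a).symm ((invR_s G a).trans h)]
  have h1 : mulR G a (invR G a) (invR_t G a).symm = b ≫ G.t ≫ G.e := by
    rw [← Category.assoc, ← h, Category.assoc]; exact G.comp_i a
  rw [mulR_congr G h1 rfl]
  exact G.e_comp b

lemma mulR_invR_right (a b : T ⟶ G.R) (h : a ≫ G.s = b ≫ G.t) :
    mulR G (mulR G a b h) (invR G b) ((mulR_s G a b h).trans (invR_t G b).symm) = a := by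
  rw [mulR_assoc G a b (invR G b) h (invR_t G b).symm]
  have h1 : mulR G b (invR G b) (invR_t G b).symm = a ≫ G.s ≫ G.e := by
    rw [← Category.assoc, h, Category.assoc]; exact G.comp_i b
  rw [mulR_congr G rfl h1]
  exact G.comp_e a

lemma mulR_invR_right' (a b : T ⟶ G.R) (h : a ≫ G.s = b ≫ G.s) :
    mulR G (mulR G a (invR G b) (h.trans (invR_t G b).symm)) b
      ((mulR_s G a (invR G b) _).trans (invR_s G b)) = a := by
  rw [mulR_assoc G a (invR G b) b (h.trans (invR_t G b).symm) (invR_s G b)]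
  have h1 : mulR G (invR G b) b (invR_s G b) = a ≫ G.s ≫ G.e := by
    rw [← Category.assoc, h, Category.assoc]; exact G.i_comp b
  rw [mulR_congr G rfl h1]
  exact G.comp_e a

end Groth.Agent.H19Grp
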