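import Groth.Agent.H19Grp.FieldInFG
import Groth.Agent.H19Grp.GrpdBasic
import Groth.Agent.H17.Reduced
import Groth.Agent.H19Grp.Quotient
import Groth.Agent.H8Props.FieldDimScheme
import Mathlib

/-!
# The stabilizer of a groupoid over a field has the dimension of the groupoid
-/

set_option autoImplicit false
set_option linter.style.haveILetI false
set_option backward.isDefEq.respectTransparency false

universe u

open CategoryTheory CategoryTheory.Limits AlgebraicGeometry

namespace Groth.Agent.H19Grp

/-- A morphism from an integral scheme locally of finite type over an algebraically closed field to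
the spectrum of a field is constant. -/
theorem eq_const_of_integral {k K : Type u} [Field k] [Field K] [IsAlgClosed K] {Z : Scheme.{u}}
    [IsIntegral Z] (ψ : Z ⟶ Spec (CommRingCat.of K)) [LocallyOfFiniteType ψ]
    (τ : Z ⟶ Spec (CommRingCat.of k)) (p : Spec (CommRingCat.of K) ⟶ Z) (hp : p ≫ ψ = 𝟙 _) :
    τ = ψ ≫ p ≫ τ := by
  obtain ⟨V, hV, hzV, -⟩ := exists_isAffineOpen_mem_and_subset
    (x := p (IsLocalRing.closedPoint K)) (U := ⊤) trivial
  haveI : Nonempty (Spec Γ(Z, V)) := ⟨hV.isoSpec.hom ⟨_, hzV⟩⟩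
  haveI : Nonempty V := ⟨⟨_, hzV⟩⟩
  obtain ⟨α, hα⟩ := Spec.map_surjective (hV.fromSpec ≫ ψ)
  obtain ⟨β, hβ⟩ := Spec.map_surjective (hV.fromSpec ≫ τ)
  haveI : IsDomain Γ(Z, V) := IsIntegral.component_integral V
  letI : Algebra K Γ(Z, V) := α.hom.toAlgebra
  haveI : Algebra.FiniteType K Γ(Z, V) := by
    have : LocallyOfFiniteType (Spec.map α) := hα ▸ inferInstance
    exact (HasRingHomProperty.Spec_iff (P := @LocallyOfFiniteType)).mp this
  have hsub : Set.range p ⊆ Set.range hV.fromSpec := by
    rintro _ ⟨t, rfl⟩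
    rw [hV.range_fromSpec, Subsingleton.elim (α := PrimeSpectrum K) t (IsLocalRing.closedPoint K)]
    exact hzV
  obtain ⟨π, hπ⟩ := Spec.map_surjective (IsOpenImmersion.lift hV.fromSpec p hsub)
  have hp' : Spec.map π ≫ hV.fromSpec = p := by rw [hπ]; exact IsOpenImmersion.lift_fac _ _ _
  have hαπ : α ≫ π = 𝟙 _ := by
    apply Spec.map_injective
    rw [Spec.map_comp, hα, ← Category.assoc, hp', hp, Spec.map_id]
  have key : β = β ≫ π ≫ α := by
    ext x
    obtain ⟨c, hc⟩ := exists_eq_algebraMap (K := K) (A := Γ(Z, V)) β.hom x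
    show β.hom x = α.hom (π.hom (β.hom x))
    rw [hc]
    exact congrArg α.hom (congrArg (fun e : CommRingCat.of K ⟶ CommRingCat.of K => e.hom c) hαπ).symm
  haveI : IsDominant hV.fromSpec := by
    rw [isDominant_iff, DenseRange, hV.range_fromSpec]
    exact V.2.dense ⟨_, hzV⟩
  refine ext_of_isDominant hV.fromSpec ?_
  rw [← Category.assoc, ← hα, ← hp', Category.assoc, ← hβ, ← Spec.map_comp, ← Spec.map_comp,
    Category.assoc, ← key]

variable {S : Scheme.{u}} (G : Grpd.GroupoidScheme S)

/-- The stabilizer arrows as points of R. -/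
noncomputable def stabToR : G.stabilizer ⟶ G.R := pullback.fst G.j G.diag

lemma stabToR_s : stabToR G ≫ G.s = G.stabilizerToU := by
  have h := congrArg (· ≫ pullback.snd G.pU G.pU) (pullback.condition (f := G.j) (g := G.diag))
  simp only [Category.assoc] at h
  erw [pullback.lift_snd, pullback.lift_snd, Category.comp_id] at h
  exact h

lemma stabToR_t : stabToR G ≫ G.t = G.stabilizerToU := by
  have h := congrArg (· ≫ pullback.fst G.pU G.pU) (pullback.condition (f := G.j) (g := G.diag))
  simp only [Category.assoc] at h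
  erw [pullback.lift_fst, pullback.lift_fst, Category.comp_id] at h
  exact h

instance isImmersion_diag : IsImmersion G.diag := inferInstanceAs (IsImmersion (pullback.diagonal G.pU))

instance isImmersion_stabToR : IsImmersion (stabToR G) :=
  MorphismProperty.pullback_fst (P := @IsImmersion) _ _ (isImmersion_diag G)

open H8Props.FieldDim in
/-- The dimension of a groupoid over a field is that of its stabilizer. -/
theorem dim_eq_dim_stabilizer (k : Type u) [Field k] (eU : G.U ≅ Spec (CommRingCat.of k))
    [LocallyOfFiniteType G.s] [LocallyOfFiniteType G.t] :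
    topologicalKrullDim G.R = topologicalKrullDim G.stabilizer := by
  refine le_antisymm ?_ (stabToR G).isEmbedding.isInducing.topologicalKrullDim_le
  let K := AlgebraicClosure k
  let b : Spec (CommRingCat.of K) ⟶ Spec (CommRingCat.of k) :=
    Spec.map (CommRingCat.ofHom (algebraMap k K))
  let s' := G.s ≫ eU.hom
  haveI : LocallyOfFiniteType (stabToR G) := inferInstance
  haveI : LocallyOfFiniteType G.stabilizerToU := stabToR_s G ▸ inferInstance
  let σ := G.stabilizerToU ≫ eU.hom
  rw [← dim_baseChange s' (pullback.fst s' b) (pullback.snd s' b) (IsPullback.of_hasPullback _ _),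
    ← dim_baseChange σ (pullback.fst σ b) (pullback.snd σ b) (IsPullback.of_hasPullback _ _),
    dim_eq_iSup_cdim]
  refine iSup_le fun z => ?_
  let I := Scheme.IdealSheafData.vanishingIdeal (X := pullback s' b) ⟨closure {z}, isClosed_closure⟩
  let Z := I.subscheme
  let ι₀ : Z ⟶ pullback s' b := I.subschemeι
  have hrange : Set.range ι₀ = closure {z} := by
    show Set.range I.subschemeι = _
    rw [Scheme.IdealSheafData.range_subschemeι]
    rw [Scheme.IdealSheafData.coe_support_vanishingIdeal]
    rfl
  haveI : IrreducibleSpace Z := by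
    have hirr : IsIrreducible (Set.range ι₀) := hrange ▸ isIrreducible_singleton.closure
    haveI : IrreducibleSpace (Set.range ι₀) := (irreducibleSpace_def _).mpr
      ⟨⟨⟨_, hirr.nonempty.some_mem⟩, trivial⟩,
        (Subtype.preirreducibleSpace hirr.isPreirreducible).isPreirreducible_univ⟩
    exact ι₀.isEmbedding.toHomeomorph.symm.surjective.irreducibleSpace
      ι₀.isEmbedding.toHomeomorph.symm.continuous
  haveI : IsReduced Z := H17.isReduced_vanishingIdeal_subscheme _
  haveI : IsIntegral Z := isIntegral_of_irreducibleSpace_of_isReduced Z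
  let ψ : Z ⟶ Spec (CommRingCat.of K) := ι₀ ≫ pullback.snd s' b
  let x : Z ⟶ G.R := ι₀ ≫ pullback.fst s' b
  haveI : LocallyOfFiniteType ψ := inferInstance
  haveI : JacobsonSpace Z := LocallyOfFiniteType.jacobsonSpace ψ
  obtain ⟨w, -, hw⟩ := nonempty_inter_closedPoints (Z := (Set.univ : Set Z)) Set.univ_nonempty
    isClosed_univ.isLocallyClosed
  let p := pointOfClosedPoint ψ w hw
  have hp : p ≫ ψ = 𝟙 _ := pointOfClosedPoint_comp _ _ _
  let β : Spec (CommRingCat.of K) ⟶ G.U := b ≫ eU.inv
  let ρ : Spec (CommRingCat.of K) ⟶ G.R := p ≫ x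
  have hxs : x ≫ G.s = ψ ≫ β := by
    rw [← cancel_mono eU.hom]
    simp only [x, ψ, β, Category.assoc, Iso.inv_hom_id, Category.comp_id]
    rw [show G.s ≫ eU.hom = s' from rfl, pullback.condition]
  have hρs : ρ ≫ G.s = β := by
    simp only [ρ, Category.assoc, hxs]
    rw [← Category.assoc, hp, Category.id_comp]
  have hxt : x ≫ G.t = (ψ ≫ ρ) ≫ G.t := by
    rw [← cancel_mono eU.hom]
    simp only [Category.assoc, ρ]
    exact eq_const_of_integral ψ (x ≫ G.t ≫ eU.hom) p hp
  let g : Z ⟶ G.R := mulR G (invR G (ψ ≫ ρ)) x ((invR_s G _).trans hxt.symm)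
  have hgs : g ≫ G.s = ψ ≫ β := (mulR_s G _ _ _).trans hxs
  have hgt : g ≫ G.t = ψ ≫ β := by
    rw [mulR_t, invR_t, Category.assoc, hρs]
  let gS : Z ⟶ G.stabilizer := pullback.lift g (ψ ≫ β) (by
    apply pullback.hom_ext
    · simp only [Category.assoc, Grpd.GroupoidScheme.j, Grpd.GroupoidScheme.diag,
        pullback.lift_fst, Category.comp_id]
      exact hgt
    · simp only [Category.assoc, Grpd.GroupoidScheme.j, Grpd.GroupoidScheme.diag,
        pullback.lift_snd, Category.comp_id]
      exact hgs)
  have hgS : gS ≫ stabToR G = g := pullback.lift_fst _ _ _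
  let Φ : Z ⟶ pullback σ b := pullback.lift gS ψ (by
    show gS ≫ G.stabilizerToU ≫ eU.hom = _
    rw [← Category.assoc, show gS ≫ G.stabilizerToU = ψ ≫ β from pullback.lift_snd _ _ _]
    simp [β])
  let π := pullback.snd σ b
  let g' : pullback σ b ⟶ G.R := pullback.fst σ b ≫ stabToR G
  have hg't : (π ≫ ρ) ≫ G.s = g' ≫ G.t := by
    simp only [g', Category.assoc, hρs, stabToR_t]
    rw [← cancel_mono eU.hom]
    simp only [β, π, Category.assoc, Iso.inv_hom_id, Category.comp_id]
    exact pullback.condition.symm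
  let Ψ : pullback σ b ⟶ pullback s' b := pullback.lift (mulR G (π ≫ ρ) g' hg't) π (by
    show mulR G (π ≫ ρ) g' hg't ≫ G.s ≫ eU.hom = _
    rw [← Category.assoc, mulR_s]
    simp only [g', Category.assoc]
    rw [← Category.assoc (stabToR G), stabToR_s]
    exact pullback.condition)
  have hΦΨ : Φ ≫ Ψ = ι₀ := by
    apply pullback.hom_ext
    · simp only [Ψ, Category.assoc, pullback.lift_fst]
      rw [comp_mulR]
      have e1 : Φ ≫ π ≫ ρ = ψ ≫ ρ := by rw [← Category.assoc, pullback.lift_snd]
      have e2 : Φ ≫ g' = g := by rw [← Category.assoc, pullback.lift_fst, hgS]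
      rw [mulR_congr G e1 e2]
      exact mulR_invR_cancel G (ψ ≫ ρ) x hxt.symm
    · simp only [Ψ, Category.assoc, pullback.lift_snd]
      exact pullback.lift_snd _ _ _
  have hemb : Topology.IsEmbedding (Φ : Z → ↥(pullback σ b)) := by
    refine Topology.IsEmbedding.of_comp Φ.continuous Ψ.continuous ?_
    rw [← TopCat.coe_comp, ← Scheme.Hom.comp_base, hΦΨ]
    exact ι₀.isEmbedding
  refine le_trans ?_ hemb.isInducing.topologicalKrullDim_le
  rw [cdim, ← hrange]
  exact (dim_range ι₀.isEmbedding).le

end Groth.Agent.H19Grp
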