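import Groth.Agent.H19Grp.PiClosedGlobal
import Mathlib

/-!
# Universal closed subschemes for products over a field; subgroups from closed conditions
-/

set_option autoImplicit false
set_option linter.style.haveILetI false
set_option backward.isDefEq.respectTransparency false

universe v u

open CategoryTheory CategoryTheory.Limits MonoidalCategory CartesianMonoidalCategory AlgebraicGeometry TensorProduct
open scoped MonObj

namespace Groth.Agent.H19Grp

/-- Over a field `G ×ₖ X → G` is essentially free: universal ideals exist for any closed subscheme. -/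
theorem hasUnivLocally_fst {K : Type u} [Field K] {G X : Over (Spec (CommRingCat.of K))} {Y : Scheme.{u}}
    (j : Y ⟶ (G ⊗ X).left) [IsClosedImmersion j] : HasUnivLocally (fst G X).left j := by
  intro s
  obtain ⟨U, hU, hs, -⟩ := exists_isAffineOpen_mem_and_subset (x := s) (U := (⊤ : G.left.Opens)) trivial
  letI alg (W : X.left.affineOpens) : Algebra K Γ(X.left, W.1) :=
    (Spec.preimage (W.2.fromSpec ≫ X.hom)).hom.toAlgebra
  have hstr : ∀ W : X.left.affineOpens,
      Spec.map (CommRingCat.ofHom (algebraMap K Γ(X.left, W.1))) = W.2.fromSpec ≫ X.hom :=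
    fun W => Spec.map_preimage _
  let σ := hU.fromSpec
  let A := Γ(G.left, U)
  letI : Algebra K A := (Spec.preimage (σ ≫ G.hom)).hom.toAlgebra
  have hA : Spec.map (CommRingCat.ofHom (algebraMap K A)) = σ ≫ G.hom := Spec.map_preimage _
  let m (W : X.left.affineOpens) :
      Spec (CommRingCat.of (A ⊗[K] Γ(X.left, W.1))) ⟶ pullback (fst G X).left σ :=
    (pullbackSpecIso K A Γ(X.left, W.1)).inv ≫
      pullback.map _ _ (σ ≫ G.hom) X.hom (𝟙 _) W.2.fromSpec (𝟙 _)
        (by rw [Category.comp_id, Category.id_comp]; exact hA)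
        (by rw [Category.comp_id]; exact hstr W) ≫
      (pullbackRightPullbackFstIso G.hom X.hom σ).inv ≫ (pullbackSymmetry _ _).hom
  have hm : ∀ W, m W ≫ pullback.snd (fst G X).left σ =
      Spec.map (CommRingCat.ofHom (algebraMap A (A ⊗[K] Γ(X.left, W.1)))) := by
    intro W
    simp only [m, Category.assoc]
    erw [pullbackSymmetry_hom_comp_snd, pullbackRightPullbackFstIso_inv_fst, pullback.lift_fst,
      Category.comp_id]
    exact pullbackSpecIso_inv_fst K A _
  have hcov : ∀ z, ∃ W, z ∈ Set.range (m W) := by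
    intro z
    let e : pullback (fst G X).left σ ≅ pullback (σ ≫ G.hom) X.hom :=
      pullbackSymmetry _ _ ≪≫ pullbackRightPullbackFstIso G.hom X.hom σ
    obtain ⟨W, hW, hzW, -⟩ := exists_isAffineOpen_mem_and_subset
      (x := pullback.snd (σ ≫ G.hom) X.hom (e.hom z)) (U := (⊤ : X.left.Opens)) trivial
    letI : Algebra K Γ(X.left, W) := alg ⟨W, hW⟩
    have hw : e.hom z ∈ Set.range (pullback.map
        (Spec.map (CommRingCat.ofHom (algebraMap K A)))
        (Spec.map (CommRingCat.ofHom (algebraMap K Γ(X.left, W)))) (σ ≫ G.hom) X.hom (𝟙 _) hW.fromSpec (𝟙 _)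
        (by rw [Category.comp_id, Category.id_comp]; exact hA)
        (by rw [Category.comp_id]; exact hstr ⟨W, hW⟩)) := by
      rw [Scheme.Pullback.range_map]
      exact ⟨⟨_, rfl⟩, hW.range_fromSpec.superset hzW⟩
    obtain ⟨v, hv⟩ := hw
    refine ⟨⟨W, hW⟩, (pullbackSpecIso K A Γ(X.left, W)).hom v, ?_⟩
    show m ⟨W, hW⟩ _ = z
    simp only [m, ← Scheme.Hom.comp_apply, Iso.hom_inv_id_assoc]
    rw [Scheme.Hom.comp_apply, hv]
    show (e.hom ≫ e.inv) z = z
    rw [Iso.hom_inv_id]; rfl
  obtain ⟨𝔞, h𝔞, -⟩ := hasUniv_of_charts (f := (fst G X).left) (j := j) (A := A) σ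
    (fun W : X.left.affineOpens => A ⊗[K] Γ(X.left, W.1)) m hm hcov
  exact ⟨_, σ, 𝔞, inferInstance, hU.range_fromSpec.superset hs, h𝔞⟩


/-- For `Y = preimage of a closed subscheme`: containing means factoring. -/
theorem contains_fst_iff {K : Type u} [Field K] {G X Z' Z : Over (Spec (CommRingCat.of K))}
    (c : G ⊗ X ⟶ Z) (y : Z' ⟶ Z) {T : Over (Spec (CommRingCat.of K))} (g : T ⟶ G) :
    Contains (fst G X).left (pullback.fst c.left y.left) g.left ↔
      ∃ x' : T ⊗ X ⟶ Z', x' ≫ y = (g ▷ X) ≫ c := by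
  constructor
  · rintro ⟨l, hl⟩
    let r : (T ⊗ X).left ⟶ pullback (fst G X).left g.left :=
      pullback.lift (g ▷ X).left (fst T X).left
        (by rw [← Over.comp_left, ← Over.comp_left, whiskerRight_fst])
    have h1 : (r ≫ l ≫ pullback.snd _ _) ≫ y.left = (g ▷ X).left ≫ c.left := by
      rw [Category.assoc, Category.assoc, ← pullback.condition, ← Category.assoc l, hl,
        pullback.lift_fst_assoc]
    refine ⟨Over.homMk (r ≫ l ≫ pullback.snd _ _) ?_, Over.OverMorphism.ext h1⟩
    rw [← Over.w y, ← Category.assoc, h1, ← Over.comp_left, Over.w]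
  · rintro ⟨x', hx'⟩
    let P : Over (Spec (CommRingCat.of K)) := Over.mk (pullback.fst (fst G X).left g.left ≫ (G ⊗ X).hom)
    let p : P ⟶ G ⊗ X := Over.homMk (pullback.fst (fst G X).left g.left) rfl
    let t : P ⟶ T := Over.homMk (pullback.snd (fst G X).left g.left) (by
      show _ = pullback.fst (fst G X).left g.left ≫ (G ⊗ X).hom
      rw [← Over.w g, ← Category.assoc, ← pullback.condition, Category.assoc, Over.w (fst G X)])
    have hpt : p ≫ fst G X = t ≫ g := by
      ext : 1
      exact pullback.condition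
    have hp : lift t (p ≫ snd G X) ≫ (g ▷ X) = p := by
      apply CartesianMonoidalCategory.hom_ext
      · rw [Category.assoc, whiskerRight_fst, lift_fst_assoc, hpt]
      · rw [Category.assoc, whiskerRight_snd, lift_snd]
    refine ⟨pullback.lift (pullback.fst (fst G X).left g.left) (lift t (p ≫ snd G X) ≫ x').left ?_,
      pullback.lift_fst _ _ _⟩
    show (p ≫ c).left = _
    rw [← Over.comp_left, Category.assoc, hx', ← Category.assoc, hp]

/-- The closed subscheme of `G` over which a morphism on `G ×ₖ X` factors through a closed subscheme. -/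
theorem exists_closed_forall_factor {K : Type u} [Field K] {G X Z' Z : Over (Spec (CommRingCat.of K))}
    (c : G ⊗ X ⟶ Z) (y : Z' ⟶ Z) [IsClosedImmersion y.left] :
    ∃ (T : Over (Spec (CommRingCat.of K))) (t : T ⟶ G), IsClosedImmersion t.left ∧
      ∀ (S' : Over (Spec (CommRingCat.of K))) (g : S' ⟶ G), (∃ z : S' ⟶ T, z ≫ t = g) ↔
        ∀ (S'' : Over (Spec (CommRingCat.of K))) (s : S'' ⟶ S') (x : S'' ⟶ X),
          ∃ x' : S'' ⟶ Z', x' ≫ y = lift (s ≫ g) x ≫ c := by
  have hloc := hasUnivLocally_fst (pullback.fst c.left y.left)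
  let I := univIdeal hloc
  refine ⟨Over.mk (I.subschemeι ≫ G.hom), Over.homMk I.subschemeι rfl,
    inferInstanceAs (IsClosedImmersion I.subschemeι), fun S' g => ?_⟩
  have h : (∃ z : S' ⟶ Over.mk (I.subschemeι ≫ G.hom), z ≫ Over.homMk I.subschemeι rfl = g) ↔
      ∃ x' : S' ⊗ X ⟶ Z', x' ≫ y = (g ▷ X) ≫ c := by
    rw [← contains_fst_iff c y g, ← contains_iff_factors hloc]
    constructor
    · rintro ⟨z, rfl⟩
      exact ⟨z.left, rfl⟩
    · rintro ⟨z, hz⟩
      refine ⟨Over.homMk z ?_, Over.OverMorphism.ext hz⟩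
      show z ≫ I.subschemeι ≫ G.hom = S'.hom
      rw [← Category.assoc, hz, Over.w]
  rw [h]
  constructor
  · rintro ⟨x', hx'⟩ S'' s x
    exact ⟨lift s x ≫ x', by
      rw [Category.assoc, hx', ← Category.assoc, lift_whiskerRight]⟩
  · intro H
    obtain ⟨x', hx'⟩ := H (S' ⊗ X) (fst S' X) (snd S' X)
    refine ⟨x', hx'.trans ?_⟩
    congr 1

/-- A subobject closed under the group operations is a subgroup object. -/
theorem exists_grpObj_of_closed {C : Type u} [Category.{v} C] [CartesianMonoidalCategory C] {G N : C}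
    [GrpObj G] (n : N ⟶ G) [Mono n]
    (h1 : ∃ z : 𝟙_ C ⟶ N, z ≫ n = 1)
    (hmul : ∀ (T : C) (a b : T ⟶ N), ∃ z, z ≫ n = (a ≫ n) * (b ≫ n))
    (hinv : ∀ (T : C) (a : T ⟶ N), ∃ z, z ≫ n = (a ≫ n)⁻¹) :
    ∃ _ : GrpObj N, IsMonHom n := by
  obtain ⟨e, he⟩ := h1
  obtain ⟨m, hm⟩ := hmul _ (fst N N) (snd N N)
  obtain ⟨i, hi⟩ := hinv _ (𝟙 N)
  have hone : ∀ {T : C} (f : T ⟶ 𝟙_ C), f ≫ e ≫ n = (1 : T ⟶ G) := fun f => by
    rw [he, MonObj.comp_one]
  have key : ∀ {T : C} (f : T ⟶ N ⊗ N), f ≫ m ≫ n = (f ≫ fst N N ≫ n) * (f ≫ snd N N ≫ n) := by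
    intro T f
    rw [hm, MonObj.comp_mul]
  let inst : GrpObj N :=
    { one := e, mul := m, inv := i
      one_mul := by
        rw [← cancel_mono n, Category.assoc, key, ← Category.assoc, ← Category.assoc,
          whiskerRight_fst, Category.assoc, Category.assoc, whiskerRight_snd_assoc, hone,
          _root_.one_mul, leftUnitor_hom]
      mul_one := by
        rw [← cancel_mono n, Category.assoc, key, whiskerLeft_fst_assoc, ← Category.assoc (_ ◁ _),
          whiskerLeft_snd, Category.assoc, hone, _root_.mul_one, rightUnitor_hom]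
      mul_assoc := by
        rw [← cancel_mono n]
        simp only [Category.assoc, key, MonObj.comp_mul, whiskerRight_fst_assoc, whiskerRight_snd_assoc,
          whiskerLeft_fst_assoc, whiskerLeft_snd_assoc, associator_hom_fst_assoc,
          associator_hom_snd_fst_assoc, associator_hom_snd_snd_assoc, _root_.mul_assoc]
      left_inv := by
        rw [← cancel_mono n, Category.assoc, key, lift_fst_assoc, lift_snd_assoc, hi, Category.id_comp,
          inv_mul_cancel, Category.assoc, hone]
      right_inv := by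
        rw [← cancel_mono n, Category.assoc, key, lift_fst_assoc, lift_snd_assoc, hi, Category.id_comp,
          mul_inv_cancel, Category.assoc, hone] }
  refine ⟨inst, ⟨he.trans (by rw [Hom.one_def, Subsingleton.elim (toUnit (𝟙_ C)) (𝟙 _), Category.id_comp]), ?_⟩⟩
  show m ≫ n = (n ⊗ₘ n) ≫ μ[G]
  rw [hm, Hom.mul_def]
  congr 1
  apply CartesianMonoidalCategory.hom_ext <;> simp

end Groth.Agent.H19Grp
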