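import Mathlib
import Groth.Agent.H19Grp.PointsEq
import Groth.Agent.S7549

/-! Points in algebraically closed extensions: closed points of schemes of finite type. -/

set_option autoImplicit false
set_option linter.style.haveILetI false
set_option backward.isDefEq.respectTransparency false

universe u

open CategoryTheory CategoryTheory.Limits MonoidalCategory CartesianMonoidalCategory MonObj AlgebraicGeometry

namespace Groth.Agent.H19Grp.PointsDense

variable {k K : Type u} [Field k] [Field K] [Algebra k K]

/-- Closed points of a scheme of finite type carry points in an algebraically closed extension. -/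
theorem exists_point_closed [IsAlgClosed K] {W : Over (Spec (CommRingCat.of k))}
    [LocallyOfFiniteType W.hom] {x : W.left} (hx : IsClosed ({x} : Set W.left)) :
    ∃ w : Over.mk (Spec.map (CommRingCat.ofHom (algebraMap k K))) ⟶ W,
      ∀ p : Spec (CommRingCat.of K), w.left p = x := by
  haveI : IsClosedImmersion (W.left.fromSpecResidueField x) := isClosed_singleton_iff_isClosedImmersion.1 hx
  obtain ⟨ψ, hψ⟩ := Spec.map_surjective (W.left.fromSpecResidueField x ≫ W.hom)
  haveI : LocallyOfFiniteType (Spec.map ψ) := by rw [hψ]; infer_instance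
  have hft : ψ.hom.FiniteType := HasRingHomProperty.Spec_iff.mp this
  algebraize [ψ.hom]
  haveI : Algebra.FiniteType k (W.left.residueField x) := hft
  haveI : Module.Finite k (W.left.residueField x) := finite_of_finite_type_of_isJacobsonRing k _
  let φ : W.left.residueField x →ₐ[k] K := IsAlgClosed.lift
  refine ⟨Over.homMk (Spec.map (CommRingCat.ofHom φ.toRingHom) ≫ W.left.fromSpecResidueField x) ?_, fun p => ?_⟩
  · show _ = Spec.map (CommRingCat.ofHom (algebraMap k K))
    rw [Category.assoc, ← hψ, ← Spec.map_comp]
    exact congrArg (fun r => Spec.map r) (CommRingCat.hom_ext φ.comp_algebraMap)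
  · show W.left.fromSpecResidueField x _ = x
    exact Scheme.fromSpecResidueField_apply _ _

/-- A constructible subset containing the images of all points is everything. -/
theorem eq_univ_of_points [IsAlgClosed K] {W : Over (Spec (CommRingCat.of k))}
    [LocallyOfFiniteType W.hom] {E : Set W.left} (hE : Topology.IsConstructible E)
    (h : ∀ w : Over.mk (Spec.map (CommRingCat.ofHom (algebraMap k K))) ⟶ W,
      ∃ p, w.left p ∈ E) : E = Set.univ := by
  haveI := LocallyOfFiniteType.jacobsonSpace W.hom
  refine Set.univ_subset_iff.1 (((S7549.result (X := W.left)).2.2.1 Set.univ E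
    Topology.IsConstructible.univ hE).1 fun z _ => ?_)
  obtain ⟨w, hw⟩ := exists_point_closed (K := K) (W := W) z.2
  obtain ⟨p, hp⟩ := h w
  rwa [hw] at hp

/-- A closed subscheme of a reduced scheme of finite type containing all points is everything. -/
theorem isIso_of_points_reduced [IsAlgClosed K] {W P : Over (Spec (CommRingCat.of k))}
    [LocallyOfFiniteType W.hom] [IsReduced W.left] (c : P ⟶ W) [IsClosedImmersion c.left]
    (h : ∀ w : Over.mk (Spec.map (CommRingCat.ofHom (algebraMap k K))) ⟶ W,
      ∃ p : Over.mk (Spec.map (CommRingCat.ofHom (algebraMap k K))) ⟶ P, p ≫ c = w) : IsIso c := by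
  haveI := LocallyOfFiniteType.jacobsonSpace W.hom
  haveI : Surjective c.left := ⟨fun x => by
    by_contra hx
    obtain ⟨y, hy, hyc⟩ := nonempty_inter_closedPoints (Z := (Set.range c.left)ᶜ) ⟨x, hx⟩
      c.left.isClosedEmbedding.isClosed_range.isOpen_compl.isLocallyClosed
    obtain ⟨w, hw⟩ := exists_point_closed (K := K) (W := W) hyc
    obtain ⟨p, rfl⟩ := h w
    exact hy ⟨p.left (IsLocalRing.closedPoint K), hw _⟩⟩
  haveI : IsIso ((Over.forget _).map c) := isIso_of_isClosedImmersion_of_surjective c.left
  exact isIso_of_reflects_iso c (Over.forget _)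

/-- A closed subscheme of `W ×ₖ K` containing the graphs of all `K`-points of a smooth `W` is
everything. -/
theorem isIso_of_points_base [IsSepClosed K] {W P : Over (Spec (CommRingCat.of k))} [Smooth W.hom]
    (c : P ⟶ W ⊗ Over.mk (Spec.map (CommRingCat.ofHom (algebraMap k K)))) [IsClosedImmersion c.left]
    (h : ∀ w : Over.mk (Spec.map (CommRingCat.ofHom (algebraMap k K))) ⟶ W,
      ∃ p : Over.mk (Spec.map (CommRingCat.ofHom (algebraMap k K))) ⟶ P, p ≫ c = lift w (𝟙 _)) :
    IsIso c := by
  let Ko := Over.mk (Spec.map (CommRingCat.ofHom (algebraMap k K)))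
  let W' : Over (Spec (CommRingCat.of K)) := Over.mk (pullback.snd W.hom Ko.hom)
  let P' : Over (Spec (CommRingCat.of K)) := Over.mk (c.left ≫ pullback.snd W.hom Ko.hom)
  let c' : P' ⟶ W' := Over.homMk c.left rfl
  haveI : Smooth W'.hom := inferInstanceAs (Smooth (pullback.snd W.hom Ko.hom))
  haveI : IsClosedImmersion c'.left := ‹_›
  have hid : Spec.map (CommRingCat.ofHom (algebraMap K K)) = 𝟙 (Spec (CommRingCat.of K)) := by
    rw [← Spec.map_id]; rfl
  have := isIso_of_points (k := K) (K := K) c' fun w' => by
    have hw' : w'.left ≫ pullback.snd W.hom Ko.hom = 𝟙 _ := (Over.w w').trans hid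
    let w : Ko ⟶ W := Over.homMk (w'.left ≫ pullback.fst W.hom Ko.hom) (by
      show (w'.left ≫ pullback.fst W.hom Ko.hom) ≫ W.hom = Ko.hom
      rw [Category.assoc, pullback.condition, ← Category.assoc, hw', Category.id_comp])
    obtain ⟨p, hp⟩ := h w
    have hp' : p.left ≫ c.left = w'.left := by
      rw [← Over.comp_left, hp]
      apply pullback.hom_ext
      · show (lift w (𝟙 Ko)).left ≫ (fst W Ko).left = w'.left ≫ pullback.fst W.hom Ko.hom
        rw [← Over.comp_left, lift_fst]
        rfl
      · show (lift w (𝟙 Ko)).left ≫ (snd W Ko).left = w'.left ≫ pullback.snd W.hom Ko.hom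
        rw [← Over.comp_left, lift_snd, hw']
        rfl
    refine ⟨Over.homMk p.left ?_, ?_⟩
    · show p.left ≫ c.left ≫ pullback.snd W.hom Ko.hom = Spec.map _
      rw [← Category.assoc, hp', hw', hid]
      rfl
    · ext1; exact hp'
  haveI : IsIso c.left := inferInstanceAs (IsIso ((Over.forget _).map c'))
  haveI : IsIso ((Over.forget _).map c) := this
  exact isIso_of_reflects_iso c (Over.forget _)

end Groth.Agent.H19Grp.PointsDense
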