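import Groth.Agent.H19Grp.Components
import Groth.Agent.H19Grp.GrpToGrpd

/-!
# Locally closed subgroupoids of a groupoid over a field are closed
-/

set_option autoImplicit false
set_option linter.style.haveILetI false
set_option backward.isDefEq.respectTransparency false

universe u

open CategoryTheory Limits AlgebraicGeometry

namespace Groth.Agent.H19Grp

variable {S : Scheme.{u}} (G : Grpd.GroupoidScheme S)

/-- Left translation by a field-valued arrow identifies the t-fibres. -/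
theorem exists_iso_translate {T : Scheme.{u}} (γ : T ⟶ G.R) :
    ∃ f : pullback G.t (γ ≫ G.s) ⟶ pullback G.t (γ ≫ G.t), IsIso f ∧
      f ≫ pullback.fst _ _ =
        mulR G (pullback.snd G.t (γ ≫ G.s) ≫ γ) (pullback.fst G.t (γ ≫ G.s))
          ((Category.assoc _ _ _).trans pullback.condition.symm) := by
  let q := pullback.fst G.t (γ ≫ G.s)
  let l := pullback.snd G.t (γ ≫ G.s)
  have hq : (l ≫ γ) ≫ G.s = q ≫ G.t := (Category.assoc _ _ _).trans pullback.condition.symm
  let a := mulR G (l ≫ γ) q hq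
  let f : pullback G.t (γ ≫ G.s) ⟶ pullback G.t (γ ≫ G.t) :=
    pullback.lift a l ((mulR_t G _ _ _).trans (Category.assoc _ _ _))
  let q₂ := pullback.fst G.t (γ ≫ G.t)
  let l₂ := pullback.snd G.t (γ ≫ G.t)
  have hq₂ : (l₂ ≫ γ) ≫ G.t = q₂ ≫ G.t := (Category.assoc _ _ _).trans pullback.condition.symm
  let b := mulR G (invR G (l₂ ≫ γ)) q₂ ((invR_s G _).trans hq₂)
  let f' : pullback G.t (γ ≫ G.t) ⟶ pullback G.t (γ ≫ G.s) :=
    pullback.lift b l₂ (((mulR_t G _ _ _).trans (invR_t G _)).trans (Category.assoc _ _ _))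
  have h1 : f ≫ f' = 𝟙 _ := by
    apply pullback.hom_ext
    · have e1 : f ≫ invR G (l₂ ≫ γ) = invR G (l ≫ γ) := by
        rw [comp_invR]; congr 1; simp [f, l₂]
      have e2 : f ≫ q₂ = mulR G (l ≫ γ) q hq := pullback.lift_fst _ _ _
      simp only [Category.assoc, Category.id_comp, f', pullback.lift_fst, b]
      rw [comp_mulR, mulR_congr G e1 e2]
      exact invR_mulR_cancel G _ _ _
    · simp [f, f', l₂, l]
  have h2 : f' ≫ f = 𝟙 _ := by
    apply pullback.hom_ext
    · have e1 : f' ≫ l ≫ γ = l₂ ≫ γ := by simp [f', l]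
      have e2 : f' ≫ q = mulR G (invR G (l₂ ≫ γ)) q₂ ((invR_s G _).trans hq₂) :=
        pullback.lift_fst _ _ _
      simp only [Category.assoc, Category.id_comp, f, a, pullback.lift_fst]
      rw [comp_mulR, mulR_congr G e1 e2]
      exact mulR_invR_cancel G _ _ hq₂
    · simp [f, f', l₂, l]
  haveI : IsIso f := ⟨f', h1, h2⟩
  have hfa : f ≫ q₂ = a := pullback.lift_fst _ _ _
  exact ⟨f, ‹IsIso f›, hfa⟩

/-- Left translation by a field-valued arrow is universally open. -/
theorem universallyOpen_translate [IsIntegral G.U] [Subsingleton G.U] {T : Scheme.{u}}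
    (γ : T ⟶ G.R) :
    UniversallyOpen (mulR G (pullback.snd G.t (γ ≫ G.s) ≫ γ) (pullback.fst G.t (γ ≫ G.s))
      ((Category.assoc _ _ _).trans pullback.condition.symm)) := by
  obtain ⟨f, hf, hfa⟩ := exists_iso_translate G γ
  rw [← hfa]
  infer_instance

/-- Left translation by a field-valued arrow is surjective. -/
theorem surjective_translate [IsIntegral G.U] [Subsingleton G.U] {T : Scheme.{u}} [Nonempty T]
    (γ : T ⟶ G.R) :
    Surjective (mulR G (pullback.snd G.t (γ ≫ G.s) ≫ γ) (pullback.fst G.t (γ ≫ G.s))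
      ((Category.assoc _ _ _).trans pullback.condition.symm)) := by
  obtain ⟨f, hf, hfa⟩ := exists_iso_translate G γ
  haveI : Surjective (γ ≫ G.t) :=
    ⟨fun u => ⟨Classical.arbitrary T, Subsingleton.elim _ _⟩⟩
  rw [← hfa]
  infer_instance

/-- Preimages under a projection commute with closure, relative to the range of the other
projection. -/
theorem preimage_closure_inter_range_subset {U X Y Z : Scheme.{u}} [IsIntegral U] [Subsingleton U]
    (f : X ⟶ U) (g : Y ⟶ U) (j : Z ⟶ Y) (O : Set X) :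
    pullback.fst f g ⁻¹' closure O ∩ pullback.snd f g ⁻¹' Set.range j ⊆
      closure (pullback.fst f g ⁻¹' O ∩ pullback.snd f g ⁻¹' Set.range j) := by
  let m : pullback f (j ≫ g) ⟶ pullback f g :=
    pullback.map _ _ _ _ (𝟙 _) j (𝟙 _) (by simp) (by simp)
  have hrm : Set.range m = pullback.snd f g ⁻¹' Set.range j := by
    rw [Scheme.Pullback.range_map]
    simp
  have hmf : ∀ z, pullback.fst f g (m z) = pullback.fst f (j ≫ g) z := fun z => by
    rw [← Scheme.Hom.comp_apply, pullback.lift_fst, Category.comp_id]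
  rintro w ⟨hw, hwj⟩
  rw [← hrm] at hwj ⊢
  obtain ⟨z, rfl⟩ := hwj
  rw [Set.mem_preimage, hmf, ← Set.mem_preimage,
    (pullback.fst f (j ≫ g)).isOpenMap.preimage_closure_eq_closure_preimage
      (pullback.fst f (j ≫ g)).continuous] at hw
  refine map_mem_closure m.continuous hw fun z' hz' => ⟨?_, z', rfl⟩
  rw [Set.mem_preimage, hmf]
  exact hz'

theorem preimage_closure_inter_range_subset' {U X Y Z : Scheme.{u}} [IsIntegral U] [Subsingleton U]
    (f : X ⟶ U) (g : Y ⟶ U) (j : Z ⟶ X) (O : Set Y) :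
    pullback.snd f g ⁻¹' closure O ∩ pullback.fst f g ⁻¹' Set.range j ⊆
      closure (pullback.snd f g ⁻¹' O ∩ pullback.fst f g ⁻¹' Set.range j) := by
  intro w hw
  have h1 : ∀ v, pullback.fst g f ((pullbackSymmetry f g).hom v) = pullback.snd f g v := fun v => by
    rw [← Scheme.Hom.comp_apply, pullbackSymmetry_hom_comp_fst]
  have h2 : ∀ v, pullback.snd g f ((pullbackSymmetry f g).hom v) = pullback.fst f g v := fun v => by
    rw [← Scheme.Hom.comp_apply, pullbackSymmetry_hom_comp_snd]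
  have h := preimage_closure_inter_range_subset g f j O
    (show (pullbackSymmetry f g).hom w ∈ _ from
      ⟨by rw [Set.mem_preimage, h1]; exact hw.1, by rw [Set.mem_preimage, h2]; exact hw.2⟩)
  have hopen : IsOpenMap ⇑(pullbackSymmetry f g).hom :=
    (pullbackSymmetry f g).hom.homeomorph.isOpenMap
  rw [← Set.mem_preimage, hopen.preimage_closure_eq_closure_preimage
    (pullbackSymmetry f g).hom.continuous] at h
  refine closure_mono ?_ h
  rintro v ⟨hv, hv'⟩
  rw [Set.mem_preimage, h1] at hv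
  rw [Set.mem_preimage, h2] at hv'
  exact ⟨hv, hv'⟩

/-- A locally closed subset of arrows containing the units and closed under composition and
inversion is closed. -/
theorem isClosed_of_subgroupoid [IsIntegral G.U] [Subsingleton G.U] (O : Set G.R)
    (hlc : IsLocallyClosed O) (he : ∀ u, G.e u ∈ O) (hi : ∀ x ∈ O, G.i x ∈ O)
    (hc : ∀ w, pullback.fst G.s G.t w ∈ O → pullback.snd G.s G.t w ∈ O → G.c w ∈ O) :
    IsClosed O := by
  have hiK : ∀ x ∈ closure O, G.i x ∈ closure O := fun x hx => map_mem_closure G.i.continuous hx hi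
  obtain ⟨ZK, jK, -, -, hjK⟩ : ∃ (Z : Scheme.{u}) (j : Z ⟶ G.R), True ∧ True ∧
      Set.range j = closure O :=
    ⟨_, _, trivial, trivial, H17.range_vanishingIdeal_subschemeι ⟨closure O, isClosed_closure⟩⟩
  obtain ⟨ZO, jO, hjO⟩ : ∃ (Z : Scheme.{u}) (j : Z ⟶ G.R), Set.range j = O := by
    obtain ⟨Z, j, _, _, h⟩ := H17.exists_reduced_of_isLocallyClosed hlc
    exact ⟨Z, j, h⟩
  have hcK : ∀ w, pullback.fst G.s G.t w ∈ closure O → pullback.snd G.s G.t w ∈ closure O →
      G.c w ∈ closure O := by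
    intro w h1 h2
    have s1 : w ∈ closure (pullback.fst G.s G.t ⁻¹' closure O ∩ pullback.snd G.s G.t ⁻¹' O) := by
      refine closure_mono ?_ (preimage_closure_inter_range_subset' G.s G.t jK O
        ⟨h2, show pullback.fst G.s G.t w ∈ Set.range jK by rw [hjK]; exact h1⟩)
      rintro v ⟨hv, hv'⟩
      rw [hjK] at hv'
      exact ⟨hv', hv⟩
    have s2 : pullback.fst G.s G.t ⁻¹' closure O ∩ pullback.snd G.s G.t ⁻¹' O ⊆
        closure (pullback.fst G.s G.t ⁻¹' O ∩ pullback.snd G.s G.t ⁻¹' O) := by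
      have h := preimage_closure_inter_range_subset G.s G.t jO O
      rwa [hjO] at h
    exact map_mem_closure G.c.continuous (closure_minimal s2 isClosed_closure s1)
      (fun v hv => hc v hv.1 hv.2)
  obtain ⟨W, K₀, hW, hK₀, hO⟩ := hlc
  rw [← closure_subset_iff_isClosed]
  intro y hy
  let γ := G.R.fromSpecResidueField y
  let q := pullback.fst G.t (γ ≫ G.s)
  let l := pullback.snd G.t (γ ≫ G.s)
  have hq : (l ≫ γ) ≫ G.s = q ≫ G.t := (Category.assoc _ _ _).trans pullback.condition.symm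
  let a := mulR G (l ≫ γ) q hq
  haveI : UniversallyOpen a := universallyOpen_translate G γ
  have hlγ : ∀ z, (l ≫ γ) z = y := fun z => by
    rw [Scheme.Hom.comp_apply]; exact Scheme.fromSpecResidueField_apply _ _
  have hpt : ∀ {T : Scheme.{u}} (α β : T ⟶ G.R) (h : α ≫ G.s = β ≫ G.t) (z : T),
      α z ∈ closure O → β z ∈ closure O → mulR G α β h z ∈ closure O := by
    intro T α β h z hα hβ
    rw [mulR, Scheme.Hom.comp_apply]
    apply hcK
    · rwa [← Scheme.Hom.comp_apply, pullback.lift_fst]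
    · rwa [← Scheme.Hom.comp_apply, pullback.lift_snd]
  have haq : ∀ z, q z ∈ closure O ↔ a z ∈ closure O := by
    intro z
    constructor
    · exact fun h => hpt _ _ hq z (by rw [hlγ]; exact hy) h
    · intro h
      have := hpt (invR G (l ≫ γ)) a ((invR_s G _).trans (mulR_t G _ _ _).symm) z
        (by rw [invR, Scheme.Hom.comp_apply, hlγ]; exact hiK y hy) h
      rwa [invR_mulR_cancel G (l ≫ γ) q hq] at this
  let eL : Spec (G.R.residueField y) ⟶ pullback G.t (γ ≫ G.s) :=
    pullback.lift ((γ ≫ G.s) ≫ G.e) (𝟙 _) (by simp [G.e_t])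
  let pt := IsLocalRing.closedPoint (G.R.residueField y)
  have hp : q (eL pt) ∈ closure O := by
    rw [← Scheme.Hom.comp_apply, pullback.lift_fst, Scheme.Hom.comp_apply]
    exact subset_closure (he _)
  have hp' := (haq _).mp hp
  rw [← Set.mem_preimage, a.isOpenMap.preimage_closure_eq_closure_preimage a.continuous] at hp'
  obtain ⟨p', -, hp'O⟩ := mem_closure_iff.mp hp' Set.univ isOpen_univ trivial
  have hp'W : a p' ∈ W := by rw [Set.mem_preimage, hO] at hp'O; exact hp'O.1
  have hqp : q p' ∈ closure O := (haq _).mpr (subset_closure hp'O)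
  rw [← Set.mem_preimage, q.isOpenMap.preimage_closure_eq_closure_preimage q.continuous] at hqp
  obtain ⟨z, hzW, hzO⟩ := mem_closure_iff.mp hqp (a ⁻¹' W) (hW.preimage a.continuous) hp'W
  have hKO : closure O ⊆ K₀ := closure_minimal (hO ▸ Set.inter_subset_right) hK₀
  have hza : a z ∈ O := by
    have : a z ∈ closure O := (haq z).mp (subset_closure hzO)
    rw [hO]
    exact ⟨hzW, hKO this⟩
  have hab : a ≫ G.s = invR G q ≫ G.t := (mulR_s G _ _ _).trans (invR_t G q).symm
  have hfin : pullback.lift a (invR G q) hab ≫ G.c = l ≫ γ := mulR_invR_right G (l ≫ γ) q hq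
  rw [← hlγ z, ← hfin, Scheme.Hom.comp_apply]
  apply hc
  · rwa [← Scheme.Hom.comp_apply, pullback.lift_fst]
  · rw [← Scheme.Hom.comp_apply, pullback.lift_snd, invR, Scheme.Hom.comp_apply]
    exact hi _ hzO

section hom

variable {G₁ G₂ : Grpd.GroupoidScheme S} (a : Grpd.GroupoidScheme.Hom G₁ G₂)

theorem mulR_map {T : Scheme.{u}} (α β : T ⟶ G₁.R) (h : α ≫ G₁.s = β ≫ G₁.t) :
    mulR G₁ α β h ≫ a.fR = mulR G₂ (α ≫ a.fR) (β ≫ a.fR)
      (by rw [Category.assoc, Category.assoc, a.comm_s, a.comm_t, reassoc_of% h]) :=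
  a.comm_c α β h

theorem e_map : G₁.e ≫ a.fR = a.fU ≫ G₂.e := by
  set E := G₁.e ≫ a.fR with hE
  have hs : E ≫ G₂.s = a.fU := by rw [hE, Category.assoc, a.comm_s, reassoc_of% G₁.e_s]
  have ht : E ≫ G₂.t = a.fU := by rw [hE, Category.assoc, a.comm_t, reassoc_of% G₁.e_t]
  have h0 : G₁.e ≫ G₁.s = G₁.e ≫ G₁.t := G₁.e_s.trans G₁.e_t.symm
  have h1 : mulR G₁ G₁.e G₁.e h0 = G₁.e := by
    refine Eq.trans (mulR_congr G₁ rfl ?_ _) (G₁.comp_e G₁.e)
    rw [reassoc_of% G₁.e_s]
  have h2 : mulR G₂ E E (hs.trans ht.symm) = E := by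
    exact (mulR_map a G₁.e G₁.e h0).symm.trans (by rw [h1])
  have h3 := invR_mulR_cancel G₂ E E (hs.trans ht.symm)
  rw [mulR_congr G₂ rfl h2] at h3
  rw [← h3]
  refine (G₂.i_comp E).trans ?_
  rw [← Category.assoc, hs]

theorem i_map : G₁.i ≫ a.fR = a.fR ≫ G₂.i := by
  have h1 : mulR G₁ (𝟙 G₁.R) G₁.i (by simp [G₁.i_t]) = G₁.t ≫ G₁.e := by
    simpa [invR, mulR] using G₁.comp_i (𝟙 G₁.R)
  have h2 : mulR G₂ a.fR (G₁.i ≫ a.fR)
      (by rw [Category.assoc, a.comm_s, a.comm_t, reassoc_of% G₁.i_t]) =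
      a.fR ≫ G₂.t ≫ G₂.e := by
    refine (mulR_congr G₂ (Category.id_comp a.fR).symm rfl _).trans ?_
    rw [← mulR_map a (𝟙 _) G₁.i (by simp [G₁.i_t]),
      h1, Category.assoc, e_map, reassoc_of% a.comm_t]
  have h3 := invR_mulR_cancel G₂ a.fR (G₁.i ≫ a.fR)
    (by rw [Category.assoc, a.comm_s, a.comm_t, reassoc_of% G₁.i_t])
  rw [mulR_congr G₂ rfl h2] at h3
  rw [← h3]
  have hw : invR G₂ a.fR ≫ G₂.s ≫ G₂.e = a.fR ≫ G₂.t ≫ G₂.e := by
    rw [← Category.assoc, invR_s, Category.assoc]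
  have hcd : invR G₂ a.fR ≫ G₂.s = (invR G₂ a.fR ≫ G₂.s ≫ G₂.e) ≫ G₂.t := by
    simp [G₂.e_t]
  exact ((G₂.comp_e (invR G₂ a.fR)).symm.trans (mulR_congr G₂ rfl hw hcd)).symm

/-- Locally closed images of homomorphisms of groupoids over a field are closed. -/
theorem isClosed_range_hom [IsIntegral G₂.U] [Subsingleton G₂.U] [IsIso a.fU]
    (hlc : IsLocallyClosed (Set.range a.fR)) : IsClosed (Set.range a.fR) := by
  refine isClosed_of_subgroupoid G₂ _ hlc ?_ ?_ ?_
  · intro u
    refine ⟨G₁.e (inv a.fU u), ?_⟩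
    rw [← Scheme.Hom.comp_apply, e_map, ← Scheme.Hom.comp_apply, IsIso.inv_hom_id_assoc]
  · rintro _ ⟨x, rfl⟩
    exact ⟨G₁.i x, by rw [← Scheme.Hom.comp_apply, i_map, Scheme.Hom.comp_apply]⟩
  · intro w h1 h2
    let M : pullback G₁.s G₁.t ⟶ pullback G₂.s G₂.t :=
      pullback.map _ _ _ _ a.fR a.fR a.fU a.comm_s.symm a.comm_t.symm
    obtain ⟨v, rfl⟩ : w ∈ Set.range M := by
      rw [Scheme.Pullback.range_map]
      exact ⟨h1, h2⟩
    refine ⟨G₁.c v, ?_⟩
    have hM : G₁.c ≫ a.fR = M ≫ G₂.c := by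
      have := mulR_map a (pullback.fst G₁.s G₁.t) (pullback.snd G₁.s G₁.t) pullback.condition
      rw [← c_eq] at this
      exact this
    rw [← Scheme.Hom.comp_apply, hM, Scheme.Hom.comp_apply]

end hom

open MonoidalCategory CartesianMonoidalCategory MonObj in
/-- A homomorphism of group schemes as a morphism of groupoid schemes. -/
noncomputable abbrev grpHomToGrpd {S : Scheme.{u}} {H G : Over S} [GrpObj H] [GrpObj G]
    (f : H ⟶ G) [IsMonHom f] : (grpToGrpd H).Hom (grpToGrpd G) where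
  fU := 𝟙 S
  fR := f.left
  fU_over := Category.id_comp _
  comm_s := by simp
  comm_t := by simp
  comm_c := by
    intro T α β h
    let a := asPt H α
    let b : Over.mk (α ≫ H.hom) ⟶ H := Over.homMk β h.symm
    have e1 : pullback.lift α β h ≫ μ[H].left = (a * b).left := lift_mul_left H a b
    have e2 : (a * b) ≫ f = (a ≫ f) * (b ≫ f) := by
      rw [Hom.mul_def, Hom.mul_def, Category.assoc, IsMonHom.mul_hom (f := f), lift_map_assoc]
    exact (congrArg (· ≫ f.left) e1).trans
      ((congrArg (·.left) e2).trans (lift_mul_left G (a ≫ f) (b ≫ f)).symm)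

end Groth.Agent.H19Grp
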