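import Mathlib
import Groth.Agent.H19Grp.AffinePoints
import Groth.Agent.H20Comod.Deligne

/-! A commutative finite locally free group scheme is killed by its order (scheme form of Deligne's theorem). -/

set_option autoImplicit false
set_option linter.style.haveILetI false
set_option backward.isDefEq.respectTransparency false

universe u

open CategoryTheory CategoryTheory.Limits MonoidalCategory CartesianMonoidalCategory MonObj AlgebraicGeometry
open scoped TensorProduct

namespace Groth.Agent.H19Grp.CommOrder

attribute [-instance] instCommGrpObjSpecAsOverSpec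
attribute [-instance] isCommMonObj_spec_asOver_spec

set_option maxHeartbeats 1000000 in
set_option synthInstance.maxHeartbeats 400000 in
theorem id_pow_eq_one_of_isAffine {R : Type u} [CommRing R] (G : Over (Spec (CommRingCat.of R))) [GrpObj G]
    [IsCommMonObj G] [IsFinite G.hom] [Flat G.hom] [LocallyOfFinitePresentation G.hom]
    (r : ℕ) (hr : ∀ s, G.hom.finrank s = r) : (𝟙 G : G ⟶ G) ^ r = 1 := by
  letI : G.left.Over (Spec (CommRingCat.of R)) := ⟨G.hom⟩
  letI : GrpObj (G.left.asOver (Spec (CommRingCat.of R))) := ‹GrpObj G›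
  haveI : IsAffine G.left := isAffine_of_isAffineHom G.hom
  letI hH := AffinePoints.hopfOf (CommRingCat.of R) G.left
  letI : Algebra R Γ(G.left, ⊤) := hH.toBialgebra.toAlgebra
  letI : HopfAlgebra R Γ(G.left, ⊤) := hH
  let A := Γ(G.left, ⊤)
  let SA : Over (Spec (CommRingCat.of R)) := (Spec (CommRingCat.of A)).asOver (Spec (CommRingCat.of R))
  let φ : G ⟶ SA := G.left.isoSpec.hom.asOver (Spec (CommRingCat.of R))
  let ψ : SA ⟶ G := G.left.isoSpec.inv.asOver (Spec (CommRingCat.of R))
  haveI : IsMonHom φ := AffinePoints.isMonHom_isoSpec _ _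
  have hψφ : ψ ≫ φ = 𝟙 SA := Over.OverMorphism.ext G.left.isoSpec.inv_hom_id
  have hφψ : φ ≫ ψ = 𝟙 G := Over.OverMorphism.ext G.left.isoSpec.hom_inv_id
  have hw : G.left.isoSpec.hom ≫ Spec.map (CommRingCat.ofHom (algebraMap R A)) = G.hom :=
    Over.w (G.left.isoSpec.hom.asOver (Spec (CommRingCat.of R)))
  haveI : IsFinite (Spec.map (CommRingCat.ofHom (algebraMap R A))) := by
    rw [← MorphismProperty.cancel_left_of_respectsIso @IsFinite G.left.isoSpec.hom, hw]; infer_instance
  haveI : Flat (Spec.map (CommRingCat.ofHom (algebraMap R A))) := by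
    rw [← MorphismProperty.cancel_left_of_respectsIso @Flat G.left.isoSpec.hom, hw]; infer_instance
  haveI : LocallyOfFinitePresentation (Spec.map (CommRingCat.ofHom (algebraMap R A))) := by
    rw [← MorphismProperty.cancel_left_of_respectsIso @LocallyOfFinitePresentation G.left.isoSpec.hom, hw]
    infer_instance
  haveI : Module.Finite R A := RingHom.finite_algebraMap.1 ((IsFinite.SpecMap_iff _).1 ‹_›)
  haveI : Module.Flat R A := RingHom.flat_algebraMap_iff.1 (Flat.SpecMap_iff.1 ‹_›)
  haveI : Algebra.FinitePresentation R A := RingHom.finitePresentation_algebraMap.1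
    ((HasRingHomProperty.Spec_iff (P := @LocallyOfFinitePresentation)).1 ‹_›)
  haveI : Module.FinitePresentation R A := Module.FinitePresentation.of_finite_of_finitePresentation R A
  haveI : Module.Projective R A := Module.Flat.projective_of_finitePresentation
  have hrk : ∀ p : PrimeSpectrum R, Module.rankAtStalk A p = r := fun p => by
    rw [← Scheme.Hom.finrank_SpecMap_algebraMap, ← Scheme.Hom.finrank_comp_left_of_isIso G.left.isoSpec.hom,
      hw]
    exact hr p
  haveI : IsMonHom ψ := by
    refine @IsMonHom.mk _ _ _ _ _ _ _ _ ?_ ?_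
    · have h := IsMonHom.one_hom φ
      rw [← h, Category.assoc, hφψ, Category.comp_id]
    · have h := IsMonHom.mul_hom φ
      have h2 : μ[SA] = (ψ ⊗ₘ ψ) ≫ μ[G] ≫ φ := by
        rw [h, ← Category.assoc, tensorHom_comp_tensorHom, hψφ, id_tensorHom_id, Category.id_comp]
      rw [h2, Category.assoc, Category.assoc, hφψ, Category.comp_id]
  have hcomm : ∀ {X : Over (Spec (CommRingCat.of R))} (a b : X ⟶ SA), a * b = b * a := by
    intro X a b
    haveI : Mono φ := ⟨fun u v e => by
      have := congrArg (· ≫ ψ) e; simpa [hφψ] using this⟩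
    have h : ∀ x : X ⟶ SA, x = (x ≫ ψ) ≫ φ := fun x => by rw [Category.assoc, hψφ, Category.comp_id]
    rw [h (a * b), h (b * a), MonObj.mul_comp, MonObj.mul_comp b a, _root_.mul_comm (a ≫ ψ)]
  have hinj : ∀ {T : Type u} [CommRing T] [Algebra R T] (f g : WithConv (A →ₐ[R] T)), f * g = g * f :=
    fun f g => Spec.mapMulEquiv.injective (by rw [map_mul, map_mul]; exact hcomm _ _)
  haveI : Coalgebra.IsCocomm R A := ⟨by
    refine LinearMap.ext fun a => ?_
    have h := congrArg (fun f : WithConv (A →ₐ[R] A ⊗[R] A) => f.ofConv a)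
      (hinj (WithConv.toConv (Algebra.TensorProduct.includeLeft : A →ₐ[R] A ⊗[R] A))
        (WithConv.toConv (Algebra.TensorProduct.includeRight : A →ₐ[R] A ⊗[R] A)))
    erw [AlgHom.convMul_apply, AlgHom.convMul_apply] at h
    show (TensorProduct.comm R A A) (CoalgebraStruct.comul a) = CoalgebraStruct.comul a
    refine Eq.trans ?_ (h.symm.trans ?_) <;>
      (generalize CoalgebraStruct.comul (R := R) a = z
       induction z using TensorProduct.induction_on with
       | zero => simp
       | tmul u w => simp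
       | add u w hu hw => simp only [map_add, hu, hw])⟩
  have key := congrArg (Spec.mapMulEquiv (R := R) (S := A) (T := A)) (H20Comod.Deligne.convPow_id_eq_one R A r hrk)
  rw [map_pow, map_one] at key
  have hid : Spec.mapMulEquiv (R := R) (WithConv.toConv (AlgHom.id R A)) = 𝟙 SA := by
    ext1
    exact Spec.map_id _
  rw [hid] at key
  calc (𝟙 G : G ⟶ G) ^ r = (φ ≫ 𝟙 SA ≫ ψ) ^ r := by rw [Category.id_comp, hφψ]
    _ = φ ≫ ((((𝟙 SA : SA ⟶ SA)) ^ r : SA ⟶ SA) ≫ ψ) := by rw [MonObj.pow_comp, MonObj.comp_pow]
    _ = 1 := by rw [key, MonObj.one_comp, MonObj.comp_one]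

/-- A commutative finite locally free group scheme of rank `r` is killed by `r`. -/
theorem id_pow_eq_one {S : Scheme.{u}} (G : Over S) [GrpObj G] [IsCommMonObj G]
    [IsFinite G.hom] [Flat G.hom] [LocallyOfFinitePresentation G.hom]
    (r : ℕ) (hr : ∀ s : S, Scheme.Hom.finrank G.hom s = r) : (𝟙 G : G ⟶ G) ^ r = 1 := by
  refine Over.OverMorphism.ext (Scheme.Cover.hom_ext (S.affineCover.pullback₁ G.hom) _ _ fun i => ?_)
  let F := Over.pullback (S.affineCover.f i)
  letI : GrpObj (F.obj G) := Functor.grpObjObj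
  haveI : IsFinite (F.obj G).hom := inferInstanceAs (IsFinite (pullback.snd G.hom (S.affineCover.f i)))
  haveI : Flat (F.obj G).hom := inferInstanceAs (Flat (pullback.snd G.hom (S.affineCover.f i)))
  haveI : LocallyOfFinitePresentation (F.obj G).hom :=
    inferInstanceAs (LocallyOfFinitePresentation (pullback.snd G.hom (S.affineCover.f i)))
  haveI : IsCommMonObj (F.obj G) := inferInstance
  have h := id_pow_eq_one_of_isAffine (F.obj G) r fun x => by
    show (pullback.snd G.hom (S.affineCover.f i)).finrank x = r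
    rw [Scheme.Hom.finrank_pullback_snd]; exact hr _
  have h' : F.map ((𝟙 G : G ⟶ G) ^ r) = F.map (1 : G ⟶ G) := by
    have e := map_pow (Functor.homMonoidHom F (X := G) (M := G)) (𝟙 G) r
    refine e.trans ?_
    rw [Functor.map_one]
    show (F.map (𝟙 G)) ^ r = 1
    rw [F.map_id]
    exact h
  have hp : ∀ u : G ⟶ G, (F.map u).left ≫ pullback.fst G.hom (S.affineCover.f i) =
      pullback.fst G.hom (S.affineCover.f i) ≫ u.left := fun u => by
    simp [F]
  show pullback.fst G.hom (S.affineCover.f i) ≫ _ = pullback.fst G.hom (S.affineCover.f i) ≫ _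
  rw [← hp, ← hp, h']

end Groth.Agent.H19Grp.CommOrder
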