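import Groth.Prelude.Def_Grpd
import Groth.Agent.H13Grpd.OfScheme
import Groth.Agent.H17.Image
import Groth.Agent.H17.Reduced
import Groth.Agent.H06Red.Scheme
import Groth.Agent.H17.SchDense
import Mathlib.AlgebraicGeometry.Morphisms.UniversallyOpen
import Mathlib.AlgebraicGeometry.Morphisms.SchemeTheoreticallyDominant

/-!
# Images of groupoid morphisms over a field
-/

set_option autoImplicit false
set_option linter.style.haveILetI false
set_option backward.isDefEq.respectTransparency false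
set_option maxHeartbeats 1000000

universe u

open CategoryTheory CategoryTheory.Limits AlgebraicGeometry

noncomputable section

namespace Groth.Agent.H19Grp.GrpdImage

open Groth.Agent.H13Grpd (comp_congr)

variable {S : Scheme.{u}}

theorem comp_lift {X Y Z T T' : Scheme.{u}} {f : X ⟶ Z} {g : Y ⟶ Z} (m : T' ⟶ T) (a : T ⟶ X) (b : T ⟶ Y)
    (w : a ≫ f = b ≫ g) : m ≫ pullback.lift a b w =
      pullback.lift (m ≫ a) (m ≫ b) (by rw [Category.assoc, w, Category.assoc]) := by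
  apply pullback.hom_ext <;> simp

/-- An idempotent arrow is an identity. -/
theorem eq_id_of_idem (G : Grpd.GroupoidScheme S) {T : Scheme.{u}} (α : T ⟶ G.R) (h : α ≫ G.s = α ≫ G.t)
    (hα : pullback.lift α α h ≫ G.c = α) : α = α ≫ G.t ≫ G.e := by
  have h' : α ≫ G.s = (α ≫ G.i) ≫ G.t := by rw [Category.assoc, G.i_t]
  have := G.assoc α α (α ≫ G.i) h h'
  have l := comp_congr G ((G.comp_s α α h).trans h') h' hα rfl
  have r := (comp_congr G (h.trans (G.comp_t α (α ≫ G.i) h').symm)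
    (show α ≫ G.s = (α ≫ G.s ≫ G.e) ≫ G.t by rw [Category.assoc, Category.assoc, G.e_t, Category.comp_id]) rfl
    ((G.comp_i α).trans (by rw [← Category.assoc, ← h, Category.assoc]))).trans (G.comp_e α)
  exact (((G.comp_i α).symm.trans l.symm).trans (this.trans r)).symm

/-- The groupoid on a subscheme of arrows stable under identity, inverse and composition. -/
def sub (G : Grpd.GroupoidScheme S) {Z : Scheme.{u}} (ι : Z ⟶ G.R) [Mono ι] (eZ : G.U ⟶ Z) (iZ : Z ⟶ Z)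
    (cZ : pullback (ι ≫ G.s) (ι ≫ G.t) ⟶ Z) (he : eZ ≫ ι = G.e) (hi : iZ ≫ ι = ι ≫ G.i)
    (hc : cZ ≫ ι = pullback.lift (pullback.fst (ι ≫ G.s) (ι ≫ G.t) ≫ ι) (pullback.snd (ι ≫ G.s) (ι ≫ G.t) ≫ ι)
      (by rw [Category.assoc, Category.assoc]; exact pullback.condition) ≫ G.c) :
    Grpd.GroupoidScheme S :=
  have key : ∀ {T : Scheme.{u}} (α β : T ⟶ Z) (h : α ≫ ι ≫ G.s = β ≫ ι ≫ G.t),
      (pullback.lift α β h ≫ cZ) ≫ ι = pullback.lift (α ≫ ι) (β ≫ ι) (by simpa using h) ≫ G.c := by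
    intro T α β h
    rw [Category.assoc, hc, ← Category.assoc, comp_lift]
    congr 1
    apply pullback.hom_ext <;> simp
  { U := G.U
    R := Z
    pU := G.pU
    pR := ι ≫ G.pR
    s := ι ≫ G.s
    t := ι ≫ G.t
    e := eZ
    i := iZ
    c := cZ
    s_over := by rw [Category.assoc, G.s_over]
    t_over := by rw [Category.assoc, G.t_over]
    comp_s := fun α β h => by
      rw [← Category.assoc, key α β h, G.comp_s, Category.assoc]
    comp_t := fun α β h => by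
      rw [← Category.assoc, key α β h, G.comp_t, Category.assoc]
    assoc := fun α β γ h₁ h₂ => by
      rw [← cancel_mono ι]
      exact (key _ _ _).trans (((comp_congr G _ _ (key α β h₁) rfl).trans
        (G.assoc (α ≫ ι) (β ≫ ι) (γ ≫ ι) (by simpa using h₁) (by simpa using h₂))).trans
        ((comp_congr G _ _ rfl (key β γ h₂)).symm.trans (key _ _ _).symm))
    e_s := by rw [← Category.assoc, he, G.e_s]
    e_t := by rw [← Category.assoc, he, G.e_t]
    comp_e := fun α => by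
      rw [← cancel_mono ι, key]
      exact (comp_congr G _ _ rfl (by simp [he])).trans (G.comp_e (α ≫ ι))
    e_comp := fun α => by
      rw [← cancel_mono ι, key]
      exact (comp_congr G _ _ (by simp [he]) rfl).trans (G.e_comp (α ≫ ι))
    i_s := by rw [← Category.assoc, hi, Category.assoc, G.i_s]
    i_t := by rw [← Category.assoc, hi, Category.assoc, G.i_t]
    comp_i := fun α => by
      rw [← cancel_mono ι, key]
      exact ((comp_congr G _ (by simp [G.i_t]) rfl (by simp [hi])).trans (G.comp_i (α ≫ ι))).trans (by simp [he])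
    i_comp := fun α => by
      rw [← cancel_mono ι, key]
      exact ((comp_congr G _ (by simp [G.i_s]) (by simp [hi]) rfl).trans (G.i_comp (α ≫ ι))).trans (by simp [he]) }

/-- The pair groupoid of a scheme over the base. -/
def pair {U : Scheme.{u}} (p : U ⟶ S) : Grpd.GroupoidScheme S where
  U := U
  R := pullback p p
  pU := p
  pR := pullback.snd p p ≫ p
  s := pullback.snd p p
  t := pullback.fst p p
  e := pullback.lift (𝟙 U) (𝟙 U) rfl
  i := (pullbackSymmetry p p).hom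
  c := pullback.lift (pullback.fst _ _ ≫ pullback.fst p p) (pullback.snd _ _ ≫ pullback.snd p p)
    (by rw [Category.assoc, pullback.condition, ← Category.assoc, pullback.condition, Category.assoc,
      pullback.condition, ← Category.assoc])
  s_over := rfl
  t_over := pullback.condition
  comp_s α β h := by simp
  comp_t α β h := by simp
  assoc α β γ h₁ h₂ := by apply pullback.hom_ext <;> simp
  e_s := by simp
  e_t := by simp
  comp_e α := by apply pullback.hom_ext <;> simp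
  e_comp α := by apply pullback.hom_ext <;> simp
  i_s := by simp
  i_t := by simp
  comp_i α := by apply pullback.hom_ext <;> simp
  i_comp α := by apply pullback.hom_ext <;> simp

/-- A groupoid maps to the pair groupoid of its objects. -/
def toPair (G : Grpd.GroupoidScheme S) : Grpd.GroupoidScheme.Hom G (pair G.pU) where
  fU := 𝟙 G.U
  fR := G.j
  fU_over := Category.id_comp _
  comm_s := (pullback.lift_snd _ _ _).trans (Category.comp_id _).symm
  comm_t := (pullback.lift_fst _ _ _).trans (Category.comp_id _).symm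
  comm_c α β h := by
    show (pullback.lift α β h ≫ G.c) ≫ G.j = pullback.lift (α ≫ G.j) (β ≫ G.j) _ ≫ (pair G.pU).c
    apply pullback.hom_ext
    · simpa [pair, Grpd.GroupoidScheme.j] using G.comp_t α β h
    · simpa [pair, Grpd.GroupoidScheme.j] using G.comp_s α β h

/-- Everything is flat over a field. -/
theorem flat_to_field {k : Type u} [Field k] {W : Scheme.{u}} (f : W ⟶ Spec (CommRingCat.of k)) : Flat f := by
  refine HasRingHomProperty.of_iSup_eq_top (P := @AlgebraicGeometry.Flat) (fun U : W.affineOpens => U)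
    (iSup_affineOpens_eq_top W) fun U => ?_
  have e : (f.appLE ⊤ U.1 le_top).hom =
      ((Scheme.ΓSpecIso (CommRingCat.of k)).inv ≫ f.appLE ⊤ U.1 le_top).hom.comp (Scheme.ΓSpecIso (CommRingCat.of k)).hom.hom := by
    show _ = ((Scheme.ΓSpecIso (CommRingCat.of k)).hom ≫
      (Scheme.ΓSpecIso (CommRingCat.of k)).inv ≫ f.appLE ⊤ U.1 le_top).hom
    rw [Iso.hom_inv_id_assoc]
  rw [e]
  refine RingHom.Flat.comp (RingHom.Flat.of_bijective
    (ConcreteCategory.bijective_of_isIso (Scheme.ΓSpecIso (CommRingCat.of k)).hom)) ?_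
  letI := ((Scheme.ΓSpecIso (CommRingCat.of k)).inv ≫ f.appLE ⊤ U.1 le_top).hom.toAlgebra
  exact RingHom.flat_algebraMap_iff.mpr inferInstance

variable {G₁ G₂ : Grpd.GroupoidScheme S} (f : Grpd.GroupoidScheme.Hom G₁ G₂)

theorem map_e : G₁.e ≫ f.fR = f.fU ≫ G₂.e := by
  have hs : (G₁.e ≫ f.fR) ≫ G₂.s = f.fU := by rw [Category.assoc, f.comm_s, ← Category.assoc, G₁.e_s, Category.id_comp]
  have ht : (G₁.e ≫ f.fR) ≫ G₂.t = f.fU := by rw [Category.assoc, f.comm_t, ← Category.assoc, G₁.e_t, Category.id_comp]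
  have := eq_id_of_idem G₂ (G₁.e ≫ f.fR) (hs.trans ht.symm) (by
    have h0 : G₁.e ≫ G₁.s = G₁.e ≫ G₁.t := G₁.e_s.trans G₁.e_t.symm
    rw [← f.comm_c G₁.e G₁.e h0]
    congr 1
    rw [comp_congr G₁ _ (show G₁.e ≫ G₁.s = (G₁.e ≫ G₁.s ≫ G₁.e) ≫ G₁.t by
      rw [Category.assoc, Category.assoc, G₁.e_t, Category.comp_id]) rfl
      (by rw [← Category.assoc G₁.e, G₁.e_s, Category.id_comp]), G₁.comp_e])
  rw [this, ← Category.assoc, ht]

theorem map_i : G₁.i ≫ f.fR = f.fR ≫ G₂.i := by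
  have h : (G₁.i ≫ f.fR) ≫ G₂.s = f.fR ≫ G₂.t := by
    rw [Category.assoc, f.comm_s, ← Category.assoc, G₁.i_s, f.comm_t]
  have h' : f.fR ≫ G₂.s = (f.fR ≫ G₂.i) ≫ G₂.t := by rw [Category.assoc, G₂.i_t]
  have h1 : (𝟙 G₁.R ≫ G₁.i) ≫ G₁.s = 𝟙 G₁.R ≫ G₁.t := by rw [Category.assoc, G₁.i_s]
  have e0 : (𝟙 G₁.R ≫ G₁.s ≫ G₁.e) ≫ f.fR = f.fR ≫ G₂.s ≫ G₂.e := by
    rw [Category.id_comp, Category.assoc, map_e, ← Category.assoc, ← f.comm_s, Category.assoc]
  have hi : pullback.lift (G₁.i ≫ f.fR) f.fR h ≫ G₂.c = f.fR ≫ G₂.s ≫ G₂.e :=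
    ((comp_congr G₂ _ _ (by simp) (by simp)).trans (f.comm_c (𝟙 G₁.R ≫ G₁.i) (𝟙 G₁.R) h1).symm).trans
      ((congrArg (· ≫ f.fR) (G₁.i_comp (𝟙 G₁.R))).trans e0)
  have hts : f.fR ≫ G₂.s ≫ G₂.e = (f.fR ≫ G₂.i) ≫ G₂.t ≫ G₂.e := by
    rw [Category.assoc, ← Category.assoc G₂.i, G₂.i_t]
  have hst : f.fR ≫ G₂.t ≫ G₂.e = (G₁.i ≫ f.fR) ≫ G₂.s ≫ G₂.e := by
    rw [← Category.assoc, ← h, Category.assoc]
  have l := (comp_congr G₂ ((G₂.comp_s _ _ h).trans h') (show ((f.fR ≫ G₂.i) ≫ G₂.t ≫ G₂.e) ≫ G₂.s =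
      (f.fR ≫ G₂.i) ≫ G₂.t by simp only [Category.assoc, G₂.e_s, Category.comp_id]) (hi.trans hts) rfl).trans
    (G₂.e_comp (f.fR ≫ G₂.i))
  have r := (comp_congr G₂ (h.trans (G₂.comp_t _ _ h').symm) (show (G₁.i ≫ f.fR) ≫ G₂.s =
      ((G₁.i ≫ f.fR) ≫ G₂.s ≫ G₂.e) ≫ G₂.t by simp only [Category.assoc, G₂.e_t, Category.comp_id]) rfl
    ((G₂.comp_i f.fR).trans hst)).trans (G₂.comp_e (G₁.i ≫ f.fR))
  exact (l.symm.trans ((G₂.assoc _ _ _ h h').trans r)).symm

section Field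

variable {k : Type u} [Field k] (eU : G₂.U ≅ Spec (CommRingCat.of k))

include eU

theorem flat_to_U {W : Scheme.{u}} (q : W ⟶ G₂.U) : Flat q :=
  (MorphismProperty.cancel_right_of_respectsIso @Flat q eU.hom).1 (flat_to_field _)

theorem universallyOpen_to_U {W : Scheme.{u}} (q : W ⟶ G₂.U) : UniversallyOpen q :=
  (MorphismProperty.cancel_right_of_respectsIso @UniversallyOpen q eU.hom).1 inferInstance

theorem isPullback_map_left {X Z W U : Scheme.{u}} (p : X ⟶ Z) (a : Z ⟶ U) (b : W ⟶ U) :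
    IsPullback (pullback.fst (p ≫ a) b) (pullback.map (p ≫ a) b a b p (𝟙 W) (𝟙 U) (by simp) (by simp))
      p (pullback.fst a b) := by
  refine IsPullback.of_bot (v₂₁ := pullback.snd a b) (v₂₂ := a) ?_ (pullback.lift_fst _ _ _).symm
    (IsPullback.of_hasPullback a b)
  simpa using IsPullback.of_hasPullback (p ≫ a) b

theorem isPullback_map_right {X Z W U : Scheme.{u}} (p : X ⟶ Z) (a : W ⟶ U) (b : Z ⟶ U) :
    IsPullback (pullback.snd a (p ≫ b)) (pullback.map a (p ≫ b) a b (𝟙 W) p (𝟙 U) (by simp) (by simp))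
      p (pullback.snd a b) := by
  refine IsPullback.of_bot (v₂₁ := pullback.fst a b) (v₂₂ := b) ?_ (pullback.lift_snd _ _ _).symm
    (IsPullback.of_hasPullback a b).flip
  simpa using (IsPullback.of_hasPullback a (p ≫ b)).flip

omit eU in
/-- Factor through a closed immersion after a schematically dominant morphism. -/
theorem exists_lift_of_dominant {P Q Z Y : Scheme.{u}} (q : P ⟶ Q) [IsSchemeTheoreticallyDominant q]
    (ι : Z ⟶ Y) [IsClosedImmersion ι] (g : Q ⟶ Y) (w : P ⟶ Z) (h : q ≫ g = w ≫ ι) : ∃ l : Q ⟶ Z, l ≫ ι = g := by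
  refine ⟨IsClosedImmersion.lift ι g ?_, IsClosedImmersion.lift_fac _ _ _⟩
  refine (Scheme.Hom.le_ker_comp w ι).trans (le_of_eq ?_)
  rw [← h, Scheme.Hom.ker_comp, q.ker_eq_bot, Scheme.IdealSheafData.map_bot]

omit eU in
/-- The inclusion of a subgroupoid. -/
def subHom (G : Grpd.GroupoidScheme S) {Z : Scheme.{u}} (ι : Z ⟶ G.R) [Mono ι] (eZ : G.U ⟶ Z) (iZ : Z ⟶ Z)
    (cZ : pullback (ι ≫ G.s) (ι ≫ G.t) ⟶ Z) (he : eZ ≫ ι = G.e) (hi : iZ ≫ ι = ι ≫ G.i)
    (hc : cZ ≫ ι = pullback.lift (pullback.fst (ι ≫ G.s) (ι ≫ G.t) ≫ ι) (pullback.snd (ι ≫ G.s) (ι ≫ G.t) ≫ ι)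
      (by rw [Category.assoc, Category.assoc]; exact pullback.condition) ≫ G.c) :
    Grpd.GroupoidScheme.Hom (sub G ι eZ iZ cZ he hi hc) G where
  fU := 𝟙 G.U
  fR := ι
  fU_over := Category.id_comp _
  comm_s := (Category.comp_id _).symm
  comm_t := (Category.comp_id _).symm
  comm_c α β h := by
    show (pullback.lift α β h ≫ cZ) ≫ ι = _
    rw [Category.assoc, hc, ← Category.assoc, comp_lift]
    congr 1
    apply pullback.hom_ext <;> simp
    · exact pullback.lift_fst_assoc (f := ι ≫ G.s) (g := ι ≫ G.t) _ _ _ _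
    · exact pullback.lift_snd_assoc (f := ι ≫ G.s) (g := ι ≫ G.t) _ _ _ _

variable [IsIso f.fU]

include f in
/-- The schematic image of a quasi-compact morphism of groupoids over a field is a groupoid. -/
theorem exists_schemImage [QuasiCompact f.fR] :
    ∃ (G' : Grpd.GroupoidScheme S) (ψ : Grpd.GroupoidScheme.Hom G' G₂) (φ : Grpd.GroupoidScheme.Hom G₁ G'),
      IsIso ψ.fU ∧ φ.fU ≫ ψ.fU = f.fU ∧ IsClosedImmersion ψ.fR ∧ φ.fR ≫ ψ.fR = f.fR ∧
        ψ.fR.ker = f.fR.ker := by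
  obtain ⟨Z, ι, p, hp, _, _⟩ : ∃ (Z : Scheme.{u}) (ι : Z ⟶ G₂.R) (p : G₁.R ⟶ Z), p ≫ ι = f.fR ∧
      IsClosedImmersion ι ∧ IsSchemeTheoreticallyDominant p :=
    ⟨_, f.fR.imageι, f.fR.toImage, f.fR.toImage_imageι, inferInstance, ⟨Groth.Agent.H17.ker_toImage f.fR⟩⟩
  haveI : QuasiCompact p := by
    haveI : QuasiCompact (p ≫ ι) := by rw [hp]; infer_instance
    exact QuasiCompact.of_comp p ι
  let eZ := inv f.fU ≫ G₁.e ≫ p
  have he : eZ ≫ ι = G₂.e := by
    simp only [eZ, Category.assoc, hp]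
    rw [map_e, IsIso.inv_hom_id_assoc]
  obtain ⟨iZ, hi⟩ := exists_lift_of_dominant p ι (ι ≫ G₂.i) (G₁.i ≫ p)
    (by rw [reassoc_of% hp, Category.assoc, hp]; exact (map_i f).symm)
  let m₁ := pullback.map (p ≫ ι ≫ G₂.s) (ι ≫ G₂.t) (ι ≫ G₂.s) (ι ≫ G₂.t) p (𝟙 _) (𝟙 _) (by simp) (by simp)
  let m₂ := pullback.map (p ≫ ι ≫ G₂.s) (p ≫ ι ≫ G₂.t) (p ≫ ι ≫ G₂.s) (ι ≫ G₂.t) (𝟙 _) p (𝟙 _) (by simp) (by simp)
  haveI : Flat (pullback.fst (ι ≫ G₂.s) (ι ≫ G₂.t)) :=
    MorphismProperty.pullback_fst (P := @Flat) _ _ (flat_to_U eU _)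
  haveI : Flat (pullback.snd (p ≫ ι ≫ G₂.s) (ι ≫ G₂.t)) :=
    MorphismProperty.pullback_snd (P := @Flat) _ _ (flat_to_U eU _)
  haveI : IsSchemeTheoreticallyDominant m₁ :=
    IsSchemeTheoreticallyDominant.of_isPullback (isPullback_map_left eU p (ι ≫ G₂.s) (ι ≫ G₂.t))
  haveI : IsSchemeTheoreticallyDominant m₂ :=
    IsSchemeTheoreticallyDominant.of_isPullback (isPullback_map_right eU p (p ≫ ι ≫ G₂.s) (ι ≫ G₂.t))
  have hab : pullback.fst (p ≫ ι ≫ G₂.s) (p ≫ ι ≫ G₂.t) ≫ G₁.s =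
      pullback.snd (p ≫ ι ≫ G₂.s) (p ≫ ι ≫ G₂.t) ≫ G₁.t := by
    rw [← cancel_mono f.fU, Category.assoc, Category.assoc, ← f.comm_s, ← f.comm_t]
    simp only [← hp]
    simpa using pullback.condition (f := p ≫ ι ≫ G₂.s) (g := p ≫ ι ≫ G₂.t)
  obtain ⟨cZ, hc⟩ := exists_lift_of_dominant (m₂ ≫ m₁) ι
    (pullback.lift (pullback.fst (ι ≫ G₂.s) (ι ≫ G₂.t) ≫ ι) (pullback.snd (ι ≫ G₂.s) (ι ≫ G₂.t) ≫ ι)
      (by rw [Category.assoc, Category.assoc]; exact pullback.condition) ≫ G₂.c)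
    ((pullback.lift _ _ hab ≫ G₁.c) ≫ p) (by
      refine Eq.trans ?_ (((Category.assoc _ _ _).trans (congrArg (_ ≫ ·) hp)).trans (f.comm_c _ _ hab)).symm
      rw [← Category.assoc (m₂ ≫ m₁), comp_lift]
      congr 1
      apply pullback.hom_ext <;> simp [m₁, m₂, hp])
  refine ⟨sub G₂ ι eZ iZ cZ he hi hc, subHom G₂ ι eZ iZ cZ he hi hc,
    { fU := f.fU
      fR := p
      fU_over := f.fU_over
      comm_s := by
        show p ≫ ι ≫ G₂.s = _
        rw [reassoc_of% hp]; exact f.comm_s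
      comm_t := by
        show p ≫ ι ≫ G₂.t = _
        rw [reassoc_of% hp]; exact f.comm_t
      comm_c := fun α β h => by
        refine (cancel_mono ι).1 (((Category.assoc _ _ _).trans (congrArg (_ ≫ ·) hp)).trans
          ((f.comm_c α β h).trans (Eq.symm ?_)))
        show (pullback.lift (α ≫ p) (β ≫ p) _ ≫ cZ) ≫ ι = _
        rw [Category.assoc, hc, ← Category.assoc, comp_lift]
        congr 1
        apply pullback.hom_ext <;> simp [hp] },
    inferInstanceAs (IsIso (𝟙 G₂.U)), Category.comp_id _, inferInstanceAs (IsClosedImmersion ι), hp, ?_⟩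
  show ι.ker = f.fR.ker
  rw [← hp, Scheme.Hom.ker_comp, p.ker_eq_bot, Scheme.IdealSheafData.map_bot]

include f in
/-- The reduced closure of the image of a morphism of groupoids over a perfect field is a groupoid. -/
theorem exists_closureImage [PerfectField k] :
    ∃ (G' : Grpd.GroupoidScheme S) (ψ : Grpd.GroupoidScheme.Hom G' G₂), IsIso ψ.fU ∧ IsClosedImmersion ψ.fR ∧
      IsReduced G'.R ∧ Set.range ⇑ψ.fR = closure (Set.range ⇑f.fR) := by
  let C : TopologicalSpace.Closeds G₂.R := ⟨closure (Set.range ⇑f.fR), isClosed_closure⟩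
  let ι := (Scheme.IdealSheafData.vanishingIdeal C).subschemeι
  have hι : Set.range ⇑ι = closure (Set.range ⇑f.fR) := Groth.Agent.H17.range_vanishingIdeal_subschemeι C
  haveI : IsReduced (Scheme.IdealSheafData.vanishingIdeal C).subscheme :=
    Groth.Agent.H17.isReduced_vanishingIdeal_subscheme C
  haveI : IsReduced G₂.U := isReduced_of_isOpenImmersion eU.hom
  obtain ⟨eZ, he⟩ := Groth.Agent.H17.exists_lift_of_range_subset G₂.e ι (by
    rw [hι, show G₂.e = (inv f.fU ≫ G₁.e) ≫ f.fR by rw [Category.assoc, map_e, IsIso.inv_hom_id_assoc]]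
    rintro _ ⟨x, rfl⟩
    exact subset_closure ⟨_, rfl⟩)
  obtain ⟨iZ, hi⟩ := Groth.Agent.H17.exists_lift_of_range_subset (ι ≫ G₂.i) ι (by
    rw [hι]
    rintro _ ⟨x, rfl⟩
    rw [Scheme.Hom.comp_apply]
    refine map_mem_closure G₂.i.continuous (show ι x ∈ closure (Set.range ⇑f.fR) by rw [← hι]; exact ⟨x, rfl⟩) ?_
    rintro _ ⟨y, rfl⟩
    exact ⟨G₁.i y, by rw [← Scheme.Hom.comp_apply, map_i f]; rfl⟩)
  -- a reduced source of the image
  let κ := G₁.R.nilradical.subschemeι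
  haveI : IsReduced G₁.R.nilradical.subscheme :=
    (Groth.Agent.H17.isReduced_subscheme_iff _).mpr fun W => Ideal.radical_isRadical _
  have hκ : Function.Surjective κ := fun x => by
    show x ∈ Set.range κ
    rw [Scheme.IdealSheafData.range_subschemeι, Scheme.support_nilradical]
    trivial
  obtain ⟨p, hp⟩ := Groth.Agent.H17.exists_lift_of_range_subset (κ ≫ f.fR) ι (by
    rw [hι]
    rintro _ ⟨x, rfl⟩
    exact subset_closure ⟨_, rfl⟩)
  have hpd : DenseRange p := by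
    intro z
    rw [ι.isEmbedding.closure_eq_preimage_closure_image, ← Set.range_comp, Set.mem_preimage]
    have e : Set.range (⇑ι ∘ ⇑p) = Set.range ⇑f.fR := by
      rw [show ⇑ι ∘ ⇑p = ⇑(κ ≫ f.fR) by rw [← hp]; rfl]
      exact Function.Surjective.range_comp hκ _
    rw [e, ← hι]
    exact ⟨z, rfl⟩
  let m₁ := pullback.map (p ≫ ι ≫ G₂.s) (ι ≫ G₂.t) (ι ≫ G₂.s) (ι ≫ G₂.t) p (𝟙 _) (𝟙 _) (by simp) (by simp)
  let m₂ := pullback.map (p ≫ ι ≫ G₂.s) (p ≫ ι ≫ G₂.t) (p ≫ ι ≫ G₂.s) (ι ≫ G₂.t) (𝟙 _) p (𝟙 _) (by simp) (by simp)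
  have hdense : ∀ {P Q X Y : Scheme.{u}} {l : P ⟶ X} {m : P ⟶ Q} {q : X ⟶ Y} {r : Q ⟶ Y},
      IsPullback l m q r → DenseRange q → IsOpenMap r → DenseRange m := by
    intro P Q X Y l m q r hsq hq hr
    refine Dense.mono ?_ (hq.preimage hr)
    rintro z ⟨x, hx⟩
    obtain ⟨w, -, hw⟩ := Scheme.exists_preimage_of_isPullback hsq x z hx
    exact ⟨w, hw⟩
  haveI : UniversallyOpen (pullback.fst (ι ≫ G₂.s) (ι ≫ G₂.t)) :=
    MorphismProperty.pullback_fst (P := @UniversallyOpen) _ _ (universallyOpen_to_U eU _)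
  haveI : UniversallyOpen (pullback.snd (p ≫ ι ≫ G₂.s) (ι ≫ G₂.t)) :=
    MorphismProperty.pullback_snd (P := @UniversallyOpen) _ _ (universallyOpen_to_U eU _)
  have hd₁ : DenseRange m₁ :=
    hdense (isPullback_map_left eU p (ι ≫ G₂.s) (ι ≫ G₂.t)) hpd (Scheme.Hom.isOpenMap _)
  have hd₂ : DenseRange m₂ :=
    hdense (isPullback_map_right eU p (p ≫ ι ≫ G₂.s) (ι ≫ G₂.t)) hpd (Scheme.Hom.isOpenMap _)
  haveI : IsReduced (pullback (ι ≫ G₂.s) (ι ≫ G₂.t)) := by
    haveI := Groth.Agent.H06Red.geometricallyReduced_of_perfectField ((ι ≫ G₂.t) ≫ eU.hom)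
    haveI := Groth.Agent.H06Red.isReduced_pullback ((ι ≫ G₂.s) ≫ eU.hom) ((ι ≫ G₂.t) ≫ eU.hom)
    haveI : IsIso (pullback.map (ι ≫ G₂.s) (ι ≫ G₂.t) ((ι ≫ G₂.s) ≫ eU.hom) ((ι ≫ G₂.t) ≫ eU.hom)
        (𝟙 _) (𝟙 _) eU.hom (by simp) (by simp)) := inferInstance
    exact isReduced_of_isOpenImmersion (pullback.map (ι ≫ G₂.s) (ι ≫ G₂.t) ((ι ≫ G₂.s) ≫ eU.hom)
      ((ι ≫ G₂.t) ≫ eU.hom) (𝟙 _) (𝟙 _) eU.hom (by simp) (by simp))
  let F := pullback.lift (pullback.fst (ι ≫ G₂.s) (ι ≫ G₂.t) ≫ ι) (pullback.snd (ι ≫ G₂.s) (ι ≫ G₂.t) ≫ ι)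
      (by rw [Category.assoc, Category.assoc]; exact pullback.condition) ≫ G₂.c
  obtain ⟨cZ, hc⟩ := Groth.Agent.H17.exists_lift_of_range_subset F ι (by
    rw [hι]
    rintro _ ⟨z, rfl⟩
    refine map_mem_closure F.continuous ((hd₁.comp hd₂ m₁.continuous) z) ?_
    rintro _ ⟨w, rfl⟩
    let α := pullback.fst (p ≫ ι ≫ G₂.s) (p ≫ ι ≫ G₂.t) ≫ κ
    let β := pullback.snd (p ≫ ι ≫ G₂.s) (p ≫ ι ≫ G₂.t) ≫ κ
    have hab : α ≫ G₁.s = β ≫ G₁.t := by
      rw [← cancel_mono f.fU]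
      simp only [α, β, Category.assoc, ← f.comm_s, ← f.comm_t, ← reassoc_of% hp]
      exact pullback.condition
    have e : (m₂ ≫ m₁) ≫ F = (pullback.lift α β hab ≫ G₁.c) ≫ f.fR := by
      rw [f.comm_c α β hab]
      simp only [F]
      rw [← Category.assoc (m₂ ≫ m₁), comp_lift]
      congr 1
      apply pullback.hom_ext <;> simp [m₁, m₂, α, β, hp]
    exact ⟨(pullback.lift α β hab ≫ G₁.c) w, congr($e w).symm⟩)
  exact ⟨sub G₂ ι eZ iZ cZ he hi hc, subHom G₂ ι eZ iZ cZ he hi hc, inferInstanceAs (IsIso (𝟙 G₂.U)),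
    inferInstanceAs (IsClosedImmersion ι), ‹IsReduced (Scheme.IdealSheafData.vanishingIdeal C).subscheme›, hι⟩

end Field

end Groth.Agent.H19Grp.GrpdImage
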