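import Groth.Agent.H7Flat.FibreCriterion
import Groth.Agent.H8Props.FlatKernel
import Mathlib

/-!
# Flatness of cokernels along a square-zero ideal
-/

set_option autoImplicit false
set_option linter.style.haveILetI false
universe u

open TensorProduct

namespace Groth.Agent.H19Grp.KoszulSqZero

variable {A : Type u} [CommRing A] (J : Ideal A)

/-- Multiplication `J ⊗ M → M`. -/
noncomputable def mulMap (M : Type u) [AddCommGroup M] [Module A M] : J ⊗[A] M →ₗ[A] M :=
  (TensorProduct.lid A M).toLinearMap ∘ₗ J.subtype.rTensor M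

theorem mulMap_injective (M : Type u) [AddCommGroup M] [Module A M] [Module.Flat A M] :
    Function.Injective (mulMap J M) :=
  (TensorProduct.lid A M).injective.comp
    (Module.Flat.rTensor_preserves_injective_linearMap _ J.injective_subtype)

theorem exists_mulMap_eq {M : Type u} [AddCommGroup M] [Module A M] {z : M} (hz : z ∈ J • (⊤ : Submodule A M)) :
    ∃ x, mulMap J M x = z := by
  refine Submodule.smul_induction_on hz (fun r hr m _ => ⟨⟨r, hr⟩ ⊗ₜ m, by simp [mulMap]⟩) ?_
  rintro a b ⟨x, rfl⟩ ⟨y, rfl⟩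
  exact ⟨x + y, map_add _ _ _⟩

theorem mulMap_lTensor {M N : Type u} [AddCommGroup M] [Module A M] [AddCommGroup N] [Module A N] (g : M →ₗ[A] N)
    (x : J ⊗[A] M) : mulMap J N (g.lTensor J x) = g (mulMap J M x) := by
  induction x using TensorProduct.induction_on with
  | zero => simp
  | add a b ha hb => simp [ha, hb]
  | tmul j m => simp [mulMap]

/-- Descending step: exactness and flatness of the cokernel one place to the left. -/
theorem step (hJ : ∀ a ∈ J, ∀ b ∈ J, a * b = 0) {L M N : Type u} [AddCommGroup L] [AddCommGroup M] [AddCommGroup N]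
    [Module A L] [Module A M] [Module A N] [Module.Flat A M] [Module.Flat A N] (f : L →ₗ[A] M) (g : M →ₗ[A] N)
    (hgf : ∀ l, g (f l) = 0) [Module.Flat A (N ⧸ LinearMap.range g)]
    (hmod : ∀ m, g m ∈ J • (⊤ : Submodule A N) → m ∈ LinearMap.range f ⊔ J • (⊤ : Submodule A M)) :
    (∀ m, g m = 0 → m ∈ LinearMap.range f) ∧ Module.Flat A (M ⧸ LinearMap.range f) := by
  haveI : Module.Flat A (LinearMap.range g) :=
    H8Props.flat_of_exact (LinearMap.range g).subtype (LinearMap.range g).mkQ Subtype.val_injective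
      (LinearMap.exact_subtype_mkQ _) (Submodule.mkQ_surjective _)
  have hJker : ∀ j ∈ J, ∀ k, g k = 0 → j • k ∈ LinearMap.range f := by
    intro j hj k hk
    obtain ⟨_, ⟨l, rfl⟩, k', hk', rfl⟩ := Submodule.mem_sup.1 (hmod k (by rw [hk]; exact zero_mem _))
    have h0 : j • k' = 0 := by
      refine Submodule.smul_induction_on hk' (fun r hr m _ => by rw [smul_smul, hJ j hj r hr, zero_smul]) ?_
      intro a b ha hb
      rw [smul_add, ha, hb, add_zero]
    exact ⟨j • l, by rw [map_smul, smul_add, h0, add_zero]⟩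
  have hex : ∀ m, g m = 0 → m ∈ LinearMap.range f := by
    intro m hm
    obtain ⟨_, ⟨l, rfl⟩, z, hz, rfl⟩ := Submodule.mem_sup.1 (hmod m (by rw [hm]; exact zero_mem _))
    rw [map_add, hgf, zero_add] at hm
    obtain ⟨x, rfl⟩ := exists_mulMap_eq J hz
    have hx : g.rangeRestrict.lTensor J x = 0 := by
      refine mulMap_injective J _ ?_
      rw [map_zero, mulMap_lTensor]
      exact Subtype.ext hm
    have hexr : Function.Exact (LinearMap.ker g).subtype g.rangeRestrict := by
      rw [LinearMap.exact_iff, LinearMap.ker_rangeRestrict, Submodule.range_subtype]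
    obtain ⟨y, rfl⟩ := (lTensor_exact J hexr g.surjective_rangeRestrict x).1 hx
    refine add_mem ⟨l, rfl⟩ ?_
    rw [mulMap_lTensor]
    clear hm hx hz
    induction y using TensorProduct.induction_on with
    | zero => simp
    | add a b ha hb => rw [map_add, map_add]; exact add_mem ha hb
    | tmul j k =>
      rw [show mulMap J _ (j ⊗ₜ[A] k) = (j : A) • k by simp [mulMap]]
      exact hJker _ j.2 k.1 k.2
  refine ⟨hex, ?_⟩
  have hker : LinearMap.ker g = LinearMap.range f :=
    le_antisymm (fun m hm => hex m hm) (by rintro _ ⟨l, rfl⟩; exact hgf l)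
  rw [← hker]
  exact Module.Flat.of_linearEquiv g.quotKerEquivRange

/-- The last cokernel. -/
theorem flat_coker (hJ : IsNilpotent J) {P M : Type u} [AddCommGroup P] [AddCommGroup M] [Module A P] [Module A M]
    [Module.Flat A M] (f : P →ₗ[A] M) [Module.Flat (A ⧸ J) ((A ⧸ J) ⊗[A] (M ⧸ LinearMap.range f))]
    (hmod : ∀ p, f p ∈ J • (⊤ : Submodule A M) → ∃ p' ∈ J • (⊤ : Submodule A P), f p' = f p) :
    Module.Flat A (M ⧸ LinearMap.range f) := by
  refine H7Flat.flat_of_isNilpotent J hJ ?_
  rw [LinearMap.lTensor_inj_iff_rTensor_inj]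
  refine Function.Injective.of_comp (f := TensorProduct.lid A _) ?_
  show Function.Injective (mulMap J _)
  rw [injective_iff_map_eq_zero]
  intro x hx
  obtain ⟨y, rfl⟩ := LinearMap.lTensor_surjective J (Submodule.mkQ_surjective (LinearMap.range f)) x
  rw [mulMap_lTensor, Submodule.mkQ_apply, Submodule.Quotient.mk_eq_zero] at hx
  obtain ⟨p, hp⟩ := hx
  obtain ⟨p', hp', he⟩ := hmod p (by
    rw [hp]
    clear hp
    induction y using TensorProduct.induction_on with
    | zero => simp
    | add a b ha hb => rw [map_add]; exact add_mem ha hb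
    | tmul j k =>
      rw [show mulMap J _ (j ⊗ₜ[A] k) = (j : A) • k by simp [mulMap]]
      exact Submodule.smul_mem_smul j.2 Submodule.mem_top)
  obtain ⟨w, rfl⟩ := exists_mulMap_eq J hp'
  have hy : y = f.lTensor J w := mulMap_injective J M (by rw [mulMap_lTensor, he, hp])
  rw [hy, ← LinearMap.lTensor_comp_apply, show (LinearMap.range f).mkQ ∘ₗ f = 0 from
    LinearMap.ext fun p => (Submodule.Quotient.mk_eq_zero _).2 ⟨p, rfl⟩, LinearMap.lTensor_zero, LinearMap.zero_apply]

end Groth.Agent.H19Grp.KoszulSqZero
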