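import Groth.Prelude.Def_W4c6nonredquotmfGoodQuot
import Groth.Agent.H20GQ.OpenBC
import Mathlib.AlgebraicGeometry.AlgClosed.Basic
import Mathlib.AlgebraicGeometry.Morphisms.UniversallyOpen
import Mathlib.AlgebraicGeometry.Morphisms.Flat

/-!
Basic properties of good quotients.
-/

set_option autoImplicit false
set_option linter.style.haveILetI false
set_option backward.isDefEq.respectTransparency false

universe u

open CategoryTheory MonoidalCategory CartesianMonoidalCategory MonObj AlgebraicGeometry Topology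

namespace Groth.Agent.H19Grp

variable {S : Scheme.{u}} {G X Y : Over S} [GrpObj G] {a : AlgGrp.Action G X} {φ : X ⟶ Y}

theorem goodQuot_surjective (h : NRQuot.IsGoodQuot a φ) : Function.Surjective φ.left.base := by
  rw [← Set.range_eq_univ, ← Set.image_univ]
  simpa using h.inter PEmpty.{u+1} (fun i => i.elim) (fun i => i.elim) (fun i => i.elim)

theorem isInvariantSet_preimage (hi : GIT.IsInvariant a φ) (W : Set ↥Y.left) :
    NRQuot.IsInvariantSet a (φ.left.base ⁻¹' W) := by
  intro p hp
  show φ.left (a.act.left p) ∈ W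
  rw [← Scheme.Hom.comp_apply, hi.left, Scheme.Hom.comp_apply]
  exact hp

theorem goodQuot_isQuotientMap (h : NRQuot.IsGoodQuot a φ) : IsQuotientMap φ.left.base := by
  rw [isQuotientMap_iff_isClosed]
  refine ⟨goodQuot_surjective h, fun W => ⟨fun hW => hW.preimage φ.left.continuous, fun hW => ?_⟩⟩
  simpa [Set.image_preimage_eq W (goodQuot_surjective h)] using
    h.closed _ hW (isInvariantSet_preimage h.inv W)

/-- Closures of invariant sets are invariant, `G → S` being universally open. -/
theorem isInvariantSet_closure [UniversallyOpen G.hom] {W : Set ↥X.left} (hW : NRQuot.IsInvariantSet a W) :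
    NRQuot.IsInvariantSet a (closure W) := by
  intro p hp
  haveI : UniversallyOpen (snd G X).left := UniversallyOpen.snd G.hom X.hom
  have h1 : p ∈ closure ((snd G X).left.base ⁻¹' W) :=
    (snd G X).left.isOpenMap.preimage_closure_subset_closure_preimage hp
  have h2 := map_mem_closure a.act.left.continuous h1 (t := W) (fun q hq => hW q hq)
  exact h2

theorem isInvariantSet_range_orbitMap (x : 𝟙_ (Over S) ⟶ X) :
    NRQuot.IsInvariantSet a (Set.range (a.orbitMap x).left.base) := by
  rintro p ⟨g, hg⟩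
  have sq := H20GQ.isPullback_whiskerLeft (a.orbitMap x) G
  obtain ⟨z, -, hz⟩ := Scheme.Pullback.exists_preimage_pullback (f := (a.orbitMap x).left)
    (g := (snd G X).left) g p hg
  have e : (G ◁ a.orbitMap x) ≫ a.act = μ[G] ≫ a.orbitMap x := by
    have h1 : (G ◁ lift (𝟙 G) (toUnit G ≫ x)) ≫ (α_ G G X).inv ≫ (μ[G] ▷ X) = μ[G] ≫ lift (𝟙 G) (toUnit G ≫ x) := by
      apply CartesianMonoidalCategory.hom_ext
      · have h3 : (G ◁ lift (𝟙 G) (toUnit G ≫ x)) ≫ (α_ G G X).inv ≫ fst (G ⊗ G) X = 𝟙 _ := by
          apply CartesianMonoidalCategory.hom_ext <;> simp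
        simp only [Category.assoc, whiskerRight_fst, lift_fst, Category.comp_id]
        rw [reassoc_of% h3]
      · simp
    have h2 : (G ◁ a.act) ≫ a.act = (α_ G G X).inv ≫ (μ[G] ▷ X) ≫ a.act := by
      rw [a.mul_act, Iso.inv_hom_id_assoc]
    rw [AlgGrp.Action.orbitMap, MonoidalCategory.whiskerLeft_comp, Category.assoc, h2, reassoc_of% h1]
  refine ⟨(μ[G]).left (sq.isoPullback.inv z), ?_⟩
  rw [← Scheme.Hom.comp_apply, ← Over.comp_left, ← e, Over.comp_left, Scheme.Hom.comp_apply]
  congr 1
  rw [← Scheme.Hom.comp_apply, sq.isoPullback_inv_snd]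
  exact hz

section Field

variable {k : Type u} [Field k] {Z : Scheme.{u}} {q : Z ⟶ Spec (.of k)}

theorem isClosed_range_of_section (p : Spec (.of k) ⟶ Z) (hp : p ≫ q = 𝟙 _) :
    IsClosed ({p (IsLocalRing.closedPoint k)} : Set Z) := by
  have := isClosedImmersion_of_comp_eq_id q p hp
  have h := p.isClosedEmbedding.isClosed_range
  rwa [Set.range_eq_singleton] at h
  exact fun x ↦ congr(p $(Subsingleton.elim _ _))

/-- Rational points with the same image are equal. -/
theorem section_ext {p p' : Spec (.of k) ⟶ Z} (hp : p ≫ q = 𝟙 _) (hp' : p' ≫ q = 𝟙 _)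
    (h : p (IsLocalRing.closedPoint k) = p' (IsLocalRing.closedPoint k)) : p = p' := by
  obtain ⟨⟨x, f⟩, rfl⟩ := (Scheme.SpecToEquivOfField k Z).symm.surjective p
  obtain ⟨⟨x', f'⟩, rfl⟩ := (Scheme.SpecToEquivOfField k Z).symm.surjective p'
  obtain rfl : x = x' := by simpa [Scheme.SpecToEquivOfField] using h
  congr 1
  obtain ⟨c, hc⟩ := Spec.map_surjective (Z.fromSpecResidueField x ≫ q)
  simp only [Scheme.SpecToEquivOfField, Equiv.coe_fn_symm_mk, Category.assoc, ← hc, ← Spec.map_comp,
    ← Spec.map_id, Spec.map_inj] at hp hp'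
  congr 1
  apply CommRingCat.hom_ext
  apply RingHom.ext
  intro t
  have e : ∀ s, f.hom (c.hom s) = s := fun s => congr($(hp).hom s)
  have e' : ∀ s, f'.hom (c.hom s) = s := fun s => congr($(hp').hom s)
  have h0 : t = c.hom (f.hom t) := RingHom.injective f.hom (e _).symm
  conv_rhs => rw [h0, e']

end Field

end Groth.Agent.H19Grp
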