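import Groth.Agent.H19Grp.PiClosedRing
import Mathlib

/-!
# The largest closed subscheme of the base over which a closed subscheme contains everything

For `f : Z ⟶ S` and a closed immersion `j : Y ⟶ Z`, the functor
`g : S' ⟶ S ↦ (Z ×_S S' ⟶ Z factors through j)` is representable by a closed subscheme of `S`
as soon as `f` is locally projective over the base (SGA 3 VIII 6.4).
-/

set_option autoImplicit false
set_option linter.style.haveILetI false
set_option backward.isDefEq.respectTransparency false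

universe u v

open CategoryTheory CategoryTheory.Limits AlgebraicGeometry TensorProduct

namespace Groth.Agent.H19Grp

/-- Kernels can be tested on affine opens of the source. -/
lemma le_ker_of_forall_appLE {X Y : Scheme.{u}} (h : X ⟶ Y) (J : Y.IdealSheafData)
    (H : ∀ (U : Y.affineOpens) (V : X.affineOpens) (e : V.1 ≤ h ⁻¹ᵁ U.1),
      J.ideal U ≤ RingHom.ker (h.appLE U V e).hom) : J ≤ h.ker := by
  refine Scheme.IdealSheafData.le_ofIdeals_iff.mpr fun U a ha => ?_
  rw [RingHom.mem_ker]
  refine X.IsSheaf.section_ext fun x hx => ?_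
  obtain ⟨V, hV, hxV, hVU⟩ := exists_isAffineOpen_mem_and_subset (x := x) (U := h ⁻¹ᵁ U.1) hx
  refine ⟨V, hVU, hxV, ?_⟩
  rw [map_zero, ← ConcreteCategory.comp_apply]
  exact RingHom.mem_ker.mp (H U ⟨V, hV⟩ hVU ha)

/-- Kernels can be tested on a jointly surjective family of flat morphisms to the source. -/
lemma le_ker_of_flat_family {X Y : Scheme.{u}} (h : X ⟶ Y) (J : Y.IdealSheafData) {ι : Type v}
    {W : ι → Scheme.{u}} (q : ∀ i, W i ⟶ X) [∀ i, Flat (q i)]
    (hq : ∀ x, ∃ i, x ∈ Set.range (q i)) (H : ∀ i, J ≤ (q i ≫ h).ker) : J ≤ h.ker := by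
  refine Scheme.IdealSheafData.le_ofIdeals_iff.mpr fun U a ha => ?_
  rw [RingHom.mem_ker]
  apply TopCat.Presheaf.section_ext X.sheaf (h ⁻¹ᵁ U.1)
  intro x hx
  obtain ⟨i, w, rfl⟩ := hq x
  have h0 : (q i ≫ h).app U.1 a = 0 :=
    RingHom.mem_ker.mp ((q i ≫ h).ideal_ker_le U (H i U ha))
  have hinj : Function.Injective ((q i).stalkMap w).hom := by
    algebraize [((q i).stalkMap w).hom]
    haveI : IsLocalHom (algebraMap (X.presheaf.stalk (q i w)) ((W i).presheaf.stalk w)) :=
      inferInstanceAs <| IsLocalHom ((q i).stalkMap w).hom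
    haveI : Module.Flat (X.presheaf.stalk (q i w)) ((W i).presheaf.stalk w) :=
      Flat.stalkMap (q i) w
    haveI := Module.FaithfullyFlat.of_flat_of_isLocalHom
      (A := X.presheaf.stalk (q i w)) (B := (W i).presheaf.stalk w)
    exact FaithfulSMul.algebraMap_injective _ _
  apply hinj
  show ((q i).stalkMap w).hom (X.presheaf.germ _ _ hx _) = ((q i).stalkMap w).hom (X.presheaf.germ _ _ hx _)
  erw [Scheme.Hom.germ_stalkMap_apply, Scheme.Hom.germ_stalkMap_apply]
  congr 1
  exact h0.trans (map_zero _).symm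

variable {S Z Y : Scheme.{u}} (f : Z ⟶ S) (j : Y ⟶ Z)

/-- `Z ×_S S' ⟶ Z` factors through `j`. -/
def Contains {S' : Scheme.{u}} (g : S' ⟶ S) : Prop := ∃ l, l ≫ j = pullback.fst f g

variable {f j}

lemma Contains.comp {S' S'' : Scheme.{u}} {g : S' ⟶ S} (hg : Contains f j g) (h : S'' ⟶ S') :
    Contains f j (h ≫ g) := by
  obtain ⟨l, hl⟩ := hg
  refine ⟨pullback.lift (pullback.fst f (h ≫ g)) (pullback.snd f (h ≫ g) ≫ h)
    (by rw [pullback.condition, Category.assoc]) ≫ l, ?_⟩
  rw [Category.assoc, hl, pullback.lift_fst]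

lemma contains_iff_isIso [Mono j] {S' : Scheme.{u}} (g : S' ⟶ S) :
    Contains f j g ↔ IsIso (pullback.snd j (pullback.fst f g)) := by
  constructor
  · rintro ⟨l, hl⟩
    refine ⟨pullback.lift l (𝟙 _) (hl.trans (Category.id_comp _).symm), ?_, pullback.lift_snd _ _ _⟩
    apply pullback.hom_ext
    · rw [← cancel_mono j, Category.assoc, Category.assoc, pullback.lift_fst_assoc, hl,
        Category.id_comp, pullback.condition]
    · simp
  · intro h
    refine ⟨inv (pullback.snd j (pullback.fst f g)) ≫ pullback.fst _ _, ?_⟩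
    rw [Category.assoc, pullback.condition, IsIso.inv_hom_id_assoc]

/-- Descent along flat jointly surjective families. -/
lemma contains_of_flat_family [IsClosedImmersion j] {S' : Scheme.{u}} (g : S' ⟶ S) {ι : Type v}
    {W : ι → Scheme.{u}} (q : ∀ i, W i ⟶ S') [∀ i, Flat (q i)]
    (hq : ∀ x, ∃ i, x ∈ Set.range (q i)) (H : ∀ i, Contains f j (q i ≫ g)) : Contains f j g := by
  refine ⟨IsClosedImmersion.lift j (pullback.fst f g) ?_, IsClosedImmersion.lift_fac _ _ _⟩
  refine le_ker_of_flat_family _ _ (fun i => pullback.fst (pullback.snd f g) (q i)) ?_ fun i => ?_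
  · intro z
    obtain ⟨i, w, hw⟩ := hq (pullback.snd f g z)
    obtain ⟨t, ht, -⟩ := Scheme.Pullback.exists_preimage_pullback
      (f := pullback.snd f g) (g := q i) z w hw.symm
    exact ⟨i, t, ht⟩
  · obtain ⟨l, hl⟩ := H i
    rw [← pullbackLeftPullbackSndIso_hom_fst f g (q i), ← hl, ← Category.assoc]
    exact Scheme.Hom.le_ker_comp _ _

/-- `𝔞` is the universal ideal of `Contains` on `Spec A`. -/
def HasUniv (f : Z ⟶ S) (j : Y ⟶ Z) {A : CommRingCat.{u}} (σ : Spec A ⟶ S) (𝔞 : Ideal A) : Prop :=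
  ∀ (C : CommRingCat.{u}) (φ : A ⟶ C), Contains f j (Spec.map φ ≫ σ) ↔ 𝔞 ≤ RingHom.ker φ.hom

lemma HasUniv.contains {A : CommRingCat.{u}} {σ : Spec A ⟶ S} {𝔞 : Ideal A}
    (h : HasUniv f j σ 𝔞) :
    Contains f j (Spec.map (CommRingCat.ofHom (Ideal.Quotient.mk 𝔞)) ≫ σ) :=
  (h (CommRingCat.of (A ⧸ 𝔞)) (CommRingCat.ofHom (Ideal.Quotient.mk 𝔞))).mpr Ideal.mk_ker.ge

lemma HasUniv.unique {A : CommRingCat.{u}} {σ : Spec A ⟶ S} {𝔞 𝔟 : Ideal A}
    (h : HasUniv f j σ 𝔞) (h' : HasUniv f j σ 𝔟) : 𝔞 = 𝔟 :=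
  le_antisymm
    (((h _ _).mp h'.contains).trans Ideal.mk_ker.le)
    (((h' _ _).mp h.contains).trans Ideal.mk_ker.le)

lemma HasUniv.map {A A' : CommRingCat.{u}} {σ : Spec A ⟶ S} {𝔞 : Ideal A}
    (h : HasUniv f j σ 𝔞) (ψ : A ⟶ A') : HasUniv f j (Spec.map ψ ≫ σ) (𝔞.map ψ.hom) := by
  intro C φ
  rw [← Category.assoc, ← Spec.map_comp, h, Ideal.map_le_iff_le_comap, CommRingCat.hom_comp,
    RingHom.comap_ker]

/-- Projective charts give universal ideals. -/
theorem hasUniv_of_charts [IsClosedImmersion j] {A : Type u} [CommRing A]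
    (σ : Spec (CommRingCat.of A) ⟶ S) {ι : Type u} (B : ι → Type u) [∀ i, CommRing (B i)]
    [∀ i, Algebra A (B i)] [∀ i, Module.Projective A (B i)]
    (m : ∀ i, Spec (CommRingCat.of (B i)) ⟶ pullback f σ) [∀ i, IsOpenImmersion (m i)]
    (hm : ∀ i, m i ≫ pullback.snd f σ = Spec.map (CommRingCat.ofHom (algebraMap A (B i))))
    (hcov : ∀ z, ∃ i, z ∈ Set.range (m i)) :
    ∃ 𝔞 : Ideal A, HasUniv f j σ 𝔞 ∧ (Finite ι → LocallyOfFinitePresentation j → 𝔞.FG) := by
  have hI : ∀ i, ∃ (I : Ideal (B i)) (e : pullback j (m i ≫ pullback.fst f σ) ≅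
      Spec (CommRingCat.of (B i ⧸ I))), pullback.snd j (m i ≫ pullback.fst f σ) =
        e.hom ≫ Spec.map (CommRingCat.ofHom (Ideal.Quotient.mk I)) :=
    fun i => (IsClosedImmersion.Spec_iff (R := CommRingCat.of (B i))).mp inferInstance
  choose I e hIe using hI
  refine ⟨⨆ i, coeffIdeal A (I i : Set (B i)), fun C φ => ?_, fun _ hj => ?_⟩
  · letI : Algebra A C := φ.hom.toAlgebra
    rw [iSup_le_iff, show RingHom.ker φ.hom = RingHom.ker (algebraMap A C) from rfl]
    simp only [coeffIdeal_le_iff]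
    let g := Spec.map φ ≫ σ
    let π : pullback f g ⟶ pullback f σ :=
      pullback.lift (pullback.fst f g) (pullback.snd f g ≫ Spec.map φ)
        (by rw [pullback.condition, Category.assoc])
    have hπ : IsPullback π (pullback.snd f g) (pullback.snd f σ) (Spec.map φ) := by
      refine IsPullback.of_right ?_ (pullback.lift_snd _ _ _) (IsPullback.of_hasPullback f σ)
      rw [pullback.lift_fst]
      exact IsPullback.of_hasPullback f g
    let c (i : ι) := Spec.map (CommRingCat.ofHom
      (Algebra.TensorProduct.includeLeftRingHom : B i →+* B i ⊗[A] C))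
    have hQ : ∀ i, ∃ (u : Spec (CommRingCat.of (B i ⊗[A] C)) ⟶ pullback f g),
        IsPullback u (c i) π (m i) := by
      intro i
      let P := pullback π (m i)
      have h1 : IsPullback (pullback.snd π (m i)) (pullback.fst π (m i) ≫ pullback.snd f g)
          (Spec.map (CommRingCat.ofHom (algebraMap A (B i)))) (Spec.map φ) := by
        have := (IsPullback.of_hasPullback π (m i)).flip.paste_vert hπ
        rwa [hm i] at this
      have h2 : IsPullback (c i) (Spec.map (CommRingCat.ofHom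
          (Algebra.TensorProduct.includeRight : C →ₐ[A] B i ⊗[A] C).toRingHom))
          (Spec.map (CommRingCat.ofHom (algebraMap A (B i)))) (Spec.map φ) :=
        isPullback_SpecMap_of_isPushout _ _ _ _ (CommRingCat.isPushout_tensorProduct A (B i) C)
      refine ⟨(h2.isoIsPullback _ _ h1).hom ≫ pullback.fst π (m i), ?_⟩
      refine (IsPullback.of_hasPullback π (m i)).of_iso (h2.isoIsPullback _ _ h1).symm
        (Iso.refl _) (Iso.refl _) (Iso.refl _) ?_ ?_ (by simp) (by simp)
      · simp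
      · rw [Iso.symm_hom, Iso.refl_hom, Category.comp_id, Iso.eq_inv_comp]
        exact h2.isoIsPullback_hom_fst _ _ h1
    choose u hu using hQ
    have hfac : ∀ i, (∃ l, l ≫ j = u i ≫ pullback.fst f g) ↔
        ∀ x ∈ (I i : Set (B i)), x ⊗ₜ[A] (1 : C) = 0 := by
      intro i
      have hw : u i ≫ pullback.fst f g = c i ≫ m i ≫ pullback.fst f σ := by
        rw [← reassoc_of% (hu i).w, pullback.lift_fst]
      rw [hw]
      constructor
      · rintro ⟨l, hl⟩
        let l' := pullback.lift l (c i) hl ≫ (e i).hom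
        have hl' : l' ≫ Spec.map (CommRingCat.ofHom (Ideal.Quotient.mk (I i))) = c i := by
          rw [Category.assoc, ← hIe i, pullback.lift_snd]
        obtain ⟨l'', hl''⟩ := Spec.map_surjective l'
        rw [← hl'', ← Spec.map_comp, Spec.map_inj] at hl'
        intro x hx
        have h2 := ConcreteCategory.congr_hom hl' x
        change l''.hom (Ideal.Quotient.mk (I i) x) = x ⊗ₜ[A] (1 : C) at h2
        rw [Ideal.Quotient.eq_zero_iff_mem.mpr hx, map_zero] at h2
        exact h2.symm
      · intro h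
        let l : CommRingCat.of (B i ⧸ I i) ⟶ CommRingCat.of (B i ⊗[A] C) :=
          CommRingCat.ofHom (Ideal.Quotient.lift (I i) Algebra.TensorProduct.includeLeftRingHom h)
        refine ⟨Spec.map l ≫ (e i).inv ≫ pullback.fst _ _, ?_⟩
        rw [Category.assoc, Category.assoc, pullback.condition, hIe i, Category.assoc,
          Iso.inv_hom_id_assoc, ← Category.assoc, ← Spec.map_comp]
        rfl
    constructor
    · rintro ⟨l, hl⟩ i
      exact (hfac i).mp ⟨u i ≫ l, by rw [Category.assoc, hl]⟩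
    · intro H
      haveI : ∀ i, IsOpenImmersion (u i) := fun i =>
        MorphismProperty.of_isPullback (P := @IsOpenImmersion) (hu i).flip inferInstance
      refine ⟨IsClosedImmersion.lift j (pullback.fst f g) ?_, IsClosedImmersion.lift_fac _ _ _⟩
      refine le_ker_of_flat_family _ _ u ?_ fun i => ?_
      · intro z
        obtain ⟨i, w, hw⟩ := hcov (π z)
        obtain ⟨t, ht, -⟩ := Scheme.Pullback.exists_preimage_pullback (f := π) (g := m i) z w hw.symm
        refine ⟨i, (hu i).isoPullback.inv t, ?_⟩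
        rw [← Scheme.Hom.comp_apply, (hu i).isoPullback_inv_fst, ht]
      · obtain ⟨l, hl⟩ := (hfac i).mpr (H i)
        rw [← hl]
        exact Scheme.Hom.le_ker_comp _ _
  · refine Submodule.fg_iSup _ fun i => ?_
    haveI : LocallyOfFinitePresentation (Spec.map (CommRingCat.ofHom (Ideal.Quotient.mk (I i)))) := by
      have h := hIe i
      have : LocallyOfFinitePresentation (pullback.snd j (m i ≫ pullback.fst f σ)) := inferInstance
      rw [h] at this
      exact (MorphismProperty.cancel_left_of_respectsIso @LocallyOfFinitePresentation (e i).hom _).mp this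
    have hfp : RingHom.FinitePresentation (Ideal.Quotient.mk (I i)) :=
      (HasRingHomProperty.Spec_iff (P := @LocallyOfFinitePresentation)).mp this
    have hfg : (I i).FG := by
      haveI : Algebra.FinitePresentation (B i) (B i ⧸ I i) :=
        RingHom.finitePresentation_algebraMap.mp hfp
      have h := Algebra.FinitePresentation.ker_fG_of_surjective (Ideal.Quotient.mkₐ (B i) (I i))
        (Ideal.Quotient.mkₐ_surjective (B i) (I i))
      rwa [show RingHom.ker (Ideal.Quotient.mkₐ (B i) (I i)).toRingHom = I i from Ideal.mk_ker] at h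
    obtain ⟨t, ht⟩ := hfg
    have : coeffIdeal A (I i : Set (B i)) = coeffIdeal A (t : Set (B i)) := by
      rw [← ht]; exact coeffIdeal_span _
    rw [this]
    exact fg_coeffIdeal t.finite_toSet

/-- Universal ideals descend along flat jointly surjective finite families. -/
theorem hasUniv_of_family [IsClosedImmersion j] {A : Type u} [CommRing A]
    (σ : Spec (CommRingCat.of A) ⟶ S) {ι : Type} [Finite ι] (A' : ι → Type u)
    [∀ i, CommRing (A' i)] [∀ i, Algebra A (A' i)] [∀ i, Module.Flat A (A' i)]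
    (hsurj : ∀ p : PrimeSpectrum A, ∃ i, ∃ q : PrimeSpectrum (A' i), q.comap (algebraMap A (A' i)) = p)
    (𝔞' : ∀ i, Ideal (A' i))
    (h : ∀ i, HasUniv f j (Spec.map (CommRingCat.ofHom (algebraMap A (A' i))) ≫ σ) (𝔞' i)) :
    ∃ 𝔞 : Ideal A, HasUniv f j σ 𝔞 := by
  classical
  haveI := Fintype.ofFinite ι
  let 𝔞 : Ideal A := ⨅ i, (𝔞' i).comap (algebraMap A (A' i))
  -- a test point `Spec C → Spec A` with `P` makes `𝔞' i` vanish on `A' i ⊗ C`
  have key : ∀ (C : Type u) [CommRing C] [Algebra A C],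
      Contains f j (Spec.map (CommRingCat.ofHom (algebraMap A C)) ≫ σ) →
      ∀ i, ∀ x ∈ 𝔞' i, x ⊗ₜ[A] (1 : C) = 0 := by
    intro C _ _ hP
    intro i x hx
    let ψ : CommRingCat.of (A' i) ⟶ CommRingCat.of (A' i ⊗[A] C) :=
      CommRingCat.ofHom Algebra.TensorProduct.includeLeftRingHom
    let r : CommRingCat.of C ⟶ CommRingCat.of (A' i ⊗[A] C) :=
      CommRingCat.ofHom (Algebra.TensorProduct.includeRight : C →ₐ[A] A' i ⊗[A] C).toRingHom
    have hsq : CommRingCat.ofHom (algebraMap A (A' i)) ≫ ψ =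
        CommRingCat.ofHom (algebraMap A C) ≫ r := by
      ext a
      exact (((Algebra.TensorProduct.includeRight : C →ₐ[A] A' i ⊗[A] C).commutes a).trans rfl).symm
    have : Contains f j (Spec.map ψ ≫ Spec.map (CommRingCat.ofHom (algebraMap A (A' i))) ≫ σ) := by
      rw [← Category.assoc, ← Spec.map_comp, hsq, Spec.map_comp, Category.assoc]
      exact hP.comp _
    exact (h i _ ψ).mp this hx
  refine ⟨𝔞, fun C φ => ⟨fun hP a ha => ?_, fun hle => ?_⟩⟩
  · letI := φ.hom.toAlgebra
    rw [RingHom.mem_ker]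
    refine eq_zero_of_forall_tmul A' hsurj (M := C) _ fun i => ?_
    have h0 := key C hP i _ (Ideal.mem_comap.mp ((Submodule.mem_iInf _).mp ha i))
    rw [Algebra.algebraMap_eq_smul_one, TensorProduct.smul_tmul, Algebra.smul_def, mul_one] at h0
    exact h0
  -- it is enough to treat the universal point
  suffices hu : Contains f j (Spec.map (CommRingCat.ofHom (Ideal.Quotient.mk 𝔞)) ≫ σ) by
    let φ' : CommRingCat.of (A ⧸ 𝔞) ⟶ C :=
      CommRingCat.ofHom (Ideal.Quotient.lift 𝔞 φ.hom hle)
    have : φ = CommRingCat.ofHom (Ideal.Quotient.mk 𝔞) ≫ φ' := by ext a; rfl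
    rw [this, Spec.map_comp, Category.assoc]
    exact hu.comp _
  let σ₀ := Spec.map (CommRingCat.ofHom (Ideal.Quotient.mk 𝔞))
  let σi (i : ι) := Spec.map (CommRingCat.ofHom (algebraMap A (A' i)))
  haveI : ∀ i, Flat (σi i) := fun i => by
    rw [HasRingHomProperty.Spec_iff (P := @Flat)]
    exact RingHom.flat_algebraMap_iff.mpr inferInstance
  refine contains_of_flat_family _ (fun i => pullback.snd (σi i) σ₀) ?_ fun i => ?_
  · intro x
    obtain ⟨i, q, hq⟩ := hsurj (σ₀ x)
    obtain ⟨t, -, ht⟩ := Scheme.Pullback.exists_preimage_pullback (f := σi i) (g := σ₀) q x hq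
    exact ⟨i, t, ht⟩
  · rw [← pullback.condition_assoc]
    show Contains f j (pullback.fst (Spec.map (CommRingCat.ofHom (algebraMap A (A' i))))
      (Spec.map (CommRingCat.ofHom (algebraMap A (A ⧸ 𝔞)))) ≫ σi i ≫ σ)
    rw [← pullbackSpecIso_hom_fst' A (A' i) (A ⧸ 𝔞), Category.assoc]
    refine Contains.comp ((h i _ _).mpr fun x hx => ?_) _
    rw [RingHom.mem_ker]
    show x ⊗ₜ[A] (1 : A ⧸ 𝔞) = 0
    let u : (A ⧸ 𝔞) →ₗ[A] ∀ l, A' l ⧸ 𝔞' l :=
      LinearMap.pi fun l => Submodule.liftQ 𝔞
        ((Ideal.Quotient.mkₐ A (𝔞' l)).toLinearMap ∘ₗ Algebra.linearMap A (A' l))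
        (fun a ha => by
          show Ideal.Quotient.mk (𝔞' l) (algebraMap A (A' l) a) = 0
          exact Ideal.Quotient.eq_zero_iff_mem.mpr
            (Ideal.mem_comap.mp ((Submodule.mem_iInf _).mp ha l)))
    have hu : Function.Injective u := by
      rw [injective_iff_map_eq_zero]
      intro y hy
      obtain ⟨a, rfl⟩ := Ideal.Quotient.mk_surjective y
      rw [Ideal.Quotient.eq_zero_iff_mem, Submodule.mem_iInf]
      exact fun l => Ideal.mem_comap.mpr (Ideal.Quotient.eq_zero_iff_mem.mp (congrFun hy l))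
    apply Module.Flat.lTensor_preserves_injective_linearMap (M := A' i) u hu
    rw [map_zero, LinearMap.lTensor_tmul]
    apply (TensorProduct.piRight A A (A' i) fun l => A' l ⧸ 𝔞' l).injective
    ext l
    rw [map_zero, TensorProduct.piRight_apply, TensorProduct.piRightHom_tmul, Pi.zero_apply]
    have := key (A' l ⧸ 𝔞' l) (by
      rw [show CommRingCat.ofHom (algebraMap A (A' l ⧸ 𝔞' l)) =
        CommRingCat.ofHom (algebraMap A (A' l)) ≫ CommRingCat.ofHom (Ideal.Quotient.mk (𝔞' l)) from rfl,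
        Spec.map_comp, Category.assoc]
      exact (h l).contains) i x hx
    show x ⊗ₜ[A] u 1 l = 0
    rw [show u 1 l = 1 from
      (congrArg (Ideal.Quotient.mk (𝔞' l)) (map_one (algebraMap A (A' l)))).trans (map_one _)]
    exact this

end Groth.Agent.H19Grp
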