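import Mathlib
import Groth.Prelude.Def_Red2
import Groth.Prelude.Def_AGF

/-! Derived and lower central series on points along fppf epimorphisms of group schemes. -/

set_option autoImplicit false
set_option linter.style.haveILetI false
set_option backward.isDefEq.respectTransparency false

universe u

open CategoryTheory CategoryTheory.Limits MonoidalCategory CartesianMonoidalCategory MonObj AlgebraicGeometry
open scoped commutatorElement

namespace Groth.Agent.H19Grp.PointsSeries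

variable {S : Scheme.{u}} {G Q : Over S} [GrpObj G] [GrpObj Q]

/-- Restriction of points. -/
noncomputable def pre (G : Over S) [GrpObj G] {X' X : Over S} (φ : X' ⟶ X) : (X ⟶ G) →* (X' ⟶ G) :=
  MonoidHom.mk' (fun g => φ ≫ g) (fun a b => MonObj.comp_mul φ a b)

/-- A homomorphism on points. -/
noncomputable def post (q : G ⟶ Q) [IsMonHom q] (X : Over S) : (X ⟶ G) →* (X ⟶ Q) :=
  MonoidHom.mk' (fun g => g ≫ q) (fun a b => MonObj.mul_comp a b q)

@[simp] theorem pre_apply {X' X : Over S} (φ : X' ⟶ X) (g : X ⟶ G) : pre G φ g = φ ≫ g := rfl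

@[simp] theorem post_apply (q : G ⟶ Q) [IsMonHom q] {X : Over S} (g : X ⟶ G) : post q X g = g ≫ q := rfl

/-- A family of subgroups of points stable under restriction. -/
def Natural (A : ∀ X : Over S, Subgroup (X ⟶ G)) : Prop :=
  ∀ ⦃X' X : Over S⦄ (φ : X' ⟶ X), (A X).map (pre G φ) ≤ A X'

theorem natural_top : Natural (fun X : Over S => (⊤ : Subgroup (X ⟶ G))) := fun _ _ _ => le_top

theorem Natural.commutator {A B : ∀ X : Over S, Subgroup (X ⟶ G)} (hA : Natural A) (hB : Natural B) :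
    Natural (fun X => ⁅A X, B X⁆) := fun X' X φ => by
  rw [Subgroup.map_commutator]
  exact Subgroup.commutator_mono (hA φ) (hB φ)

/-- An fppf cover used for lifting points. -/
def Cov {X' X : Over S} (φ : X' ⟶ X) : Prop := Flat φ.left ∧ Surjective φ.left

theorem cov_comp {X'' X' X : Over S} {φ : X'' ⟶ X'} {ψ : X' ⟶ X} (h : Cov φ) (h' : Cov ψ) :
    Cov (φ ≫ ψ) := by
  haveI := h.1; haveI := h.2; haveI := h'.1; haveI := h'.2
  exact ⟨by rw [Over.comp_left]; infer_instance, by rw [Over.comp_left]; infer_instance⟩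

theorem cov_id (X : Over S) : Cov (𝟙 X) :=
  ⟨by rw [Over.id_left]; infer_instance, by rw [Over.id_left]; infer_instance⟩

theorem exists_pullback {X' X'' X : Over S} (φ : X' ⟶ X) (ψ : X'' ⟶ X) (h : Cov ψ) :
    ∃ (Y : Over S) (a : Y ⟶ X') (b : Y ⟶ X''), Cov a ∧ a ≫ φ = b ≫ ψ := by
  haveI := h.1; haveI := h.2
  refine ⟨Over.mk (pullback.fst φ.left ψ.left ≫ X'.hom), Over.homMk (pullback.fst φ.left ψ.left) rfl,
    Over.homMk (pullback.snd φ.left ψ.left) ?_, ⟨?_, ?_⟩, ?_⟩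
  · show pullback.snd φ.left ψ.left ≫ X''.hom = pullback.fst φ.left ψ.left ≫ X'.hom
    rw [← Over.w φ, ← Over.w ψ, pullback.condition_assoc]
  · show Flat (pullback.fst φ.left ψ.left); infer_instance
  · show Surjective (pullback.fst φ.left ψ.left); infer_instance
  · ext
    exact pullback.condition

theorem eq_of_cov {X' X T : Over S} {φ : X' ⟶ X} (h : Cov φ) {a b : X ⟶ T} (e : φ ≫ a = φ ≫ b) :
    a = b := by
  haveI := h.1; haveI := h.2
  haveI := Flat.epi_of_flat_of_surjective φ.left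
  exact Over.OverMorphism.ext ((cancel_epi φ.left).1 (congrArg CommaMorphism.left e))

variable (q : G ⟶ Q) [IsMonHom q]

/-- `x` lifts into `A` after a cover. -/
def Lifts (A : ∀ X : Over S, Subgroup (X ⟶ G)) {X : Over S} (x : X ⟶ Q) : Prop :=
  ∃ (X' : Over S) (φ : X' ⟶ X), Cov φ ∧ ∃ y ∈ A X', y ≫ q = φ ≫ x

/-- The points which lift into `A`. -/
noncomputable def liftsSubgroup (A : ∀ X : Over S, Subgroup (X ⟶ G)) (hA : Natural A) (X : Over S) :
    Subgroup (X ⟶ Q) where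
  carrier := {x | Lifts q A x}
  one_mem' := ⟨X, 𝟙 X, cov_id X, 1, one_mem _, by
    rw [show (1 : X ⟶ G) ≫ q = 1 from map_one (post q X)]; simp⟩
  mul_mem' := by
    rintro a b ⟨X₁, φ₁, h₁, y₁, m₁, e₁⟩ ⟨X₂, φ₂, h₂, y₂, m₂, e₂⟩
    obtain ⟨Y, p₁, p₂, hp, hpe⟩ := exists_pullback φ₁ φ₂ h₂
    refine ⟨Y, p₁ ≫ φ₁, cov_comp hp h₁, (p₁ ≫ y₁) * (p₂ ≫ y₂),
      mul_mem (hA p₁ ⟨y₁, m₁, rfl⟩) (hA p₂ ⟨y₂, m₂, rfl⟩), ?_⟩
    rw [MonObj.mul_comp, Category.assoc, Category.assoc, e₁, e₂, MonObj.comp_mul]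
    simp only [← Category.assoc, hpe]
  inv_mem' := by
    rintro a ⟨X₁, φ₁, h₁, y₁, m₁, e₁⟩
    refine ⟨X₁, φ₁, h₁, y₁⁻¹, inv_mem m₁, ?_⟩
    rw [show y₁⁻¹ ≫ q = (y₁ ≫ q)⁻¹ from map_inv (post q X₁) y₁, e₁]
    exact (map_inv (pre Q φ₁) a).symm

omit [GrpObj Q] [IsMonHom q] in
theorem lifts_top [Flat q.left] [Surjective q.left] {X : Over S} (x : X ⟶ Q) :
    Lifts q (fun X => (⊤ : Subgroup (X ⟶ G))) x := by
  obtain ⟨Y, a, b, ha, e⟩ := exists_pullback x q ⟨inferInstance, inferInstance⟩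
  exact ⟨Y, a, ha, b, Subgroup.mem_top _, e.symm⟩

theorem lifts_commutator {A B : ∀ X : Over S, Subgroup (X ⟶ G)} (hA : Natural A) (hB : Natural B)
    {X : Over S} {H K : Subgroup (X ⟶ Q)} (hH : ∀ a ∈ H, Lifts q A a) (hK : ∀ b ∈ K, Lifts q B b)
    (x : X ⟶ Q) (hx : x ∈ ⁅H, K⁆) : Lifts q (fun X => ⁅A X, B X⁆) x := by
  have hle : ⁅H, K⁆ ≤ liftsSubgroup q _ (hA.commutator hB) X := by
    rw [Subgroup.commutator_le]
    intro a ha b hb
    obtain ⟨X₁, φ₁, h₁, y₁, m₁, e₁⟩ := hH a ha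
    obtain ⟨X₂, φ₂, h₂, y₂, m₂, e₂⟩ := hK b hb
    obtain ⟨Y, p₁, p₂, hp, hpe⟩ := exists_pullback φ₁ φ₂ h₂
    refine ⟨Y, p₁ ≫ φ₁, cov_comp hp h₁, ⁅p₁ ≫ y₁, p₂ ≫ y₂⁆,
      Subgroup.commutator_mem_commutator (hA p₁ ⟨y₁, m₁, rfl⟩) (hB p₂ ⟨y₂, m₂, rfl⟩), ?_⟩
    calc ⁅p₁ ≫ y₁, p₂ ≫ y₂⁆ ≫ q = post q Y ⁅p₁ ≫ y₁, p₂ ≫ y₂⁆ := rfl
      _ = ⁅p₁ ≫ y₁ ≫ q, p₂ ≫ y₂ ≫ q⁆ := by
          rw [map_commutatorElement, post_apply, post_apply, Category.assoc, Category.assoc]
      _ = pre Q (p₁ ≫ φ₁) ⁅a, b⁆ := by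
          rw [map_commutatorElement, e₁, e₂, pre_apply, pre_apply]
          simp only [← Category.assoc, hpe]
  exact hle hx

theorem natural_derivedSeries (n : ℕ) : Natural (fun X : Over S => derivedSeries (X ⟶ G) n) :=
  fun _ _ φ => map_derivedSeries_le_derivedSeries (pre G φ) n

theorem natural_lowerCentralSeries (n : ℕ) :
    Natural (fun X : Over S => (⊤ : Subgroup (X ⟶ G)).lowerCentralSeries n) := by
  induction n with
  | zero => exact natural_top
  | succ n ih => exact ih.commutator natural_top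

theorem lifts_derivedSeries [Flat q.left] [Surjective q.left] (n : ℕ) {X : Over S} (x : X ⟶ Q)
    (hx : x ∈ derivedSeries (X ⟶ Q) n) : Lifts q (fun X => derivedSeries (X ⟶ G) n) x := by
  induction n generalizing X with
  | zero => exact lifts_top q x
  | succ n ih =>
    exact lifts_commutator q (natural_derivedSeries n) (natural_derivedSeries n) (fun a ha => ih a ha)
      (fun a ha => ih a ha) x hx

theorem lifts_lowerCentralSeries [Flat q.left] [Surjective q.left] (n : ℕ) {X : Over S} (x : X ⟶ Q)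
    (hx : x ∈ (⊤ : Subgroup (X ⟶ Q)).lowerCentralSeries n) :
    Lifts q (fun X => (⊤ : Subgroup (X ⟶ G)).lowerCentralSeries n) x := by
  induction n generalizing X with
  | zero => exact lifts_top q x
  | succ n ih =>
    exact lifts_commutator q (natural_lowerCentralSeries n) natural_top (fun a ha => ih a ha)
      (fun a _ => lifts_top q a) x hx

theorem eq_bot_of_lifts {A : ∀ X : Over S, Subgroup (X ⟶ G)} (hA : ∀ X, A X = ⊥) {X : Over S}
    {x : X ⟶ Q} (h : Lifts q A x) : x = 1 := by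
  obtain ⟨X', φ, hφ, y, hy, e⟩ := h
  rw [hA X', Subgroup.mem_bot] at hy
  refine eq_of_cov hφ ?_
  rw [← e, hy, show (1 : X' ⟶ G) ≫ q = 1 from map_one (post q X')]
  exact (map_one (pre Q φ)).symm

theorem isSolvableGrp_of_surjective [Flat q.left] [Surjective q.left] (h : Red.IsSolvableGrp G) :
    Red.IsSolvableGrp Q := by
  obtain ⟨n, hn⟩ := h
  exact ⟨n, fun X => (Subgroup.eq_bot_iff_forall _).2 fun x hx =>
    eq_bot_of_lifts q hn (lifts_derivedSeries q n x hx)⟩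

theorem isNilpotentGrp_of_surjective [Flat q.left] [Surjective q.left] (h : AGF.IsNilpotentGrp G) :
    AGF.IsNilpotentGrp Q := by
  obtain ⟨n, hn⟩ := h
  refine ⟨n, fun X => Subgroup.lowerCentralSeries_eq_bot_iff_upperCentralSeries_eq_top.1 ?_⟩
  exact (Subgroup.eq_bot_iff_forall _).2 fun x hx => eq_bot_of_lifts q
    (fun X' => Subgroup.lowerCentralSeries_eq_bot_iff_upperCentralSeries_eq_top.2 (hn X'))
    (lifts_lowerCentralSeries q n x hx)

theorem isSolvableGrp_of_isKernel {N : Over S} [GrpObj N] (i : N ⟶ G) [IsMonHom i]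
    (hker : AlgGrp.IsKernel i q) (hN : Red.IsSolvableGrp N) (hQ : Red.IsSolvableGrp Q) :
    Red.IsSolvableGrp G := by
  obtain ⟨m, hm⟩ := hN
  obtain ⟨n, hn⟩ := hQ
  refine ⟨n + m, fun X => ?_⟩
  have h1 : derivedSeries (X ⟶ G) n ≤ (post i X).range := by
    intro x hx
    have hxq : x ≫ q = 1 := by
      have := map_derivedSeries_le_derivedSeries (post q X) n ⟨x, hx, rfl⟩
      rwa [hn X, Subgroup.mem_bot] at this
    exact ⟨hker.lift x (toUnit X) (by rw [hxq, ← Hom.one_def]), hker.lift_fst _ _ _⟩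
  have h2 : ∀ j, derivedSeries (X ⟶ G) (n + j) ≤ (derivedSeries (X ⟶ N) j).map (post i X) := by
    intro j
    induction j with
    | zero => rwa [Nat.add_zero, derivedSeries_zero, ← MonoidHom.range_eq_map]
    | succ j ih =>
      rw [← Nat.add_assoc, derivedSeries_succ, derivedSeries_succ, Subgroup.map_commutator]
      exact Subgroup.commutator_mono ih ih
  have h3 := h2 m
  rwa [hm X, Subgroup.map_bot, le_bot_iff] at h3

end Groth.Agent.H19Grp.PointsSeries
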