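import Groth.Agent.H19Grp.AffineQuotient
import Groth.Agent.H19Grp.AntiAffineRigid

/-!
# Criteria for an algebraic group to be affine through the affinization
-/

set_option autoImplicit false
set_option maxHeartbeats 1000000
set_option linter.style.haveILetI false
set_option backward.isDefEq.respectTransparency false

universe u

open CategoryTheory CategoryTheory.Limits MonoidalCategory CartesianMonoidalCategory MonObj GrpObj
  AlgebraicGeometry

namespace Groth.Agent.H19Grp.AffineCriteria

variable {k : Type u} [Field k] (G : Over (Spec (CommRingCat.of k))) [GrpObj G] [LocallyOfFiniteType G.hom]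
  [QuasiCompact G.hom]

/-- If the affinization is a monomorphism the group is affine. -/
theorem isAffine_of_mono_rho [Mono (Affinization.rho G)] : IsAffine G.left := by
  haveI : IsNoetherianRing (CommRingCat.of k) := inferInstanceAs (IsNoetherianRing k)
  haveI : IsLocallyNoetherian G.left := LocallyOfFiniteType.isLocallyNoetherian G.hom
  haveI : IsSeparated G.hom := AffineQuotient.isSeparated_of_grp G
  obtain ⟨gA, hρ⟩ := Affinization.exists_grpObj G
  obtain ⟨-, -, hAl⟩ := Affinization.flat_surjective G
  haveI : LocallyOfFiniteType (Affinization.aff G).hom := hAl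
  haveI : QuasiCompact (Affinization.rho G).left := by
    haveI : QuasiCompact ((Affinization.rho G).left ≫ (Affinization.aff G).hom) := by rw [Over.w]; infer_instance
    exact QuasiCompact.of_comp (Affinization.rho G).left (Affinization.aff G).hom
  haveI : Mono (Affinization.rho G).left := (Over.forget _).map_mono (Affinization.rho G)
  haveI := QuasiFiniteHom.isClosedImmersion_of_mono (Affinization.rho G)
  exact isAffine_of_isAffineHom (Affinization.rho G).left

/-- If the kernel of the affinization is trivial the group is affine. -/
theorem isAffine_of_incl_eq_one (h : AffinizationKernel.incl G = 1) : IsAffine G.left := by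
  haveI : IsNoetherianRing (CommRingCat.of k) := inferInstanceAs (IsNoetherianRing k)
  haveI : IsLocallyNoetherian G.left := LocallyOfFiniteType.isLocallyNoetherian G.hom
  haveI : IsSeparated G.hom := AffineQuotient.isSeparated_of_grp G
  obtain ⟨gA, hρ⟩ := Affinization.exists_grpObj G
  haveI : Mono (Affinization.rho G) := by
    refine ⟨fun {T} x y hxy => ?_⟩
    obtain ⟨z, hz⟩ := AffinizationKernel.lift_rho G (x * y⁻¹) (by
      rw [← Category.assoc, ← Hom.one_def, MonObj.one_comp, MonObj.mul_comp, GrpObj.inv_comp, hxy, mul_inv_cancel])
    have : x * y⁻¹ = 1 := by rw [← hz, h, MonObj.comp_one]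
    exact mul_inv_eq_one.mp this
  exact isAffine_of_mono_rho G

end Groth.Agent.H19Grp.AffineCriteria
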