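import Groth.Agent.H19Grp.AbSchemeRigid
import Groth.Agent.H28NT.GoodReduction
import Mathlib

/-!
# Contracted fibres form a clopen set; bilinear maps of abelian schemes vanish
-/

set_option autoImplicit false
set_option linter.style.haveILetI false
set_option backward.isDefEq.respectTransparency false
set_option maxHeartbeats 1000000
set_option synthInstance.maxHeartbeats 100000

universe u

open CategoryTheory CategoryTheory.Limits MonoidalCategory CartesianMonoidalCategory MonObj AlgebraicGeometry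
  TopologicalSpace

namespace Groth.Agent.H19Grp

/-- The fibres contracted by `h` form a clopen subset, over which `h` comes from the base. -/
theorem exists_clopen_contracted {X T Y S : Scheme.{u}} (π : X ⟶ T) [IsProper π] [Flat π]
    [LocallyOfFinitePresentation π] [GeometricallyIntegral π] (e : T ⟶ X) (he : e ≫ π = 𝟙 T)
    (v : Y ⟶ S) [IsSeparated v] (h : X ⟶ Y) (hv : h ≫ v = (π ≫ e ≫ h) ≫ v) :
    ∃ W : T.Opens, IsClosed (W : Set T) ∧ (W : Set T) = {t | ∀ x, π x = t → h x = h (e t)} ∧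
      (π ⁻¹ᵁ W).ι ≫ h = (π ⁻¹ᵁ W).ι ≫ π ≫ e ≫ h := by
  let P : Set T := {t | ∀ x, π x = t → h x = h (e t)}
  have key : ∀ t : T, t ∈ P → ∃ W : T.Opens, t ∈ W ∧ (π ⁻¹ᵁ W).ι ≫ h = (π ⁻¹ᵁ W).ι ≫ π ≫ e ≫ h := by
    intro t ht
    obtain ⟨V, hV, htV, -⟩ := exists_isAffineOpen_mem_and_subset (X := Y) (x := h (e t)) (U := ⊤) trivial
    haveI : IsAffine V.toScheme := hV
    let W : T.Opens := ⟨(π '' (h ⁻¹' (V : Set Y))ᶜ)ᶜ,
      (π.isClosedMap _ (V.2.preimage h.continuous).isClosed_compl).isOpen_compl⟩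
    have htW : t ∈ W := by
      rintro ⟨x, hx, hxt⟩
      exact hx (show h x ∈ V from (ht x hxt).symm ▸ htV)
    refine ⟨W, htW, ?_⟩
    have hle : π ⁻¹ᵁ W ≤ h ⁻¹ᵁ V := fun x hx => by
      by_contra hn
      exact hx ⟨x, hn, rfl⟩
    let eW : W.toScheme ⟶ (π ⁻¹ᵁ W).toScheme := IsOpenImmersion.lift (π ⁻¹ᵁ W).ι (W.ι ≫ e) (by
      rintro _ ⟨z, rfl⟩
      refine (π ⁻¹ᵁ W).range_ι.ge ?_
      show π (e (W.ι z)) ∈ W
      rw [← Scheme.Hom.comp_apply, he]
      exact z.2)
    have hl : eW ≫ (π ⁻¹ᵁ W).ι = W.ι ≫ e := IsOpenImmersion.lift_fac _ _ _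
    have heW : eW ≫ (π ∣_ W) = 𝟙 _ := by
      rw [← cancel_mono W.ι, Category.assoc, morphismRestrict_ι, reassoc_of% hl, he, Category.comp_id,
        Category.id_comp]
    haveI : GeometricallyIntegral (π ∣_ W) :=
      MorphismProperty.of_isPullback (isPullback_morphismRestrict π W).flip ‹_›
    haveI : IsProper (π ∣_ W) := MorphismProperty.of_isPullback (isPullback_morphismRestrict π W).flip ‹_›
    haveI : IsIso (π ∣_ W).appTop := (ConcreteCategory.isIso_iff_bijective _).mpr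
      (bijective_appTop_of_section (π ∣_ W) eW heW)
    obtain ⟨g, hg⟩ := H25Rig.exists_factor_of_isIso_appTop (π ∣_ W) (h.resLE V (π ⁻¹ᵁ W) hle)
    have h1 : (π ⁻¹ᵁ W).ι ≫ h = (π ∣_ W) ≫ g ≫ V.ι := by
      rw [← Category.assoc, hg, Scheme.Hom.resLE_comp_ι]
    have h2 : W.ι ≫ e ≫ h = g ≫ V.ι := by
      rw [← Category.assoc, ← hl, Category.assoc, h1, reassoc_of% heW]
    rw [h1, ← h2, morphismRestrict_ι_assoc]
  have hmem : ∀ (W : T.Opens), (π ⁻¹ᵁ W).ι ≫ h = (π ⁻¹ᵁ W).ι ≫ π ≫ e ≫ h → (W : Set T) ⊆ P := by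
    intro W hW t ht x hx
    have := congrArg (fun m : (π ⁻¹ᵁ W).toScheme ⟶ Y => m ⟨x, show π x ∈ W from hx ▸ ht⟩) hW
    exact this.trans (congrArg (fun t => h (e t)) hx)
  have hPo : IsOpen P := isOpen_iff_forall_mem_open.mpr fun t ht => by
    obtain ⟨W, htW, hW⟩ := key t ht
    exact ⟨W, hmem W hW, W.2, htW⟩
  let d := pullback.lift h (π ≫ e ≫ h) hv
  let k : pullback d (pullback.diagonal v) ⟶ X := pullback.fst _ _
  haveI : IsClosedImmersion k := MorphismProperty.pullback_fst (P := @IsClosedImmersion) _ _ inferInstance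
  have hk : k ≫ h = k ≫ π ≫ e ≫ h := by
    have hc : k ≫ d = pullback.snd _ _ ≫ pullback.diagonal v := pullback.condition
    have h1 := congrArg (· ≫ pullback.fst v v) hc
    have h2 := congrArg (· ≫ pullback.snd v v) hc
    simp only [d, Category.assoc, pullback.lift_fst, pullback.lift_snd, pullback.diagonal_fst,
      pullback.diagonal_snd, Category.comp_id] at h1 h2
    exact h1.trans h2.symm
  have hPc : Pᶜ = π '' (Set.range k)ᶜ := by
    ext t
    constructor
    · intro ht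
      obtain ⟨x, hx'⟩ := not_forall.mp ht
      obtain ⟨hx, hne⟩ := Classical.not_imp.mp hx'
      refine ⟨x, ?_, hx⟩
      rintro ⟨z, rfl⟩
      refine hne ?_
      rw [← Scheme.Hom.comp_apply, hk, Scheme.Hom.comp_apply, Scheme.Hom.comp_apply, Scheme.Hom.comp_apply, hx]
    · rintro ⟨x, hx, rfl⟩ ht
      obtain ⟨W, hxW, hW⟩ := key _ ht
      refine hx ?_
      let l : (π ⁻¹ᵁ W).toScheme ⟶ pullback d (pullback.diagonal v) :=
        pullback.lift (π ⁻¹ᵁ W).ι ((π ⁻¹ᵁ W).ι ≫ h) (by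
          apply pullback.hom_ext
          · simp only [d, Category.assoc, pullback.lift_fst, pullback.diagonal_fst, Category.comp_id]
          · simp only [d, Category.assoc, pullback.lift_snd, pullback.diagonal_snd, Category.comp_id]
            exact hW.symm)
      let x' : (π ⁻¹ᵁ W).toScheme := ⟨x, hxW⟩
      exact ⟨l x', congrArg (fun m : (π ⁻¹ᵁ W).toScheme ⟶ X => m x') (pullback.lift_fst _ _ _)⟩
  haveI : UniversallyOpen π := inferInstance
  have hclosed : IsClosed P := by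
    rw [← isOpen_compl_iff, hPc]
    exact π.isOpenMap _ k.isClosedEmbedding.isClosed_range.isOpen_compl
  refine ⟨⟨P, hPo⟩, hclosed, rfl, ?_⟩
  choose W hW hWe using key
  let O : P → (π ⁻¹ᵁ ⟨P, hPo⟩).toScheme.Opens := fun t => (π ⁻¹ᵁ ⟨P, hPo⟩).ι ⁻¹ᵁ (π ⁻¹ᵁ W t.1 t.2)
  refine ((π ⁻¹ᵁ ⟨P, hPo⟩).toScheme.openCoverOfIsOpenCover O (top_le_iff.1 fun x _ => ?_)).hom_ext _ _ fun t => ?_
  · exact Opens.mem_iSup.2 ⟨⟨π x.1, x.2⟩, hW _ x.2⟩
  · show (O t).ι ≫ _ = (O t).ι ≫ _
    rw [← Category.assoc, ← Category.assoc (O t).ι,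
      ← IsOpenImmersion.lift_fac (π ⁻¹ᵁ W t.1 t.2).ι ((O t).ι ≫ (π ⁻¹ᵁ ⟨P, hPo⟩).ι)
        (by rintro _ ⟨x, rfl⟩; exact (π ⁻¹ᵁ W t.1 t.2).range_ι.ge x.2),
      Category.assoc, Category.assoc, hWe t.1 t.2]

variable {S : Scheme.{u}}

/-- A group scheme with connected fibres has geometrically connected fibres. -/
theorem geometricallyConnected_of_connected_fibres (A : Over S) [GrpObj A]
    (hA : ∀ s : S, ConnectedSpace ↥(A.hom.fiber s)) : GeometricallyConnected A.hom := by
  rw [GeometricallyConnected.iff_geometricallyConnected_fiber]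
  intro s
  haveI := hA s
  exact H28NT.geometricallyConnected_of_section (A.hom.fiberToSpecResidueField s)
    (pullback.lift (S.fromSpecResidueField s ≫ η[A].left) (𝟙 _) (by
      rw [Category.assoc, show η[A].left ≫ A.hom = 𝟙 S from Over.w η[A], Category.comp_id, Category.id_comp]))
    (pullback.lift_snd _ _ _)

/-- An abelian scheme, given by connected fibres, has geometrically integral fibres. -/
theorem geometricallyIntegral_of_connected_fibres (A : Over S) [GrpObj A] [Smooth A.hom] [IsProper A.hom]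
    (hA : ∀ s : S, ConnectedSpace ↥(A.hom.fiber s)) : GeometricallyIntegral A.hom := by
  haveI := geometricallyConnected_of_connected_fibres A hA
  haveI := geometricallyReduced_of_smooth_hom A.hom
  exact geometricallyIntegral_of_abScheme A

/-- A map on a product, trivial on both axes, is trivial. -/
theorem eq_one_of_axes {X B Y : Over S} [IsProper X.hom] [Flat X.hom] [LocallyOfFinitePresentation X.hom]
    [GeometricallyIntegral X.hom] [GrpObj Y] [IsSeparated Y.hom] (x₀ : 𝟙_ (Over S) ⟶ X) (b₀ : 𝟙_ (Over S) ⟶ B)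
    (hB : ∀ s : S, ConnectedSpace ↥(B.hom.fiber s)) (h : X ⊗ B ⟶ Y)
    (h₁ : lift (toUnit B ≫ x₀) (𝟙 B) ≫ h = 1) (h₂ : lift (𝟙 X) (toUnit X ≫ b₀) ≫ h = 1) : h = 1 := by
  let π : (X ⊗ B).left ⟶ B.left := (snd X B).left
  let e : B.left ⟶ (X ⊗ B).left := (lift (toUnit B ≫ x₀) (𝟙 B)).left
  haveI : IsProper π := MorphismProperty.pullback_snd X.hom B.hom inferInstance
  haveI : Flat π := MorphismProperty.pullback_snd X.hom B.hom inferInstance
  haveI : LocallyOfFinitePresentation π := MorphismProperty.pullback_snd X.hom B.hom inferInstance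
  haveI : GeometricallyIntegral π := MorphismProperty.pullback_snd X.hom B.hom inferInstance
  have he : e ≫ π = 𝟙 _ := by
    rw [← Over.comp_left, lift_snd]; rfl
  have heh : e ≫ h.left = B.hom ≫ η[Y].left := by
    rw [← Over.comp_left, h₁]; rfl
  have hπe : π ≫ e ≫ h.left = (X ⊗ B).hom ≫ η[Y].left := by
    rw [heh, ← Category.assoc, Over.w (snd X B)]
  obtain ⟨W, hWc, hWP, hW⟩ := exists_clopen_contracted π e he Y.hom h.left (by
    rw [Over.w h, hπe, Category.assoc, show η[Y].left ≫ Y.hom = 𝟙 S from Over.w η[Y], Category.comp_id])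
  have hb : ∀ s : S, b₀.left s ∈ W := by
    intro s
    show b₀.left s ∈ (W : Set B.left)
    rw [hWP]
    intro z hz
    have hr : z ∈ Set.range (𝟙 X ⊗ₘ b₀).left := by
      rw [Over.tensorHom_left]
      erw [Scheme.Pullback.range_map]
      exact ⟨⟨_, rfl⟩, ⟨s, hz.symm⟩⟩
    obtain ⟨y, hy⟩ := hr
    have hm : (𝟙 X ⊗ₘ b₀) ≫ h = 1 := by
      have : (𝟙 X ⊗ₘ b₀) = fst X (𝟙_ _) ≫ lift (𝟙 X) (toUnit X ≫ b₀) := by
        apply CartesianMonoidalCategory.hom_ext
        · rw [tensorHom_fst, Category.assoc, lift_fst]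
        · rw [tensorHom_snd, Category.assoc, lift_snd, ← Category.assoc,
            toUnit_unique (fst X (𝟙_ _) ≫ toUnit X) (snd X (𝟙_ _))]
      rw [this, Category.assoc, h₂, MonObj.comp_one]
    rw [← hy, ← Scheme.Hom.comp_apply, ← Over.comp_left, hm]
    show η[Y].left ((X ⊗ 𝟙_ (Over S)).hom y) = (e ≫ h.left) (b₀.left s)
    rw [heh, Scheme.Hom.comp_apply]
    refine congrArg η[Y].left ?_
    rw [← hz, ← hy, ← Scheme.Hom.comp_apply π, Over.w (snd X B), ← Scheme.Hom.comp_apply, Over.w]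
  have htop : W = ⊤ := by
    refine top_le_iff.1 fun b _ => ?_
    let s := B.hom b
    haveI := hB s
    have hfib : _root_.IsPreconnected (B.hom ⁻¹' {s}) := by
      rw [← Scheme.Hom.range_fiberι]
      exact isPreconnected_range (B.hom.fiberι s).continuous
    exact hfib.subset_isClopen ⟨hWc, W.2⟩ ⟨b₀.left s, by
      show B.hom (b₀.left s) = s
      rw [← Scheme.Hom.comp_apply, Over.w b₀]; rfl, hb s⟩ rfl
  subst htop
  apply Over.OverMorphism.ext
  have : h.left = π ≫ e ≫ h.left := by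
    haveI : IsIso (π ⁻¹ᵁ ⊤).ι := by
      show IsIso (⊤ : (X ⊗ B).left.Opens).ι
      rw [← Scheme.topIso_hom]
      infer_instance
    exact (cancel_epi (π ⁻¹ᵁ ⊤).ι).mp hW
  rw [this, hπe]
  rfl

end Groth.Agent.H19Grp
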