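import Mathlib
import Groth.Prelude.Def_ChGrp
import Groth.Prelude.Def_NonAbH2
import Groth.Agent.H19Grp.QuotientDesc

/-! Pointwise fppf covers: equality of morphisms may be checked after a cover. -/

set_option autoImplicit false
set_option linter.style.haveILetI false
set_option backward.isDefEq.respectTransparency false

universe u

open CategoryTheory CategoryTheory.Limits MonoidalCategory CartesianMonoidalCategory MonObj AlgebraicGeometry

namespace Groth.Agent.H19Grp

theorem eq_of_fppf_points {T Z : Scheme.{u}} (u v : T ⟶ Z)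
    (h : ∀ t : T, ∃ (W : Scheme.{u}) (π : W ⟶ T), Flat π ∧ LocallyOfFinitePresentation π ∧
      t ∈ Set.range π ∧ π ≫ u = π ≫ v) : u = v := by
  choose W π hfl hlfp ht he using h
  refine Scheme.Cover.hom_ext (Scheme.openCoverOfIsOpenCover T
    (fun t => (⟨Set.range (π t), by
      haveI := hfl t; haveI := hlfp t
      exact (π t).isOpenMap.isOpen_range⟩ : T.Opens))
    (TopologicalSpace.IsOpenCover.mk (eq_top_iff.2 fun t _ =>
      TopologicalSpace.Opens.mem_iSup.2 ⟨t, ht t⟩))) _ _ fun t => ?_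
  haveI := hfl t; haveI := hlfp t
  let U : T.Opens := ⟨Set.range (π t), (π t).isOpenMap.isOpen_range⟩
  let q : W t ⟶ U.toScheme := IsOpenImmersion.lift U.ι (π t) (by
    rw [Scheme.Opens.range_ι]; exact subset_rfl)
  have hq : q ≫ U.ι = π t := IsOpenImmersion.lift_fac _ _ _
  haveI : Surjective q := ⟨fun x => by
    obtain ⟨w, hw⟩ := x.2
    refine ⟨w, U.ι.isOpenEmbedding.injective ?_⟩
    rw [← Scheme.Hom.comp_apply, hq]
    exact hw⟩
  haveI : Flat q := by
    have e : q = pullback.lift (𝟙 _) q (by rw [Category.id_comp, hq]) ≫ pullback.snd (π t) U.ι :=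
      (pullback.lift_snd _ _ _).symm
    haveI : IsIso (pullback.lift (𝟙 _) q (by rw [Category.id_comp, hq]) : W t ⟶ pullback (π t) U.ι) :=
      ⟨pullback.fst _ _, pullback.lift_fst _ _ _, pullback.hom_ext (by simp) (by
        rw [← cancel_mono U.ι]; simp [hq, pullback.condition])⟩
    rw [e]; infer_instance
  haveI := Flat.epi_of_flat_of_surjective q
  show U.ι ≫ u = U.ι ≫ v
  rw [← cancel_epi q, ← Category.assoc, hq, he t, ← hq, Category.assoc]

/-- Equality of morphisms over a base, checked after covers. -/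
theorem over_eq_of_fppf_points {S : Scheme.{u}} {T Z : Over S} (u v : T ⟶ Z)
    (h : ∀ t : T.left, ∃ (T' : Over S) (π : T' ⟶ T), Flat π.left ∧ LocallyOfFinitePresentation π.left ∧
      t ∈ Set.range π.left ∧ π ≫ u = π ≫ v) : u = v := by
  refine Over.OverMorphism.ext (eq_of_fppf_points _ _ fun t => ?_)
  obtain ⟨T', π, h₁, h₂, h₃, h₄⟩ := h t
  exact ⟨T'.left, π.left, h₁, h₂, h₃, congrArg CommaMorphism.left h₄⟩

/-- Points of an fppf homogeneous space lift to the group locally. -/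
theorem exists_lift_isHomog {S : Scheme.{u}} {G H Q : Over S} [GrpObj G] [GrpObj H] (i : H ⟶ G)
    (aQ : AlgGrp.Action G Q) (q₀ : 𝟙_ (Over S) ⟶ Q)
    (hQ : ChGrp.IsHomog Scheme.fppfPrecoverage i aQ q₀) {T : Over S} (x : T ⟶ Q) (t : T.left) :
    ∃ (T' : Over S) (π : T' ⟶ T) (g : T' ⟶ G), Flat π.left ∧ LocallyOfFinitePresentation π.left ∧
      t ∈ Set.range π.left ∧ g ≫ aQ.orbitMap q₀ = π ≫ x := by
  obtain ⟨R, hR, hs⟩ := hQ.2.2
  obtain ⟨𝒰, rfl⟩ := Precoverage.mem_iff_exists_zeroHypercover.1 hR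
  obtain ⟨hcov, hP⟩ := (Scheme.presieve₀_mem_precoverage_iff _).1 𝒰.mem₀
  obtain ⟨j, w, hw⟩ := hcov (x.left t)
  obtain ⟨s, hs'⟩ := hs (𝒰.f j) (Presieve.ofArrows.mk j)
  have hs'' : s ≫ (aQ.orbitMap q₀).left = 𝒰.f j := hs'
  haveI : Flat (𝒰.f j) := (hP j).1
  haveI : LocallyOfFinitePresentation (𝒰.f j) := (hP j).2
  refine ⟨Over.mk (pullback.fst x.left (𝒰.f j) ≫ T.hom), Over.homMk (pullback.fst x.left (𝒰.f j)) rfl,
    Over.homMk (pullback.snd x.left (𝒰.f j) ≫ s) ?_, inferInstanceAs (Flat (pullback.fst x.left (𝒰.f j))),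
    inferInstanceAs (LocallyOfFinitePresentation (pullback.fst x.left (𝒰.f j))), ?_, ?_⟩
  · show (pullback.snd x.left (𝒰.f j) ≫ s) ≫ G.hom = pullback.fst x.left (𝒰.f j) ≫ T.hom
    rw [← Over.w (aQ.orbitMap q₀), Category.assoc, reassoc_of% hs'', ← Over.w x, pullback.condition_assoc]
  · obtain ⟨z, hz, -⟩ := Scheme.Pullback.exists_preimage_pullback (f := x.left) (g := 𝒰.f j) t w hw.symm
    exact ⟨z, hz⟩
  · ext1
    show (pullback.snd x.left (𝒰.f j) ≫ s) ≫ (aQ.orbitMap q₀).left = pullback.fst x.left (𝒰.f j) ≫ x.left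
    rw [Category.assoc, hs'', pullback.condition]

end Groth.Agent.H19Grp
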