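import Mathlib
import Groth.Prelude.Def_AlgGrp
import Groth.Agent.H19Grp.FppfPoints

/-! The kernel of the action on a homogeneous space. -/

set_option autoImplicit false
set_option linter.style.haveILetI false
set_option backward.isDefEq.respectTransparency false

universe u

open CategoryTheory CategoryTheory.Limits MonoidalCategory CartesianMonoidalCategory MonObj AlgebraicGeometry

namespace Groth.Agent.H19Grp.ActionKernel

open QuotientDesc

variable {S : Scheme.{u}} {G H X T N : Over S} [GrpObj G]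

theorem orbit_eq_iff (a : AlgGrp.Action G X) (o : 𝟙_ (Over S) ⟶ X) (i : H ⟶ G)
    (hpb : IsPullback (fst G H) ((G ◁ i) ≫ μ[G]) (a.orbitMap o) (a.orbitMap o)) (g g' : T ⟶ G) :
    g ≫ a.orbitMap o = g' ≫ a.orbitMap o ↔ ∃ h : T ⟶ H, g' = g * (h ≫ i) := by
  have hμ : (G ◁ i) ≫ μ[G] = fst G H * (snd G H ≫ i) := by
    rw [Hom.mul_def]; congr 1
  rw [hμ] at hpb
  constructor
  · intro e
    refine ⟨hpb.lift g g' e ≫ snd G H, ?_⟩
    have h₁ := hpb.lift_fst g g' e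
    have h₂ := hpb.lift_snd g g' e
    rw [MonObj.comp_mul, h₁] at h₂
    rw [Category.assoc]
    exact h₂.symm
  · rintro ⟨h, rfl⟩
    have := congrArg (lift g h ≫ ·) hpb.w
    simpa [MonObj.comp_mul, ← Category.assoc, lift_fst, lift_snd] using this

/-- The kernel of an action is normal. -/
theorem isNormal_kernel [GrpObj N] (a : AlgGrp.Action G X) (n : N ⟶ G)
    (hN : ∀ (T : Over S) (g : T ⟶ G), (∃ m : T ⟶ N, m ≫ n = g) ↔
      ∀ (T' : Over S) (s : T' ⟶ T) (x : T' ⟶ X), lift (s ≫ g) x ≫ a.act = x) :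
    AlgGrp.IsNormalHom n := by
  intro T g m
  obtain ⟨m', hm'⟩ := (hN T (g * (m ≫ n) * g⁻¹)).2 fun T' s x => by
    have hm := (hN T (m ≫ n)).1 ⟨m, rfl⟩ T' s (lift ((s ≫ g)⁻¹) x ≫ a.act)
    rw [MonObj.comp_mul, MonObj.comp_mul, GrpObj.comp_inv, QuotientDesc.mul_act, QuotientDesc.mul_act,
      hm, ← QuotientDesc.mul_act, mul_inv_cancel, QuotientDesc.one_act]
  exact ⟨m', hm'.symm⟩

/-- The kernel of the action on a homogeneous space lies in the stabiliser. -/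
theorem kernel_le (a : AlgGrp.Action G X) (o : 𝟙_ (Over S) ⟶ X) (i : H ⟶ G)
    (hpb : IsPullback (fst G H) ((G ◁ i) ≫ μ[G]) (a.orbitMap o) (a.orbitMap o)) (n : N ⟶ G)
    (hN : ∀ (T : Over S) (g : T ⟶ G), (∃ m : T ⟶ N, m ≫ n = g) ↔
      ∀ (T' : Over S) (s : T' ⟶ T) (x : T' ⟶ X), lift (s ≫ g) x ≫ a.act = x) :
    ∃ f : N ⟶ H, f ≫ i = n := by
  have h : (1 : N ⟶ G) ≫ a.orbitMap o = n ≫ a.orbitMap o := by
    rw [one_comp_orbitMap, QuotientDesc.comp_orbitMap]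
    have := (hN N n).1 ⟨𝟙 N, Category.id_comp n⟩ N (𝟙 N) (toUnit N ≫ o)
    rw [Category.id_comp] at this
    exact this.symm
  obtain ⟨f, hf⟩ := (orbit_eq_iff a o i hpb _ _).1 h
  exact ⟨f, by rw [hf, _root_.one_mul]⟩

/-- A normal subgroup inside the stabiliser fixes every point of the orbit. -/
theorem act_eq_of_normal_le [GrpObj N] (a : AlgGrp.Action G X) (o : 𝟙_ (Over S) ⟶ X) (i : H ⟶ G)
    (hpb : IsPullback (fst G H) ((G ◁ i) ≫ μ[G]) (a.orbitMap o) (a.orbitMap o)) (n : N ⟶ G)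
    (hn : AlgGrp.IsNormalHom n) (f : N ⟶ H) (hf : f ≫ i = n) (p : T ⟶ N) (g : T ⟶ G) :
    lift (p ≫ n) (g ≫ a.orbitMap o) ≫ a.act = g ≫ a.orbitMap o := by
  obtain ⟨p', hp'⟩ := hn T g⁻¹ p
  rw [_root_.inv_inv] at hp'
  rw [← mul_comp_orbitMap]
  refine ((orbit_eq_iff a o i hpb _ _).2 ⟨p' ≫ f, ?_⟩).symm
  rw [Category.assoc, hf, ← hp', ← _root_.mul_assoc, ← _root_.mul_assoc, mul_inv_cancel, _root_.one_mul]

end Groth.Agent.H19Grp.ActionKernel
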