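import Groth.Prelude.Def_VecGrp
import Mathlib.AlgebraicGeometry.AffineScheme
import Mathlib.RingTheory.TensorProduct.Basic

/-!
# Points of affine schemes over a field with values in algebras, and coefficients of vectors
-/

set_option autoImplicit false
set_option maxHeartbeats 1000000
set_option synthInstance.maxHeartbeats 100000

universe u

open CategoryTheory MonoidalCategory CartesianMonoidalCategory AlgebraicGeometry
open scoped TensorProduct

namespace Groth.Agent.H19Grp

noncomputable section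

variable {k : Type u} [Field k]

/-- The structure map on global functions. -/
def cstTop (X : Over (Spec (CommRingCat.of k))) : k →+* Γ(X.left, ⊤) :=
  ((Scheme.ΓSpecIso (CommRingCat.of k)).inv ≫ X.hom.appTop).hom

/-- The algebra of global functions. -/
@[reducible] def algTop (X : Over (Spec (CommRingCat.of k))) : Algebra k Γ(X.left, ⊤) :=
  (cstTop X).toAlgebra

attribute [local instance] algTop

/-- The canonical point of an affine scheme with values in its functions. -/
def upt (X : Over (Spec (CommRingCat.of k))) [IsAffine X.left] :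
    VecGrp.pt k Γ(X.left, ⊤) ⟶ X :=
  Over.homMk X.left.isoSpec.inv (by
    rw [Iso.inv_comp_eq]
    change X.hom = X.left.isoSpec.hom ≫ Spec.map (CommRingCat.ofHom (cstTop X))
    rw [Scheme.isoSpec_hom, show CommRingCat.ofHom (cstTop X) =
      (Scheme.ΓSpecIso (CommRingCat.of k)).inv ≫ X.hom.appTop from rfl, Spec.map_comp,
      ← Scheme.toSpecΓ_naturality_assoc, toSpecΓ_SpecMap_ΓSpecIso_inv, Category.comp_id])

/-- The algebra map of a point. -/
def ptHom {X : Over (Spec (CommRingCat.of k))} {B : Type u} [CommRing B] [Algebra k B]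
    (g : VecGrp.pt k B ⟶ X) : Γ(X.left, ⊤) →ₐ[k] B :=
  { ((g.left.appTop ≫ (Scheme.ΓSpecIso (CommRingCat.of B)).hom).hom) with
    commutes' := fun c => by
      have h1 : g.left ≫ X.hom = Spec.map (CommRingCat.ofHom (algebraMap k B)) := Over.w g
      have h2 : ((Scheme.ΓSpecIso (CommRingCat.of k)).inv ≫ X.hom.appTop) ≫ g.left.appTop ≫
          (Scheme.ΓSpecIso (CommRingCat.of B)).hom = CommRingCat.ofHom (algebraMap k B) := by
        rw [Category.assoc, ← Scheme.Hom.comp_appTop_assoc, h1]
        exact (Scheme.ΓSpecIso_inv_naturality_assoc (CommRingCat.ofHom (algebraMap k B))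
          (Scheme.ΓSpecIso (CommRingCat.of B)).hom).symm.trans (by rw [Iso.inv_hom_id, Category.comp_id])
      exact congr($(h2).hom c) }

lemma ptHom_apply {X : Over (Spec (CommRingCat.of k))} {B : Type u} [CommRing B] [Algebra k B]
    (g : VecGrp.pt k B ⟶ X) (f : Γ(X.left, ⊤)) :
    ptHom g f = (Scheme.ΓSpecIso (CommRingCat.of B)).hom (g.left.appTop f) := rfl

lemma ptMap_ptHom {X : Over (Spec (CommRingCat.of k))} [IsAffine X.left] {B : Type u} [CommRing B] [Algebra k B]
    (g : VecGrp.pt k B ⟶ X) : VecGrp.ptMap (ptHom g) ≫ upt X = g := by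
  apply Over.OverMorphism.ext
  change Spec.map (g.left.appTop ≫ (Scheme.ΓSpecIso (CommRingCat.of B)).hom) ≫ X.left.isoSpec.inv = g.left
  rw [Iso.comp_inv_eq, Scheme.isoSpec_hom, Scheme.toSpecΓ_naturality, Spec.map_comp,
    SpecMap_ΓSpecIso_hom]

/-- The coefficient of an element of `B ⊗ M` along a linear form. -/
def coef {M : Type u} [AddCommGroup M] [Module k M] (B : Type u) [CommRing B] [Algebra k B]
    (ℓ : M →ₗ[k] k) : VecGrp.W k M B →ₗ[k] B :=
  (TensorProduct.rid k B).toLinearMap.comp (ℓ.lTensor B)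

@[simp] lemma coef_tmul {M : Type u} [AddCommGroup M] [Module k M] (B : Type u) [CommRing B] [Algebra k B]
    (ℓ : M →ₗ[k] k) (b : B) (m : M) : coef B ℓ (b ⊗ₜ m) = ℓ m • b := by
  simp [coef]

lemma coef_Wmap {M : Type u} [AddCommGroup M] [Module k M] {B B' : Type u} [CommRing B] [Algebra k B]
    [CommRing B'] [Algebra k B'] (φ : B →ₐ[k] B') (ℓ : M →ₗ[k] k) (x : VecGrp.W k M B) :
    coef B' ℓ (VecGrp.Wmap φ x) = φ (coef B ℓ x) := by
  induction x using TensorProduct.induction_on with
  | zero => simp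
  | tmul b m => simp
  | add x y hx hy => simp only [map_add, hx, hy]

/-- The matrix coefficient of a vector along a linear form, read at a point. -/
lemma coef_gmod_eq_ptHom {G : Over (Spec (CommRingCat.of k))} [GrpObj G] [IsAffine G.left]
    {M : Type u} [AddCommGroup M] [Module k M] (ρ : VecGrp.GMod G M) (a : M) (ℓ : M →ₗ[k] k)
    {B : Type u} [CommRing B] [Algebra k B] (g : VecGrp.pt k B ⟶ G) :
    coef B ℓ (ρ.ρ B g ((1 : B) ⊗ₜ[k] a)) =
      ptHom g (coef Γ(G.left, ⊤) ℓ (ρ.ρ Γ(G.left, ⊤) (upt G) ((1 : Γ(G.left, ⊤)) ⊗ₜ[k] a))) := by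
  rw [← coef_Wmap, ρ.naturality, ptMap_ptHom, VecGrp.Wmap_tmul, map_one]

end

end Groth.Agent.H19Grp
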