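import Mathlib
import Groth.Agent.H24FSch.Descend
import Groth.Agent.H24FSch.Sub
import Groth.Agent.H19Grp.ArtinHom

/-! Properties of schemes over an Artinian local ring detected on the closed fibre. -/

set_option autoImplicit false
set_option linter.style.haveILetI false
set_option backward.isDefEq.respectTransparency false

universe u

open CategoryTheory CategoryTheory.Limits AlgebraicGeometry TopologicalSpace

namespace Groth.Agent.H19Grp.ArtinThickening

variable {A : Type u} [CommRing A] [IsArtinianRing A] [IsLocalRing A]

local notation "res" => Spec.map (CommRingCat.ofHom (IsLocalRing.residue A))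

theorem isClosedImmersion_res : IsClosedImmersion res :=
  IsClosedImmersion.spec_of_surjective _ IsLocalRing.residue_surjective

theorem surjective_fst (Y : Over (Spec (CommRingCat.of A))) : Surjective (pullback.fst Y.hom res) := by
  haveI := ArtinHom.surjective_residue (A := A)
  infer_instance

theorem isClosedImmersion_fst (Y : Over (Spec (CommRingCat.of A))) :
    IsClosedImmersion (pullback.fst Y.hom res) := by
  haveI := isClosedImmersion_res (A := A)
  infer_instance

/-- The ideal of the closed fibre is of finite type. -/
theorem idealFT_ker_fst (Y : Over (Spec (CommRingCat.of A))) :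
    FSch.IdealFT (pullback.fst Y.hom res).ker := by
  haveI := isClosedImmersion_res (A := A)
  intro V
  rw [Scheme.IdealSheafData.ker_fst_of_isClosedImmersion]
  rw [H29Blow.ideal_comap (Scheme.Hom.ker res) Y.hom ⟨⊤, isAffineOpen_top _⟩ V (fun _ _ => trivial)]
  exact Ideal.FG.map (H24FSch.idealFT_of_isLocallyNoetherian _ _) _

theorem isClosedImmersion_of_closedFibre {X Y : Over (Spec (CommRingCat.of A))} (u : X ⟶ Y)
    (h : IsClosedImmersion ((Over.pullback res).map u).left) : IsClosedImmersion u.left := by
  haveI := surjective_fst Y
  haveI := isClosedImmersion_fst Y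
  exact H24FSch.isClosedImmersion_of_thickening (idealFT_ker_fst Y) (ArtinHom.isPullback_residue u)

theorem locallyOfFiniteType_of_closedFibre (X : Over (Spec (CommRingCat.of A)))
    (h : LocallyOfFiniteType (pullback.snd X.hom res)) : LocallyOfFiniteType X.hom := by
  haveI := ArtinHom.surjective_residue (A := A)
  haveI := isClosedImmersion_res (A := A)
  exact H24FSch.locallyOfFiniteType_of_thickening (IsPullback.of_hasPullback X.hom res)

theorem range_eq_image {X Y : Over (Spec (CommRingCat.of A))} (u : X ⟶ Y) :
    Set.range u.left = pullback.fst Y.hom res '' Set.range ((Over.pullback res).map u).left := by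
  haveI := surjective_fst X
  have e : (pullback.fst Y.hom res : _ → _) ∘ ((Over.pullback res).map u).left =
      (u.left : _ → _) ∘ pullback.fst X.hom res := funext fun x => by
    show pullback.fst Y.hom res (((Over.pullback res).map u).left x) = u.left (pullback.fst X.hom res x)
    rw [← Scheme.Hom.comp_apply (pullback.fst X.hom res), (ArtinHom.isPullback_residue u).w,
      Scheme.Hom.comp_apply]
    rfl
  rw [← Set.range_comp, e, (pullback.fst X.hom res).surjective.range_comp]

theorem isImmersion_of_closedFibre {X Y : Over (Spec (CommRingCat.of A))} (u : X ⟶ Y)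
    (h : IsImmersion ((Over.pullback res).map u).left) : IsImmersion u.left := by
  haveI := surjective_fst Y
  haveI := isClosedImmersion_fst Y
  set f₀ := ((Over.pullback res).map u).left
  -- an open in which the range is closed
  obtain ⟨U₀, hU₀, hr⟩ : ∃ U : Set Y.left, IsOpen U ∧ Set.range u.left = U ∩ closure (Set.range u.left) := by
    have hlc : IsLocallyClosed (Set.range u.left) := by
      rw [range_eq_image]
      exact f₀.isLocallyClosed_range.image (pullback.fst Y.hom res).isClosedEmbedding.isInducing
        (pullback.fst Y.hom res).isClosedEmbedding.isClosed_range.isLocallyClosed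
    exact ⟨_, hlc.isOpen_coborder, (coborder_inter_closure).symm⟩
  let U : Y.left.Opens := ⟨U₀, hU₀⟩
  have hsub : Set.range u.left ⊆ (U : Set Y.left) := fun y hy => by rw [hr] at hy; exact hy.1
  let Y' : Over (Spec (CommRingCat.of A)) := Over.mk (U.ι ≫ Y.hom)
  let j : Y' ⟶ Y := Over.homMk U.ι rfl
  let l := IsOpenImmersion.lift U.ι u.left (by rw [Scheme.Opens.range_ι]; exact hsub)
  have hl : l ≫ U.ι = u.left := IsOpenImmersion.lift_fac _ _ _
  let u' : X ⟶ Y' := Over.homMk l (by
    show l ≫ U.ι ≫ Y.hom = X.hom
    rw [← Category.assoc, hl, Over.w u])
  have huj : u' ≫ j = u := Over.OverMorphism.ext hl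
  haveI : IsClosedImmersion u'.left := by
    refine isClosedImmersion_of_closedFibre u' ?_
    haveI : IsImmersion (((Over.pullback res).map u').left ≫ ((Over.pullback res).map j).left) := by
      rw [← Over.comp_left, ← Functor.map_comp, huj]; exact h
    haveI : IsImmersion ((Over.pullback res).map u').left :=
      IsImmersion.of_comp _ ((Over.pullback res).map j).left
    refine IsClosedImmersion.iff_isPreimmersion.mpr ⟨inferInstance, ?_⟩
    haveI := isClosedImmersion_fst Y'
    rw [(pullback.fst Y'.hom res).isClosedEmbedding.isClosed_iff_image_isClosed]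
    · rw [← range_eq_image]
      show IsClosed (Set.range l)
      have : Set.range l = U.ι ⁻¹' closure (Set.range u.left) := by
        ext y
        constructor
        · rintro ⟨x, rfl⟩
          exact subset_closure ⟨x, by rw [← hl, Scheme.Hom.comp_apply]⟩
        · intro hy
          have hy' : U.ι y ∈ Set.range u.left := by rw [hr]; exact ⟨y.2, hy⟩
          obtain ⟨x, hx⟩ := hy'
          refine ⟨x, U.ι.isOpenEmbedding.injective ?_⟩
          rw [← Scheme.Hom.comp_apply, hl, hx]
      rw [this]
      exact isClosed_closure.preimage U.ι.continuous
  rw [← huj, Over.comp_left]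
  haveI : IsImmersion j.left := inferInstanceAs (IsImmersion U.ι)
  infer_instance

end Groth.Agent.H19Grp.ArtinThickening
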