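import Groth.Agent.H14Quot.InducedQuot
import Groth.Prelude.Def_ChGrp
import Mathlib.AlgebraicGeometry.Sites.Fpqc

/-!
# Balanced products: points, and descent of invariant morphisms
-/

set_option autoImplicit false
set_option backward.isDefEq.respectTransparency false

universe u

open CategoryTheory MonoidalCategory CartesianMonoidalCategory MonObj GrpObj AlgebraicGeometry Opposite
open Groth.Agent.H14Stk (Locally)

noncomputable section

namespace Groth.Agent.H19Grp.BalProd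

variable {S : Scheme.{u}}

local notation "Jf" => QuotSh.J Scheme.fppfPrecoverage S

instance subcanonical_J : (QuotSh.J Scheme.fppfPrecoverage S).Subcanonical :=
  inferInstanceAs ((Scheme.fppfTopology.over S).Subcanonical)

theorem isSheafFor_hom {T : Over S} {R : Sieve T} (hR : R ∈ Jf T) (W : Over S) :
    Presieve.IsSheafFor (yoneda.obj W) R.arrows :=
  GrothendieckTopology.Subcanonical.isSheaf_of_isRepresentable (J := QuotSh.J Scheme.fppfPrecoverage S) (yoneda.obj W) R hR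

/-- morphisms equal locally are equal -/
theorem hom_ext_local {T W : Over S} {a b : T ⟶ W} (h : Locally Jf T (fun _ f => f ≫ a = f ≫ b)) : a = b := by
  obtain ⟨R, hR, h⟩ := h
  exact (isSheafFor_hom hR W).isSeparatedFor.ext (t₁ := a) (t₂ := b) fun _ f hf => h f hf

/-- a morphism is determined after a locally trivial morphism -/
theorem epi_of_loc {P B W : Over S} (j : P ⟶ B)
    (hj : NonAbH1.IsLocallyTrivialFor Scheme.fppfPrecoverage (Over.mk j.left : Over B.left))
    {a b : B ⟶ W} (h : j ≫ a = j ≫ b) : a = b :=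
  hom_ext_local ((H14Quot.locally_section j hj (𝟙 B)).mono fun V f ⟨s, hs⟩ => by
    rw [Category.comp_id] at hs
    rw [← hs, Category.assoc, Category.assoc, h])

/-- descent along a locally trivial morphism -/
theorem exists_desc_loc {P B W : Over S} (j : P ⟶ B)
    (hj : NonAbH1.IsLocallyTrivialFor Scheme.fppfPrecoverage (Over.mk j.left : Over B.left))
    (ψ : P ⟶ W) (hψ : ∀ {T : Over S} (p p' : T ⟶ P), p ≫ j = p' ≫ j → p ≫ ψ = p' ≫ ψ) :
    ∃ χ : B ⟶ W, j ≫ χ = ψ := by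
  obtain ⟨R, hR, hs⟩ := H14Quot.locally_section j hj (𝟙 B)
  choose s hs using hs
  let x : Presieve.FamilyOfElements (yoneda.obj W) R.arrows := fun V f hf => s f hf ≫ ψ
  have hx : x.Compatible := by
    intro V₁ V₂ V g₁ g₂ f₁ f₂ h₁ h₂ he
    change g₁ ≫ s f₁ h₁ ≫ ψ = g₂ ≫ s f₂ h₂ ≫ ψ
    rw [← Category.assoc, ← Category.assoc]
    refine hψ _ _ ?_
    rw [Category.assoc, Category.assoc, hs f₁ h₁, hs f₂ h₂, Category.comp_id, Category.comp_id, he]
  let χ : B ⟶ W := (isSheafFor_hom hR W).amalgamate x hx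
  refine ⟨χ, hom_ext_local ⟨R.pullback j, (QuotSh.J Scheme.fppfPrecoverage S).pullback_stable j hR, fun V f hf => ?_⟩⟩
  have hχ : (f ≫ j) ≫ χ = x (f ≫ j) hf := (isSheafFor_hom hR W).valid_glue hx (f ≫ j) hf
  show f ≫ j ≫ χ = f ≫ ψ
  rw [← Category.assoc, hχ]
  refine hψ _ _ ?_
  rw [hs _ hf, Category.comp_id]

variable {G H Z Y : Over S} [GrpObj G] [GrpObj H] {i : H ⟶ G} [IsMonHom i]
  {aZ : AlgGrp.Action H Z} {aY : AlgGrp.Action G Y} {j : G ⊗ Z ⟶ Y}
  (hY : ChGrp.IsBalProd Scheme.fppfPrecoverage i aZ aY j)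

include hY

/-- translation on the group factor -/
theorem act_j {T : Over S} (g g' : T ⟶ G) (z : T ⟶ Z) :
    lift g (lift g' z ≫ j) ≫ aY.act = lift (g * g') z ≫ j := by
  have h := congrArg (lift g (lift g' z) ≫ ·) hY.1
  simp only [lift_whiskerLeft_assoc] at h
  rw [← h, ← Category.assoc, AlgGrp.Action.lift_prod_act, AlgGrp.Action.lift_trivial_act]
  rfl

/-- points of the group act through translation -/
theorem act_j_one {T : Over S} (g : T ⟶ G) (z : T ⟶ Z) :
    lift g (lift 1 z ≫ j) ≫ aY.act = lift g z ≫ j := by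
  rw [act_j hY, _root_.mul_one]

/-- invariance under the twisted action -/
theorem twist_j {T : Over S} (h : T ⟶ H) (g : T ⟶ G) (z : T ⟶ Z) :
    lift (g * (h ≫ i)⁻¹) (lift h z ≫ aZ.act) ≫ j = lift g z ≫ j := by
  have h1 := congrArg (lift h (lift g z) ≫ ·) hY.2.1.w
  simp only [lift_snd_assoc] at h1
  rw [← ChGrp.lift_twist_act_assoc] at *
  exact h1

/-- points with the same image differ by the subgroup -/
theorem exists_of_j_eq {T : Over S} (g g' : T ⟶ G) (z z' : T ⟶ Z) (e : lift g' z' ≫ j = lift g z ≫ j) :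
    ∃ h : T ⟶ H, g' = g * (h ≫ i)⁻¹ ∧ z' = lift h z ≫ aZ.act := by
  let l := hY.2.1.lift (lift g' z') (lift g z) e
  have hl₁ : l ≫ (ChGrp.twist i aZ).act = lift g' z' := hY.2.1.lift_fst _ _ e
  have hl₂ : l ≫ snd H (G ⊗ Z) = lift g z := hY.2.1.lift_snd _ _ e
  have hl : l = lift (l ≫ fst H (G ⊗ Z)) (lift g z) := by
    rw [← hl₂, ← comp_lift, lift_fst_snd, Category.comp_id]
  rw [hl, ChGrp.lift_twist_act] at hl₁
  refine ⟨l ≫ fst H (G ⊗ Z), ?_, ?_⟩
  · have := congrArg (· ≫ fst G Z) hl₁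
    simpa only [lift_fst] using this.symm
  · have := congrArg (· ≫ snd G Z) hl₁
    simpa only [lift_snd] using this.symm

/-- local surjectivity -/
theorem locally_eq {T : Over S} (y : T ⟶ Y) :
    Locally Jf T (fun V f => ∃ (g : V ⟶ G) (z : V ⟶ Z), lift g z ≫ j = f ≫ y) :=
  (H14Quot.locally_section j hY.2.2 y).mono fun V f ⟨s, hs⟩ =>
    ⟨s ≫ fst G Z, s ≫ snd G Z, by rw [← comp_lift, lift_fst_snd, Category.comp_id, hs]⟩

/-- morphisms out of a balanced product -/
theorem hom_ext {W : Over S} {a b : Y ⟶ W} (h : j ≫ a = j ≫ b) : a = b := epi_of_loc j hY.2.2 h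

/-- descent of invariant morphisms -/
theorem exists_desc {W : Over S} (ψ : G ⊗ Z ⟶ W)
    (hψ : ∀ {T : Over S} (h : T ⟶ H) (g : T ⟶ G) (z : T ⟶ Z),
      lift (g * (h ≫ i)⁻¹) (lift h z ≫ aZ.act) ≫ ψ = lift g z ≫ ψ) :
    ∃ χ : Y ⟶ W, j ≫ χ = ψ := by
  refine exists_desc_loc j hY.2.2 ψ fun {T} p p' hp => ?_
  have hp₁ : lift (p ≫ fst G Z) (p ≫ snd G Z) = p := by rw [← comp_lift, lift_fst_snd, Category.comp_id]
  have hp₂ : lift (p' ≫ fst G Z) (p' ≫ snd G Z) = p' := by rw [← comp_lift, lift_fst_snd, Category.comp_id]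
  rw [← hp₁, ← hp₂] at hp ⊢
  obtain ⟨h, e₁, e₂⟩ := exists_of_j_eq hY _ _ _ _ hp
  rw [e₁, e₂]
  exact hψ h _ _

end Groth.Agent.H19Grp.BalProd
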