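import Groth.Agent.H19Grp.AbSchemeRigid
import Groth.Agent.H17.Reduced

/-!
# Rigidity for a proper factor with only constant functions
-/

set_option autoImplicit false
set_option linter.style.haveILetI false
set_option backward.isDefEq.respectTransparency false

universe u

open CategoryTheory CategoryTheory.Limits MonoidalCategory CartesianMonoidalCategory MonObj GrpObj
  AlgebraicGeometry TopologicalSpace

namespace Groth.Agent.H19Grp

variable {k : Type u} [Field k]

/-- A proper connected reduced scheme over a field with a rational point has only constant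
global functions. -/
theorem appTop_surjective_of_rat_point {k : Type u} [Field k] {X : Scheme.{u}}
    (f : X ⟶ Spec (CommRingCat.of k)) [UniversallyClosed f] [ConnectedSpace X] [IsReduced X]
    (s : Spec (CommRingCat.of k) ⟶ X) (hs : s ≫ f = 𝟙 _) : Function.Surjective f.appTop := by
  letI := (Groth.Agent.H22Alg.GlobalFunctions.isField_of_universallyClosed f).toField
  haveI : Nontrivial Γ(Spec (CommRingCat.of k), ⊤) :=
    (Scheme.ΓSpecIso (CommRingCat.of k)).commRingCatIsoToRingEquiv.toEquiv.nontrivial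
  intro a
  refine ⟨s.appTop a, s.appTop.hom.injective ?_⟩
  show (f.appTop ≫ s.appTop) (s.appTop a) = s.appTop a
  rw [← Scheme.Hom.comp_appTop, hs, Scheme.Hom.id_appTop]
  rfl


/-- A morphism on a product sending one slice to one point factors through the projection, when the
proper factor has only constant functions. -/
theorem eq_of_point_slice {K X Z : Over (Spec (CommRingCat.of k))} [IsProper K.hom]
    (hK : Function.Bijective K.hom.appTop) [IsIntegral X.left] [IsReduced (K ⊗ X).left] [IsSeparated Z.hom]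
    (F : K ⊗ X ⟶ Z) (k₀ : 𝟙_ (Over (Spec (CommRingCat.of k))) ⟶ K) (x₀ : X.left) (z₀ : Z.left)
    (h : ∀ p, (snd K X).left p = x₀ → F.left p = z₀) :
    F = snd K X ≫ lift (toUnit X ≫ k₀) (𝟙 X) ≫ F := by
  let π := (snd K X).left
  haveI : IsProper π := MorphismProperty.pullback_snd K.hom X.hom inferInstance
  haveI : Flat K.hom := H12AlgSp.flat_to_field _
  haveI : LocallyOfFinitePresentation K.hom := inferInstance
  haveI : Flat π := MorphismProperty.pullback_snd K.hom X.hom inferInstance
  haveI : LocallyOfFinitePresentation π := MorphismProperty.pullback_snd K.hom X.hom inferInstance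
  haveI : Surjective π := ⟨fun x => ⟨(lift (toUnit X ≫ k₀) (𝟙 X)).left x, by
    rw [← Scheme.Hom.comp_apply, ← Over.comp_left, lift_snd]; rfl⟩⟩
  obtain ⟨U, hU, hzU, -⟩ := exists_isAffineOpen_mem_and_subset (X := Z.left) (x := z₀) (U := ⊤) trivial
  have hclosed : IsClosed (π '' (F.left ⁻¹' (U : Set Z.left)ᶜ)) :=
    π.isClosedMap _ (U.isOpen.isClosed_compl.preimage F.left.continuous)
  have hy : x₀ ∈ (π '' (F.left ⁻¹' (U : Set Z.left)ᶜ))ᶜ := by
    rintro ⟨q, hq, hq'⟩
    exact hq (h q hq' ▸ hzU)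
  obtain ⟨V, hV, hyV, hVsub⟩ := exists_isAffineOpen_mem_and_subset (U := ⟨_, hclosed.isOpen_compl⟩) hy
  have hVU : π ⁻¹ᵁ V ≤ F.left ⁻¹ᵁ U := fun q hq => by
    by_contra hq'
    exact hVsub hq ⟨q, hq', rfl⟩
  haveI : IsAffine (V : Scheme.{u}) := hV
  haveI : IsAffine (U : Scheme.{u}) := hU
  have H : IsPullback ((π ⁻¹ᵁ V).ι ≫ pullback.fst K.hom X.hom) (π ∣_ V) K.hom (V.ι ≫ X.hom) :=
    (isPullback_morphismRestrict π V).flip.paste_horiz (IsPullback.of_hasPullback K.hom X.hom)
  haveI := H25Rig.isIso_appTop_of_isPullback H hK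
  obtain ⟨g, hg⟩ := H25Rig.exists_factor_of_isIso_appTop (π ∣_ V) (F.left.resLE U (π ⁻¹ᵁ V) hVU)
  have hg' : (π ∣_ V) ≫ g ≫ U.ι = (π ⁻¹ᵁ V).ι ≫ F.left := by
    rw [← Category.assoc, hg, Scheme.Hom.resLE_comp_ι]
  let s := (lift (toUnit X ≫ k₀) (𝟙 X)).left
  have hs : s ≫ π = 𝟙 _ := by rw [← Over.comp_left, lift_snd]; rfl
  let sV : V.toScheme ⟶ (π ⁻¹ᵁ V).toScheme := IsOpenImmersion.lift (π ⁻¹ᵁ V).ι (V.ι ≫ s) (by
    rintro _ ⟨z, rfl⟩
    refine (π ⁻¹ᵁ V).range_ι.ge ?_
    show π (s (V.ι z)) ∈ V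
    rw [← Scheme.Hom.comp_apply, hs]
    exact z.2)
  have hsV : sV ≫ (π ∣_ V) = 𝟙 _ := by
    rw [← cancel_mono V.ι, Category.assoc, morphismRestrict_ι, IsOpenImmersion.lift_fac_assoc,
      Category.assoc, hs, Category.comp_id, Category.id_comp]
  have h2 : V.ι ≫ s ≫ F.left = g ≫ U.ι := by
    have hl : sV ≫ (π ⁻¹ᵁ V).ι = V.ι ≫ s := IsOpenImmersion.lift_fac _ _ _
    rw [← Category.assoc, ← hl, Category.assoc, ← hg', reassoc_of% hsV]
  apply Over.OverMorphism.ext
  haveI : Z.left.IsSeparated := ⟨by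
    rw [← terminal.comp_from Z.hom]; exact MorphismProperty.comp_mem _ _ _ inferInstance inferInstance⟩
  haveI : IsDominant (π ⁻¹ᵁ V).ι := by
    refine ⟨?_⟩
    rw [DenseRange, Scheme.Opens.range_ι]
    show Dense (π ⁻¹' (V : Set X.left))
    exact Dense.preimage (V.2.dense ⟨_, hyV⟩) π.isOpenMap
  refine ext_of_isDominant (π ⁻¹ᵁ V).ι ?_
  rw [Over.comp_left, Over.comp_left, ← hg', ← h2, morphismRestrict_ι_assoc]

/-- Translations carry the component of the unit in its fibre into components of fibres. -/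
theorem translate_component_subset {X : Over (Spec (CommRingCat.of k))} [GrpObj X] [IsProper X.hom]
    [GeometricallyIntegral X.hom] {Z : Over (Spec (CommRingCat.of k))} [IsSeparated Z.hom] (f : X ⟶ Z)
    (x : 𝟙_ (Over (Spec (CommRingCat.of k))) ⟶ X) :
    (lift (toUnit X ≫ x) (𝟙 X) ≫ μ[X]).left '' connectedComponentIn
        (f.left ⁻¹' {f.left (η[X].left (IsLocalRing.closedPoint k))}) (η[X].left (IsLocalRing.closedPoint k)) ⊆
      connectedComponentIn (f.left ⁻¹' {f.left (x.left (IsLocalRing.closedPoint k))})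
        (x.left (IsLocalRing.closedPoint k)) := by
  let pt : ↥(Spec (CommRingCat.of k)) := IsLocalRing.closedPoint k
  let e₀ := η[X].left pt
  let C := connectedComponentIn (f.left ⁻¹' {f.left e₀}) e₀
  haveI : Flat X.hom := H12AlgSp.flat_to_field _
  haveI : LocallyOfFinitePresentation X.hom := inferInstance
  haveI : Smooth X.hom := smooth_of_flat_of_geometricallyReduced X
  haveI : IsIntegral X.left := GeometricallyIntegral.isIntegral_of_subsingleton X.hom
  have hcl : IsClosed ({f.left e₀} : Set Z.left) := by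
    let σ := (η[X] ≫ f).left
    haveI : IsClosedImmersion (σ ≫ Z.hom) := by
      rw [show σ ≫ Z.hom = 𝟙 _ from Over.w (η[X] ≫ f)]; infer_instance
    haveI : IsClosedImmersion σ := IsClosedImmersion.of_comp σ Z.hom
    have : ({f.left e₀} : Set Z.left) = Set.range σ := by
      ext z
      refine ⟨fun hz => ⟨pt, (Scheme.Hom.comp_apply _ _ _).trans hz.symm⟩, ?_⟩
      rintro ⟨w, rfl⟩
      rw [Subsingleton.elim (α := PrimeSpectrum k) w pt]
      exact Scheme.Hom.comp_apply _ _ _
    rw [this]
    exact σ.isClosedEmbedding.isClosed_range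
  have he₀ : e₀ ∈ f.left ⁻¹' {f.left e₀} := rfl
  have hCc : IsClosed C := closure_subset_iff_isClosed.1
    (isPreconnected_connectedComponentIn.closure.subset_connectedComponentIn
      (subset_closure (mem_connectedComponentIn he₀))
      (closure_minimal (connectedComponentIn_subset _ _) (hcl.preimage f.left.continuous)))
  obtain ⟨K₀, i₀, hi₀, hKred, hrange⟩ := H17.exists_reduced_of_isLocallyClosed hCc.isLocallyClosed
  haveI := hi₀
  haveI := hKred
  haveI : IsClosedImmersion i₀ := IsClosedImmersion.of_isPreimmersion i₀ (hrange ▸ hCc)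
  let K : Over (Spec (CommRingCat.of k)) := Over.mk (i₀ ≫ X.hom)
  let i : K ⟶ X := Over.homMk i₀ rfl
  obtain ⟨e₁, he₁⟩ := H17.exists_lift_immersion_of_range_subset (X := Spec (CommRingCat.of k)) η[X].left i₀ (by
    rintro _ ⟨w, rfl⟩
    rw [hrange, Subsingleton.elim (α := PrimeSpectrum k) w pt]
    exact mem_connectedComponentIn he₀)
  let ek : 𝟙_ (Over (Spec (CommRingCat.of k))) ⟶ K :=
    Over.homMk e₁ (by show e₁ ≫ i₀ ≫ X.hom = _; rw [reassoc_of% he₁, Over.w η[X]])
  have hek : ek ≫ i = η[X] := Over.OverMorphism.ext he₁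
  haveI : ConnectedSpace K.left := by
    have hC : _root_.IsConnected C := isConnected_connectedComponentIn_iff.2 he₀
    rw [connectedSpace_iff_univ]
    refine ⟨⟨e₁ pt, trivial⟩, ?_⟩
    refine i₀.isClosedEmbedding.isInducing.isPreconnected_image.1 ?_
    rw [Set.image_univ]
    exact hrange ▸ hC.isPreconnected
  haveI : IsReduced K.left := hKred
  haveI : IsProper K.hom := inferInstanceAs (IsProper (i₀ ≫ X.hom))
  have hK : Function.Bijective K.hom.appTop := by
    refine ⟨Function.LeftInverse.injective (g := ek.left.appTop) fun a => ?_,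
      appTop_surjective_of_rat_point K.hom ek.left (Over.w ek)⟩
    rw [← CommRingCat.comp_apply, ← Scheme.Hom.comp_appTop, Over.w ek]
    exact congrArg (fun m : Γ(Spec (CommRingCat.of k), ⊤) ⟶ _ => m.hom a) Scheme.Hom.id_appTop
  haveI : IsReduced (K ⊗ X).left := by
    haveI : IsLocallyNoetherian K.left := LocallyOfFiniteType.isLocallyNoetherian K.hom
    show IsReduced (pullback K.hom X.hom)
    infer_instance
  let F : K ⊗ X ⟶ Z := lift (snd K X) (fst K X ≫ i) ≫ μ[X] ≫ f
  have hF := eq_of_point_slice hK F ek e₀ (f.left e₀) (by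
    intro p hp
    have hsq : IsPullback (lift (𝟙 K) (toUnit K ≫ η[X])).left K.hom (snd K X).left η[X].left := by
      refine IsPullback.of_right (h₁₂ := (fst K X).left) (v₁₃ := K.hom) (h₂₂ := X.hom) ?_ ?_
        (IsPullback.of_hasPullback K.hom X.hom)
      · rw [← Over.comp_left, lift_fst, Over.w η[X]]
        haveI : IsIso (𝟙_ (Over (Spec (CommRingCat.of k)))).hom := inferInstanceAs (IsIso (𝟙 _))
        exact IsPullback.of_horiz_isIso ⟨rfl⟩
      · rw [← Over.comp_left, lift_snd]; rfl
    obtain ⟨w, hw, -⟩ := Scheme.exists_preimage_of_isPullback hsq p pt hp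
    rw [← hw, ← Scheme.Hom.comp_apply, ← Over.comp_left]
    have : lift (𝟙 K) (toUnit K ≫ η[X]) ≫ F = i ≫ f := by
      simp only [F, comp_lift_assoc, lift_snd, lift_fst_assoc, Category.id_comp]
      rw [← Category.assoc _ μ[X], ← Hom.mul_def, ← Hom.one_def, _root_.one_mul]
    rw [this]
    have hwC : i₀ w ∈ C := hrange ▸ Set.mem_range_self w
    have hmem : i₀ w ∈ f.left ⁻¹' {f.left e₀} := connectedComponentIn_subset _ _ hwC
    exact hmem)
  let T : X ⟶ X := lift (toUnit X ≫ x) (𝟙 X) ≫ μ[X]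
  have key : i ≫ T ≫ f = toUnit K ≫ x ≫ f := by
    have := congrArg (lift (𝟙 K) (toUnit K ≫ x) ≫ ·) hF
    simp only [F, T, comp_lift_assoc, lift_snd, lift_fst_assoc, lift_snd_assoc, Category.id_comp,
      Category.assoc] at this ⊢
    rw [← Category.assoc i (toUnit X), toUnit_unique (i ≫ toUnit X) (toUnit K), Category.comp_id]
    rw [← Category.assoc x, toUnit_unique (x ≫ toUnit X) (𝟙 _), Category.id_comp, hek, Category.comp_id] at this
    refine this.trans ?_
    rw [← Category.assoc _ μ[X], ← Hom.mul_def, ← Category.assoc (toUnit K) x,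
      show (toUnit K ≫ η[X] : K ⟶ X) = 1 from rfl, _root_.mul_one]
  have hTe : T.left e₀ = x.left pt := by
    have : η[X] ≫ T = x := by
      simp only [T, comp_lift_assoc, Category.comp_id]
      rw [← Category.assoc η[X], toUnit_unique (η[X] ≫ toUnit X) (𝟙 _), Category.id_comp, ← Hom.mul_def,
        show (η[X] : 𝟙_ _ ⟶ X) = 1 by rw [Hom.one_def, toUnit_unit, Category.id_comp], _root_.mul_one]
    exact (Scheme.Hom.comp_apply _ _ _).symm.trans (congrArg (fun φ : 𝟙_ (Over (Spec (CommRingCat.of k))) ⟶ X => φ.left pt) this)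
  rintro _ ⟨c, hc, rfl⟩
  refine (isPreconnected_connectedComponentIn.image T.left T.left.continuous.continuousOn).subset_connectedComponentIn
    ⟨e₀, mem_connectedComponentIn he₀, hTe⟩ ?_ ⟨c, hc, rfl⟩
  rintro _ ⟨d, hd, rfl⟩
  obtain ⟨w, rfl⟩ : d ∈ Set.range i₀ := hrange.symm ▸ hd
  show f.left (T.left (i.left w)) = f.left (x.left pt)
  have h1 := congrArg (fun φ : K ⟶ Z => φ.left w) key
  simp only [Over.comp_left, Scheme.Hom.comp_apply] at h1
  rw [h1]
  exact congrArg (fun v => f.left (x.left v)) (Subsingleton.elim (α := PrimeSpectrum k) _ _)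

end Groth.Agent.H19Grp
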