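import Groth.Agent.H25Rig.Rigidity

/-!
# Descending morphisms along closed surjections with `O = φ_* O`
-/

set_option autoImplicit false
set_option linter.style.haveILetI false
set_option backward.isDefEq.respectTransparency false

universe u

open CategoryTheory CategoryTheory.Limits AlgebraicGeometry TopologicalSpace

namespace Groth.Agent.H19Grp.ProperDescFactor

variable {P Q Z : Scheme.{u}}

theorem bijective_app_restrict (φ : P ⟶ Q) (hφ : ∀ U : Q.Opens, Function.Bijective (φ.app U)) (W : Q.Opens)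
    (U : W.toScheme.Opens) : Function.Bijective ((φ ∣_ W).app U) := by
  haveI := (ConcreteCategory.isIso_iff_bijective (φ.app (W.ι ''ᵁ U))).2 (hφ _)
  rw [morphismRestrict_app]
  exact ConcreteCategory.bijective_of_isIso _

theorem isIso_appTop_restrict (φ : P ⟶ Q) (hφ : ∀ U : Q.Opens, Function.Bijective (φ.app U)) (W : Q.Opens) :
    IsIso (φ ∣_ W).appTop :=
  (ConcreteCategory.isIso_iff_bijective _).2 (bijective_app_restrict φ hφ W ⊤)

theorem ext_of_appTop {X S T : Scheme.{u}} [IsAffine T] (f : X ⟶ S) [IsIso f.appTop] {g g' : S ⟶ T}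
    (h : f ≫ g = f ≫ g') : g = g' := by
  refine ext_of_isAffine ((cancel_mono f.appTop).1 ?_)
  rw [← Scheme.Hom.comp_appTop, ← Scheme.Hom.comp_appTop, h]

/-- A surjection with `O = φ_* O` is an epimorphism. -/
theorem eq_of_comp_eq (φ : P ⟶ Q) [Surjective φ] (hφ : ∀ U : Q.Opens, Function.Bijective (φ.app U))
    {a b : Q ⟶ Z} (h : φ ≫ a = φ ≫ b) : a = b := by
  have hab : ∀ y, a y = b y := fun y => by
    obtain ⟨x, rfl⟩ := φ.surjective y
    rw [← Scheme.Hom.comp_apply, h, Scheme.Hom.comp_apply]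
  have hloc : ∀ y : Q, ∃ V : Q.Opens, y ∈ V ∧ V.ι ≫ a = V.ι ≫ b := by
    intro y
    obtain ⟨U, hU, hyU, -⟩ := exists_isAffineOpen_mem_and_subset (U := (⊤ : Z.Opens)) (x := a y) trivial
    haveI : IsAffine U.toScheme := hU
    refine ⟨a ⁻¹ᵁ U, hyU, ?_⟩
    have hb : a ⁻¹ᵁ U ≤ b ⁻¹ᵁ U := fun z hz => show b z ∈ U from hab z ▸ hz
    haveI := isIso_appTop_restrict φ hφ (a ⁻¹ᵁ U)
    rw [← Scheme.Hom.resLE_comp_ι a (U := U) (le_refl _), ← Scheme.Hom.resLE_comp_ι b (U := U) hb,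
      ext_of_appTop (φ ∣_ (a ⁻¹ᵁ U)) (g := a.resLE U (a ⁻¹ᵁ U) (le_refl _)) (g' := b.resLE U (a ⁻¹ᵁ U) hb)
        (by rw [← cancel_mono U.ι, Category.assoc, Category.assoc, Scheme.Hom.resLE_comp_ι,
          Scheme.Hom.resLE_comp_ι, morphismRestrict_ι_assoc, morphismRestrict_ι_assoc, h])]
  choose V hyV hV using hloc
  exact (Scheme.openCoverOfIsOpenCover Q V (.mk (eq_top_iff.2 fun y _ => Opens.mem_iSup.2 ⟨y, hyV y⟩))).hom_ext
    _ _ fun y => hV y

/-- A morphism constant on the fibres of a closed surjection with `O = φ_* O` descends. -/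
theorem exists_desc (φ : P ⟶ Q) [Surjective φ] [UniversallyClosed φ]
    (hφ : ∀ U : Q.Opens, Function.Bijective (φ.app U)) (F : P ⟶ Z)
    (hconst : ∀ x x' : P, φ x = φ x' → F x = F x') : ∃ h : Q ⟶ Z, φ ≫ h = F := by
  let hfun : Q → Z := fun y => F (Function.surjInv φ.surjective y)
  have hfg : ∀ x, hfun (φ x) = F x := fun x => hconst _ _ (Function.surjInv_eq φ.surjective (φ x))
  have hcont : Continuous hfun := by
    refine (φ.isClosedMap.isQuotientMap φ.continuous φ.surjective).continuous_iff.2 ?_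
    rw [show hfun ∘ φ = F from funext hfg]
    exact F.continuous
  have hloc : ∀ y : Q, ∃ (V : Q.Opens) (_ : y ∈ V) (hV : V.toScheme ⟶ Z), (φ ∣_ V) ≫ hV = (φ ⁻¹ᵁ V).ι ≫ F := by
    intro y
    obtain ⟨W, hW, hyW, -⟩ := exists_isAffineOpen_mem_and_subset (U := (⊤ : Z.Opens)) (x := hfun y) trivial
    haveI : IsAffine W.toScheme := hW
    let V : Q.Opens := ⟨hfun ⁻¹' W, W.2.preimage hcont⟩
    have hle : φ ⁻¹ᵁ V ≤ F ⁻¹ᵁ W := fun x hx => show F x ∈ W from hfg x ▸ (show hfun (φ x) ∈ W from hx)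
    haveI := isIso_appTop_restrict φ hφ V
    obtain ⟨g, hg⟩ := H25Rig.exists_factor_of_isIso_appTop (φ ∣_ V) (F.resLE W (φ ⁻¹ᵁ V) hle)
    exact ⟨V, hyW, g ≫ W.ι, by rw [reassoc_of% hg, Scheme.Hom.resLE_comp_ι]⟩
  choose V hyV hV hVF using hloc
  let 𝒰 : Q.OpenCover :=
    Scheme.openCoverOfIsOpenCover Q V (.mk (eq_top_iff.2 fun y _ => Opens.mem_iSup.2 ⟨y, hyV y⟩))
  have key : ∀ a b : Q, Q.homOfLE (inf_le_left : V a ⊓ V b ≤ V a) ≫ hV a =
      Q.homOfLE (inf_le_right : V a ⊓ V b ≤ V b) ≫ hV b := by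
    intro a b
    have hres : ∀ (c : Q) (hle : V a ⊓ V b ≤ V c), (φ ∣_ (V a ⊓ V b)) ≫ Q.homOfLE hle ≫ hV c =
        (φ ⁻¹ᵁ (V a ⊓ V b)).ι ≫ F := by
      intro c hle
      have e : (φ ∣_ (V a ⊓ V b)) ≫ Q.homOfLE hle =
          P.homOfLE (φ.preimage_mono hle) ≫ (φ ∣_ V c) := by
        rw [← cancel_mono (V c).ι, Category.assoc, Category.assoc, Scheme.homOfLE_ι, morphismRestrict_ι,
          morphismRestrict_ι, Scheme.homOfLE_ι_assoc]
      rw [reassoc_of% e, hVF, Scheme.homOfLE_ι_assoc]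
    haveI : Surjective (φ ∣_ (V a ⊓ V b)) := IsZariskiLocalAtTarget.restrict ‹Surjective φ› _
    exact eq_of_comp_eq (φ ∣_ (V a ⊓ V b)) (bijective_app_restrict φ hφ _)
      ((hres a inf_le_left).trans (hres b inf_le_right).symm)
  let h : Q ⟶ Z := 𝒰.glueMorphisms hV fun a b => by
    let j := pullback.fst (V a).ι (V b).ι ≫ (V a).ι
    obtain ⟨e, he⟩ : ∃ e, e ≫ (V a ⊓ V b).ι = j := ⟨IsOpenImmersion.lift (V a ⊓ V b).ι j (by
      rw [Scheme.Opens.range_ι]
      rintro _ ⟨p, rfl⟩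
      refine ⟨(pullback.fst (V a).ι (V b).ι p).2, ?_⟩
      rw [show j = pullback.snd (V a).ι (V b).ι ≫ (V b).ι from pullback.condition, Scheme.Hom.comp_apply]
      exact (pullback.snd (V a).ι (V b).ι p).2), IsOpenImmersion.lift_fac _ _ _⟩
    show pullback.fst (V a).ι (V b).ι ≫ hV a = pullback.snd (V a).ι (V b).ι ≫ hV b
    have e₁ : pullback.fst (V a).ι (V b).ι = e ≫ Q.homOfLE inf_le_left := by
      rw [← cancel_mono (V a).ι, Category.assoc, Scheme.homOfLE_ι, he]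
    have e₂ : pullback.snd (V a).ι (V b).ι = e ≫ Q.homOfLE inf_le_right := by
      rw [← cancel_mono (V b).ι, Category.assoc, Scheme.homOfLE_ι, he]
      exact pullback.condition.symm
    rw [e₁, e₂, Category.assoc, Category.assoc, key a b]
  refine ⟨h, (P.openCoverOfIsOpenCover (fun y => φ ⁻¹ᵁ V y) (.mk (eq_top_iff.2 fun x _ =>
    Opens.mem_iSup.2 ⟨φ x, hyV (φ x)⟩))).hom_ext _ _ fun y => ?_⟩
  show (φ ⁻¹ᵁ V y).ι ≫ φ ≫ h = (φ ⁻¹ᵁ V y).ι ≫ F
  rw [← morphismRestrict_ι_assoc, ← hVF y]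
  exact congrArg ((φ ∣_ V y) ≫ ·) (𝒰.ι_glueMorphisms hV _ y)

end Groth.Agent.H19Grp.ProperDescFactor
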