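import Groth.Prelude.Def_AlgGrp
import Groth.Agent.H19Grp.ProperDescFactor
import Groth.Agent.H19Grp.GeomConnected
import Groth.Agent.H19Grp.PointRigid
import Groth.Agent.H12Pic.InvDesc.FlatFunctions
import Groth.Agent.H28NT.GoodReduction
import Groth.Agent.S2431

/-!
# Blanchard's lemma: actions descend along proper morphisms with `O = f_* O`
-/

set_option autoImplicit false
set_option linter.style.haveILetI false
set_option backward.isDefEq.respectTransparency false
set_option maxHeartbeats 1000000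
set_option synthInstance.maxHeartbeats 100000

universe u

open CategoryTheory CategoryTheory.Limits MonoidalCategory CartesianMonoidalCategory MonObj GrpObj
  AlgebraicGeometry TopologicalSpace

namespace Groth.Agent.H19Grp.Blanchard

variable {k : Type u} [Field k] {G X Y : Over (Spec (CommRingCat.of k))}

/-- Two morphisms along a slice agree when the slice lands in an affine open. -/
theorem eq_of_connected_to_affine {K : Type u} [Field K] {C Z : Scheme.{u}} (q : C ⟶ Spec (CommRingCat.of K))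
    [IsProper q] [ConnectedSpace C] (m : C ⟶ Z) (U : Z.Opens) (hU : IsAffineOpen U)
    (hm : Set.range m ⊆ (U : Set Z)) (c₁ c₂ : Spec (CommRingCat.of K) ⟶ C) (h₁ : c₁ ≫ q = 𝟙 _)
    (h₂ : c₂ ≫ q = 𝟙 _) : c₁ ≫ m = c₂ ≫ m := by
  let r := C.nilradical.subschemeι
  haveI : IsReduced C.nilradical.subscheme :=
    (Groth.Agent.H17.isReduced_subscheme_iff _).mpr fun W => Ideal.radical_isRadical _
  have hr : Set.range r = Set.univ := by
    rw [Scheme.IdealSheafData.range_subschemeι, Scheme.support_nilradical]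
    rfl
  haveI : ConnectedSpace C.nilradical.subscheme := by
    have hc : _root_.IsConnected (Set.univ : Set C.nilradical.subscheme) := by
      refine ⟨?_, r.isClosedEmbedding.isInducing.isPreconnected_image.1 ?_⟩
      · obtain ⟨y, -⟩ := (hr ▸ Set.mem_univ (c₁ (IsLocalRing.closedPoint K)) : _ ∈ Set.range r)
        exact ⟨y, trivial⟩
      · rw [Set.image_univ, hr]
        exact isPreconnected_univ
    exact connectedSpace_iff_univ.2 hc
  have hlift : ∀ c : Spec (CommRingCat.of K) ⟶ C, ∃ c' : Spec (CommRingCat.of K) ⟶ C.nilradical.subscheme, c' ≫ r = c :=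
    fun c => Groth.Agent.H17.exists_lift_of_range_subset c r (by rw [hr]; exact Set.subset_univ _)
  obtain ⟨d₁, hd₁⟩ := hlift c₁
  obtain ⟨d₂, hd₂⟩ := hlift c₂
  have e₁ : d₁ ≫ r ≫ q = 𝟙 _ := by rw [reassoc_of% hd₁, h₁]
  have e₂ : d₂ ≫ r ≫ q = 𝟙 _ := by rw [reassoc_of% hd₂, h₂]
  haveI : IsIso (r ≫ q).appTop := by
    refine (ConcreteCategory.isIso_iff_bijective _).2
      ⟨Function.LeftInverse.injective (g := d₁.appTop) fun a => ?_,
        appTop_surjective_of_rat_point (r ≫ q) d₁ e₁⟩
    rw [← CommRingCat.comp_apply, ← Scheme.Hom.comp_appTop, e₁, Scheme.Hom.id_appTop]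
    rfl
  haveI : IsAffine U.toScheme := hU
  obtain ⟨g, hg⟩ := H25Rig.exists_factor_of_isIso_appTop (r ≫ q)
    (IsOpenImmersion.lift U.ι (r ≫ m) (by
      rw [Scheme.Opens.range_ι]
      rintro _ ⟨x, rfl⟩
      exact hm ⟨r x, (Scheme.Hom.comp_apply _ _ _).symm⟩))
  have hg' : (r ≫ q) ≫ g ≫ U.ι = r ≫ m := by rw [← Category.assoc, hg, IsOpenImmersion.lift_fac]
  rw [← hd₁, ← hd₂, Category.assoc, Category.assoc, ← hg', ← Category.assoc d₁, e₁, ← Category.assoc d₂, e₂]

variable (f : X ⟶ Y)

theorem isPullback_whisker (T : Over (Spec (CommRingCat.of k))) :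
    IsPullback (snd T X).left (T ◁ f).left f.left (snd T Y).left := by
  refine (IsPullback.of_right (h₁₂ := (fst T Y).left) (v₁₃ := T.hom) (h₂₂ := Y.hom) ?_ ?_
    (IsPullback.of_hasPullback T.hom Y.hom)).flip
  · rw [← Over.comp_left, whiskerLeft_fst, Over.w f]
    exact IsPullback.of_hasPullback T.hom X.hom
  · exact congrArg CommaMorphism.left (whiskerLeft_snd T f)

section Proper

variable [IsProper f.left] (hf : ∀ U : Y.left.Opens, IsIso (f.left.app U))

include hf in
theorem surjective_left : Surjective f.left := by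
  refine ⟨fun y => ?_⟩
  by_contra hy
  let U : Y.left.Opens := ⟨(Set.range f.left)ᶜ, f.left.isClosedMap.isClosed_range.isOpen_compl⟩
  haveI := hf U
  have h0 : f.left ⁻¹ᵁ U = ⊥ := Opens.ext (Set.eq_empty_of_forall_notMem fun x hx => hx ⟨x, rfl⟩)
  haveI : Subsingleton Γ(X.left, f.left ⁻¹ᵁ U) := by rw [h0]; infer_instance
  haveI : Subsingleton Γ(Y.left, U) :=
    (ConcreteCategory.bijective_of_isIso (f.left.app U)).1.subsingleton
  have hyU : y ∈ U := hy
  refine zero_ne_one (α := Y.left.presheaf.stalk y) ?_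
  rw [← map_zero (Y.left.presheaf.germ U y hyU).hom, ← map_one (Y.left.presheaf.germ U y hyU).hom,
    Subsingleton.elim (0 : Γ(Y.left, U)) 1]

include hf in
theorem surjective_whisker (T : Over (Spec (CommRingCat.of k))) : Surjective (T ◁ f).left :=
  MorphismProperty.of_isPullback (P := @Surjective) (isPullback_whisker f T) (surjective_left f hf)

theorem isProper_whisker (T : Over (Spec (CommRingCat.of k))) : IsProper (T ◁ f).left :=
  MorphismProperty.of_isPullback (P := @IsProper) (isPullback_whisker f T) inferInstance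

include hf in
theorem bijective_app_whisker (T : Over (Spec (CommRingCat.of k))) (U : (T ⊗ Y).left.Opens) :
    Function.Bijective ((T ◁ f).left.app U) := by
  haveI : Flat T.hom := H12AlgSp.flat_to_field _
  haveI : Flat (snd T Y).left := MorphismProperty.pullback_snd (P := @Flat) T.hom Y.hom inferInstance
  let e := (isPullback_whisker f T).isoPullback
  have h := H12Pic.InvDesc.bijective_app_flat_baseChange f.left
    (fun V => ConcreteCategory.bijective_of_isIso (@asIso _ _ _ _ (f.left.app V) (hf V)).hom) (snd T Y).left U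
  rw [Scheme.Hom.congr_app (isPullback_whisker f T).isoPullback_hom_snd.symm U, Scheme.Hom.comp_app]
  haveI := (ConcreteCategory.isIso_iff_bijective _).2 h
  exact ConcreteCategory.bijective_of_isIso _

include hf in
theorem eq_of_whisker (T Z : Over (Spec (CommRingCat.of k))) {b b' : T ⊗ Y ⟶ Z}
    (h : (T ◁ f) ≫ b = (T ◁ f) ≫ b') : b = b' := by
  haveI := surjective_whisker f hf T
  exact Over.OverMorphism.ext (ProperDescFactor.eq_of_comp_eq (T ◁ f).left (bijective_app_whisker f hf T)
    (congrArg CommaMorphism.left h))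

variable [GrpObj G] (a : AlgGrp.Action G X)

include hf in
/-- An action descends once it is constant on the fibres. -/
theorem exists_action (hconst : ∀ p q : ↥(G ⊗ X).left, (G ◁ f).left.base p = (G ◁ f).left.base q →
      (a.act ≫ f).left.base p = (a.act ≫ f).left.base q) :
    ∃ b : AlgGrp.Action G Y, (G ◁ f) ≫ b.act = a.act ≫ f := by
  haveI := surjective_whisker f hf G
  haveI := isProper_whisker f G
  obtain ⟨h, hh⟩ := ProperDescFactor.exists_desc (G ◁ f).left (bijective_app_whisker f hf G) (a.act ≫ f).left hconst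
  have hw : h ≫ Y.hom = (G ⊗ Y).hom :=
    ProperDescFactor.eq_of_comp_eq (G ◁ f).left (bijective_app_whisker f hf G)
      (by rw [reassoc_of% hh, Over.w (a.act ≫ f), Over.w (G ◁ f)])
  let b : G ⊗ Y ⟶ Y := Over.homMk h hw
  have hb : (G ◁ f) ≫ b = a.act ≫ f := Over.OverMorphism.ext hh
  refine ⟨⟨b, ?_, ?_⟩, hb⟩
  · refine eq_of_whisker f hf (𝟙_ _) Y ?_
    rw [← Category.assoc, whisker_exchange, Category.assoc, hb, reassoc_of% a.one_act, leftUnitor_hom,
      leftUnitor_hom, whiskerLeft_snd]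
  · refine eq_of_whisker f hf (G ⊗ G) Y ?_
    rw [← Category.assoc, whisker_exchange, Category.assoc, hb, reassoc_of% a.mul_act]
    have e1 : ((G ⊗ G) ◁ f) ≫ (α_ G G Y).hom = (α_ G G X).hom ≫ (G ◁ (G ◁ f)) := by
      rw [associator_naturality_right]
    rw [reassoc_of% e1, ← whiskerLeft_comp_assoc G (G ◁ f) b, hb, whiskerLeft_comp_assoc, hb]

include hf in
theorem unique_action {b b' : AlgGrp.Action G Y} (h : (G ◁ f) ≫ b.act = (G ◁ f) ≫ b'.act) : b = b' := by
  have := eq_of_whisker f hf G Y h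
  cases b; cases b'; cases this; rfl

end Proper

section Connected

variable [GrpObj G]

theorem lift_act (a : AlgGrp.Action G X) {T : Over (Spec (CommRingCat.of k))} (g h : T ⟶ G) (x : T ⟶ X) :
    lift g (lift h x ≫ a.act) ≫ a.act = lift (g * h) x ≫ a.act := by
  have e := congrArg (lift (lift g h) x ≫ ·) a.mul_act
  simp only [lift_whiskerRight_assoc, lift_lift_associator_hom_assoc, lift_whiskerLeft_assoc] at e
  rw [Hom.mul_def]
  exact e.symm

theorem lift_one_act (a : AlgGrp.Action G X) {T : Over (Spec (CommRingCat.of k))} (x : T ⟶ X) :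
    lift (1 : T ⟶ G) x ≫ a.act = x := by
  have e := congrArg (lift (toUnit T) x ≫ ·) a.one_act
  simp only [lift_whiskerRight_assoc, leftUnitor_hom, lift_snd] at e
  rw [Hom.one_def]
  exact e

variable (a : AlgGrp.Action G X)

/-- The pairs `(g, y)` for which `g` maps the fibre over `y` into an affine open. -/
def nice : Set (G ⊗ Y).left :=
  {p | ∃ U : Y.left.Opens, IsAffineOpen U ∧
    ∀ q, (G ◁ f).left q = p → (a.act ≫ f).left q ∈ U}

theorem isOpen_nice [IsProper f.left] : IsOpen (nice f a) := by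
  haveI := isProper_whisker f G
  have e : nice f a = ⋃ (U : Y.left.Opens) (_ : IsAffineOpen U),
      ((G ◁ f).left '' ((a.act ≫ f).left ⁻¹' (U : Set Y.left)ᶜ))ᶜ := by
    ext p
    simp only [nice, Set.mem_iUnion, Set.mem_compl_iff, Set.mem_image, Set.mem_preimage, not_exists, not_and']
    refine exists_congr fun U => ?_
    constructor
    · exact fun ⟨hU, h⟩ => ⟨hU, fun q hq hq' => hq' (h q hq)⟩
    · exact fun ⟨hU, h⟩ => ⟨hU, fun q hq => not_not.1 (h q hq)⟩
  rw [e]
  exact isOpen_iUnion fun U => isOpen_iUnion fun _ =>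
    ((G ◁ f).left.isClosedMap _ (U.isOpen.isClosed_compl.preimage (a.act ≫ f).left.continuous)).isOpen_compl

theorem unit_mem_nice {T : Over (Spec (CommRingCat.of k))} (y : T ⟶ Y) (t : T.left) :
    (lift (1 : T ⟶ G) y).left t ∈ nice f a := by
  obtain ⟨U, hU, hyU, -⟩ := exists_isAffineOpen_mem_and_subset (U := (⊤ : Y.left.Opens)) (x := y.left t) trivial
  refine ⟨U, hU, fun q hq => ?_⟩
  let uX : X ⟶ G ⊗ X := lift 1 (𝟙 X)
  let uY : Y ⟶ G ⊗ Y := lift 1 (𝟙 Y)
  show (a.act ≫ f).left q ∈ U
  have hsq : IsPullback uX.left f.left (G ◁ f).left uY.left := by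
    refine IsPullback.of_right (h₁₂ := (snd G X).left) (v₁₃ := f.left) (h₂₂ := (snd G Y).left) ?_ ?_
      (isPullback_whisker f G)
    · rw [← Over.comp_left, ← Over.comp_left, lift_snd, lift_snd]
      exact IsPullback.of_horiz_isIso ⟨by simp⟩
    · rw [← Over.comp_left, ← Over.comp_left, lift_whiskerLeft, comp_lift, MonObj.comp_one,
        Category.id_comp, Category.comp_id]
  have hy : lift (1 : T ⟶ G) y = y ≫ uY := by
    rw [comp_lift, MonObj.comp_one, Category.comp_id]
  obtain ⟨x, hx, hx'⟩ := Scheme.exists_preimage_of_isPullback hsq q (y.left t) (by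
    rw [hq, hy, Over.comp_left, Scheme.Hom.comp_apply])
  rw [← hx, ← Scheme.Hom.comp_apply, ← Over.comp_left,
    show uX ≫ a.act ≫ f = f by rw [← Category.assoc, lift_one_act, Category.id_comp], hx']
  exact hyU

theorem slice [IsProper f.left] [GeometricallyConnected f.left] {K : Type u} [Field K]
    (s : Spec (CommRingCat.of K) ⟶ Spec (CommRingCat.of k)) (g : Over.mk s ⟶ G) (x₁ x₂ : Over.mk s ⟶ X)
    (hx : x₁ ≫ f = x₂ ≫ f)
    (hn : (lift g (x₁ ≫ f)).left (IsLocalRing.closedPoint K) ∈ nice f a) :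
    lift g x₁ ≫ a.act ≫ f = lift g x₂ ≫ a.act ≫ f := by
  obtain ⟨U, hU, hUq⟩ := hn
  let y : Over.mk s ⟶ Y := x₁ ≫ f
  let C := pullback f.left y.left
  let q : C ⟶ Spec (CommRingCat.of K) := pullback.snd f.left y.left
  haveI : IsProper q := MorphismProperty.pullback_snd f.left y.left inferInstance
  haveI : ConnectedSpace C :=
    GeometricallyConnected.geometrically_connectedSpace (f := f.left) y.left _ _ (.of_hasPullback _ _)
  let CO : Over (Spec (CommRingCat.of k)) := Over.mk (q ≫ s)
  let qO : CO ⟶ Over.mk s := Over.homMk q rfl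
  let ιC : CO ⟶ X := Over.homMk (pullback.fst f.left y.left) (by
    show pullback.fst f.left y.left ≫ X.hom = q ≫ s
    rw [← Over.w f, pullback.condition_assoc, Over.w y]; rfl)
  have hιC : ιC ≫ f = qO ≫ y := Over.OverMorphism.ext pullback.condition
  let c : ∀ x : Over.mk s ⟶ X, x ≫ f = y → (Spec (CommRingCat.of K) ⟶ C) := fun x h =>
    pullback.lift x.left (𝟙 _) (by rw [← Over.comp_left, h, Category.id_comp])
  let cO : ∀ (x : Over.mk s ⟶ X) (h : x ≫ f = y), Over.mk s ⟶ CO := fun x h => Over.homMk (c x h) (by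
    show c x h ≫ q ≫ s = s
    rw [← Category.assoc, pullback.lift_snd, Category.id_comp])
  let ψ : CO ⟶ G ⊗ X := lift (qO ≫ g) ιC
  have hψ : ψ ≫ (G ◁ f) = qO ≫ lift g y := by rw [lift_whiskerLeft, comp_lift, hιC]
  have hm : Set.range (ψ ≫ a.act ≫ f).left ⊆ (U : Set Y.left) := by
    rintro _ ⟨z, rfl⟩
    rw [Over.comp_left, Scheme.Hom.comp_apply]
    refine hUq _ ?_
    rw [← Scheme.Hom.comp_apply, ← Over.comp_left, hψ, Over.comp_left, Scheme.Hom.comp_apply]
    exact congrArg _ (Subsingleton.elim (α := PrimeSpectrum K) _ _)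
  have key := eq_of_connected_to_affine q (ψ ≫ a.act ≫ f).left U hU hm (c x₁ rfl) (c x₂ hx.symm)
    (pullback.lift_snd _ _ _) (pullback.lift_snd _ _ _)
  have hc : ∀ (x : Over.mk s ⟶ X) (h : x ≫ f = y), cO x h ≫ ψ = lift g x := by
    intro x h
    rw [comp_lift, ← Category.assoc (cO x h) qO,
      show cO x h ≫ qO = 𝟙 _ from Over.OverMorphism.ext (pullback.lift_snd _ _ _), Category.id_comp,
      show cO x h ≫ ιC = x from Over.OverMorphism.ext (pullback.lift_fst _ _ _)]
  rw [← hc x₁ rfl, ← hc x₂ hx.symm, Category.assoc, Category.assoc]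
  exact Over.OverMorphism.ext key

/-- Blanchard: a connected group moves fibres with the same image to fibres with the same image. -/
theorem eq_of_connected [LocallyOfFiniteType G.hom] [ConnectedSpace G.left] [IsProper f.left]
    [GeometricallyConnected f.left] {K : Type u} [Field K] [IsAlgClosed K]
    (s : Spec (CommRingCat.of K) ⟶ Spec (CommRingCat.of k)) (g : Over.mk s ⟶ G) (x₁ x₂ : Over.mk s ⟶ X)
    (hx : x₁ ≫ f = x₂ ≫ f) : lift g x₁ ≫ a.act ≫ f = lift g x₂ ≫ a.act ≫ f := by
  let T : Over (Spec (CommRingCat.of k)) := Over.mk s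
  let pt : T.left := IsLocalRing.closedPoint K
  haveI : GeometricallyConnected G.hom :=
    H28NT.geometricallyConnected_of_section G.hom η[G].left (Over.w η[G])
  haveI := geometricallyIrreducible_of_geometricallyConnected G
  haveI : IrreducibleSpace (G ⊗ T).left :=
    GeometricallyIrreducible.geometrically_irreducibleSpace (f := G.hom) s _ _ (IsPullback.of_hasPullback G.hom s)
  haveI : LocallyOfFiniteType (snd G T).left :=
    MorphismProperty.pullback_snd (P := @LocallyOfFiniteType) G.hom s inferInstance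
  haveI : JacobsonSpace T.left := inferInstanceAs (JacobsonSpace (PrimeSpectrum K))
  haveI : JacobsonSpace (G ⊗ T).left := LocallyOfFiniteType.jacobsonSpace (snd G T).left
  let u : G ⊗ T ⟶ Y := lift (fst G T) (snd G T ≫ x₁) ≫ a.act ≫ f
  let w : G ⊗ T ⟶ G ⊗ Y := lift (fst G T) (snd G T ≫ x₁ ≫ f)
  let v : G ⊗ T ⟶ G ⊗ Y := lift ((snd G T ≫ g) * (fst G T)⁻¹) u
  let O : Set (G ⊗ T).left := w.left ⁻¹' nice f a
  let N : Set (G ⊗ T).left := v.left ⁻¹' nice f a
  have hO : IsOpen O := (isOpen_nice f a).preimage w.left.continuous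
  have hN : IsOpen N := (isOpen_nice f a).preimage v.left.continuous
  have hO' : O.Nonempty := ⟨(lift (1 : T ⟶ G) (𝟙 T)).left pt, by
    show w.left _ ∈ nice f a
    rw [← Scheme.Hom.comp_apply, ← Over.comp_left,
      show lift (1 : T ⟶ G) (𝟙 T) ≫ w = lift 1 (x₁ ≫ f) by
        rw [comp_lift, lift_fst, lift_snd_assoc, Category.id_comp]]
    exact unit_mem_nice f a _ _⟩
  have hN' : N.Nonempty := ⟨(lift g (𝟙 T)).left pt, by
    show v.left _ ∈ nice f a
    rw [← Scheme.Hom.comp_apply, ← Over.comp_left,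
      show lift g (𝟙 T) ≫ v = lift 1 (lift g (𝟙 T) ≫ u) by
        rw [comp_lift, MonObj.comp_mul, GrpObj.comp_inv, lift_fst, lift_snd_assoc, Category.id_comp,
          mul_inv_cancel]]
    exact unit_mem_nice f a _ _⟩
  obtain ⟨z, hz, hzc⟩ := nonempty_inter_closedPoints (Z := O ∩ N)
    (nonempty_preirreducible_inter hO hN hO' hN') (hO.inter hN).isLocallyClosed
  obtain ⟨σ, hσ, hσz⟩ : ∃ σ : Spec (CommRingCat.of K) ⟶ (G ⊗ T).left, σ ≫ (snd G T).left = 𝟙 _ ∧ σ pt = z :=
    ⟨pointOfClosedPoint (snd G T).left z hzc, pointOfClosedPoint_comp _ z hzc,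
      pointOfClosedPoint_apply _ z hzc _⟩
  let h : T ⟶ G ⊗ T := Over.homMk σ (by rw [← Over.w (snd G T), reassoc_of% hσ])
  have hh : h ≫ snd G T = 𝟙 T := Over.OverMorphism.ext hσ
  let h' : T ⟶ G := h ≫ fst G T
  have e₁ : lift h' x₁ ≫ a.act ≫ f = lift h' x₂ ≫ a.act ≫ f := by
    refine slice f a s h' x₁ x₂ hx ?_
    have : (h ≫ w).left pt ∈ nice f a := by rw [Over.comp_left, Scheme.Hom.comp_apply]; exact hσz.symm ▸ hz.1
    rwa [show h ≫ w = lift h' (x₁ ≫ f) by rw [comp_lift, reassoc_of% hh]] at this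
  have e₂ : lift (g * h'⁻¹) (lift h' x₁ ≫ a.act) ≫ a.act ≫ f =
      lift (g * h'⁻¹) (lift h' x₂ ≫ a.act) ≫ a.act ≫ f := by
    refine slice f a s _ _ _ (by rw [Category.assoc, Category.assoc, e₁]) ?_
    have : (h ≫ v).left pt ∈ nice f a := by rw [Over.comp_left, Scheme.Hom.comp_apply]; exact hσz.symm ▸ hz.2
    rwa [show h ≫ v = lift (g * h'⁻¹) ((lift h' x₁ ≫ a.act) ≫ f) by
      rw [comp_lift, MonObj.comp_mul, GrpObj.comp_inv, reassoc_of% hh]
      simp only [u, comp_lift_assoc, reassoc_of% hh, Category.assoc]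
      rfl] at this
  simpa only [← Category.assoc, lift_act, inv_mul_cancel_right] using e₂

include f in
/-- The constancy hypothesis, from geometric points. -/
theorem const_of_field_points
    (h : ∀ (K : Type u) [Field K] [IsAlgClosed K] (s : Spec (CommRingCat.of K) ⟶ Spec (CommRingCat.of k))
      (g : Over.mk s ⟶ G) (x₁ x₂ : Over.mk s ⟶ X), x₁ ≫ f = x₂ ≫ f →
        lift g x₁ ≫ a.act ≫ f = lift g x₂ ≫ a.act ≫ f)
    (p q : ↥(G ⊗ X).left) (hpq : (G ◁ f).left.base p = (G ◁ f).left.base q) :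
    (a.act ≫ f).left.base p = (a.act ≫ f).left.base q := by
  obtain ⟨z, hz₁, hz₂⟩ := Scheme.Pullback.exists_preimage_pullback (f := (G ◁ f).left) (g := (G ◁ f).left) p q hpq
  let P := pullback (G ◁ f).left (G ◁ f).left
  let K := AlgebraicClosure (P.residueField z)
  let t : Spec (CommRingCat.of K) ⟶ P :=
    Spec.map (CommRingCat.ofHom (algebraMap (P.residueField z) K)) ≫ P.fromSpecResidueField z
  let pt : Spec (CommRingCat.of K) := IsLocalRing.closedPoint K
  have htz : t pt = z := by
    show (Spec.map _ ≫ _) pt = z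
    rw [Scheme.Hom.comp_apply]
    exact Scheme.fromSpecResidueField_apply z _
  let s := t ≫ pullback.fst _ _ ≫ (G ⊗ X).hom
  let p' : Over.mk s ⟶ G ⊗ X := Over.homMk (t ≫ pullback.fst _ _) (Category.assoc _ _ _)
  let q' : Over.mk s ⟶ G ⊗ X := Over.homMk (t ≫ pullback.snd _ _) (by
    show (t ≫ pullback.snd _ _) ≫ (G ⊗ X).hom = t ≫ pullback.fst _ _ ≫ (G ⊗ X).hom
    rw [Category.assoc, ← Over.w (G ◁ f), pullback.condition_assoc])
  have hw : p' ≫ (G ◁ f) = q' ≫ (G ◁ f) := Over.OverMorphism.ext (by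
    simp only [Over.comp_left, p', q', Over.homMk_left, Category.assoc, pullback.condition])
  have hg : p' ≫ fst G X = q' ≫ fst G X := by
    simpa using congrArg (· ≫ fst G Y) hw
  have hxf : (p' ≫ snd G X) ≫ f = (q' ≫ snd G X) ≫ f := by
    simpa using congrArg (· ≫ snd G Y) hw
  have key := h K s (p' ≫ fst G X) (p' ≫ snd G X) (q' ≫ snd G X) hxf
  conv_rhs at key => rw [hg]
  rw [← comp_lift_assoc, ← comp_lift_assoc, lift_fst_snd, Category.id_comp] at key
  have key' := congrArg (fun m : Over.mk s ⟶ Y => m.left pt) key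
  simp only [Over.comp_left, Scheme.Hom.comp_apply, p', q', Over.homMk_left] at key'
  erw [htz, hz₁, hz₂] at key'
  exact key'

end Connected

end Groth.Agent.H19Grp.Blanchard
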