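import Groth.Agent.H19Grp.CosetMap

/-!
# Characters of a normal subgroup of a connected group over an algebraically closed field

Let `v` be a vector whose stabiliser line contains the points in a normal family `K` of a group whose
coordinate ring is a domain. The character through which `K` acts on the line is invariant under conjugation,
so the functions `g ↦ (g v)_i (g⁻¹ v)_j` are right invariant under `K`.
-/

set_option autoImplicit false
set_option maxHeartbeats 1000000
set_option synthInstance.maxHeartbeats 400000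
set_option linter.style.haveILetI false
set_option backward.isDefEq.respectTransparency false

universe u

open TensorProduct WithConv

namespace Groth.Agent.H19Grp.CharRigid

open H20Dyn (mcoef)

variable {k : Type u} [Field k] {A : Type u} [CommRing A] [HopfAlgebra k A]

section Conv

variable {C D : Type u} [CommRing C] [Algebra k C] [CommRing D] [Algebra k D]

theorem comp_convMul (f : C →ₐ[k] D) (x y : WithConv (A →ₐ[k] C)) :
    toConv (f.comp (x * y).ofConv) = toConv (f.comp x.ofConv) * toConv (f.comp y.ofConv) := by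
  refine WithConv.ext (AlgHom.ext fun a => ?_)
  let r := Coalgebra.Repr.arbitrary k a
  rw [AlgHom.convMul_apply, ofConv_toConv, AlgHom.comp_apply, AlgHom.convMul_apply,
    show CoalgebraStruct.comul (R := k) a = ∑ i ∈ r.index, r.left i ⊗ₜ[k] r.right i from r.eq.symm,
    map_sum, map_sum, map_sum]
  simp

/-- The inverse of a point. -/
noncomputable def pinv (x : WithConv (A →ₐ[k] C)) : WithConv (A →ₐ[k] C) :=
  toConv (x.ofConv.comp (HopfAlgebra.antipodeAlgHom k A))

theorem pinv_mul (x : WithConv (A →ₐ[k] C)) : pinv x * x = 1 := CosetMap.comp_antipode_mul_self x.ofConv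

theorem mul_pinv (x : WithConv (A →ₐ[k] C)) : x * pinv x = 1 := by
  refine WithConv.ext (AlgHom.ext fun a => ?_)
  let r := Coalgebra.Repr.arbitrary k a
  rw [AlgHom.convMul_apply, show CoalgebraStruct.comul (R := k) a = ∑ i ∈ r.index, r.left i ⊗ₜ[k] r.right i
    from r.eq.symm, map_sum]
  simp only [pinv, Algebra.TensorProduct.lift_tmul, WithConv.ofConv_toConv, AlgHom.comp_apply,
    HopfAlgebra.antipodeAlgHom_apply, ← map_mul]
  rw [← map_sum, HopfAlgebra.sum_mul_antipode_eq_algebraMap_counit r]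
  simp

theorem pinv_pinv (x : WithConv (A →ₐ[k] C)) : pinv (pinv x) = x :=
  left_inv_eq_right_inv (pinv_mul (pinv x)) (pinv_mul x)

theorem pinv_mul_rev (x y : WithConv (A →ₐ[k] C)) : pinv (x * y) = pinv y * pinv x :=
  left_inv_eq_right_inv (pinv_mul (x * y))
    (by rw [mul_assoc, ← mul_assoc y, mul_pinv, one_mul, mul_pinv])

theorem comp_pinv (f : C →ₐ[k] D) (x : WithConv (A →ₐ[k] C)) :
    toConv (f.comp (pinv x).ofConv) = pinv (toConv (f.comp x.ofConv)) := rfl

end Conv

/-- A subalgebra of a domain spanned by a finite set which is closed under multiplication and contains one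
is the base field, if the latter is algebraically closed. -/
theorem mem_range_of_span_mul_closed [IsAlgClosed k] {R : Type u} [CommRing R] [Algebra k R] [IsDomain R]
    {σ : Type u} (l : σ →₀ R) (hone : (1 : R) ∈ Submodule.span k (Set.range l))
    (hmul : ∀ i j, l i * l j ∈ Submodule.span k (Set.range l)) (i : σ) : l i ∈ (algebraMap k R).range := by
  classical
  let S : Submodule k R := Submodule.span k (Set.range l)
  have hS : ∀ x y, x ∈ S → y ∈ S → x * y ∈ S := fun x y hx hy => by
    induction hx using Submodule.span_induction with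
    | mem a ha =>
      induction hy using Submodule.span_induction with
      | mem b hb => obtain ⟨i, rfl⟩ := ha; obtain ⟨j, rfl⟩ := hb; exact hmul i j
      | zero => rw [mul_zero]; exact S.zero_mem
      | add b c _ _ h1 h2 => rw [mul_add]; exact S.add_mem h1 h2
      | smul t b _ h1 => rw [mul_smul_comm]; exact S.smul_mem t h1
    | zero => rw [zero_mul]; exact S.zero_mem
    | add b c _ _ h1 h2 => rw [add_mul]; exact S.add_mem h1 h2
    | smul t b _ h1 => rw [smul_mul_assoc]; exact S.smul_mem t h1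
  let S' : Subalgebra k R := S.toSubalgebra hone hS
  haveI : Module.Finite k S' := by
    have hfin : (Set.range l).Finite := by
      refine ((l.support.finite_toSet.image l).insert 0).subset ?_
      rintro _ ⟨j, rfl⟩
      by_cases hj : l j = 0
      · exact Or.inl hj
      · exact Or.inr ⟨j, Finsupp.mem_support_iff.mpr hj, rfl⟩
    exact Module.Finite.iff_fg.mpr (Submodule.fg_span hfin)
  haveI : Algebra.IsIntegral k S' := Algebra.IsIntegral.of_finite k S'
  obtain ⟨c, hc⟩ := (IsAlgClosed.algebraMap_bijective_of_isIntegral (k := k) (K := S')).2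
    ⟨l i, Submodule.subset_span ⟨i, rfl⟩⟩
  exact ⟨c, congrArg Subtype.val hc⟩

/-- The first copy in `A ⊗ (B ⊗ B)`. -/
noncomputable def incl₁ (A B : Type u) [CommRing A] [Algebra k A] [CommRing B] [Algebra k B] :
    A ⊗[k] B →ₐ[k] A ⊗[k] (B ⊗[k] B) :=
  Algebra.TensorProduct.map (AlgHom.id k A) Algebra.TensorProduct.includeLeft

/-- A map applied to the second factor. -/
noncomputable def mapId (A : Type u) {B B' : Type u} [CommRing A] [Algebra k A] [CommRing B] [Algebra k B]
    [CommRing B'] [Algebra k B'] (θ : B →ₐ[k] B') : A ⊗[k] B →ₐ[k] A ⊗[k] B' :=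
  Algebra.TensorProduct.map (AlgHom.id k A) θ

/-- The second copy in `A ⊗ (B ⊗ B)`. -/
noncomputable def incl₂ (A B : Type u) [CommRing A] [Algebra k A] [CommRing B] [Algebra k B] :
    A ⊗[k] B →ₐ[k] A ⊗[k] (B ⊗[k] B) :=
  Algebra.TensorProduct.map (AlgHom.id k A) Algebra.TensorProduct.includeRight

/-- A multiplicative element of `D ⊗ B` over a domain `D` is constant when `k` is algebraically closed. -/
theorem exists_eq_one_tmul [IsAlgClosed k] {D B : Type u} [CommRing D] [Algebra k D] [IsDomain D] [CommRing B]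
    [Algebra k B] (θ : B →ₐ[k] B ⊗[k] B) (η₁ : B →ₐ[k] k) (c : D ⊗[k] B)
    (hθ : mapId D θ c = incl₁ D B c * incl₂ D B c)
    (h1 : TensorProduct.rid k D (η₁.toLinearMap.lTensor D c) = 1) : ∃ χ : B, c = (1 : D) ⊗ₜ[k] χ := by
  classical
  let e := Module.Free.chooseBasis k B
  let l := TensorProduct.equivFinsuppOfBasisRight (M := D) e c
  have hc : c = l.sum fun m a => a ⊗ₜ[k] e m := by
    rw [← TensorProduct.equivFinsuppOfBasisRight_symm_apply, LinearEquiv.symm_apply_apply]
  let cd : Module.Free.ChooseBasisIndex k B × Module.Free.ChooseBasisIndex k B → (D ⊗[k] (B ⊗[k] B) →ₗ[k] D) :=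
    fun p => (TensorProduct.rid k D).toLinearMap ∘ₗ ((e.tensorProduct e).coord p).lTensor D
  have hS : ∀ m, l m ∈ (algebraMap k D).range := by
    refine mem_range_of_span_mul_closed l ?_ fun p q => ?_
    · rw [← h1, hc, map_finsuppSum, map_finsuppSum]
      refine Submodule.sum_mem _ fun m _ => ?_
      simp only [LinearMap.lTensor_tmul, TensorProduct.rid_tmul]
      exact Submodule.smul_mem _ _ (Submodule.subset_span ⟨m, rfl⟩)
    · have h2 : cd (p, q) (incl₁ D B c * incl₂ D B c) = l p * l q := by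
        rw [hc, map_finsuppSum, map_finsuppSum, Finsupp.sum_mul]
        simp only [Finsupp.mul_sum, map_finsuppSum]
        have ht : ∀ m m' (x y : D), cd (p, q) (incl₁ D B (x ⊗ₜ[k] e m) * incl₂ D B (y ⊗ₜ[k] e m')) =
            if m = p then (if m' = q then x * y else 0) else 0 := fun m m' x y => by
          simp [cd, incl₁, incl₂, Finsupp.single_apply, TensorProduct.smul_tmul']
        simp only [ht]
        simp only [Finsupp.sum, Finset.sum_ite_eq', Finsupp.mem_support_iff, ne_eq, ite_not]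
        by_cases hp : l p = 0 <;> by_cases hq : l q = 0 <;> simp [hp, hq]
      rw [← h2, ← hθ, hc, map_finsuppSum, map_finsuppSum]
      refine Submodule.sum_mem _ fun m _ => ?_
      simp only [mapId, Algebra.TensorProduct.map_tmul, AlgHom.coe_id, id_eq, cd, LinearMap.comp_apply,
        LinearMap.lTensor_tmul, LinearEquiv.coe_coe, TensorProduct.rid_tmul]
      exact Submodule.smul_mem _ _ (Submodule.subset_span ⟨m, rfl⟩)
  choose t ht using hS
  refine ⟨l.sum fun m _ => t m • e m, ?_⟩
  rw [hc, Finsupp.sum, Finsupp.sum, TensorProduct.tmul_sum]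
  refine Finset.sum_congr rfl fun m _ => ?_
  rw [← ht m, Algebra.algebraMap_eq_smul_one, TensorProduct.smul_tmul]

variable [IsAlgClosed k] [IsDomain A]
variable {V : Type u} [AddCommGroup V] [Module k V] [HopfRep.Comod k A V]
variable {σ : Type} [Fintype σ] (b : Module.Basis σ k V)

/-- The functions `g ↦ (g v)_i (g⁻¹ v)_j` are invariant under right translation by a normal family of points
which stabilises the line of `v`. -/
theorem mul_antipode_invariant {v : V} (hv : v ≠ 0)
    (K : ∀ (R : Type u) [CommRing R] [Algebra k R], WithConv (A →ₐ[k] R) → Prop)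
    (I : Ideal A) (hK : ∀ (R : Type u) [CommRing R] [Algebra k R] (n : WithConv (A →ₐ[k] R)),
      K R n ↔ ∀ a ∈ I, n.ofConv a = 0)
    (hstab : ∀ (R : Type u) [CommRing R] [Algebra k R] (n : WithConv (A →ₐ[k] R)), K R n →
      SGA3.StabilizesLine k A v R n.ofConv)
    (hmul : ∀ (R : Type u) [CommRing R] [Algebra k R] (n m : WithConv (A →ₐ[k] R)), K R n → K R m → K R (n * m))
    (hinv : ∀ (R : Type u) [CommRing R] [Algebra k R] (n : WithConv (A →ₐ[k] R)), K R n → K R (pinv n))
    (hone : ∀ (R : Type u) [CommRing R] [Algebra k R], K R 1)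
    (hnorm : ∀ (R : Type u) [CommRing R] [Algebra k R] (g n : WithConv (A →ₐ[k] R)), K R n →
      K R (g * n * pinv g))
    (R : Type u) [CommRing R] [Algebra k R] (g n : WithConv (A →ₐ[k] R)) (hn : K R n) (i j : σ) :
    (g * n).ofConv (mcoef (b.coord i) v * HopfAlgebra.antipode k (mcoef (H := A) (b.coord j) v)) =
      g.ofConv (mcoef (b.coord i) v * HopfAlgebra.antipode k (mcoef (H := A) (b.coord j) v)) := by
  classical
  obtain ⟨ψ, hψ⟩ : ∃ ψ : V →ₗ[k] k, ψ v = 1 := by
    obtain ⟨ψ, hψ⟩ := Module.Projective.exists_dual_ne_zero k hv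
    exact ⟨(ψ v)⁻¹ • ψ, by simp [hψ]⟩
  let u := mcoef (H := A) ψ v
  -- the scalar by which a stabilising point acts
  have hsc : ∀ {R : Type u} [CommRing R] [Algebra k R] (n : WithConv (A →ₐ[k] R)), K R n →
      ∀ φ : V →ₗ[k] k, n.ofConv (mcoef φ v) = φ v • n.ofConv u := fun {R} _ _ n hn φ => by
    obtain ⟨c, hc⟩ := (H20Dyn.stabilizesLine_iff _ v).mp (hstab R n hn)
    rw [hc φ, show n.ofConv u = c by rw [hc ψ, hψ, one_smul]]
  have hright : ∀ {R : Type u} [CommRing R] [Algebra k R] (x n : WithConv (A →ₐ[k] R)), K R n →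
      ∀ φ : V →ₗ[k] k, (x * n).ofConv (mcoef φ v) = x.ofConv (mcoef φ v) * n.ofConv u :=
    fun x n hn φ => H20Dyn.mul_apply_mcoef x n v _ φ (hsc n hn)
  have hu1 : ∀ {R : Type u} [CommRing R] [Algebra k R], (1 : WithConv (A →ₐ[k] R)).ofConv u = 1 := by
    intro R _ _
    rw [CosetMap.one_mcoef, hψ, one_smul]
  -- the universal point of the family
  let g₀ : WithConv (A →ₐ[k] A ⊗[k] (A ⧸ I)) := toConv Algebra.TensorProduct.includeLeft
  let n₀ : WithConv (A →ₐ[k] A ⊗[k] (A ⧸ I)) :=
    toConv ((Algebra.TensorProduct.includeRight : (A ⧸ I) →ₐ[k] A ⊗[k] (A ⧸ I)).comp (Ideal.Quotient.mkₐ k I))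
  let c : A ⊗[k] (A ⧸ I) := (g₀ * n₀ * pinv g₀).ofConv u
  have hn₀ : K _ n₀ := (hK _ _).mpr fun a ha => by
    show Algebra.TensorProduct.includeRight (Ideal.Quotient.mkₐ k I a) = (0 : A ⊗[k] (A ⧸ I))
    rw [show Ideal.Quotient.mkₐ k I a = 0 from Ideal.Quotient.eq_zero_iff_mem.mpr ha, map_zero]
  -- evaluation of `c`
  have hev : ∀ {R : Type u} [CommRing R] [Algebra k R] (f : A ⊗[k] (A ⧸ I) →ₐ[k] R),
      f c = (toConv (f.comp g₀.ofConv) * toConv (f.comp n₀.ofConv) * pinv (toConv (f.comp g₀.ofConv))).ofConv u :=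
    fun f => by
    rw [← comp_pinv, ← comp_convMul, ← comp_convMul]
    rfl
  have hPJ : ∀ {T : Type u} [CommRing T] [Algebra k T] (P J₁ J₂ : A ⊗[k] (A ⧸ I) →ₐ[k] T),
      toConv (P.comp g₀.ofConv) = toConv (J₁.comp g₀.ofConv) →
      toConv (J₂.comp g₀.ofConv) = toConv (J₁.comp g₀.ofConv) →
      toConv (P.comp n₀.ofConv) = toConv (J₁.comp n₀.ofConv) * toConv (J₂.comp n₀.ofConv) →
      P c = J₁ c * J₂ c := by
    intro T _ _ P J₁ J₂ e0 e0' e3
    have hk : K _ (toConv (J₂.comp n₀.ofConv)) := (hK _ _).mpr fun a ha => by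
      show J₂ (n₀.ofConv a) = 0
      rw [(hK _ _).mp hn₀ a ha, map_zero]
    rw [hev P, hev J₁, hev J₂, e0, e0', e3]
    generalize toConv (J₁.comp g₀.ofConv) = gg
    rw [show gg * (toConv (J₁.comp n₀.ofConv) * toConv (J₂.comp n₀.ofConv)) * pinv gg =
        (gg * toConv (J₁.comp n₀.ofConv) * pinv gg) * (gg * toConv (J₂.comp n₀.ofConv) * pinv gg) by
        simp only [mul_assoc]; rw [← mul_assoc (pinv gg) gg, pinv_mul, one_mul],
      hright _ _ (hnorm _ _ _ hk) ψ]
  obtain ⟨χ, hχ⟩ : ∃ χ : A ⧸ I, c = (1 : A) ⊗ₜ[k] χ := by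
    let p₁ : WithConv (A →ₐ[k] (A ⧸ I) ⊗[k] (A ⧸ I)) :=
      toConv ((Algebra.TensorProduct.includeLeft : (A ⧸ I) →ₐ[k] (A ⧸ I) ⊗[k] (A ⧸ I)).comp (Ideal.Quotient.mkₐ k I))
    let p₂ : WithConv (A →ₐ[k] (A ⧸ I) ⊗[k] (A ⧸ I)) :=
      toConv ((Algebra.TensorProduct.includeRight : (A ⧸ I) →ₐ[k] (A ⧸ I) ⊗[k] (A ⧸ I)).comp (Ideal.Quotient.mkₐ k I))
    have k1 : K _ p₁ := (hK _ _).mpr fun a ha => by
      show (Algebra.TensorProduct.includeLeft : (A ⧸ I) →ₐ[k] (A ⧸ I) ⊗[k] (A ⧸ I)) (Ideal.Quotient.mkₐ k I a) = 0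
      rw [show Ideal.Quotient.mkₐ k I a = 0 from Ideal.Quotient.eq_zero_iff_mem.mpr ha, map_zero]
    have k2 : K _ p₂ := (hK _ _).mpr fun a ha => by
      show Algebra.TensorProduct.includeRight (Ideal.Quotient.mkₐ k I a) = (0 : (A ⧸ I) ⊗[k] (A ⧸ I))
      rw [show Ideal.Quotient.mkₐ k I a = 0 from Ideal.Quotient.eq_zero_iff_mem.mpr ha, map_zero]
    let θ := Ideal.Quotient.liftₐ I (p₁ * p₂).ofConv ((hK _ _).mp (hmul _ _ _ k1 k2))
    let η₁ := Ideal.Quotient.liftₐ I (1 : WithConv (A →ₐ[k] k)).ofConv ((hK _ _).mp (hone k))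
    refine exists_eq_one_tmul θ η₁ c ?_ ?_
    · let J₁ := incl₁ (k := k) A (A ⧸ I)
      let J₂ := incl₂ (k := k) A (A ⧸ I)
      let P := mapId A θ
      let R' : (A ⧸ I) ⊗[k] (A ⧸ I) →ₐ[k] A ⊗[k] ((A ⧸ I) ⊗[k] (A ⧸ I)) := Algebra.TensorProduct.includeRight
      refine hPJ (T := A ⊗[k] ((A ⧸ I) ⊗[k] (A ⧸ I))) P J₁ J₂ ?_ ?_ ?_
      · exact WithConv.ext (AlgHom.ext fun a => by simp [P, mapId, J₁, incl₁, g₀, Algebra.TensorProduct.one_def])
      · exact WithConv.ext (AlgHom.ext fun a => by simp [J₂, incl₂, J₁, incl₁, g₀, Algebra.TensorProduct.one_def])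
      · refine Eq.trans ?_ (Eq.trans (comp_convMul (A := A) (C := (A ⧸ I) ⊗[k] (A ⧸ I))
          (D := A ⊗[k] ((A ⧸ I) ⊗[k] (A ⧸ I))) R' p₁ p₂) ?_)
        · exact WithConv.ext (AlgHom.ext fun a => by simp [P, mapId, n₀, R', θ])
        congr 1
    · let f : A ⊗[k] (A ⧸ I) →ₐ[k] A :=
        (Algebra.TensorProduct.rid k k A).toAlgHom.comp (Algebra.TensorProduct.map (AlgHom.id k A) η₁)
      have e1 : toConv (f.comp n₀.ofConv) = 1 := WithConv.ext (AlgHom.ext fun a => by
        simp [f, n₀, η₁, Algebra.algebraMap_eq_smul_one])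
      have hf : f c = 1 := by rw [hev f, e1, mul_one, mul_pinv, hu1]
      refine Eq.trans ?_ hf
      generalize c = z
      induction z using TensorProduct.induction_on with
      | zero => simp
      | tmul a x => simp [f]
      | add a x ha hx => simp only [map_add, ha, hx]
  -- the character is invariant
  have hinvar : ∀ {R : Type u} [CommRing R] [Algebra k R] (g n : WithConv (A →ₐ[k] R)), K R n →
      (g * n * pinv g).ofConv u = n.ofConv u := by
    intro R _ _ g n hn
    obtain ⟨ν, hν⟩ : ∃ ν : (A ⧸ I) →ₐ[k] R, ν.comp (Ideal.Quotient.mkₐ k I) = n.ofConv :=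
      ⟨Ideal.Quotient.liftₐ I _ ((hK _ _).mp hn), AlgHom.ext fun _ => rfl⟩
    have key : ∀ x : WithConv (A →ₐ[k] R), (x * n * pinv x).ofConv u = ν χ := fun x => by
      let f : A ⊗[k] (A ⧸ I) →ₐ[k] R := Algebra.TensorProduct.lift x.ofConv ν fun _ _ => Commute.all _ _
      have e1 : toConv (f.comp g₀.ofConv) = x := WithConv.ext (Algebra.TensorProduct.lift_comp_includeLeft _ _ _)
      have e2 : toConv (f.comp n₀.ofConv) = n := WithConv.ext (by
        show f.comp (Algebra.TensorProduct.includeRight.comp (Ideal.Quotient.mkₐ k I)) = _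
        rw [← hν]; ext a; simp [f])
      have := hev f
      rw [e1, e2, hχ, Algebra.TensorProduct.lift_tmul, map_one, one_mul] at this
      exact this.symm
    rw [key g, ← key 1]
    have : pinv (1 : WithConv (A →ₐ[k] R)) = 1 :=
      left_inv_eq_right_inv (pinv_mul (1 : WithConv (A →ₐ[k] R))) (one_mul 1)
    rw [this, one_mul, mul_one]
  have hS' : ∀ (x : WithConv (A →ₐ[k] R)) (a : A), x.ofConv (HopfAlgebra.antipode k a) = (pinv x).ofConv a :=
    fun x a => rfl
  have hnn : n.ofConv u * (pinv n).ofConv u = 1 := by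
    rw [← hright n (pinv n) (hinv _ _ hn) ψ, mul_pinv, hu1]
  have hP2 : (pinv (g * n)).ofConv (mcoef (b.coord j) v) = (pinv g).ofConv (mcoef (b.coord j) v) * (pinv n).ofConv u := by
    rw [show pinv (g * n) = pinv g * (g * pinv n * pinv g) by
      simp only [← mul_assoc, pinv_mul_rev, pinv_mul, one_mul],
      hright _ _ (hnorm _ _ _ (hinv _ _ hn)) _, hinvar g (pinv n) (hinv _ _ hn)]
  rw [map_mul, map_mul, hS', hS', hright g n hn, hP2, mul_mul_mul_comm, hnn, mul_one]

end Groth.Agent.H19Grp.CharRigid
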