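import Groth.Agent.H19Grp.SectionsAlg
import Groth.Agent.H22Alg.FlatSurj
import Groth.Agent.H25Rig.Rigidity

/-!
# Proper flat morphisms with only constant functions on the fibres

If `π : P ⟶ S` is proper, flat, locally of finite presentation, has a section and the global functions
of every fibre are constants, then the functions on `P` are those on `S`, and a morphism from `P`
contracting every fibre to a point factors through `π`. No Noetherian hypothesis.
-/

set_option autoImplicit false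
set_option linter.style.haveILetI false
set_option backward.isDefEq.respectTransparency false

universe u

open CategoryTheory CategoryTheory.Limits AlgebraicGeometry TopologicalSpace TensorProduct

namespace Groth.Agent.H19Grp

/-- The value of a function at an affine point. -/
noncomputable def specVal {P : Scheme.{u}} {B : CommRingCat.{u}} (a : Spec B ⟶ P) (f : Γ(P, ⊤)) : B :=
  (Scheme.ΓSpecIso B).hom (a.appTop f)

theorem specVal_comp {P : Scheme.{u}} {B C : CommRingCat.{u}} (φ : B ⟶ C) (a : Spec B ⟶ P) (f : Γ(P, ⊤)) :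
    specVal (Spec.map φ ≫ a) f = φ (specVal a f) := by
  unfold specVal
  rw [Scheme.Hom.comp_appTop, CommRingCat.comp_apply]
  exact congrArg (fun m : Γ(Spec B, ⊤) ⟶ C => m.hom (a.appTop f)) (Scheme.ΓSpecIso_naturality φ)

theorem injective_stalkMap_of_flat {X Y : Scheme.{u}} (f : X ⟶ Y) (x : X) (h : (f.stalkMap x).hom.Flat) :
    Function.Injective (f.stalkMap x).hom := by
  letI := (f.stalkMap x).hom.toAlgebra
  haveI : Module.Flat (Y.presheaf.stalk (f x)) (X.presheaf.stalk x) := h
  haveI : IsLocalHom (algebraMap (Y.presheaf.stalk (f x)) (X.presheaf.stalk x)) :=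
    inferInstanceAs (IsLocalHom (f.stalkMap x).hom)
  haveI : Module.FaithfullyFlat (Y.presheaf.stalk (f x)) (X.presheaf.stalk x) :=
    Module.FaithfullyFlat.of_flat_of_isLocalHom
  exact FaithfulSMul.algebraMap_injective (Y.presheaf.stalk (f x)) (X.presheaf.stalk x)

section local'

variable {R : CommRingCat.{u}} [IsLocalRing R] {P : Scheme.{u}} (π : P ⟶ Spec R) [IsProper π] [Flat π]
  [LocallyOfFinitePresentation π]

/-- Functions vanishing on a section vanish, over a local base. -/
theorem eq_zero_of_section_local (e : Spec R ⟶ P) (he : e ≫ π = 𝟙 _)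
    (hfib : Function.Bijective (pullback.snd π
      (Spec.map (CommRingCat.ofHom (algebraMap R (IsLocalRing.ResidueField R))))).appTop)
    (f : Γ(P, ⊤)) (hf : e.appTop f = 0) : f = 0 := by
  haveI : CompactSpace P := QuasiCompact.compactSpace_of_compactSpace π
  let 𝒰 : P.OpenCover := P.affineCover.finiteSubcover
  let U := ∐ 𝒰.X
  haveI : IsAffine U := inferInstance
  let B : CommRingCat.{u} := Γ(U, ⊤)
  obtain ⟨p, hp⟩ : ∃ p : Spec B ⟶ P, p = U.isoSpec.inv ≫ Sigma.desc 𝒰.f := ⟨_, rfl⟩
  haveI : Flat (Sigma.desc 𝒰.f) := IsZariskiLocalAtSource.sigmaDesc (P := @Flat) fun _ => inferInstance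
  haveI : LocallyOfFinitePresentation (Sigma.desc 𝒰.f) :=
    IsZariskiLocalAtSource.sigmaDesc (P := @LocallyOfFinitePresentation) fun _ => inferInstance
  haveI : Surjective (Sigma.desc 𝒰.f) := inferInstance
  haveI : P.IsSeparated := ⟨by
    rw [← terminal.comp_from π]; exact MorphismProperty.comp_mem _ _ _ inferInstance inferInstance⟩
  haveI : Flat p := hp ▸ inferInstance
  haveI : LocallyOfFinitePresentation p := hp ▸ inferInstance
  haveI : Surjective p := hp ▸ inferInstance
  haveI : IsAffineHom p := by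
    haveI : IsAffineHom (p ≫ π) := inferInstance
    exact IsAffineHom.of_comp p π
  let Q := pullback p p
  haveI : IsAffine Q := isAffine_of_isAffineHom (pullback.fst p p)
  let C : CommRingCat.{u} := Γ(Q, ⊤)
  obtain ⟨φ, hφ⟩ : ∃ φ : R ⟶ B, Spec.map φ = p ≫ π := ⟨_, Spec.map_preimage _⟩
  obtain ⟨ρ₁, hρ₁⟩ : ∃ ρ : B ⟶ C, Spec.map ρ = Q.isoSpec.inv ≫ pullback.fst p p := ⟨_, Spec.map_preimage _⟩
  obtain ⟨ρ₂, hρ₂⟩ : ∃ ρ : B ⟶ C, Spec.map ρ = Q.isoSpec.inv ≫ pullback.snd p p := ⟨_, Spec.map_preimage _⟩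
  have hφρ : φ ≫ ρ₂ = φ ≫ ρ₁ := Spec.map_injective (by
    simp only [Spec.map_comp, hρ₁, hρ₂, hφ, Category.assoc, pullback.condition_assoc])
  letI : Algebra R B := φ.hom.toAlgebra
  letI : Algebra R C := (φ ≫ ρ₁).hom.toAlgebra
  let r₁ : B →ₐ[R] C := { ρ₁.hom with commutes' := fun _ => rfl }
  let r₂ : B →ₐ[R] C :=
    { ρ₂.hom with commutes' := fun r => congrArg (fun m : R ⟶ C => m.hom r) hφρ }
  haveI : Module.Flat R B := (HasRingHomProperty.Spec_iff (P := @Flat)).mp (hφ ▸ inferInstance)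
  haveI : Algebra.FinitePresentation R B :=
    (HasRingHomProperty.Spec_iff (P := @LocallyOfFinitePresentation)).mp (hφ ▸ inferInstance)
  have hC : Spec.map (φ ≫ ρ₁) = Q.isoSpec.inv ≫ pullback.fst p p ≫ p ≫ π := by
    simp only [Spec.map_comp, hρ₁, hφ, Category.assoc]
  haveI : Module.Flat R C := (HasRingHomProperty.Spec_iff (P := @Flat)).mp (hC ▸ inferInstance)
  haveI : Algebra.FinitePresentation R C :=
    (HasRingHomProperty.Spec_iff (P := @LocallyOfFinitePresentation)).mp (hC ▸ inferInstance)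
  -- the section through the chart
  obtain ⟨i, hi⟩ : ∃ i, e (IsLocalRing.closedPoint R) ∈ Set.range (𝒰.f i) :=
    ⟨_, 𝒰.covers (e (IsLocalRing.closedPoint R))⟩
  have herange : Set.range e ⊆ Set.range (𝒰.f i) := by
    rintro _ ⟨y, rfl⟩
    have hy : y ⤳ IsLocalRing.closedPoint R :=
      (PrimeSpectrum.le_iff_specializes y _).1 (IsLocalRing.le_maximalIdeal y.isPrime.ne_top)
    exact (hy.map e.continuous).mem_open (𝒰.f i).isOpenEmbedding.isOpen_range hi
  let el : Spec R ⟶ Spec B := IsOpenImmersion.lift (𝒰.f i) e herange ≫ Sigma.ι 𝒰.X i ≫ U.isoSpec.hom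
  have hel : el ≫ p = e := by simp [el, hp]
  obtain ⟨εc, hεc⟩ : ∃ εc : B ⟶ R, Spec.map εc = el := ⟨_, Spec.map_preimage _⟩
  have hφε : φ ≫ εc = 𝟙 R := Spec.map_injective (by
    rw [Spec.map_comp, hεc, hφ, ← Category.assoc, hel, he, Spec.map_id])
  let ε : B →ₐ[R] R :=
    { εc.hom with commutes' := fun r => congrArg (fun m : R ⟶ R => m.hom r) hφε }
  -- the closed fibre
  let k := IsLocalRing.ResidueField R
  let ι : Spec (CommRingCat.of k) ⟶ Spec R := Spec.map (CommRingCat.ofHom (algebraMap R k))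
  let a : Spec (CommRingCat.of (k ⊗[R] B)) ⟶ Spec B :=
    Spec.map (CommRingCat.ofHom Algebra.TensorProduct.includeRight.toRingHom)
  let b : Spec (CommRingCat.of (k ⊗[R] B)) ⟶ Spec (CommRingCat.of k) :=
    Spec.map (CommRingCat.ofHom Algebra.TensorProduct.includeLeftRingHom)
  have sqB : IsPullback a b (p ≫ π) ι := by
    have := (isPullback_SpecMap_of_isPushout _ _ _ _ (CommRingCat.isPushout_tensorProduct R k B)).flip
    rw [← hφ]
    exact this
  let aC : Spec (CommRingCat.of (k ⊗[R] C)) ⟶ Spec C :=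
    Spec.map (CommRingCat.ofHom Algebra.TensorProduct.includeRight.toRingHom)
  let bC : Spec (CommRingCat.of (k ⊗[R] C)) ⟶ Spec (CommRingCat.of k) :=
    Spec.map (CommRingCat.ofHom Algebra.TensorProduct.includeLeftRingHom)
  have sqC : IsPullback aC bC (Spec.map (φ ≫ ρ₁)) ι :=
    (isPullback_SpecMap_of_isPushout _ _ _ _ (CommRingCat.isPushout_tensorProduct R k C)).flip
  let q : Spec (CommRingCat.of (k ⊗[R] B)) ⟶ pullback π ι :=
    pullback.lift (a ≫ p) b (by rw [Category.assoc]; exact sqB.w)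
  have hq₁ : q ≫ pullback.fst π ι = a ≫ p := pullback.lift_fst _ _ _
  have hq₂ : q ≫ pullback.snd π ι = b := pullback.lift_snd _ _ _
  have sq1 : IsPullback a q p (pullback.fst π ι) :=
    IsPullback.of_bot (by rw [hq₂]; exact sqB) hq₁.symm (IsPullback.of_hasPullback π ι)
  haveI : Flat q := MorphismProperty.of_isPullback sq1 inferInstance
  haveI : Surjective q := MorphismProperty.of_isPullback sq1 inferInstance
  haveI : QuasiCompact q := MorphismProperty.of_isPullback sq1 inferInstance
  have hk : ∀ y : k ⊗[R] B, r₁.toLinearMap.lTensor k y = r₂.toLinearMap.lTensor k y →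
      ε.toLinearMap.lTensor k y = 0 → y = 0 := by
    intro y h12 hεy
    let w : pullback q q ⟶ Q := pullback.lift (pullback.fst q q ≫ a) (pullback.snd q q ≫ a) (by
      rw [Category.assoc, Category.assoc, ← hq₁, pullback.condition_assoc])
    let θ : pullback q q ⟶ Spec (CommRingCat.of (k ⊗[R] C)) :=
      sqC.lift (w ≫ Q.isoSpec.hom) (pullback.fst q q ≫ b) (by
        rw [hC, Category.assoc, Iso.hom_inv_id_assoc, ← Category.assoc w, pullback.lift_fst,
          Category.assoc, Category.assoc, sqB.w])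
    have hθa : θ ≫ aC = w ≫ Q.isoSpec.hom := sqC.lift_fst _ _ _
    have hθb : θ ≫ bC = pullback.fst q q ≫ b := sqC.lift_snd _ _ _
    let μ₁ := Algebra.TensorProduct.map (AlgHom.id k k) r₁
    let μ₂ := Algebra.TensorProduct.map (AlgHom.id k k) r₂
    have hμ : ∀ (r : B →ₐ[R] C) (z : k ⊗[R] B),
        Algebra.TensorProduct.map (AlgHom.id k k) r z = r.toLinearMap.lTensor k z := by
      intro r z
      induction z using TensorProduct.induction_on with
      | zero => simp
      | tmul c d => simp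
      | add u v hu hv => simp only [map_add, hu, hv]
    have key : ∀ (r : B →ₐ[R] C) (ρ : B ⟶ C) (_ : ∀ x, r x = ρ x) (pr : pullback q q ⟶ _)
        (_ : θ ≫ aC ≫ Spec.map ρ = pr ≫ a) (_ : pr ≫ b = pullback.fst q q ≫ b),
        θ ≫ Spec.map (CommRingCat.ofHom (Algebra.TensorProduct.map (AlgHom.id k k) r).toRingHom) = pr := by
      intro r ρ hr pr h1 h2
      refine sqB.hom_ext ?_ ?_
      · rw [← h1, Category.assoc]
        refine congrArg (θ ≫ ·) ?_
        simp only [a, aC, ← Spec.map_comp]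
        congr 1
        ext x
        show Algebra.TensorProduct.map (AlgHom.id k k) r ((1 : k) ⊗ₜ[R] x) = (1 : k) ⊗ₜ[R] ρ x
        rw [Algebra.TensorProduct.map_tmul, AlgHom.id_apply, hr]
      · rw [h2, ← hθb, Category.assoc]
        refine congrArg (θ ≫ ·) ?_
        simp only [b, bC, ← Spec.map_comp]
        congr 1
        ext x
        simp
    have h₁ := key r₁ ρ₁ (fun _ => rfl) (pullback.fst q q)
      (by rw [← Category.assoc θ, hθa, hρ₁, Category.assoc, Iso.hom_inv_id_assoc, pullback.lift_fst]) rfl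
    have h₂ := key r₂ ρ₂ (fun _ => rfl) (pullback.snd q q)
      (by rw [← Category.assoc θ, hθa, hρ₂, Category.assoc, Iso.hom_inv_id_assoc, pullback.lift_snd])
      (by rw [← hq₂, pullback.condition_assoc])
    let ev : Polynomial (ULift.{u} ℤ) →+* k ⊗[R] B :=
      Polynomial.eval₂RingHom ((Int.castRingHom (k ⊗[R] B)).comp ULift.ringEquiv.toRingHom) y
    let ψ : Spec (CommRingCat.of (k ⊗[R] B)) ⟶ Spec (CommRingCat.of (Polynomial (ULift.{u} ℤ))) :=
      Spec.map (CommRingCat.ofHom ev)
    have hev : μ₁.toRingHom.comp ev = μ₂.toRingHom.comp ev := by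
      refine Polynomial.ringHom_ext (fun n => ?_) ?_
      · simp [ev, μ₁, μ₂]
      · simp only [ev, RingHom.comp_apply, Polynomial.coe_eval₂RingHom, Polynomial.eval₂_X]
        show μ₁ y = μ₂ y
        rw [show μ₁ y = _ from hμ r₁ y, show μ₂ y = _ from hμ r₂ y, h12]
    have hψ : pullback.fst q q ≫ ψ = pullback.snd q q ≫ ψ := by
      rw [← h₁, ← h₂, Category.assoc, Category.assoc]
      simp only [ψ, ← Spec.map_comp, ← CommRingCat.ofHom_comp]
      exact congrArg (fun m => θ ≫ Spec.map (CommRingCat.ofHom m)) hev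
    have hdesc : ∀ {W : Scheme.{u}} (g₁ g₂ : W ⟶ _), g₁ ≫ q = g₂ ≫ q → g₁ ≫ ψ = g₂ ≫ ψ := by
      intro W g₁ g₂ hg
      rw [← pullback.lift_fst (f := q) (g := q) g₁ g₂ hg, Category.assoc, hψ, pullback.lift_snd_assoc]
    haveI : IsIso (pullback.snd π ι).appTop := (ConcreteCategory.isIso_iff_bijective _).mpr hfib
    obtain ⟨g, hg⟩ := H25Rig.exists_factor_of_isIso_appTop (pullback.snd π ι) (EffectiveEpi.desc q ψ hdesc)
    obtain ⟨γ, rfl⟩ : ∃ γ, Spec.map γ = g := ⟨_, Spec.map_preimage _⟩
    have hb : b ≫ Spec.map γ = ψ := by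
      rw [← hq₂, Category.assoc, hg, EffectiveEpi.fac]
    simp only [b, ψ, ← Spec.map_comp] at hb
    have hy : y = γ.hom Polynomial.X ⊗ₜ[R] (1 : B) := by
      have := congrArg (fun m => m.hom Polynomial.X) (Spec.map_injective hb)
      simpa [ev] using this.symm
    rw [hy, LinearMap.lTensor_tmul, AlgHom.toLinearMap_apply, map_one] at hεy
    have h0 := congrArg (TensorProduct.rid R k) hεy
    rw [TensorProduct.rid_tmul, one_smul, map_zero] at h0
    rw [hy, h0, TensorProduct.zero_tmul]
  -- the zero locus of the germs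
  have hf₁ : r₁ (specVal p f) = r₂ (specVal p f) := by
    show ρ₁ (specVal p f) = ρ₂ (specVal p f)
    rw [← specVal_comp, ← specVal_comp, hρ₁, hρ₂, Category.assoc, Category.assoc, pullback.condition]
  have hf₂ : ε (specVal p f) = 0 := by
    show εc (specVal p f) = 0
    rw [← specVal_comp, hεc, hel, specVal, hf, map_zero]
  have hclosed : ∀ x : P, π x = IsLocalRing.closedPoint R → P.presheaf.germ ⊤ x (by trivial) f = 0 := by
    intro x hx
    obtain ⟨u, rfl⟩ := p.surjective x
    have hu : (IsLocalRing.maximalIdeal R).map (algebraMap R B) ≤ u.asIdeal := by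
      rw [Ideal.map_le_iff_le_comap]
      refine le_of_eq (congrArg PrimeSpectrum.asIdeal (?_ : PrimeSpectrum.comap φ.hom u = IsLocalRing.closedPoint R)).symm
      show (Spec.map φ) u = IsLocalRing.closedPoint R
      rw [hφ, Scheme.Hom.comp_apply, hx]
    obtain ⟨s, hs, hs0⟩ := exists_mul_eq_zero r₁ r₂ ε hk hf₁ hf₂ u.asIdeal hu
    refine injective_stalkMap_of_flat p u (Flat.stalkMap p u) ?_
    rw [map_zero, Scheme.Hom.germ_stalkMap_apply]
    have h1 : (Scheme.ΓSpecIso B).inv s * p.appTop f = 0 := by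
      refine (Scheme.ΓSpecIso B).commRingCatIsoToRingEquiv.injective ?_
      show (Scheme.ΓSpecIso B).hom ((Scheme.ΓSpecIso B).inv s * p.appTop f) = (Scheme.ΓSpecIso B).hom 0
      rw [map_mul, map_zero, Iso.inv_hom_id_apply]
      exact hs0
    have h2 : IsUnit ((Spec B).presheaf.germ ⊤ u (by trivial) ((Scheme.ΓSpecIso B).inv s)) := by
      rw [← Scheme.mem_basicOpen_top, basicOpen_eq_of_affine]
      exact hs
    refine h2.mul_right_eq_zero.1 ?_
    show (Spec B).presheaf.germ ⊤ u _ _ * (Spec B).presheaf.germ ⊤ u _ (p.appTop f) = 0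
    exact ((map_mul _ _ _).symm.trans (congrArg _ h1)).trans (map_zero _)
  let Z : Set P := {x | P.presheaf.germ ⊤ x (by trivial) f = 0}
  have hZo : IsOpen Z := by
    refine isOpen_iff_forall_mem_open.2 fun x hx => ?_
    obtain ⟨W, hxW, iW, iT, hW⟩ := P.presheaf.germ_eq x (U := (⊤ : P.Opens)) (V := (⊤ : P.Opens)) (by trivial) (by trivial) f 0
      (by rw [map_zero]; exact hx)
    refine ⟨W, fun y hy => ?_, W.2, hxW⟩
    show P.presheaf.germ ⊤ y (by trivial) f = 0
    rw [← P.presheaf.germ_res_apply iW y hy f, hW, map_zero, map_zero]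
  have hZ : ∀ x, x ∈ Z := by
    by_contra! h
    obtain ⟨x, hx⟩ := h
    have hc : IsClosed (π '' Zᶜ) := π.isClosedMap _ hZo.isClosed_compl
    have hy : π x ⤳ IsLocalRing.closedPoint R :=
      (PrimeSpectrum.le_iff_specializes _ _).1 (IsLocalRing.le_maximalIdeal (π x).isPrime.ne_top)
    obtain ⟨x', hx', hx''⟩ := hy.mem_closed hc ⟨x, hx, rfl⟩
    exact hx' (hclosed x' hx'')
  refine TopCat.Presheaf.section_ext P.sheaf ⊤ f 0 fun x hx => ?_
  rw [map_zero]
  exact hZ x

end local'

theorem bijective_appTop_pullback_pullback {S T T' P : Scheme.{u}} (π : P ⟶ S) (g : T ⟶ S) (j : T' ⟶ T)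
    (h : Function.Bijective (pullback.snd π (j ≫ g)).appTop) :
    Function.Bijective (pullback.snd (pullback.snd π g) j).appTop := by
  rw [← pullbackLeftPullbackSndIso_hom_snd π g j, Scheme.Hom.comp_appTop]
  show Function.Bijective ((pullbackLeftPullbackSndIso π g j).hom.appTop ∘ (pullback.snd π (j ≫ g)).appTop)
  exact (ConcreteCategory.bijective_of_isIso _).comp h

variable {S P : Scheme.{u}} (π : P ⟶ S) [IsProper π] [Flat π] [LocallyOfFinitePresentation π]

/-- Functions vanishing on a section vanish. -/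
theorem eq_zero_of_section (e : S ⟶ P) (he : e ≫ π = 𝟙 _)
    (hfib : ∀ s : S, Function.Bijective (π.fiberToSpecResidueField s).appTop)
    (f : Γ(P, ⊤)) (hf : e.appTop f = 0) : f = 0 := by
  refine TopCat.Presheaf.section_ext P.sheaf ⊤ f 0 fun x _ => ?_
  rw [map_zero]
  let g := S.fromSpecStalk (π x)
  haveI : Flat g := H22Alg.flat_fromSpecStalk S _
  let e' : Spec (S.presheaf.stalk (π x)) ⟶ pullback π g :=
    pullback.lift (g ≫ e) (𝟙 _) (by rw [Category.assoc, he, Category.comp_id, Category.id_comp])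
  have hb : Function.Bijective (pullback.snd (pullback.snd π g)
      (Spec.map (CommRingCat.ofHom (algebraMap (S.presheaf.stalk (π x))
        (IsLocalRing.ResidueField (S.presheaf.stalk (π x))))))).appTop := by
    exact bijective_appTop_pullback_pullback π g _ (hfib (π x))
  have h0 : (pullback.fst π g).appTop f = 0 := by
    refine eq_zero_of_section_local (pullback.snd π g) e' (pullback.lift_snd _ _ _) hb _ ?_
    rw [← CommRingCat.comp_apply, ← Scheme.Hom.comp_appTop, pullback.lift_fst, Scheme.Hom.comp_appTop,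
      CommRingCat.comp_apply, hf, map_zero]
  obtain ⟨z, hz, -⟩ := Scheme.Pullback.exists_preimage_pullback (f := π) (g := g) x
    (IsLocalRing.closedPoint (S.presheaf.stalk (π x))) Scheme.fromSpecStalk_closedPoint.symm
  suffices ∀ (x' : P) (hx' : x' ∈ (⊤ : P.Opens)), x' = pullback.fst π g z →
      P.presheaf.germ ⊤ x' hx' f = 0 from this x (by trivial) hz.symm
  intro x' hx' hz'
  subst hz'
  refine injective_stalkMap_of_flat (pullback.fst π g) z (Flat.stalkMap _ _) ?_
  rw [map_zero, Scheme.Hom.germ_stalkMap_apply]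
  exact (congrArg _ h0).trans (map_zero _)

omit [Flat π] [LocallyOfFinitePresentation π] in
theorem bijective_appTop_fiber [GeometricallyIntegral π] (s : S) :
    Function.Bijective (π.fiberToSpecResidueField s).appTop := by
  haveI : IsProper (π.fiberToSpecResidueField s) := MorphismProperty.pullback_snd _ _ inferInstance
  haveI : GeometricallyIntegral (π.fiberToSpecResidueField s) := MorphismProperty.pullback_snd _ _ inferInstance
  exact H25Rig.bijective_appTop _

/-- The functions on `P` are those of the base. -/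
theorem bijective_appTop_of_section (e : S ⟶ P) (he : e ≫ π = 𝟙 _) [GeometricallyIntegral π] :
    Function.Bijective π.appTop := by
  have hee : ∀ a, e.appTop (π.appTop a) = a := fun a => by
    rw [← CommRingCat.comp_apply, ← Scheme.Hom.comp_appTop, he, Scheme.Hom.id_appTop]; rfl
  refine ⟨Function.LeftInverse.injective hee, fun f => ⟨e.appTop f, ?_⟩⟩
  refine (sub_eq_zero.1 (eq_zero_of_section π e he (bijective_appTop_fiber π) _ ?_)).symm
  rw [map_sub, hee, sub_self]

/-- **Rigidity**: a morphism contracting every fibre to a point factors through the base. -/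
theorem eq_of_const_fibre [GeometricallyIntegral π] (e : S ⟶ P) (he : e ≫ π = 𝟙 _) {Y : Scheme.{u}}
    (h : P ⟶ Y) (hc : ∀ x, h x = h (e (π x))) : h = π ≫ e ≫ h := by
  have key : ∀ s : S, ∃ U : S.Opens, s ∈ U ∧ (π ⁻¹ᵁ U).ι ≫ h = (π ⁻¹ᵁ U).ι ≫ π ≫ e ≫ h := by
    intro s
    obtain ⟨V, hV, hsV, -⟩ := exists_isAffineOpen_mem_and_subset (X := Y) (x := (e ≫ h) s) (U := ⊤) trivial
    obtain ⟨U, hU, hsU, hUV⟩ := exists_isAffineOpen_mem_and_subset (U := (e ≫ h) ⁻¹ᵁ V) hsV
    refine ⟨U, hsU, ?_⟩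
    haveI : IsAffine V.toScheme := hV
    have hle : π ⁻¹ᵁ U ≤ h ⁻¹ᵁ V := fun x hx => by
      show h x ∈ V
      rw [hc x]
      exact hUV hx
    let eU : U.toScheme ⟶ (π ⁻¹ᵁ U).toScheme := IsOpenImmersion.lift (π ⁻¹ᵁ U).ι (U.ι ≫ e) (by
      rintro _ ⟨z, rfl⟩
      refine (π ⁻¹ᵁ U).range_ι.ge ?_
      show π (e (U.ι z)) ∈ U
      rw [← Scheme.Hom.comp_apply, he]
      exact z.2)
    have heU : eU ≫ (π ∣_ U) = 𝟙 _ := by
      rw [← cancel_mono U.ι, Category.assoc, morphismRestrict_ι, IsOpenImmersion.lift_fac_assoc,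
        Category.assoc, he, Category.comp_id, Category.id_comp]
    haveI : GeometricallyIntegral (π ∣_ U) :=
      MorphismProperty.of_isPullback (isPullback_morphismRestrict π U).flip ‹_›
    haveI : IsIso (π ∣_ U).appTop :=
      (ConcreteCategory.isIso_iff_bijective _).mpr (bijective_appTop_of_section (π ∣_ U) eU heU)
    obtain ⟨g, hg⟩ := H25Rig.exists_factor_of_isIso_appTop (π ∣_ U) (h.resLE V (π ⁻¹ᵁ U) hle)
    have h1 : (π ⁻¹ᵁ U).ι ≫ h = (π ∣_ U) ≫ g ≫ V.ι := by
      rw [← Category.assoc, hg, Scheme.Hom.resLE_comp_ι]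
    have h2 : U.ι ≫ e ≫ h = g ≫ V.ι := by
      have hl : eU ≫ (π ⁻¹ᵁ U).ι = U.ι ≫ e := IsOpenImmersion.lift_fac _ _ _
      rw [← Category.assoc, ← hl, Category.assoc, h1, reassoc_of% heU]
    rw [h1, ← h2, morphismRestrict_ι_assoc]
  choose U hsU hU using key
  refine (P.openCoverOfIsOpenCover (fun s => π ⁻¹ᵁ U s) ?_).hom_ext _ _ fun s => hU s
  exact top_le_iff.1 fun x _ => Opens.mem_iSup.2 ⟨π x, hsU _⟩

end Groth.Agent.H19Grp
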