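import Groth.Agent.H25Rig.Rigidity
import Mathlib

/-!
# The locus of collapsed fibres of a closed morphism with `O_S = ξ_* O_X`
-/

set_option autoImplicit false
set_option linter.style.haveILetI false
set_option backward.isDefEq.respectTransparency false

universe u

open CategoryTheory CategoryTheory.Limits AlgebraicGeometry TopologicalSpace

namespace Groth.Agent.H19Grp.Collapse

variable {X Y S : Scheme.{u}} (ξ : X ⟶ S)

/-- The collapsed fibres. -/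
def locus (f : X ⟶ Y) : Set S := {s | ∃ y : Y, ∀ x : X, ξ x = s → f x = y}

variable (h0 : ∀ U : S.Opens, Function.Bijective (ξ.app U).hom) (hξ : IsClosedMap ξ)

include h0 hξ in
theorem surjective : Function.Surjective ξ := by
  intro s
  by_contra h
  let U : S.Opens := ⟨(Set.range ξ)ᶜ, hξ.isClosed_range.isOpen_compl⟩
  have hU : ξ ⁻¹ᵁ U = ⊥ := Opens.ext (Set.eq_empty_of_forall_notMem fun x hx => hx ⟨x, rfl⟩)
  haveI hne : Nonempty U := ⟨⟨s, h⟩⟩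
  haveI : Subsingleton Γ(X, ξ ⁻¹ᵁ U) := by
    rw [hU]; exact inferInstance
  haveI := (h0 U).1.subsingleton
  haveI : Nontrivial Γ(S, U) := inferInstance
  exact not_subsingleton Γ(S, U) inferInstance

include h0 in
theorem bijective_restrict_appTop (U : S.Opens) : Function.Bijective (ξ ∣_ U).appTop.hom := by
  have : (ξ ∣_ U).appTop = U.topIso.hom ≫ ξ.app U ≫ (ξ ⁻¹ᵁ U).topIso.inv := by
    rw [Scheme.Hom.appTop, morphismRestrict_app']
    simp [Scheme.Hom.app_eq_appLE, Scheme.Opens.topIso, Scheme.Hom.appLE_map, Scheme.Hom.map_appLE]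
  rw [this, CommRingCat.hom_comp, CommRingCat.hom_comp, RingHom.coe_comp, RingHom.coe_comp]
  exact ((ConcreteCategory.bijective_of_isIso (ξ ⁻¹ᵁ U).topIso.inv).comp (h0 U)).comp
    (ConcreteCategory.bijective_of_isIso U.topIso.hom)

include h0 hξ in
/-- Morphisms out of an open of `S` are determined by their composites with `ξ`. -/
theorem hom_ext (U : S.Opens) (r₁ r₂ : (U : Scheme.{u}) ⟶ Y) (h : (ξ ∣_ U) ≫ r₁ = (ξ ∣_ U) ≫ r₂) : r₁ = r₂ := by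
  have hset : ∀ u : U, r₁ u = r₂ u := by
    intro u
    obtain ⟨x, hx⟩ := surjective ξ h0 hξ (u : S)
    obtain ⟨z, hz⟩ : ∃ z, (ξ ∣_ U) z = u :=
      ⟨⟨x, by show ξ x ∈ U; rw [hx]; exact u.2⟩, Subtype.ext (by rw [morphismRestrict_base_coe]; exact hx)⟩
    rw [← hz, ← Scheme.Hom.comp_apply, h, Scheme.Hom.comp_apply]
  have key : ∀ u : U, ∃ O : (U : Scheme.{u}).Opens, u ∈ O ∧ O.ι ≫ r₁ = O.ι ≫ r₂ := by
    intro u
    obtain ⟨V, hV, huV, -⟩ := exists_isAffineOpen_mem_and_subset (X := Y) (x := r₁ u) (U := ⊤) trivial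
    haveI : IsAffine V.toScheme := hV
    let O := r₁ ⁻¹ᵁ V ⊓ r₂ ⁻¹ᵁ V
    let W : S.Opens := U.ι ''ᵁ O
    have hW : W ≤ U := U.ι_image_le O
    refine ⟨O, ⟨huV, show r₂ u ∈ V from hset u ▸ huV⟩, ?_⟩
    let g : (W : Scheme.{u}) ⟶ U := S.homOfLE hW
    have hg : ∀ w, g w ∈ O := fun w => by
      obtain ⟨o, ho, how⟩ := w.2
      have : g w = o := U.ι.isOpenEmbedding.injective (by
        rw [← Scheme.Hom.comp_apply, Scheme.homOfLE_ι]; exact how.symm)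
      exact this ▸ ho
    let a₁ : (W : Scheme.{u}) ⟶ V := IsOpenImmersion.lift V.ι (g ≫ r₁) (by
      rintro _ ⟨w, rfl⟩; exact V.range_ι.ge (hg w).1)
    let a₂ : (W : Scheme.{u}) ⟶ V := IsOpenImmersion.lift V.ι (g ≫ r₂) (by
      rintro _ ⟨w, rfl⟩; exact V.range_ι.ge (hg w).2)
    have hξa : (ξ ∣_ W) ≫ a₁ = (ξ ∣_ W) ≫ a₂ := by
      rw [← cancel_mono V.ι]
      simp only [Category.assoc, a₁, a₂, IsOpenImmersion.lift_fac]
      have hc : (ξ ∣_ W) ≫ g = X.homOfLE (ξ.preimage_mono hW) ≫ (ξ ∣_ U) := by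
        rw [← cancel_mono U.ι]
        simp only [Category.assoc, g, Scheme.homOfLE_ι, morphismRestrict_ι, Scheme.homOfLE_ι_assoc]
      rw [← Category.assoc, hc, Category.assoc, h, ← Category.assoc, ← hc, Category.assoc]
    have ha : a₁ = a₂ := by
      apply ext_of_isAffine
      have := congrArg Scheme.Hom.appTop hξa
      rw [Scheme.Hom.comp_appTop, Scheme.Hom.comp_appTop] at this
      haveI : IsIso (ξ ∣_ W).appTop :=
        (ConcreteCategory.isIso_iff_bijective _).mpr (bijective_restrict_appTop ξ h0 W)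
      exact (cancel_mono (ξ ∣_ W).appTop).mp ‹a₁.appTop ≫ _ = _›
    have h12 : g ≫ r₁ = g ≫ r₂ := by
      have := congrArg (· ≫ V.ι) ha
      simpa only [a₁, a₂, IsOpenImmersion.lift_fac] using this
    let e : (O : Scheme.{u}) ⟶ W := IsOpenImmersion.lift W.ι (O.ι ≫ U.ι) (by
      rintro _ ⟨o, rfl⟩; exact W.range_ι.ge ⟨O.ι o, o.2, rfl⟩)
    have he : e ≫ g = O.ι := by
      rw [← cancel_mono U.ι, Category.assoc, Scheme.homOfLE_ι, IsOpenImmersion.lift_fac]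
    rw [← he, Category.assoc, h12, Category.assoc]
  choose O hO hOe using key
  exact (U.toScheme.openCoverOfIsOpenCover O (top_le_iff.1 fun u _ => Opens.mem_iSup.2 ⟨u, hO u⟩)).hom_ext _ _ hOe

include h0 hξ in
/-- The collapsed locus is open and the morphism factors through it. -/
theorem exists_open_factor (f : X ⟶ Y) : ∃ (U : S.Opens) (r : (U : Scheme.{u}) ⟶ Y),
    (U : Set S) = locus ξ f ∧ (ξ ∣_ U) ≫ r = (ξ ⁻¹ᵁ U).ι ≫ f := by
  have key : ∀ s : locus ξ f, ∃ (W : S.Opens) (r : (W : Scheme.{u}) ⟶ Y),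
      (s : S) ∈ W ∧ (ξ ∣_ W) ≫ r = (ξ ⁻¹ᵁ W).ι ≫ f := by
    rintro ⟨s, y, hy⟩
    obtain ⟨V, hV, hyV, -⟩ := exists_isAffineOpen_mem_and_subset (X := Y) (x := y) (U := ⊤) trivial
    haveI : IsAffine V.toScheme := hV
    let W : S.Opens := ⟨(ξ '' (f ⁻¹' (V : Set Y))ᶜ)ᶜ, (hξ _ (V.2.preimage f.continuous).isClosed_compl).isOpen_compl⟩
    have hsW : s ∈ W := by
      rintro ⟨x, hx, hxs⟩
      exact hx (show f x ∈ V from (hy x hxs).symm ▸ hyV)
    have hle : ξ ⁻¹ᵁ W ≤ f ⁻¹ᵁ V := fun x hx => by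
      by_contra hn
      exact hx ⟨x, hn, rfl⟩
    haveI : IsIso (ξ ∣_ W).appTop :=
      (ConcreteCategory.isIso_iff_bijective _).mpr (bijective_restrict_appTop ξ h0 W)
    obtain ⟨g, hg⟩ := H25Rig.exists_factor_of_isIso_appTop (ξ ∣_ W) (f.resLE V (ξ ⁻¹ᵁ W) hle)
    exact ⟨W, g ≫ V.ι, hsW, by rw [← Category.assoc, hg, Scheme.Hom.resLE_comp_ι]⟩
  choose W r hW hr using key
  have hsub : ∀ s, (W s : Set S) ⊆ locus ξ f := by
    intro s t ht
    refine ⟨r s ⟨t, ht⟩, fun x hx => ?_⟩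
    obtain rfl := hx
    exact (congrArg (fun m : (ξ ⁻¹ᵁ W s).toScheme ⟶ Y => m ⟨x, ht⟩) (hr s)).symm.trans
      (congrArg (r s) (Subtype.ext (morphismRestrict_base_coe ξ (W s) ⟨x, ht⟩)))
  let 𝒰 := Scheme.Opens.iSupOpenCover W
  have hcompat : ∀ i j, pullback.fst (𝒰.f i) (𝒰.f j) ≫ r i = pullback.snd (𝒰.f i) (𝒰.f j) ≫ r j := by
    intro i j
    let P := pullback (𝒰.f i) (𝒰.f j)
    let a : P ⟶ S := pullback.fst (𝒰.f i) (𝒰.f j) ≫ (W i).ι
    haveI : IsOpenImmersion a := inferInstance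
    have hf : ∀ k, 𝒰.f k ≫ (⨆ k, W k).ι = (W k).ι := fun k => Scheme.homOfLE_ι _ (le_iSup W k)
    have hb : a = pullback.snd (𝒰.f i) (𝒰.f j) ≫ (W j).ι := by
      have h := congrArg (· ≫ (⨆ k, W k).ι) (pullback.condition (f := 𝒰.f i) (g := 𝒰.f j))
      simpa only [a, Category.assoc, hf] using h
    rw [← cancel_epi a.isoOpensRange.inv]
    refine hom_ext ξ h0 hξ a.opensRange _ _ ?_
    have comp : ∀ k (p : P ⟶ W k) (_ : p ≫ (W k).ι = a),
        (ξ ∣_ a.opensRange) ≫ a.isoOpensRange.inv ≫ p ≫ r k = (ξ ⁻¹ᵁ a.opensRange).ι ≫ f := by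
      intro k p hp
      let l : (ξ ⁻¹ᵁ a.opensRange).toScheme ⟶ (ξ ⁻¹ᵁ W k).toScheme :=
        IsOpenImmersion.lift (ξ ⁻¹ᵁ W k).ι (ξ ⁻¹ᵁ a.opensRange).ι (by
          rintro _ ⟨x, rfl⟩
          refine (ξ ⁻¹ᵁ W k).range_ι.ge ?_
          obtain ⟨z, hz⟩ := x.2
          show ξ ((ξ ⁻¹ᵁ a.opensRange).ι x) ∈ W k
          rw [show ξ ((ξ ⁻¹ᵁ a.opensRange).ι x) = a z from hz.symm, ← hp, Scheme.Hom.comp_apply]
          exact (p z).2)
      have hl : l ≫ (ξ ∣_ W k) = (ξ ∣_ a.opensRange) ≫ a.isoOpensRange.inv ≫ p := by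
        rw [← cancel_mono (W k).ι]
        simp only [Category.assoc, morphismRestrict_ι, hp, l, IsOpenImmersion.lift_fac_assoc,
          Scheme.Hom.isoOpensRange_inv_comp]
      rw [← Category.assoc a.isoOpensRange.inv p, ← Category.assoc (ξ ∣_ a.opensRange), ← hl, Category.assoc, hr,
        ← Category.assoc, IsOpenImmersion.lift_fac]
    rw [comp i _ rfl, comp j _ hb.symm]
  let R := 𝒰.glueMorphisms r hcompat
  refine ⟨⨆ s, W s, R, ?_, ?_⟩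
  · ext t
    rw [Opens.coe_iSup, Set.mem_iUnion]
    exact ⟨fun ⟨s, hs⟩ => hsub s hs, fun ht => ⟨⟨t, ht⟩, hW ⟨t, ht⟩⟩⟩
  · let O : locus ξ f → (ξ ⁻¹ᵁ ⨆ s, W s).toScheme.Opens := fun s => (ξ ⁻¹ᵁ ⨆ s, W s).ι ⁻¹ᵁ (ξ ⁻¹ᵁ W s)
    refine ((ξ ⁻¹ᵁ ⨆ s, W s).toScheme.openCoverOfIsOpenCover O (top_le_iff.1 fun x _ => ?_)).hom_ext _ _ fun s => ?_
    · obtain ⟨s, hs⟩ := Opens.mem_iSup.1 (show ξ x.1 ∈ ⨆ s, W s from x.2)
      exact Opens.mem_iSup.2 ⟨s, hs⟩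
    · show (O s).ι ≫ (ξ ∣_ ⨆ s, W s) ≫ R = (O s).ι ≫ (ξ ⁻¹ᵁ ⨆ s, W s).ι ≫ f
      let l : (O s : Scheme.{u}) ⟶ (ξ ⁻¹ᵁ W s).toScheme :=
        IsOpenImmersion.lift (ξ ⁻¹ᵁ W s).ι ((O s).ι ≫ (ξ ⁻¹ᵁ ⨆ s, W s).ι) (by
          rintro _ ⟨x, rfl⟩; exact (ξ ⁻¹ᵁ W s).range_ι.ge x.2)
      have hl : (O s).ι ≫ (ξ ∣_ ⨆ s, W s) = l ≫ (ξ ∣_ W s) ≫ 𝒰.f s := by
        rw [← cancel_mono (⨆ s, W s).ι]
        have hfs : 𝒰.f s ≫ (⨆ k, W k).ι = (W s).ι := Scheme.homOfLE_ι _ (le_iSup W s)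
        simp only [Category.assoc, morphismRestrict_ι, l]
        erw [hfs]
        rw [morphismRestrict_ι]
        erw [IsOpenImmersion.lift_fac_assoc]
        simp only [Category.assoc]
      rw [← Category.assoc, hl, Category.assoc, Category.assoc, Scheme.Cover.ι_glueMorphisms, hr,
        ← Category.assoc, IsOpenImmersion.lift_fac, Category.assoc]

end Groth.Agent.H19Grp.Collapse
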