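import Groth.Agent.H19Grp.AlgClosedGeom
import Groth.Agent.H19Grp.GrpdBasic

/-!
# Unique irreducible components through points of groupoid schemes over a field

`DirGen x` says that any two generizations of `x` have a common generization; in a scheme this means
that exactly one irreducible component passes through `x`.
-/

set_option autoImplicit false
set_option linter.style.haveILetI false
set_option backward.isDefEq.respectTransparency false

universe u v w

open CategoryTheory Limits AlgebraicGeometry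

namespace Groth.Agent.H19Grp

/-- Any two generizations of x have a common generization. -/
def DirGen {α : Type v} [TopologicalSpace α] (x : α) : Prop :=
  ∀ a b, a ⤳ x → b ⤳ x → ∃ c, c ⤳ a ∧ c ⤳ b

theorem DirGen.image {α : Type v} {β : Type w} [TopologicalSpace α] [TopologicalSpace β]
    {f : α → β} (hc : Continuous f) (hg : GeneralizingMap f) {x : α} (h : DirGen x) :
    DirGen (f x) := by
  intro a b ha hb
  obtain ⟨a', ha', rfl⟩ := hg ha
  obtain ⟨b', hb', rfl⟩ := hg hb
  obtain ⟨c, h1, h2⟩ := h a' b' ha' hb'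
  exact ⟨f c, h1.map hc, h2.map hc⟩

theorem DirGen.image_flat {X Y : Scheme.{u}} (f : X ⟶ Y) [Flat f] {x : X} (h : DirGen x) :
    DirGen (f x) :=
  h.image f.continuous (Flat.generalizingMap f)

/-- A point at which generizations are directed lies on only one irreducible component. -/
theorem DirGen.eq_of_mem {α : Type v} [TopologicalSpace α] [QuasiSober α] {x : α} (h : DirGen x)
    {Z₁ Z₂ : Set α} (h₁ : Z₁ ∈ irreducibleComponents α) (h₂ : Z₂ ∈ irreducibleComponents α)
    (hx₁ : x ∈ Z₁) (hx₂ : x ∈ Z₂) : Z₁ = Z₂ := by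
  have g₁ := h₁.1.isGenericPoint_genericPoint (isClosed_of_mem_irreducibleComponents _ h₁)
  have g₂ := h₂.1.isGenericPoint_genericPoint (isClosed_of_mem_irreducibleComponents _ h₂)
  obtain ⟨c, hc₁, hc₂⟩ := h _ _ (g₁.specializes hx₁) (g₂.specializes hx₂)
  have hirr : IsIrreducible (closure ({c} : Set α)) := isIrreducible_singleton.closure
  have hsub : ∀ {Z : Set α}, Z ∈ irreducibleComponents α → ∀ {η : α}, IsGenericPoint η Z →
      c ⤳ η → Z = closure {c} := by
    intro Z hZ η hη hc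
    have hle : Z ⊆ closure {c} := by
      rw [← hη.def]
      exact closure_minimal (Set.singleton_subset_iff.mpr hc.mem_closure) isClosed_closure
    exact hle.antisymm (hZ.2 hirr hle)
  rw [hsub h₁ g₁ hc₁, hsub h₂ g₂ hc₂]

section unit

variable {L : Type u} [Field L] [IsAlgClosed L] {R : Scheme.{u}}

/-- Auxiliary: some point of κ(a) ×_L κ(b) composes to a generization of a. -/
theorem exists_mem_specializes (s t : R ⟶ Spec (CommRingCat.of L))
    (e : Spec (CommRingCat.of L) ⟶ R) (ht : e ≫ t = 𝟙 _) (c : pullback s t ⟶ R)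
    (hr : pullback.lift (𝟙 R) (s ≫ e) (by simp [ht]) ≫ c = 𝟙 R) (a b : R)
    (hb : b ⤳ e (IsLocalRing.closedPoint L)) :
    ∃ z : ↥(pullback (R.fromSpecResidueField a ≫ s) (R.fromSpecResidueField b ≫ t)),
      c (pullback.map _ _ _ _ (R.fromSpecResidueField a) (R.fromSpecResidueField b) (𝟙 _)
        (Category.comp_id _) (Category.comp_id _) z) ⤳ a := by
  set A := R.fromSpecResidueField a with hA
  set B := R.fromSpecResidueField b with hB
  let n : pullback (A ≫ s) t ⟶ pullback s t :=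
    pullback.map _ _ _ _ A (𝟙 R) (𝟙 _) (Category.comp_id _) (by simp)
  let qm : Spec (R.residueField a) ⟶ pullback (A ≫ s) t :=
    pullback.lift (𝟙 _) ((A ≫ s) ≫ e) (by simp [ht])
  let pt := IsLocalRing.closedPoint (R.residueField a)
  have hqa : c (n (qm pt)) = a := by
    rw [← Scheme.Hom.comp_apply, ← Scheme.Hom.comp_apply]
    have : qm ≫ n ≫ c = A ≫ pullback.lift (𝟙 R) (s ≫ e) (by simp [ht]) ≫ c := by
      rw [← Category.assoc, ← Category.assoc]
      congr 1
      apply pullback.hom_ext <;> simp [qm, n] <;> exact Category.id_comp _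
    rw [← Category.assoc] at this
    rw [← Category.assoc, this, hr, Category.comp_id, hA, Scheme.fromSpecResidueField_apply]
  have hsnd : pullback.snd (A ≫ s) t (qm pt) = e (IsLocalRing.closedPoint L) := by
    rw [← Scheme.Hom.comp_apply, pullback.lift_snd, Scheme.Hom.comp_apply]
    congr 1
    exact Subsingleton.elim _ _
  rw [← hsnd] at hb
  obtain ⟨b', hb', hbb⟩ := Flat.generalizingMap (pullback.snd (A ≫ s) t) hb
  obtain ⟨w, hw, -⟩ := Scheme.Pullback.exists_preimage_pullback
    (f := pullback.snd (A ≫ s) t) (g := B) b' (IsLocalRing.closedPoint _)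
    (by rw [hbb, hB, Scheme.fromSpecResidueField_apply])
  refine ⟨(pullbackLeftPullbackSndIso (A ≫ s) t B).hom w, ?_⟩
  have hc : (pullbackLeftPullbackSndIso (A ≫ s) t B).hom ≫
      pullback.map _ _ _ _ A B (𝟙 _) (Category.comp_id _) (Category.comp_id _) =
      pullback.fst _ _ ≫ n := by
    apply pullback.hom_ext
    · simp [n]
    · simp only [Category.assoc, n, pullback.lift_snd, pullbackLeftPullbackSndIso_hom_snd_assoc,
        Category.comp_id, pullback.condition]
  rw [← Scheme.Hom.comp_apply, ← Scheme.Hom.comp_apply, reassoc_of% hc, Scheme.Hom.comp_apply,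
    Scheme.Hom.comp_apply, hw]
  conv_rhs => rw [← hqa]
  exact (hb'.map n.continuous).map c.continuous

/-- Over an algebraically closed field, only one component passes through the unit of a unital
composition law. -/
theorem dirGen_unit_of_isAlgClosed (s t : R ⟶ Spec (CommRingCat.of L))
    (e : Spec (CommRingCat.of L) ⟶ R) (hs : e ≫ s = 𝟙 _) (ht : e ≫ t = 𝟙 _)
    (c : pullback s t ⟶ R)
    (hl : pullback.lift (t ≫ e) (𝟙 R) (by simp [hs]) ≫ c = 𝟙 R)
    (hr : pullback.lift (𝟙 R) (s ≫ e) (by simp [ht]) ≫ c = 𝟙 R) :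
    DirGen (e (IsLocalRing.closedPoint L)) := by
  intro a b ha hb
  haveI := irreducibleSpace_pullback_Spec (R.fromSpecResidueField a ≫ s)
    (R.fromSpecResidueField b ≫ t)
  obtain ⟨z₁, h₁⟩ := exists_mem_specializes s t e ht c hr a b hb
  have hr' : pullback.lift (𝟙 R) (t ≫ e) (by simp [hs]) ≫ (pullbackSymmetry t s).hom ≫ c = 𝟙 R := by
    rw [← Category.assoc]
    refine Eq.trans ?_ hl
    congr 1
    apply pullback.hom_ext <;> simp
  obtain ⟨z₂, h₂⟩ := exists_mem_specializes t s e hs ((pullbackSymmetry t s).hom ≫ c) hr' b a ha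
  let m := pullback.map _ _ _ _ (R.fromSpecResidueField a) (R.fromSpecResidueField b) (𝟙 _)
    (Category.comp_id (R.fromSpecResidueField a ≫ s))
    (Category.comp_id (R.fromSpecResidueField b ≫ t))
  have h₂' : c (m ((pullbackSymmetry (R.fromSpecResidueField b ≫ t)
      (R.fromSpecResidueField a ≫ s)).hom z₂)) ⤳ b := by
    have hm : (pullbackSymmetry (R.fromSpecResidueField b ≫ t)
        (R.fromSpecResidueField a ≫ s)).hom ≫ m =
        pullback.map _ _ _ _ (R.fromSpecResidueField b) (R.fromSpecResidueField a) (𝟙 _)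
          (Category.comp_id _) (Category.comp_id _) ≫ (pullbackSymmetry t s).hom := by
      apply pullback.hom_ext <;> simp [m]
    rw [← Scheme.Hom.comp_apply, ← Scheme.Hom.comp_apply, reassoc_of% hm, Scheme.Hom.comp_apply]
    exact h₂
  let ω := genericPoint ↥(pullback (R.fromSpecResidueField a ≫ s) (R.fromSpecResidueField b ≫ t))
  have hω : ∀ z, c (m ω) ⤳ c (m z) := fun z =>
    ((genericPoint_specializes z).map m.continuous).map c.continuous
  exact ⟨c (m ω), (hω z₁).trans h₁, (hω _).trans h₂'⟩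

end unit

/-- The unit of a unital composition law has a unique component through it, also after extending
one of the structure maps to an algebraically closed field. -/
theorem dirGen_unit_lift {U R : Scheme.{u}} [IsIntegral U] [Subsingleton U] (s t : R ⟶ U)
    (e : U ⟶ R) (hs : e ≫ s = 𝟙 _) (ht : e ≫ t = 𝟙 _) (c : pullback s t ⟶ R)
    (hcs : c ≫ s = pullback.snd s t ≫ s) (hct : c ≫ t = pullback.fst s t ≫ t)
    (hl : pullback.lift (t ≫ e) (𝟙 R) (by simp [hs]) ≫ c = 𝟙 R)
    (hr : pullback.lift (𝟙 R) (s ≫ e) (by simp [ht]) ≫ c = 𝟙 R)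
    {L : Type u} [Field L] [IsAlgClosed L] (p : Spec (CommRingCat.of L) ⟶ U) :
    DirGen (pullback.lift (p ≫ e) (𝟙 _) (by simp [ht] : (p ≫ e) ≫ t = 𝟙 _ ≫ p)
      (IsLocalRing.closedPoint L)) := by
  let R₂ := pullback (pullback.fst t p ≫ s) p
  let s₂ : R₂ ⟶ Spec (CommRingCat.of L) := pullback.snd _ _
  let t₂ : R₂ ⟶ Spec (CommRingCat.of L) := pullback.fst _ _ ≫ pullback.snd t p
  let r : R₂ ⟶ R := pullback.fst _ _ ≫ pullback.fst t p
  have hrs : r ≫ s = s₂ ≫ p := by
    simp only [r, s₂, Category.assoc]; exact pullback.condition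
  have hrt : r ≫ t = t₂ ≫ p := by simp only [r, t₂, Category.assoc, pullback.condition]
  let mk : ∀ {T : Scheme.{u}} (x : T ⟶ R) (lt ls : T ⟶ Spec (CommRingCat.of L))
      (_ : x ≫ t = lt ≫ p) (_ : x ≫ s = ls ≫ p), T ⟶ R₂ := fun x lt ls h h' =>
    pullback.lift (pullback.lift x lt h) ls (by rw [pullback.lift_fst_assoc]; exact h')
  have ext : ∀ {T : Scheme.{u}} (f g : T ⟶ R₂), f ≫ r = g ≫ r → f ≫ t₂ = g ≫ t₂ →
      f ≫ s₂ = g ≫ s₂ → f = g := by
    intro T f g h1 h2 h3
    refine pullback.hom_ext (pullback.hom_ext ?_ ?_) h3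
    · simpa [r] using h1
    · simpa [t₂] using h2
  let e₂ : Spec (CommRingCat.of L) ⟶ R₂ :=
    mk (p ≫ e) (𝟙 _) (𝟙 _) (by simp [ht]) (by simp [hs])
  let pr : pullback s₂ t₂ ⟶ pullback s t :=
    pullback.lift (pullback.fst _ _ ≫ r) (pullback.snd _ _ ≫ r)
      (by simp only [Category.assoc, hrs, hrt]; exact pullback.condition_assoc p)
  let c₂ : pullback s₂ t₂ ⟶ R₂ :=
    mk (pr ≫ c) (pullback.fst _ _ ≫ t₂) (pullback.snd _ _ ≫ s₂)
      (by simp only [pr, Category.assoc, hct, pullback.lift_fst_assoc, hrt])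
      (by simp only [pr, Category.assoc, hcs, pullback.lift_snd_assoc, hrs])
  have hs₂ : e₂ ≫ s₂ = 𝟙 _ := by simp [e₂, mk, s₂]
  have ht₂ : e₂ ≫ t₂ = 𝟙 _ := by simp [e₂, mk, t₂]
  have her : e₂ ≫ r = p ≫ e := by simp [e₂, mk, r]
  have hcr : c₂ ≫ r = pr ≫ c := by simp [c₂, mk, r]
  have hct₂ : c₂ ≫ t₂ = pullback.fst _ _ ≫ t₂ := by simp [c₂, mk, t₂]
  have hcs₂ : c₂ ≫ s₂ = pullback.snd _ _ ≫ s₂ := by simp [c₂, mk, s₂]
  have key := dirGen_unit_of_isAlgClosed s₂ t₂ e₂ hs₂ ht₂ c₂ ?_ ?_
  · have h := key.image_flat (pullback.fst (pullback.fst t p ≫ s) p)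
    rw [← Scheme.Hom.comp_apply] at h
    simpa [e₂, mk] using h
  · apply ext
    · have hp : pullback.lift (t₂ ≫ e₂) (𝟙 R₂) (by simp [hs₂]) ≫ pr =
          r ≫ pullback.lift (t ≫ e) (𝟙 R) (by simp [hs]) := by
        apply pullback.hom_ext <;> simp [pr, her, reassoc_of% hrt] <;> exact Category.id_comp _
      rw [Category.assoc, hcr, reassoc_of% hp, hl, Category.comp_id, Category.id_comp]
    · simp [hct₂, ht₂] <;> exact (Category.id_comp _).symm
    · simp [hcs₂] <;> exact (Category.id_comp _).symm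
  · apply ext
    · have hp : pullback.lift (𝟙 R₂) (s₂ ≫ e₂) (by simp [ht₂]) ≫ pr =
          r ≫ pullback.lift (𝟙 R) (s ≫ e) (by simp [ht]) := by
        apply pullback.hom_ext <;> simp [pr, her, reassoc_of% hrs] <;> exact Category.id_comp _
      rw [Category.assoc, hcr, reassoc_of% hp, hr, Category.comp_id, Category.id_comp]
    · simp [hct₂] <;> exact (Category.id_comp _).symm
    · simp [hcs₂, hs₂] <;> exact (Category.id_comp _).symm

section groupoid

variable {S : Scheme.{u}} (G : Grpd.GroupoidScheme S) [IsIntegral G.U] [Subsingleton G.U]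

theorem dirGen_e_lift {L : Type u} [Field L] [IsAlgClosed L]
    (p : Spec (CommRingCat.of L) ⟶ G.U) :
    DirGen (pullback.lift (p ≫ G.e) (𝟙 _)
      (by simp [G.e_t] : (p ≫ G.e) ≫ G.t = 𝟙 _ ≫ p) (IsLocalRing.closedPoint L)) :=
  dirGen_unit_lift G.s G.t G.e G.e_s G.e_t G.c (c_s G) (c_t G)
    (by simpa using G.e_comp (𝟙 G.R)) (by simpa using G.comp_e (𝟙 G.R)) p

/-- Each point of a groupoid over a field lies on exactly one irreducible component. -/
theorem dirGen_grpd (g : G.R) : DirGen g := by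
  let L := AlgebraicClosure (G.R.residueField g)
  let γ : Spec (CommRingCat.of L) ⟶ G.R :=
    Spec.map (CommRingCat.ofHom (algebraMap (G.R.residueField g) L)) ≫ G.R.fromSpecResidueField g
  let q₁ := pullback.fst G.t (γ ≫ G.s)
  let l₁ := pullback.snd G.t (γ ≫ G.s)
  have hq : (l₁ ≫ γ) ≫ G.s = q₁ ≫ G.t := (Category.assoc _ _ _).trans pullback.condition.symm
  let f : pullback G.t (γ ≫ G.s) ⟶ pullback G.t (γ ≫ G.t) :=
    pullback.lift (mulR G (l₁ ≫ γ) q₁ hq) l₁ ((mulR_t G _ _ _).trans (Category.assoc _ _ _))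
  let q₂ := pullback.fst G.t (γ ≫ G.t)
  let l₂ := pullback.snd G.t (γ ≫ G.t)
  have hq₂ : (l₂ ≫ γ) ≫ G.t = q₂ ≫ G.t := (Category.assoc _ _ _).trans pullback.condition.symm
  let f' : pullback G.t (γ ≫ G.t) ⟶ pullback G.t (γ ≫ G.s) :=
    pullback.lift (mulR G (invR G (l₂ ≫ γ)) q₂ ((invR_s G _).trans hq₂)) l₂
      (((mulR_t G _ _ _).trans (invR_t G _)).trans (Category.assoc _ _ _))
  have h1 : f ≫ f' = 𝟙 _ := by
    apply pullback.hom_ext
    · have e1 : f ≫ invR G (l₂ ≫ γ) = invR G (l₁ ≫ γ) := by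
        rw [comp_invR]; congr 1; simp [f, l₂]
      have e2 : f ≫ q₂ = mulR G (l₁ ≫ γ) q₁ hq := pullback.lift_fst _ _ _
      simp only [Category.assoc, Category.id_comp, f', pullback.lift_fst]
      rw [comp_mulR, mulR_congr G e1 e2]
      exact invR_mulR_cancel G _ _ _
    · simp [f, f', l₂, l₁]
  have h2 : f' ≫ f = 𝟙 _ := by
    apply pullback.hom_ext
    · have e1 : f' ≫ l₁ ≫ γ = l₂ ≫ γ := by simp [f', l₁]
      have e2 : f' ≫ q₁ = mulR G (invR G (l₂ ≫ γ)) q₂ ((invR_s G _).trans hq₂) :=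
        pullback.lift_fst _ _ _
      simp only [Category.assoc, Category.id_comp, f, pullback.lift_fst]
      rw [comp_mulR, mulR_congr G e1 e2]
      exact mulR_invR_cancel G _ _ hq₂
    · simp [f, f', l₂, l₁]
  haveI : IsIso f := ⟨f', h1, h2⟩
  have h := (dirGen_e_lift G (γ ≫ G.s)).image_flat (f ≫ q₂)
  rw [← Scheme.Hom.comp_apply] at h
  have hγ : pullback.lift ((γ ≫ G.s) ≫ G.e) (𝟙 _)
      (by simp [G.e_t] : ((γ ≫ G.s) ≫ G.e) ≫ G.t = 𝟙 _ ≫ γ ≫ G.s) ≫ f ≫ q₂ = γ := by
    simp only [f, q₂, pullback.lift_fst, comp_mulR]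
    refine Eq.trans (mulR_congr G (a' := γ) (b' := γ ≫ G.s ≫ G.e) ?_ ?_ _) (G.comp_e γ)
    · simp [l₁] <;> exact Category.id_comp _
    · simp [q₁]
  rw [hγ] at h
  have hg : γ (IsLocalRing.closedPoint L) = g := by
    rw [Scheme.Hom.comp_apply]
    exact Scheme.fromSpecResidueField_apply _ _
  rwa [hg] at h

end groupoid

end Groth.Agent.H19Grp
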