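import Mathlib

/-!
# A morphism of smooth schemes over a base with etale fibres is etale
-/

set_option autoImplicit false
set_option linter.style.haveILetI false

universe u

open TensorProduct

namespace Groth.Agent.H19Grp

open Module in
/-- Ring form: for `B → C` smooth over `A` whose fibres over every prime of `A` are etale,
`B → C` is etale. -/
theorem formallyEtale_of_etale_fibres {A B C : Type u} [CommRing A] [CommRing B] [CommRing C]
    [Algebra A B] [Algebra A C] [Algebra B C] [IsScalarTower A B C]
    [Algebra.Smooth A B] [Algebra.Smooth A C]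
    (H : ∀ (K : Type u) [Field K] [Algebra A K],
      Algebra.Etale (B ⊗[A] K) ((B ⊗[A] K) ⊗[B] C)) :
    Algebra.FormallyEtale B C := by
  have key : ∀ q : PrimeSpectrum C,
      (∀ x : Ω[C⁄B], (1 : q.asIdeal.ResidueField) ⊗ₜ[C] x = 0) ∧
      rankAtStalk (Ω[C⁄A]) q = rankAtStalk (C ⊗[B] Ω[B⁄A]) q := by
    intro q
    let K := (q.asIdeal.under A).ResidueField
    let B' := B ⊗[A] K
    let C' := B' ⊗[B] C
    haveI : Algebra.Etale B' C' := H K
    letI : Algebra K B' := Algebra.TensorProduct.rightAlgebra
    letI : Algebra C C' := Algebra.TensorProduct.rightAlgebra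
    haveI : IsScalarTower A C C' := IsScalarTower.of_algebraMap_eq' (by
      ext a
      show algebraMap A C' a = algebraMap C C' (algebraMap A C a)
      rw [IsScalarTower.algebraMap_apply A B C, ← IsScalarTower.algebraMap_apply B C C',
        ← IsScalarTower.algebraMap_apply A B C'])
    haveI : Algebra.IsPushout A B K B' := inferInstance
    haveI : Algebra.IsPushout A K B B' := Algebra.IsPushout.symm inferInstance
    haveI : Algebra.IsPushout B C B' C' := Algebra.IsPushout.symm inferInstance
    haveI : Algebra.IsPushout B B' C C' := inferInstance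
    haveI : Algebra.IsPushout A C K C' := (Algebra.IsPushout.comp_iff A B K B' (T := C) (T' := C')).mpr
      inferInstance
    haveI : Algebra.IsPushout A K C C' := Algebra.IsPushout.symm inferInstance
    -- the point of the fibre over q
    let k : K →+* q.asIdeal.ResidueField :=
      Ideal.ResidueField.map (q.asIdeal.under A) q.asIdeal (algebraMap A C) rfl
    let k' : K →ₐ[A] q.asIdeal.ResidueField :=
      { k with
        commutes' := fun a => by
          show k (algebraMap A K a) = _
          simp [k, K, IsScalarTower.algebraMap_apply A C q.asIdeal.ResidueField] }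
    let φ : C' →ₐ[B] q.asIdeal.ResidueField := Algebra.TensorProduct.lift
      (Algebra.TensorProduct.lift (Algebra.ofId B q.asIdeal.ResidueField) k' (fun _ _ => .all _ _))
      (IsScalarTower.toAlgHom B C q.asIdeal.ResidueField) (fun _ _ => .all _ _)
    have hφ : φ.toRingHom.comp (algebraMap C C') = algebraMap C q.asIdeal.ResidueField := by
      ext c
      show φ (1 ⊗ₜ c) = _
      refine (Algebra.TensorProduct.lift_tmul _ _ _ _ _).trans ?_
      rw [map_one, one_mul]
      rfl
    let q' : PrimeSpectrum C' := PrimeSpectrum.comap φ.toRingHom ⊥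
    have hq' : q'.comap (algebraMap C C') = q := by
      apply PrimeSpectrum.ext
      show (Ideal.comap φ.toRingHom ⊥).comap (algebraMap C C') = q.asIdeal
      rw [Ideal.comap_comap, hφ, ← RingHom.ker_eq_comap_bot, Ideal.ker_algebraMap_residueField]
    constructor
    · letI : Algebra C' q.asIdeal.ResidueField := φ.toRingHom.toAlgebra
      haveI : IsScalarTower C C' q.asIdeal.ResidueField := IsScalarTower.of_algebraMap_eq' hφ.symm
      intro x
      have h0 : (1 : C') ⊗ₜ[C] x = (0 : C' ⊗[C] Ω[C⁄B]) :=
        (KaehlerDifferential.tensorKaehlerEquiv B B' C C').injective (Subsingleton.elim _ _)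
      have := congrArg (LinearMap.rTensor Ω[C⁄B]
        ((IsScalarTower.toAlgHom C C' q.asIdeal.ResidueField).toLinearMap)) h0
      simpa using this
    · haveI : Algebra.Smooth K B' := Algebra.Smooth.of_equiv (Algebra.IsPushout.equiv A K B B')
      let b := q.comap (algebraMap B C)
      have h1 : rankAtStalk (Ω[C'⁄K]) q' = rankAtStalk (Ω[C⁄A]) q := by
        rw [rankAtStalk_eq_of_equiv (N := C' ⊗[C] Ω[C⁄A])
          (KaehlerDifferential.tensorKaehlerEquiv A K C C').symm,
          rankAtStalk_baseChange, hq']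
      have h2 : rankAtStalk (Ω[C'⁄K]) q' = rankAtStalk (Ω[B'⁄K]) (q'.comap (algebraMap B' C')) := by
        rw [rankAtStalk_eq_of_equiv (N := C' ⊗[B'] Ω[B'⁄K])
          (KaehlerDifferential.tensorKaehlerEquivOfFormallyEtale K B' C').symm, rankAtStalk_baseChange]
      have h3 : rankAtStalk (Ω[B'⁄K]) (q'.comap (algebraMap B' C')) = rankAtStalk (Ω[B⁄A]) b := by
        rw [rankAtStalk_eq_of_equiv (N := B' ⊗[B] Ω[B⁄A])
          (KaehlerDifferential.tensorKaehlerEquiv A K B B').symm, rankAtStalk_baseChange]
        congr 1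
        show _ = q.comap (algebraMap B C)
        exact (congrArg (fun f => PrimeSpectrum.comap f q')
          ((IsScalarTower.algebraMap_eq B B' C').symm.trans (IsScalarTower.algebraMap_eq B C C'))).trans
          (congrArg (PrimeSpectrum.comap (algebraMap B C)) hq')
      rw [rankAtStalk_baseChange, ← h1, h2, h3]
  haveI : Algebra.FinitePresentation B C :=
    Algebra.FinitePresentation.of_restrict_scalars_finitePresentation A B C
  haveI hsub : Subsingleton Ω[C⁄B] := by
    rw [← Module.support_eq_empty_iff (R := C), Set.eq_empty_iff_forall_notMem]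
    intro q hq
    have := (Module.mem_support_iff_nontrivial_residueField_tensorProduct (R := C) _).mp hq
    exact not_subsingleton _ (subsingleton_of_forall_eq
      (0 : q.asIdeal.ResidueField ⊗[C] Ω[C⁄B]) fun z => by
      induction z with
      | zero => rfl
      | tmul a x =>
        rw [← mul_one a, ← smul_eq_mul, ← TensorProduct.smul_tmul', (key q).1 x, smul_zero]
      | add a b ha hb => rw [ha, hb, add_zero])
  have hsurj : Function.Surjective (KaehlerDifferential.mapBaseChange A B C) := fun x =>
    (KaehlerDifferential.exact_mapBaseChange_map A B C x).mp (Subsingleton.elim _ _)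
  have hbij := Module.bijective_of_surjective_of_rankAtStalk_eq hsurj
    (fun m _ => ((key ⟨m, inferInstance⟩).2).symm)
  refine ⟨hsub, subsingleton_of_forall_eq 0 fun x => ?_⟩
  obtain ⟨y, rfl⟩ := (Algebra.H1Cotangent.exact_map_δ A B C x).mp (hbij.1 (by
    rw [map_zero]
    exact (Algebra.H1Cotangent.exact_δ_mapBaseChange A B C _).mpr ⟨x, rfl⟩))
  rw [Subsingleton.elim y 0, map_zero]

end Groth.Agent.H19Grp

open AlgebraicGeometry CategoryTheory CategoryTheory.Limits

namespace Groth.Agent.H19Grp

set_option backward.isDefEq.respectTransparency false in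
/-- A morphism of smooth `S`-schemes which is etale on every fibre is etale. -/
theorem etale_of_etale_fibres {X Y S : Scheme.{u}} (f : X ⟶ Y) (g : Y ⟶ S) [Smooth g]
    [Smooth (f ≫ g)]
    (H : ∀ (K : Type u) [Field K] (x : Spec (CommRingCat.of K) ⟶ S),
      Etale (pullback.snd f (pullback.fst g x))) : Etale f := by
  rw [HasRingHomProperty.iff_exists_appLE (P := @Etale)
    (RingHom.Etale.stableUnderComposition.stableUnderCompositionWithLocalizationAway
      (RingHom.Etale.propertyIsLocal.HoldsForLocalizationAway RingHom.Etale.containsIdentities)).left]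
  intro pt
  obtain ⟨W, hW, hptW, -⟩ := exists_isAffineOpen_mem_and_subset (x := (f ≫ g) pt) (U := ⊤) trivial
  obtain ⟨V, hV, hptV, hVW'⟩ := exists_isAffineOpen_mem_and_subset (x := f pt) (U := g ⁻¹ᵁ W) hptW
  obtain ⟨U, hU, hptU, hUV'⟩ := exists_isAffineOpen_mem_and_subset (x := pt) (U := f ⁻¹ᵁ V) hptV
  have hVW : V ≤ g ⁻¹ᵁ W := hVW'
  have hUV : U ≤ f ⁻¹ᵁ V := hUV'
  refine ⟨⟨V, hV⟩, ⟨U, hU⟩, hptU, hUV, ?_⟩
  have hUW : U ≤ (f ≫ g) ⁻¹ᵁ W := hUV.trans (fun x hx => hVW hx)
  algebraize [(g.appLE W V hVW).hom, (f.appLE V U hUV).hom, ((f ≫ g).appLE W U hUW).hom]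
  haveI : IsScalarTower Γ(S, W) Γ(Y, V) Γ(X, U) := IsScalarTower.of_algebraMap_eq' (by
    simp only [RingHom.algebraMap_toAlgebra, ← CommRingCat.hom_comp]
    rw [Scheme.Hom.appLE_comp_appLE])
  haveI : Algebra.Smooth Γ(S, W) Γ(Y, V) :=
    RingHom.smooth_algebraMap.mp (by
      rw [RingHom.algebraMap_toAlgebra]
      exact HasRingHomProperty.appLE (P := @Smooth) g inferInstance ⟨W, hW⟩ ⟨V, hV⟩ hVW)
  haveI : Algebra.Smooth Γ(S, W) Γ(X, U) :=
    RingHom.smooth_algebraMap.mp (by
      rw [RingHom.algebraMap_toAlgebra]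
      exact HasRingHomProperty.appLE (P := @Smooth) (f ≫ g) inferInstance ⟨W, hW⟩ ⟨U, hU⟩ hUW)
  haveI : Algebra.FinitePresentation Γ(Y, V) Γ(X, U) :=
    Algebra.FinitePresentation.of_restrict_scalars_finitePresentation Γ(S, W) _ _
  haveI : Algebra.FormallyEtale Γ(Y, V) Γ(X, U) := by
    refine formallyEtale_of_etale_fibres (A := Γ(S, W)) fun K _ _ => ?_
    let B' := Γ(Y, V) ⊗[Γ(S, W)] K
    let k : Spec (CommRingCat.of B') ⟶ Spec Γ(Y, V) :=
      Spec.map (CommRingCat.ofHom (algebraMap Γ(Y, V) B'))
    let x : Spec (CommRingCat.of K) ⟶ S :=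
      Spec.map (CommRingCat.ofHom (algebraMap Γ(S, W) K)) ≫ hW.fromSpec
    let q : Spec (CommRingCat.of B') ⟶ pullback g x :=
      pullback.lift (k ≫ hV.fromSpec)
        (Spec.map (CommRingCat.ofHom (Algebra.TensorProduct.includeRight :
          K →ₐ[Γ(S, W)] B').toRingHom)) (by
          show (k ≫ hV.fromSpec) ≫ g = _ ≫ Spec.map _ ≫ hW.fromSpec
          rw [Category.assoc, ← IsAffineOpen.SpecMap_appLE_fromSpec g hW hV hVW, ← Category.assoc,
            ← Category.assoc]
          congr 1
          rw [← Spec.map_comp, ← Spec.map_comp]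
          congr 1
          ext a
          exact ((Algebra.TensorProduct.includeRight : K →ₐ[Γ(S, W)] B').commutes a).symm)
    let φ : Spec Γ(X, U) ⟶ Spec Γ(Y, V) := Spec.map (f.appLE V U hUV)
    have hsq : hU.fromSpec ≫ f = φ ≫ hV.fromSpec :=
      (IsAffineOpen.SpecMap_appLE_fromSpec f hV hU hUV).symm
    haveI : Etale (pullback.snd φ k) := by
      let p := pullback.fst g x
      haveI := H K x
      have hqp : q ≫ p = k ≫ hV.fromSpec := pullback.lift_fst _ _ _
      haveI : Etale (pullback.snd f (k ≫ hV.fromSpec)) := by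
        rw [← hqp, ← pullbackLeftPullbackSndIso_inv_snd_snd f p q]
        infer_instance
      haveI : Etale (pullback.snd (φ ≫ hV.fromSpec) (k ≫ hV.fromSpec)) := by
        rw [← hsq, ← pullbackRightPullbackFstIso_inv_snd_snd f (k ≫ hV.fromSpec) hU.fromSpec]
        infer_instance
      haveI : IsIso (pullback.mapDesc φ k hV.fromSpec) := by
        refine ⟨pullback.lift (pullback.fst _ _) (pullback.snd _ _) ?_, ?_, ?_⟩
        · rw [← cancel_mono hV.fromSpec, Category.assoc, Category.assoc]
          exact pullback.condition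
        · apply pullback.hom_ext <;> simp [pullback.mapDesc, pullback.map]
        · apply pullback.hom_ext <;> simp [pullback.mapDesc, pullback.map]
      have : pullback.snd φ k = pullback.mapDesc φ k hV.fromSpec ≫
          pullback.snd (φ ≫ hV.fromSpec) (k ≫ hV.fromSpec) := by simp [pullback.mapDesc, pullback.map]
      rw [this]
      infer_instance
    haveI : Etale (Spec.map (CommRingCat.ofHom (algebraMap B' (B' ⊗[Γ(Y, V)] Γ(X, U))))) := by
      rw [show Spec.map (CommRingCat.ofHom (algebraMap B' (B' ⊗[Γ(Y, V)] Γ(X, U)))) =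
          (pullbackSpecIso Γ(Y, V) B' Γ(X, U)).inv ≫ (pullbackSymmetry k φ).hom ≫ pullback.snd φ k
        from by rw [pullbackSymmetry_hom_comp_snd]; exact (pullbackSpecIso_inv_fst' _ _ _).symm]
      infer_instance
    exact RingHom.etale_algebraMap.mp (HasRingHomProperty.Spec_iff.mp this)
  rw [RingHom.Etale]
  exact ⟨inferInstance, inferInstance⟩

end Groth.Agent.H19Grp
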