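import Mathlib
import Groth.Agent.H19Grp.AffinePoints
import Groth.Agent.H19Grp.OrderKills
import Groth.Agent.H19Grp.UnramifiedFibres

/-! Finite group schemes of order prime to the residue characteristics are etale. -/

set_option autoImplicit false
set_option linter.style.haveILetI false
set_option backward.isDefEq.respectTransparency false

universe u

open CategoryTheory CategoryTheory.Limits MonoidalCategory CartesianMonoidalCategory MonObj AlgebraicGeometry

namespace Groth.Agent.H19Grp.EtaleOrder

theorem formallyUnramified_of_finrank_ne_zero {K : Type u} [Field K]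
    (G : Over (Spec (CommRingCat.of K))) [GrpObj G] [IsFinite G.hom]
    (x : Spec (CommRingCat.of K)) (h : (G.hom.finrank x : K) ≠ 0) : FormallyUnramified G.hom := by
  letI : G.left.Over (Spec (CommRingCat.of K)) := ⟨G.hom⟩
  letI : GrpObj (G.left.asOver (Spec (CommRingCat.of K))) := ‹GrpObj G›
  haveI : IsAffine G.left := isAffine_of_isAffineHom G.hom
  letI hH := AffinePoints.hopfOf (CommRingCat.of K) G.left
  letI : Algebra K Γ(G.left, ⊤) := hH.toBialgebra.toAlgebra
  letI : HopfAlgebra K Γ(G.left, ⊤) := hH
  have hw : G.left.isoSpec.hom ≫ Spec.map (CommRingCat.ofHom (algebraMap K Γ(G.left, ⊤))) = G.hom :=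
    Over.w (G.left.isoSpec.hom.asOver (Spec (CommRingCat.of K)))
  haveI : IsFinite (Spec.map (CommRingCat.ofHom (algebraMap K Γ(G.left, ⊤)))) := by
    rw [← MorphismProperty.cancel_left_of_respectsIso @IsFinite G.left.isoSpec.hom, hw]
    infer_instance
  have hfin : (algebraMap K Γ(G.left, ⊤)).Finite := (IsFinite.SpecMap_iff _).1 ‹_›
  haveI : Module.Finite K Γ(G.left, ⊤) := RingHom.finite_algebraMap.1 hfin
  haveI : Flat (Spec.map (CommRingCat.ofHom (algebraMap K Γ(G.left, ⊤)))) :=
    Flat.SpecMap_iff.2 (RingHom.flat_algebraMap_iff.2 inferInstance)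
  rw [← hw, Scheme.Hom.finrank_comp_left_of_isIso, Scheme.Hom.finrank_SpecMap_algebraMap,
    Module.rankAtStalk_eq_finrank_of_free] at h
  haveI := OrderKills.formallyUnramified_of_finrank_ne_zero (k := K) (A := Γ(G.left, ⊤)) h
  rw [← hw]
  haveI : FormallyUnramified (Spec.map (CommRingCat.ofHom (algebraMap K Γ(G.left, ⊤)))) :=
    (HasRingHomProperty.Spec_iff (P := @FormallyUnramified)).2
      (RingHom.formallyUnramified_algebraMap.2 inferInstance)
  exact (MorphismProperty.cancel_left_of_respectsIso @FormallyUnramified _ _).2 ‹_›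

theorem etale_of_fibre_finrank_ne_zero {S : Scheme.{u}} (G : Over S) [GrpObj G] [Flat G.hom]
    [LocallyOfFinitePresentation G.hom]
    (hfin : ∀ s : S, IsFinite (pullback.snd G.hom (S.fromSpecResidueField s)))
    (h : ∀ s : S, ∃ x : Spec (S.residueField s),
      ((pullback.snd G.hom (S.fromSpecResidueField s)).finrank x : S.residueField s) ≠ 0) :
    Etale G.hom := by
  haveI : FormallyUnramified G.hom := formallyUnramified_of_fibres G.hom fun s => by
    letI Gs : Over (Spec (S.residueField s)) := (Over.pullback (S.fromSpecResidueField s)).obj G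
    haveI : IsFinite Gs.hom := hfin s
    letI : GrpObj ((Over.pullback (S.fromSpecResidueField s)).obj G) := Functor.grpObjObj
    obtain ⟨x, hx⟩ := h s
    exact formallyUnramified_of_finrank_ne_zero (K := S.residueField s) Gs x hx
  exact Etale.of_formallyUnramified_of_flat G.hom

end Groth.Agent.H19Grp.EtaleOrder
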