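import Mathlib

/-!
# Fields inside finitely generated domains over algebraically closed fields consist of constants
-/

set_option autoImplicit false
set_option linter.style.haveILetI false

universe u v

open Polynomial

namespace Groth.Agent.H19Grp

/-- The roots of unity of an algebraically closed field form an infinite set. -/
theorem infinite_rootsOfUnity (K : Type u) [Field K] [IsAlgClosed K] :
    {c : K | ∃ n : ℕ, 0 < n ∧ c ^ n = 1}.Infinite := by
  let P := {l : ℕ // l.Prime ∧ (l : K) ≠ 0}
  haveI : Infinite P := by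
    refine Set.infinite_coe_iff.mpr ?_
    refine (Nat.infinite_setOfPred_prime.sdiff (Set.finite_singleton (ringChar K))).mono ?_
    rintro l ⟨hl, hne⟩
    refine ⟨hl, fun h0 => hne ?_⟩
    have hd : ringChar K ∣ l := ringChar.dvd h0
    rcases hl.eq_one_or_self_of_dvd _ hd with h1 | h1
    · exact absurd h1 CharP.ringChar_ne_one
    · exact h1.symm
  have h : ∀ l : P, ∃ c : K, c ^ l.1 = 1 ∧ c ≠ 1 := fun l => by
    haveI : NeZero (l.1 : K) := ⟨l.2.2⟩
    haveI : NeZero l.1 := ⟨l.2.1.ne_zero⟩
    obtain ⟨z, hz⟩ := HasEnoughRootsOfUnity.exists_primitiveRoot K l.1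
    exact ⟨z, hz.pow_eq_one, hz.ne_one l.2.1.one_lt⟩
  choose c hc hc1 using h
  refine (Set.infinite_range_of_injective (f := c) ?_).mono ?_
  · intro l m hlm
    by_contra hne
    have hg : Nat.gcd l.1 m.1 = 1 :=
      (Nat.coprime_primes l.2.1 m.2.1).mpr fun h => hne (Subtype.ext h)
    have := pow_gcd_eq_one.mpr (show c l ^ l.1 = 1 ∧ c l ^ m.1 = 1 from ⟨hc l, by rw [hlm]; exact hc m⟩)
    rw [hg, pow_one] at this
    exact hc1 l this
  · rintro _ ⟨l, rfl⟩
    exact ⟨l.1, l.2.1.pos, hc l⟩

/-- An element of a field inside a finitely generated domain over an algebraically closed field is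
a constant. -/
theorem exists_eq_algebraMap {k : Type v} [Field k] {K A : Type u} [Field K] [IsAlgClosed K]
    [CommRing A] [IsDomain A] [Algebra K A] [Algebra.FiniteType K A] (φ : k →+* A) (x : k) :
    ∃ c : K, φ x = algebraMap K A c := by
  by_contra! hne
  set a := φ x with ha
  let f : K[X] →ₐ[K] A := Polynomial.aeval a
  have hinj : Function.Injective f := by
    rw [injective_iff_map_eq_zero]
    intro p hp
    by_contra hp0
    obtain ⟨c, -, hc⟩ : ∃ c, c ∈ p.roots ∧ a = algebraMap K A c := by
      have hsplit : p = C p.leadingCoeff * (p.roots.map fun c => X - C c).prod :=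
        (IsAlgClosed.splits p).eq_prod_roots
      have hz : aeval a (C p.leadingCoeff * (p.roots.map fun c => X - C c).prod) = 0 := hsplit ▸ hp
      rw [map_mul, aeval_C, map_multiset_prod, Multiset.map_map] at hz
      rcases mul_eq_zero.mp hz with h | h
      · exact absurd ((map_eq_zero _).mp h) (leadingCoeff_ne_zero.mpr hp0)
      · obtain ⟨c, hc, hc0⟩ := Multiset.mem_map.mp (Multiset.prod_eq_zero_iff.mp h)
        exact ⟨c, hc, sub_eq_zero.mp (by simpa using hc0)⟩
    exact hne c hc
  algebraize [f.toRingHom]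
  haveI : FaithfulSMul K[X] A := (faithfulSMul_iff_algebraMap_injective _ _).mpr hinj
  haveI : Module.IsTorsionFree K[X] A := inferInstance
  haveI : Module.Flat K[X] A := inferInstance
  haveI : IsScalarTower K K[X] A := IsScalarTower.of_algebraMap_eq fun c => (f.commutes c).symm
  haveI : Algebra.FiniteType K[X] A := Algebra.FiniteType.of_restrictScalars_finiteType K _ _
  haveI : Algebra.FinitePresentation K[X] A := Algebra.FinitePresentation.of_finiteType.mp inferInstance
  have hopen : IsOpenMap (PrimeSpectrum.comap (algebraMap K[X] A)) :=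
    PrimeSpectrum.isOpenMap_comap_of_hasGoingDown_of_finitePresentation
  obtain ⟨q⟩ : Nonempty (PrimeSpectrum A) := inferInstance
  have hq0 : PrimeSpectrum.comap (algebraMap K[X] A) q ∈
      PrimeSpectrum.comap (algebraMap K[X] A) '' Set.univ := ⟨q, trivial, rfl⟩
  obtain ⟨_, ⟨h, rfl⟩, hqh, hsub⟩ :=
    PrimeSpectrum.isTopologicalBasis_basic_opens.exists_subset_of_mem_open hq0 (hopen _ isOpen_univ)
  have hh : h ≠ 0 := fun h0 => hqh (h0 ▸ Ideal.zero_mem _)
  obtain ⟨c, ⟨n, hn, hcn⟩, hch⟩ :=
    (infinite_rootsOfUnity K).exists_notMem_finite (Polynomial.finite_setOfPred_isRoot hh)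
  let M : PrimeSpectrum K[X] := ⟨RingHom.ker (evalRingHom c), RingHom.ker_isPrime _⟩
  obtain ⟨p, -, hp⟩ := hsub (show M ∈ _ from fun hmem => hch (RingHom.mem_ker.mp hmem))
  have hmem : a - algebraMap K A c ∈ p.asIdeal := by
    have hM : (X - C c : K[X]) ∈ M.asIdeal := RingHom.mem_ker.mpr (by simp)
    rw [← hp] at hM
    have h2 : algebraMap K[X] A (X - C c) ∈ p.asIdeal := hM
    have h3 : algebraMap K[X] A (X - C c) = a - algebraMap K A c := by
      show f (X - C c) = _
      simp [f]
    rwa [h3] at h2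
  have hmem' : a ^ n - 1 ∈ p.asIdeal := by
    have h1 : a ^ n - 1 = a ^ n - algebraMap K A c ^ n := by rw [← map_pow (algebraMap K A), hcn, map_one]
    rw [h1]
    exact Ideal.mem_of_dvd _ (sub_dvd_pow_sub_pow _ _ n) hmem
  by_cases hx : x ^ n - 1 = 0
  · have ha1 : a ^ n = 1 := by rw [ha, ← map_pow, sub_eq_zero.mp hx, map_one]
    have hroot : f (X ^ n - 1) = 0 := by simp [f, ha1]
    exact (X_pow_sub_C_ne_zero hn (1 : K)) (by simpa using hinj (hroot.trans (map_zero f).symm))
  · refine p.isPrime.ne_top (Ideal.eq_top_of_isUnit_mem _ hmem' ?_)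
    rw [show a ^ n - 1 = φ (x ^ n - 1) by simp [ha]]
    exact (isUnit_iff_ne_zero.mpr hx).map φ

end Groth.Agent.H19Grp
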