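import Groth.Agent.H19Grp.GrpdBasic

/-!
# Cartesian squares in a groupoid scheme
-/

universe u

open CategoryTheory CategoryTheory.Limits AlgebraicGeometry

namespace Groth.Agent.H19Grp

variable {S : Scheme.{u}} (G : Grpd.GroupoidScheme S)

/-- (a, b) ↦ b is recovered from (a, b) ↦ a ∘ b: composition is cartesian over s. -/
lemma isPullback_c_snd : IsPullback G.c (pullback.snd G.s G.t) G.s G.s := by
  refine ⟨⟨c_s G⟩, ⟨PullbackCone.IsLimit.mk _
    (fun z => pullback.lift
      (mulR G z.fst (invR G z.snd) (z.condition.trans (invR_t G z.snd).symm)) z.snd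
      ((mulR_s G _ _ _).trans (invR_s G z.snd))) ?_ ?_ ?_⟩⟩
  · intro z; exact mulR_invR_right' G z.fst z.snd z.condition
  · intro z; exact pullback.lift_snd _ _ _
  · intro z m h1 h2
    apply pullback.hom_ext
    · rw [pullback.lift_fst]
      have h3 : mulR G (m ≫ pullback.fst G.s G.t) (m ≫ pullback.snd G.s G.t)
          (by rw [Category.assoc, Category.assoc, pullback.condition]) = z.fst := by
        rw [← comp_mulR G m _ _ pullback.condition, ← c_eq]; exact h1
      rw [← mulR_invR_right G (m ≫ pullback.fst G.s G.t) (m ≫ pullback.snd G.s G.t)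
        (by rw [Category.assoc, Category.assoc, pullback.condition])]
      exact mulR_congr G h3 (by rw [h2]) _
    · rw [pullback.lift_snd, h2]

/-- Composition is a base change of the source map. -/
lemma c_of (P : MorphismProperty Scheme.{u}) [P.IsStableUnderBaseChange] (h : P G.s) : P G.c :=
  P.of_isPullback (isPullback_c_snd G).flip h

end Groth.Agent.H19Grp
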