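import Groth.Prelude.Def_Mor2
import Groth.Prelude.Def_Grpd
import Groth.Agent.H19Grp.GrpdShear
import Groth.Agent.H29Fitt.Sheaf
import Groth.Agent.H29Fitt.LocFree
import Groth.Agent.H29Blow.Basic
import Groth.Agent.H3CAlg.FittPrincipal
import Groth.Agent.H13Grpd.InvariantAffine
import Groth.Agent.H24FSch.Kernels

/-!
# Rank stratification of a finite groupoid

The Fitting ideals of the source map of a finite groupoid are invariant, so the loci of constant rank are
invariant and give invariant subschemes over which source and target are finite locally free.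
-/

set_option autoImplicit false
set_option linter.style.haveILetI false
set_option backward.isDefEq.respectTransparency false
set_option maxHeartbeats 1000000

universe u

open CategoryTheory CategoryTheory.Limits AlgebraicGeometry TopologicalSpace TensorProduct

noncomputable section

namespace Groth.Agent.H19Grp.FittStrata

open scoped Classical

variable {R U : Scheme.{u}}

/-- The Fitting ideal of the global functions of `X` over those of `Y`. -/
def fitTop {X Y : Scheme.{u}} (f : X ⟶ Y) (i : ℕ) : Ideal Γ(Y, ⊤) :=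
  letI := f.appTop.hom.toAlgebra
  Fitt.ideal Γ(Y, ⊤) Γ(X, ⊤) i

theorem fitTop_isPullback {X Y X' Y' : Scheme.{u}} {f : X ⟶ Y} {f' : X' ⟶ Y'} {g : Y' ⟶ Y} {g' : X' ⟶ X}
    [IsAffine Y] [IsAffine Y'] [IsFinite f] (h : IsPullback g' f' f g) (i : ℕ) :
    fitTop f' i = (fitTop f i).map g.appTop.hom := by
  haveI : IsAffine X := isAffine_of_isAffineHom f
  have hp : IsPushout f.appTop g.appTop g'.appTop f'.appTop := isPushout_appTop_of_isPullback h
  letI := f.appTop.hom.toAlgebra
  letI := g.appTop.hom.toAlgebra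
  letI := f'.appTop.hom.toAlgebra
  letI := g'.appTop.hom.toAlgebra
  letI : Algebra Γ(Y, ⊤) Γ(X', ⊤) := (f.appTop ≫ g'.appTop).hom.toAlgebra
  haveI : IsScalarTower Γ(Y, ⊤) Γ(X, ⊤) Γ(X', ⊤) := .of_algebraMap_eq' rfl
  haveI : IsScalarTower Γ(Y, ⊤) Γ(Y', ⊤) Γ(X', ⊤) := .of_algebraMap_eq' (congrArg CommRingCat.Hom.hom hp.w)
  haveI : Algebra.IsPushout Γ(Y, ⊤) Γ(X, ⊤) Γ(Y', ⊤) Γ(X', ⊤) := CommRingCat.isPushout_iff_isPushout.1 hp
  haveI hs : Algebra.IsPushout Γ(Y, ⊤) Γ(Y', ⊤) Γ(X, ⊤) Γ(X', ⊤) := Algebra.IsPushout.symm inferInstance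
  have hfin : (f.appTop.hom).Finite := f.finite_appTop
  haveI : Module.Finite Γ(Y, ⊤) Γ(X, ⊤) := hfin
  show Fitt.ideal Γ(Y', ⊤) Γ(X', ⊤) i = (Fitt.ideal Γ(Y, ⊤) Γ(X, ⊤) i).map g.appTop.hom
  rw [← H29Fitt.ideal_congr hs.out.equiv, H29Fitt.ideal_baseChange]
  rfl

variable (s : R ⟶ U) [IsFinite s]

/-- The Fitting ideal of the base change of `s` to an affine scheme. -/
def fit {V : Scheme.{u}} (g : V ⟶ U) (i : ℕ) : Ideal Γ(V, ⊤) := fitTop (pullback.snd s g) i

instance isFinite_snd {V : Scheme.{u}} (g : V ⟶ U) : IsFinite (pullback.snd s g) :=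
  MorphismProperty.pullback_snd (P := @IsFinite) s g inferInstance

theorem fit_comp {V V' : Scheme.{u}} [IsAffine V] [IsAffine V'] (h : V' ⟶ V) (g : V ⟶ U) (i : ℕ) :
    fit s (h ≫ g) i = (fit s g i).map h.appTop.hom :=
  fitTop_isPullback (g' := pullback.map s (h ≫ g) s g (𝟙 _) h (𝟙 _) (by simp) (by simp))
    (IsPullback.of_right (by simpa using IsPullback.of_hasPullback s (h ≫ g)) (by simp)
      (IsPullback.of_hasPullback s g)) i

/-- The Fitting ideal sheaf of a finite morphism. -/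
def fittData (i : ℕ) : U.IdealSheafData where
  ideal W := haveI : IsAffine W.1.toScheme := W.2
    (fit s W.1.ι i).map W.1.topIso.hom.hom
  map_ideal_basicOpen W f := by
    haveI : IsAffine W.1.toScheme := W.2
    haveI : IsAffine (U.basicOpen f).toScheme := W.2.basicOpen f
    show ((fit s W.1.ι i).map W.1.topIso.hom.hom).map _ = (fit s (U.affineBasicOpen f).1.ι i).map _
    have e : (U.affineBasicOpen f).1.ι = U.homOfLE (U.basicOpen_le f) ≫ W.1.ι := (Scheme.homOfLE_ι _ _).symm
    rw [e, fit_comp, Ideal.map_map, Ideal.map_map, ← CommRingCat.hom_comp, ← CommRingCat.hom_comp]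
    congr 2
    simp [Scheme.Opens.topIso, ← Functor.map_comp]

theorem fittData_comap_affine {V : Scheme.{u}} [IsAffine V] (g : V ⟶ U) (W : U.affineOpens)
    (e : (⊤ : V.Opens) ≤ g ⁻¹ᵁ W.1) (i : ℕ) :
    ((fittData s i).comap g).ideal ⟨⊤, isAffineOpen_top V⟩ = fit s g i := by
  haveI : IsAffine W.1.toScheme := W.2
  let g₁ : V ⟶ W.1 := IsOpenImmersion.lift W.1.ι g (by
    rw [Scheme.Opens.range_ι]; rintro _ ⟨v, rfl⟩; exact e (Set.mem_univ v))
  have hg : g₁ ≫ W.1.ι = g := IsOpenImmersion.lift_fac _ _ _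
  rw [← hg, fit_comp, Scheme.IdealSheafData.comap_comp, H29Blow.ideal_comap_top, H29Blow.ideal_comap_ι]
  congr 1
  show ((fit s W.1.ι i).map W.1.topIso.hom.hom).map W.1.topIso.inv.hom = _
  rw [Ideal.map_map, ← CommRingCat.hom_comp, Iso.hom_inv_id, CommRingCat.hom_id, Ideal.map_id]

theorem fitTop_mono {X Y : Scheme.{u}} (f : X ⟶ Y) {i j : ℕ} (h : i ≤ j) : fitTop f i ≤ fitTop f j := by
  refine Ideal.span_mono ?_
  rintro d ⟨n, x, a, hx, ha, rfl⟩
  exact ⟨n, x, a, hx, fun k hk => ha k (by omega), rfl⟩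

theorem exists_notMem_support (x : U) : ∃ n, x ∉ (fittData s n).support := by
  obtain ⟨W, hW, hxW, -⟩ := exists_isAffineOpen_mem_and_subset (x := x) (U := (⊤ : U.Opens)) trivial
  haveI : IsAffine W.toScheme := hW
  letI := (pullback.snd s W.ι).appTop.hom.toAlgebra
  haveI : Module.Finite Γ(W.toScheme, ⊤) Γ(pullback s W.ι, ⊤) := (pullback.snd s W.ι).finite_appTop
  obtain ⟨n, y, hy⟩ := Module.Finite.exists_fin (R := Γ(W.toScheme, ⊤)) (M := Γ(pullback s W.ι, ⊤))
  refine ⟨n, fun hx => ?_⟩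
  rw [Scheme.IdealSheafData.mem_support_iff_of_mem (U := ⟨W, hW⟩) hxW] at hx
  have h1 : (fittData s n).ideal ⟨W, hW⟩ = ⊤ := by
    show (fit s W.ι n).map W.topIso.hom.hom = ⊤
    rw [show fit s W.ι n = ⊤ from H29Fitt.ideal_eq_top_of_span y hy le_rfl, Ideal.map_top]
  rw [h1, Scheme.mem_zeroLocus_iff] at hx
  exact hx 1 trivial (by rw [Scheme.basicOpen_of_isUnit _ isUnit_one]; exact hxW)

/-- The ideal cutting out rank at least `n`. -/
def atLeast : ℕ → U.IdealSheafData
  | 0 => ⊥
  | n + 1 => fittData s n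

/-- The rank of a finite morphism at a point. -/
def rk (x : U) : ℕ := Nat.find (exists_notMem_support s x)

theorem notMem_support_rk (x : U) : x ∉ (fittData s (rk s x)).support :=
  Nat.find_spec (exists_notMem_support s x)

theorem mem_support_atLeast (x : U) : x ∈ (atLeast s (rk s x)).support := by
  rcases h : rk s x with _ | n
  · show x ∈ (⊥ : U.IdealSheafData).support
    rw [Scheme.IdealSheafData.support_bot]; trivial
  · by_contra hn
    exact Nat.find_min (exists_notMem_support s x) (show n < rk s x by omega) hn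

theorem rk_le_of_notMem {x : U} {n : ℕ} (h : x ∉ (fittData s n).support) : rk s x ≤ n :=
  Nat.find_min' _ h

variable {S : Scheme.{u}} (G : Grpd.GroupoidScheme S) [IsFinite G.s]

/-- The Fitting ideals of the source map are invariant. -/
theorem fittData_invariant (i : ℕ) : (fittData G.s i).comap G.s = (fittData G.s i).comap G.t := by
  refine H29Blow.ext_of_forall_exists fun r => ?_
  obtain ⟨W₁, hW₁, h₁, -⟩ := exists_isAffineOpen_mem_and_subset (x := G.s r) (U := (⊤ : G.U.Opens)) trivial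
  obtain ⟨W₂, hW₂, h₂, -⟩ := exists_isAffineOpen_mem_and_subset (x := G.t r) (U := (⊤ : G.U.Opens)) trivial
  obtain ⟨V, hV, hr, hle⟩ := exists_isAffineOpen_mem_and_subset (x := r) (U := G.s ⁻¹ᵁ W₁ ⊓ G.t ⁻¹ᵁ W₂) ⟨h₁, h₂⟩
  refine ⟨⟨V, hV⟩, hr, ?_⟩
  haveI : IsAffine V.toScheme := hV
  have key : fit G.s (V.ι ≫ G.s) i = fit G.s (V.ι ≫ G.t) i := by
    have hA : IsPullback (pullback.fst G.s (V.ι ≫ G.s)) (pullback.snd G.s (V.ι ≫ G.s)) G.s (V.ι ≫ G.s) :=
      IsPullback.of_hasPullback _ _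
    have hc : IsPullback (pullback.fst (pullback.snd G.s G.t) V.ι ≫ G.c) (pullback.snd (pullback.snd G.s G.t) V.ι)
        G.s (V.ι ≫ G.s) := (IsPullback.of_hasPullback (pullback.snd G.s G.t) V.ι).paste_horiz (isPullback_c_snd G)
    have hd : IsPullback (pullback.fst (pullback.snd G.s G.t) V.ι ≫ pullback.fst G.s G.t)
        (pullback.snd (pullback.snd G.s G.t) V.ι)
        G.s (V.ι ≫ G.t) :=
      (IsPullback.of_hasPullback (pullback.snd G.s G.t) V.ι).paste_horiz (IsPullback.of_hasPullback G.s G.t)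
    have h1 : fitTop (pullback.snd (pullback.snd G.s G.t) V.ι) i = fit G.s (V.ι ≫ G.s) i := by
      haveI : IsFinite (pullback.snd (pullback.snd G.s G.t) V.ι) :=
        MorphismProperty.of_isPullback (P := @IsFinite) hc inferInstance
      rw [show fit G.s (V.ι ≫ G.s) i = fitTop (pullback.snd G.s (V.ι ≫ G.s)) i from rfl,
        fitTop_isPullback (g := 𝟙 _) (g' := hc.isoPullback.inv) (f := pullback.snd (pullback.snd G.s G.t) V.ι)
          (IsPullback.of_horiz_isIso ⟨by simp⟩) i]
      simp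
    have h2 : fitTop (pullback.snd (pullback.snd G.s G.t) V.ι) i = fit G.s (V.ι ≫ G.t) i := by
      haveI : IsFinite (pullback.snd (pullback.snd G.s G.t) V.ι) :=
        MorphismProperty.of_isPullback (P := @IsFinite) hc inferInstance
      rw [show fit G.s (V.ι ≫ G.t) i = fitTop (pullback.snd G.s (V.ι ≫ G.t)) i from rfl,
        fitTop_isPullback (g := 𝟙 _) (g' := hd.isoPullback.inv) (f := pullback.snd (pullback.snd G.s G.t) V.ι)
          (IsPullback.of_horiz_isIso ⟨by simp⟩) i]
      simp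
    exact h1.symm.trans h2
  rw [← fittData_comap_affine G.s (V.ι ≫ G.s) ⟨W₁, hW₁⟩ (fun v _ => (hle v.2).1) i,
    ← fittData_comap_affine G.s (V.ι ≫ G.t) ⟨W₂, hW₂⟩ (fun v _ => (hle v.2).2) i,
    Scheme.IdealSheafData.comap_comp, Scheme.IdealSheafData.comap_comp, H29Blow.ideal_comap_ι _ ⟨V, hV⟩,
    H29Blow.ideal_comap_ι _ ⟨V, hV⟩] at key
  have := congrArg (Ideal.map V.topIso.hom.hom) key
  simpa only [Ideal.map_map, ← CommRingCat.hom_comp, Iso.inv_hom_id, CommRingCat.hom_id, Ideal.map_id] using this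

theorem rk_invariant (r : G.R) : rk G.s (G.s r) = rk G.s (G.t r) := by
  have h : ∀ n, (G.s r ∈ (fittData G.s n).support ↔ G.t r ∈ (fittData G.s n).support) := fun n => by
    have := congrArg (fun I : G.R.IdealSheafData => r ∈ I.support) (fittData_invariant G n)
    simp only [Scheme.IdealSheafData.support_comap] at this
    exact iff_of_eq this
  exact le_antisymm (rk_le_of_notMem G.s fun hh => notMem_support_rk G.s (G.t r) ((h _).1 hh))
    (rk_le_of_notMem G.s fun hh => notMem_support_rk G.s (G.s r) ((h _).2 hh))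

end Groth.Agent.H19Grp.FittStrata
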