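import Groth.Agent.H19Grp.FittStrata
import Groth.Agent.H19Grp.PiClosedGlobal
import Groth.Agent.H19Grp.Components

/-!
# The invariant thickening over which a finite groupoid is finite locally free
-/

set_option autoImplicit false
set_option linter.style.haveILetI false
set_option backward.isDefEq.respectTransparency false
set_option maxHeartbeats 1000000

universe u

open CategoryTheory CategoryTheory.Limits AlgebraicGeometry TopologicalSpace TensorProduct

noncomputable section

namespace Groth.Agent.H19Grp.FittStrata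

open Groth.Agent.H13Grpd (orbit self_mem_orbit orbit_eq orbit_eq_of_mem)

/-- A point lies in a zero locus iff its prime contains the ideal. -/
theorem mem_zeroLocus_iff {X : Scheme.{u}} {U : X.Opens} (hU : IsAffineOpen U) (x : U) (I : Ideal Γ(X, U)) :
    (x : X) ∈ X.zeroLocus (U := U) (I : Set Γ(X, U)) ↔ I ≤ (hU.primeIdealOf x).asIdeal := by
  have key : ∀ r : Γ(X, U), (x : X) ∈ X.basicOpen r ↔ r ∉ (hU.primeIdealOf x).asIdeal := fun r => by
    conv_lhs => rw [← hU.fromSpec_primeIdealOf x]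
    exact SetLike.ext_iff.1 (hU.fromSpec_preimage_basicOpen r) _
  rw [Scheme.mem_zeroLocus_iff]
  exact ⟨fun h a ha => by_contra fun hn => h a ha ((key a).2 hn), fun h a ha hx => (key a).1 hx (h ha)⟩

/-- An ideal sheaf is the unit ideal on an affine open avoiding its support. -/
theorem ideal_eq_top_of_disjoint {X : Scheme.{u}} (I : X.IdealSheafData) (U : X.affineOpens)
    (h : ∀ x ∈ U.1, x ∉ I.support) : I.ideal U = ⊤ := by
  by_contra hne
  obtain ⟨m, hm, hle⟩ := Ideal.exists_le_maximal _ hne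
  let y : PrimeSpectrum Γ(X, U.1) := ⟨m, hm.isPrime⟩
  have hy : U.2.fromSpec y ∈ U.1 := U.2.range_fromSpec.le ⟨y, rfl⟩
  have hpy : U.2.primeIdealOf ⟨U.2.fromSpec y, hy⟩ = y :=
    U.2.fromSpec.isOpenEmbedding.injective (U.2.fromSpec_primeIdealOf ⟨_, hy⟩)
  refine h _ hy ((Scheme.IdealSheafData.mem_support_iff_of_mem hy).2 ?_)
  rw [mem_zeroLocus_iff U.2 ⟨_, hy⟩, hpy]
  exact hle

/-- An element of a minimal prime is nilpotent near that prime. -/
theorem exists_mul_pow_eq_zero {A : Type u} [CommRing A] (p : Ideal A) [p.IsPrime]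
    (hmin : ∀ q : Ideal A, q.IsPrime → q ≤ p → q = p) {g : A} (hg : g ∈ p) :
    ∃ c ∉ p, ∃ n, c * g ^ n = 0 := by
  by_contra! h
  let M : Submonoid A := p.primeCompl ⊔ Submonoid.powers g
  have hd : Disjoint ((⊥ : Ideal A) : Set A) M := by
    rw [Set.disjoint_left]
    rintro a rfl ha
    obtain ⟨c, hc, _, ⟨n, rfl⟩, he⟩ := Submonoid.mem_sup.1 ha
    exact h c hc n he
  obtain ⟨q, hq, -, hqM⟩ := Ideal.exists_le_prime_disjoint _ _ hd
  have hle : q ≤ p := fun a ha => by_contra fun hn =>
    Set.disjoint_left.1 hqM ha (Submonoid.mem_sup_left (show a ∈ p.primeCompl from hn))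
  exact Set.disjoint_left.1 hqM (hmin q hq hle ▸ hg) (Submonoid.mem_sup_right ⟨1, pow_one g⟩)

/-- A finite module with vanishing Fitting ideals below `n` and unit `n`th Fitting ideal is projective. -/
theorem projective_of_fitt {A M : Type u} [CommRing A] [AddCommGroup M] [Module A M] [Module.Finite A M]
    (n : ℕ) (h0 : ∀ k, k < n → Fitt.ideal A M k = ⊥) (h1 : Fitt.ideal A M n = ⊤) :
    Module.FinitePresentation A M ∧ Module.Projective A M := by
  refine H3CAlg.FittPrincipal.finitePresentation_and_projective fun p _ => ?_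
  obtain ⟨f, hf, m, hm⟩ := H29Fitt.exists_spansUpTo_powers (M := M) (k := n) (p := p) (by
    rw [h1, top_le_iff]; exact Ideal.IsPrime.ne_top ‹_›)
  refine ⟨f, hf, n, m, fun x => ?_, fun a ha => ?_⟩
  · obtain ⟨t, ⟨e, rfl⟩, h⟩ := hm x
    exact ⟨e, h⟩
  · let φ := LocalizedModule.mkLinearMap (Submonoid.powers f) M
    have hfit : ∀ k, k < n → Fitt.ideal (Localization.Away f) (LocalizedModule (Submonoid.powers f) M) k = ⊥ :=
      fun k hk => by
        rw [H29Fitt.ideal_of_isLocalizedModule (Submonoid.powers f) φ, h0 k hk, Ideal.map_bot]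
    haveI : Module.Finite (Localization.Away f) (LocalizedModule (Submonoid.powers f) M) :=
      Module.Finite.of_isLocalizedModule (Submonoid.powers f) φ
    have hspan := H29Fitt.span_localized_of_spansUpTo hm
    have hz := H29Fitt.eq_zero_of_ideal_eq_bot _ hspan hfit
      (fun j => algebraMap A (Localization.Away f) (a j)) (by
        have h2 := congrArg φ ha
        rw [map_sum, map_zero] at h2
        refine Eq.trans (Finset.sum_congr rfl fun j _ => ?_) h2
        rw [map_smul, algebraMap_smul]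
        rfl)
    have key : ∀ j, ∃ e, f ^ e * a j = 0 := fun j => by
      obtain ⟨⟨_, e, rfl⟩, he⟩ := (IsLocalization.map_eq_zero_iff (Submonoid.powers f) _ (a j)).1 (congrFun hz j)
      exact ⟨e, he⟩
    choose e he using key
    refine ⟨Finset.univ.sup e, funext fun j => ?_⟩
    obtain ⟨d, hd⟩ := Nat.exists_eq_add_of_le (Finset.le_sup (f := e) (Finset.mem_univ j))
    show f ^ Finset.univ.sup e * a j = 0
    rw [hd, pow_add, mul_right_comm, he, zero_mul]

theorem fittData_mono {R U : Scheme.{u}} (s : R ⟶ U) [IsFinite s] {i j : ℕ} (h : i ≤ j) :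
    (fittData s j).support ≤ (fittData s i).support := fun x hx => by
  obtain ⟨W, hW, hxW, -⟩ := exists_isAffineOpen_mem_and_subset (x := x) (U := (⊤ : U.Opens)) trivial
  rw [Scheme.IdealSheafData.mem_support_iff_of_mem (U := ⟨W, hW⟩) hxW] at hx ⊢
  haveI : IsAffine W.toScheme := hW
  exact U.zeroLocus_mono (Ideal.map_mono (fitTop_mono _ h)) hx

variable {S : Scheme.{u}} (G : Grpd.GroupoidScheme S) [IsFinite G.s]

theorem isOpen_orbit_subset {O : Set G.U} (hO : IsOpen O) : IsOpen {v | orbit G v ⊆ O} := by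
  have : {v | orbit G v ⊆ O} = (G.s '' (G.t ⁻¹' Oᶜ))ᶜ := by
    ext v
    simp only [orbit, Set.mem_ofPred_eq, Set.image_subset_iff, Set.mem_compl_iff, Set.mem_image, Set.mem_preimage]
    exact ⟨fun h ⟨r, hr, hrv⟩ => hr (h hrv), fun h r hrv => by_contra fun hn => h ⟨r, hn, hrv⟩⟩
  rw [this]
  exact (G.s.isClosedMap _ (hO.isClosed_compl.preimage G.t.continuous)).isOpen_compl

/-- The invariant open where the rank is locally constantly `n`. -/
def piece (n : ℕ) : G.U.Opens :=
  ⟨{v | orbit G v ⊆ interior {x | rk G.s x = n}}, isOpen_orbit_subset G isOpen_interior⟩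

theorem rk_of_mem_piece {n : ℕ} {x : G.U} (h : x ∈ piece G n) : rk G.s x = n :=
  interior_subset (s := {z : G.U | rk G.s z = n}) (h (self_mem_orbit G x))

theorem piece_eq {n m : ℕ} {x : G.U} (h : x ∈ piece G n) (h' : x ∈ piece G m) : n = m :=
  (rk_of_mem_piece G h).symm.trans (rk_of_mem_piece G h')

theorem piece_invariant (n : ℕ) (r : G.R) : G.s r ∈ piece G n ↔ G.t r ∈ piece G n := by
  show orbit G (G.s r) ⊆ _ ↔ orbit G (G.t r) ⊆ _
  rw [orbit_eq]

/-- The open where the rank is locally constant along orbits. -/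
def opens : G.U.Opens := ⨆ n, piece G n

theorem mem_opens {x : G.U} : x ∈ opens G ↔ ∃ n, x ∈ piece G n := Opens.mem_iSup

theorem opens_invariant : G.s ⁻¹ᵁ opens G = G.t ⁻¹ᵁ opens G := by
  ext r
  exact (mem_opens G).trans ((exists_congr fun n => piece_invariant G n r).trans (mem_opens G).symm)

/-- The complement of a piece inside the open. -/
def others (n : ℕ) : (opens G).toScheme.Opens := (opens G).ι ⁻¹ᵁ ⨆ m : {m // m ≠ n}, piece G m.1

theorem mem_others {n : ℕ} (v : (opens G).toScheme) : v ∈ others G n ↔ v.1 ∉ piece G n := by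
  constructor
  · intro h h'
    obtain ⟨⟨m, hm⟩, hv⟩ := Opens.mem_iSup.1 h
    exact hm (piece_eq G hv h')
  · intro h
    obtain ⟨m, hm⟩ := (mem_opens G).1 v.2
    exact Opens.mem_iSup.2 ⟨⟨m, fun e => h (e ▸ hm)⟩, hm⟩

instance isClosedImmersion_others (n : ℕ) : IsClosedImmersion (others G n).ι :=
  IsClosedImmersion.iff_isPreimmersion.mpr ⟨inferInstance, by
    rw [Scheme.Opens.range_ι, show ((others G n : (opens G).toScheme.Opens) : Set (opens G).toScheme) =
      ((opens G).ι ⁻¹' (piece G n : Set G.U))ᶜ from Set.ext fun v => mem_others G v]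
    exact ((piece G n).2.preimage (opens G).ι.continuous).isClosed_compl⟩

/-- The ideal of the thickened stratum. -/
def thick : (opens G).toScheme.IdealSheafData :=
  ⨆ n, (atLeast G.s n).comap (opens G).ι * (others G n).ι.ker

theorem thick_ideal (n : ℕ) (V : (opens G).toScheme.affineOpens) (hV : ∀ v ∈ V.1, v.1 ∈ piece G n) :
    (thick G).ideal V = ((atLeast G.s n).comap (opens G).ι).ideal V := by
  have h1 : (others G n).ι.ker.ideal V = ⊤ := by
    refine ideal_eq_top_of_disjoint _ V fun v hv hs => ?_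
    rw [← SetLike.mem_coe, Scheme.Hom.support_ker, Scheme.Opens.range_ι] at hs
    have hcl : IsClosed ((others G n : (opens G).toScheme.Opens) : Set (opens G).toScheme) := by
      rw [← Scheme.Opens.range_ι]; exact (others G n).ι.isClosedMap.isClosed_range
    rw [hcl.closure_eq] at hs
    exact (mem_others G v).1 hs (hV v hv)
  have h2 : ∀ m, m ≠ n → (others G m).ι.ker.ideal V = ⊥ := fun m hm => by
    rw [Scheme.Hom.ker_apply, ← RingHom.injective_iff_ker_eq_bot]
    haveI : IsIso ((others G m).ι.app V.1) := (others G m).ι.isIso_app V.1 (by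
      rw [Scheme.Opens.opensRange_ι]
      exact fun v hv => (mem_others G v).2 fun h => hm (piece_eq G h (hV v hv)))
    exact (ConcreteCategory.bijective_of_isIso ((others G m).ι.app V.1)).1
  rw [thick, Scheme.IdealSheafData.ideal_iSup, iSup_apply]
  refine le_antisymm (iSup_le fun m => ?_) (le_iSup_of_le n ?_)
  · rw [Scheme.IdealSheafData.ideal_mul, Pi.mul_apply]
    by_cases hm : m = n
    · subst hm; exact Ideal.mul_le_left.trans' le_rfl
    · rw [h2 m hm, Ideal.mul_bot]; exact bot_le
  · rw [Scheme.IdealSheafData.ideal_mul, Pi.mul_apply, h1, Ideal.mul_top]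

theorem exists_piece_affine (v : (opens G).toScheme) :
    ∃ (n : ℕ) (V : (opens G).toScheme.affineOpens), v ∈ V.1 ∧ ∀ w ∈ V.1, w.1 ∈ piece G n := by
  obtain ⟨n, hn⟩ := (mem_opens G).1 v.2
  obtain ⟨V, hV, hv, hle⟩ := exists_isAffineOpen_mem_and_subset (x := v) (U := (opens G).ι ⁻¹ᵁ piece G n) hn
  exact ⟨n, ⟨V, hV⟩, hv, fun w hw => hle hw⟩

theorem thick_support : (thick G).support = ⊤ := by
  refine top_le_iff.1 fun v _ => ?_
  obtain ⟨n, V, hv, hV⟩ := exists_piece_affine G v
  have h := (Scheme.IdealSheafData.mem_support_iff_of_mem (I := (atLeast G.s n).comap (opens G).ι) hv).1 (by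
    rw [Scheme.IdealSheafData.support_comap, ← rk_of_mem_piece G (hV v hv)]
    exact mem_support_atLeast G.s v.1)
  exact (Scheme.IdealSheafData.mem_support_iff_of_mem hv).2 (by rwa [thick_ideal G n V hV])

/-- The inclusion of the thickened stratum. -/
abbrev incl : (thick G).subscheme ⟶ G.U := (thick G).subschemeι ≫ (opens G).ι

theorem atLeast_invariant (n : ℕ) : (atLeast G.s n).comap G.s = (atLeast G.s n).comap G.t := by
  cases n with
  | zero => exact (Scheme.IdealSheafData.comap_bot _).trans (Scheme.IdealSheafData.comap_bot _).symm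
  | succ n => exact fittData_invariant G n

theorem ker_others_comap {P : Scheme.{u}} (l : P ⟶ (opens G).toScheme) (n : ℕ) :
    (others G n).ι.ker.comap l = (l ⁻¹ᵁ others G n).ι.ker :=
  (H24FSch.ker_of_isPullback (isPullback_morphismRestrict l (others G n)).flip).symm

/-- Arrows over the stratum on one side lie over it on the other side. -/
theorem exists_lift {a b : G.R ⟶ G.U} (hab : ∀ n, (atLeast G.s n).comap a = (atLeast G.s n).comap b)
    (hp : ∀ n r, a r ∈ piece G n ↔ b r ∈ piece G n) {P : Scheme.{u}} (h : P ⟶ G.R) (q : P ⟶ (thick G).subscheme)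
    (w : h ≫ a = q ≫ incl G) : ∃ q' : P ⟶ (thick G).subscheme, h ≫ b = q' ≫ incl G := by
  have hrange : Set.range (h ≫ b) ⊆ Set.range (opens G).ι := by
    rw [Scheme.Opens.range_ι]
    rintro _ ⟨x, rfl⟩
    have hx : a (h x) ∈ opens G := by
      rw [← Scheme.Hom.comp_apply, w]
      exact ((thick G).subschemeι (q x)).2
    obtain ⟨n, hn⟩ := (mem_opens G).1 hx
    exact (mem_opens G).2 ⟨n, (hp n _).1 hn⟩
  let l := IsOpenImmersion.lift (opens G).ι (h ≫ b) hrange
  have hl : l ≫ (opens G).ι = h ≫ b := IsOpenImmersion.lift_fac _ _ _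
  let l' := q ≫ (thick G).subschemeι
  have hl' : l' ≫ (opens G).ι = h ≫ a := by rw [w, Category.assoc]
  have hpre : ∀ n, l ⁻¹ᵁ others G n = l' ⁻¹ᵁ others G n := fun n => by
    ext x
    show l x ∈ others G n ↔ l' x ∈ others G n
    rw [mem_others, mem_others]
    refine not_congr ?_
    show (opens G).ι (l x) ∈ piece G n ↔ (opens G).ι (l' x) ∈ piece G n
    rw [← Scheme.Hom.comp_apply, ← Scheme.Hom.comp_apply, hl, hl', Scheme.Hom.comp_apply, Scheme.Hom.comp_apply]
    exact (hp n _).symm
  have hle : (thick G).comap l ≤ ⊥ := by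
    have h0 : (thick G).comap l' = ⊥ := le_bot_iff.1 (Scheme.IdealSheafData.le_map_iff_comap_le.1 (by
      rw [Scheme.IdealSheafData.map_bot]
      exact (thick G).ker_subschemeι.symm.le.trans (Scheme.Hom.le_ker_comp _ _)))
    rw [← h0, thick, (Scheme.IdealSheafData.map_gc l).l_iSup, (Scheme.IdealSheafData.map_gc l').l_iSup]
    refine le_of_eq (iSup_congr fun n => ?_)
    rw [H29Blow.comap_mul, H29Blow.comap_mul, ker_others_comap, ker_others_comap, hpre n,
      ← Scheme.IdealSheafData.comap_comp, ← Scheme.IdealSheafData.comap_comp, hl, hl',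
      Scheme.IdealSheafData.comap_comp, Scheme.IdealSheafData.comap_comp, hab n]
  have hker : (thick G).subschemeι.ker ≤ l.ker := by
    rw [Scheme.IdealSheafData.ker_subschemeι, ← Scheme.IdealSheafData.map_bot]
    exact Scheme.IdealSheafData.le_map_iff_comap_le.2 hle
  exact ⟨IsClosedImmersion.lift (thick G).subschemeι l hker, by
    rw [IsClosedImmersion.lift_fac_assoc, hl]⟩

/-- The thickened stratum is invariant. -/
theorem exists_iso : ∃ φ : pullback G.s (incl G) ≅ pullback G.t (incl G),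
    φ.hom ≫ pullback.fst G.t (incl G) = pullback.fst G.s (incl G) := by
  obtain ⟨q, hq⟩ := exists_lift G (atLeast_invariant G) (piece_invariant G) (pullback.fst G.s (incl G))
    (pullback.snd G.s (incl G)) pullback.condition
  obtain ⟨q', hq'⟩ := exists_lift G (fun n => (atLeast_invariant G n).symm) (fun n r => (piece_invariant G n r).symm)
    (pullback.fst G.t (incl G)) (pullback.snd G.t (incl G)) pullback.condition
  exact ⟨⟨pullback.lift _ q hq, pullback.lift _ q' hq',
    (cancel_mono (pullback.fst G.s (incl G))).1 (by simp),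
    (cancel_mono (pullback.fst G.t (incl G))).1 (by simp)⟩, pullback.lift_fst _ _ _⟩

/-- The source map over the thickened stratum is finite locally free. -/
theorem isFinLocFree_s : Mor2.IsFinLocFree (pullback.snd G.s (incl G)) := by
  haveI := isFinite_snd G.s (incl G)
  have hcov : ∀ w : (thick G).subscheme, ∃ A : (thick G).subscheme.Opens, w ∈ A ∧
      Flat (pullback.snd G.s (incl G) ∣_ A) ∧ LocallyOfFinitePresentation (pullback.snd G.s (incl G) ∣_ A) := by
    intro w
    obtain ⟨n, V, hv, hV⟩ := exists_piece_affine G ((thick G).subschemeι w)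
    let A : (thick G).subscheme.Opens := (thick G).subschemeι ⁻¹ᵁ V.1
    refine ⟨A, hv, ?_⟩
    have hA : IsAffineOpen A := V.2.preimage _
    haveI : IsAffine A.toScheme := hA
    let g : A.toScheme ⟶ G.U := A.ι ≫ incl G
    haveI := isFinite_snd G.s g
    haveI : IsAffine (pullback G.s g) := isAffine_of_isAffineHom (pullback.snd G.s g)
    haveI : IsAffine V.1.toScheme := V.2
    let W : G.U.affineOpens := ⟨(opens G).ι ''ᵁ V.1, V.2.image_of_isOpenImmersion _⟩
    have heW : (⊤ : A.toScheme.Opens) ≤ g ⁻¹ᵁ W.1 := fun a _ => ⟨(thick G).subschemeι a.1, a.2, rfl⟩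
    letI := (pullback.snd G.s g).appTop.hom.toAlgebra
    haveI : Module.Finite Γ(A.toScheme, ⊤) Γ(pullback G.s g, ⊤) := (pullback.snd G.s g).finite_appTop
    have h1 : Fitt.ideal Γ(A.toScheme, ⊤) Γ(pullback G.s g, ⊤) n = ⊤ := by
      show fit G.s g n = ⊤
      rw [← fittData_comap_affine G.s g W heW]
      refine ideal_eq_top_of_disjoint _ _ fun a _ ha => ?_
      rw [Scheme.IdealSheafData.support_comap] at ha
      have h := notMem_support_rk G.s (g a)
      rw [show rk G.s (g a) = n from rk_of_mem_piece G (hV _ a.2 : g a ∈ piece G n)] at h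
      exact h ha
    have h0 : ∀ k, k < n → Fitt.ideal Γ(A.toScheme, ⊤) Γ(pullback G.s g, ⊤) k = ⊥ := fun k hk => by
      obtain ⟨n, rfl⟩ : ∃ j, n = j + 1 := ⟨n - 1, by omega⟩
      refine le_bot_iff.1 ((fitTop_mono _ (show k ≤ n by omega)).trans ?_)
      show fit G.s g n ≤ ⊥
      rw [← fittData_comap_affine G.s g W heW]
      have e : (⊤ : A.toScheme.Opens) ≤ (A.ι ≫ (thick G).subschemeι) ⁻¹ᵁ V.1 := fun a _ => a.2
      rw [show g = (A.ι ≫ (thick G).subschemeι) ≫ (opens G).ι from (Category.assoc _ _ _).symm,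
        Scheme.IdealSheafData.comap_comp, H29Blow.ideal_comap _ _ V ⟨⊤, isAffineOpen_top _⟩ e,
        show ((fittData G.s n).comap (opens G).ι).ideal V = (thick G).ideal V from (thick_ideal G (n + 1) V hV).symm,
        ← H29Blow.ideal_comap _ _ V ⟨⊤, isAffineOpen_top _⟩ e]
      have hb : (thick G).comap (A.ι ≫ (thick G).subschemeι) = ⊥ :=
        le_bot_iff.1 (Scheme.IdealSheafData.le_map_iff_comap_le.1 (by
          rw [Scheme.IdealSheafData.map_bot]
          exact (thick G).ker_subschemeι.symm.le.trans (Scheme.Hom.le_ker_comp _ _)))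
      rw [hb]
      exact le_of_eq rfl
    obtain ⟨hfp, hproj⟩ := projective_of_fitt n h0 h1
    have hflat : Flat (pullback.snd G.s g) :=
      (HasRingHomProperty.iff_of_isAffine (P := @Flat)).2 (inferInstanceAs (Module.Flat Γ(A.toScheme, ⊤) Γ(pullback G.s g, ⊤)))
    have hlfp : LocallyOfFinitePresentation (pullback.snd G.s g) :=
      (HasRingHomProperty.iff_of_isAffine (P := @LocallyOfFinitePresentation)).2
        (inferInstanceAs (Algebra.FinitePresentation Γ(A.toScheme, ⊤) Γ(pullback G.s g, ⊤)))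
    have hr : IsPullback ((pullback.snd G.s (incl G) ⁻¹ᵁ A).ι ≫ pullback.fst G.s (incl G))
        (pullback.snd G.s (incl G) ∣_ A) G.s g :=
      (isPullback_morphismRestrict (pullback.snd G.s (incl G)) A).flip.paste_horiz (IsPullback.of_hasPullback _ _)
    rw [← hr.isoPullback_hom_snd]
    exact ⟨inferInstance, inferInstance⟩
  choose A hA hAf using hcov
  have htop : iSup A = ⊤ := top_le_iff.1 fun w _ => Opens.mem_iSup.2 ⟨w, hA w⟩
  exact ⟨inferInstance, IsZariskiLocalAtTarget.of_iSup_eq_top (P := @Flat) A htop fun w => (hAf w).1,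
    IsZariskiLocalAtTarget.of_iSup_eq_top (P := @LocallyOfFinitePresentation) A htop fun w => (hAf w).2⟩

theorem i_i : G.i ≫ G.i = 𝟙 G.R := by
  have := Groth.Agent.H19Grp.invR_invR G (𝟙 G.R)
  simpa [invR] using this

/-- The target map over the thickened stratum is finite locally free. -/
theorem isFinLocFree_t : Mor2.IsFinLocFree (pullback.snd G.t (incl G)) := by
  haveI : IsIso G.i := ⟨⟨G.i, i_i G, i_i G⟩⟩
  obtain ⟨hf, hfl, hfp⟩ := isFinLocFree_s G
  have h : IsPullback (pullback.fst G.t (incl G) ≫ G.i) (pullback.snd G.t (incl G)) G.s (incl G) := by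
    have := (IsPullback.of_hasPullback G.t (incl G)).paste_horiz
      (show IsPullback G.i G.t G.s (𝟙 G.U) from IsPullback.of_horiz_isIso ⟨by rw [G.i_s, Category.comp_id]⟩)
    rwa [Category.comp_id] at this
  rw [← h.isoPullback_hom_snd]
  exact ⟨inferInstance, inferInstance, inferInstance⟩

/-- Every orbit meets the closure of the open. -/
theorem exists_mem_closure [IsFinite G.t] (x : G.U) : ∃ r : G.R, G.t r = x ∧ G.s r ∈ closure (opens G : Set G.U) := by
  classical
  by_contra! hx
  let F : Set G.U := G.t '' (G.s ⁻¹' closure (opens G : Set G.U))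
  have hF : IsClosed F := G.t.isClosedMap _ (isClosed_closure.preimage G.s.continuous)
  have hFinv : ∀ y, y ∈ F → orbit G y ⊆ F := by
    rintro _ ⟨r, hr, rfl⟩ y hy
    rw [orbit_eq] at hy
    obtain ⟨r', hr', rfl⟩ := hy
    exact ⟨r', by show G.s r' ∈ closure _; rw [show G.s r' = G.s r from hr']; exact hr, rfl⟩
  have hxF : x ∉ F := fun ⟨r, hr, e⟩ => hx r e hr
  have hex : ∃ n, ∃ y, y ∉ F ∧ rk G.s y = n := ⟨_, x, hxF, rfl⟩
  obtain ⟨y, hyF, hy⟩ := Nat.find_spec hex
  let n := Nat.find hex
  let O : G.U.Opens := ⟨Fᶜ ∩ ((fittData G.s n).support : Set G.U)ᶜ,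
    hF.isOpen_compl.inter (fittData G.s n).support.isClosed.isOpen_compl⟩
  have hO : (O : Set G.U) ⊆ {z | rk G.s z = n} := fun z hz =>
    le_antisymm (rk_le_of_notMem G.s hz.2) (Nat.find_min' hex ⟨z, hz.1, rfl⟩)
  have hyp : y ∈ piece G n := by
    intro z hz
    refine interior_maximal hO O.2 ?_
    have hzF : z ∉ F := fun h => hyF (hFinv z h (by rw [orbit_eq_of_mem G hz]; exact self_mem_orbit G y))
    refine ⟨hzF, ?_⟩
    obtain ⟨r, hr, rfl⟩ := hz
    have hrk : rk G.s (G.t r) = n := by rw [← rk_invariant G, show G.s r = y from hr]; exact hy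
    rw [← hrk]
    exact notMem_support_rk G.s (G.t r)
  exact hyF ⟨G.e y, by
    show G.s (G.e y) ∈ closure _
    rw [← Scheme.Hom.comp_apply, G.e_s]
    exact subset_closure ((mem_opens G).2 ⟨n, hyp⟩), by rw [← Scheme.Hom.comp_apply, G.e_t]; rfl⟩

variable [LocallyOfFinitePresentation G.s]

theorem atLeast_fg (n : ℕ) (W : G.U.affineOpens) : ((atLeast G.s n).ideal W).FG := by
  cases n with
  | zero => exact (show (atLeast G.s 0).ideal W = ⊥ from rfl) ▸ Submodule.fg_bot
  | succ n =>
    haveI : IsAffine W.1.toScheme := W.2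
    haveI : IsAffine (pullback G.s W.1.ι) := isAffine_of_isAffineHom (pullback.snd G.s W.1.ι)
    haveI : LocallyOfFinitePresentation (pullback.snd G.s W.1.ι) :=
      MorphismProperty.pullback_snd (P := @LocallyOfFinitePresentation) G.s W.1.ι inferInstance
    letI := (pullback.snd G.s W.1.ι).appTop.hom.toAlgebra
    haveI : Module.Finite Γ(W.1.toScheme, ⊤) Γ(pullback G.s W.1.ι, ⊤) := (pullback.snd G.s W.1.ι).finite_appTop
    haveI : Algebra.FinitePresentation Γ(W.1.toScheme, ⊤) Γ(pullback G.s W.1.ι, ⊤) :=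
      (HasRingHomProperty.iff_of_isAffine (P := @LocallyOfFinitePresentation)).1
        (inferInstanceAs (LocallyOfFinitePresentation (pullback.snd G.s W.1.ι)))
    haveI := Module.FinitePresentation.of_finite_of_finitePresentation Γ(W.1.toScheme, ⊤) Γ(pullback G.s W.1.ι, ⊤)
    exact (H29Fitt.ideal_fg (R := Γ(W.1.toScheme, ⊤)) (M := Γ(pullback G.s W.1.ι, ⊤)) n).map _

theorem locallyOfFinitePresentation_thick : LocallyOfFinitePresentation (thick G).subschemeι := by
  refine Groth.Agent.H19Grp.locallyOfFinitePresentation_subschemeι _ ?_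
  choose n V hv hV using exists_piece_affine G
  refine H24FSch.idealFT_of_cover _ V (top_le_iff.1 fun v _ => Opens.mem_iSup.2 ⟨v, hv v⟩) fun v => ?_
  rw [thick_ideal G (n v) (V v) (hV v),
    H29Blow.ideal_comap _ _ ⟨(opens G).ι ''ᵁ (V v).1, (V v).2.image_of_isOpenImmersion _⟩ (V v)
      ((opens G).ι.preimage_image_eq (V v).1).ge]
  exact (atLeast_fg G _ _).map _

/-- Orbits of maximal points lie in the open. -/
theorem mem_opens_of_maximal (x : G.U) (hx : ∀ y ∈ orbit G x, ∀ z : G.U, z ⤳ y → z = y) : x ∈ opens G := by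
  refine (mem_opens G).2 ⟨rk G.s x, fun y hy => ?_⟩
  have hrk : rk G.s y = rk G.s x := by
    obtain ⟨r, hr, rfl⟩ := hy
    rw [← rk_invariant G, show G.s r = x from hr]
  rw [← hrk]
  obtain ⟨W, hW, hyW, -⟩ := exists_isAffineOpen_mem_and_subset (x := y) (U := (⊤ : G.U.Opens)) trivial
  let P := hW.primeIdealOf ⟨y, hyW⟩
  have hmin : ∀ q : Ideal Γ(G.U, W), q.IsPrime → q ≤ P.asIdeal → q = P.asIdeal := by
    intro q hq hle
    let qq : PrimeSpectrum Γ(G.U, W) := ⟨q, hq⟩
    have hs : hW.fromSpec qq ⤳ y := by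
      rw [show y = hW.fromSpec P from (hW.fromSpec_primeIdealOf ⟨y, hyW⟩).symm]
      exact ((PrimeSpectrum.le_iff_specializes qq P).1 hle).map hW.fromSpec.continuous
    have he : qq = P := hW.fromSpec.isOpenEmbedding.injective
      ((hx y hy _ hs).trans (hW.fromSpec_primeIdealOf ⟨y, hyW⟩).symm)
    exact congrArg PrimeSpectrum.asIdeal he
  obtain ⟨gens, hgens⟩ := atLeast_fg G (rk G.s y) ⟨W, hW⟩
  have hmem : ∀ g ∈ gens, g ∈ P.asIdeal := fun g hg => by
    have h := (Scheme.IdealSheafData.mem_support_iff_of_mem (U := ⟨W, hW⟩) hyW).1 (mem_support_atLeast G.s y)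
    exact (mem_zeroLocus_iff hW ⟨y, hyW⟩ _).1 h (hgens ▸ Ideal.subset_span hg)
  choose c hc N hN using fun g : gens => exists_mul_pow_eq_zero P.asIdeal hmin (hmem g.1 g.2)
  let f := ∏ g, c g
  have hf : f ∉ P.asIdeal := fun h => by
    obtain ⟨g, -, hg⟩ := (Ideal.IsPrime.prod_mem_iff).1 h
    exact hc g hg
  let D : G.U.Opens := G.U.basicOpen f
  have hbasic : ∀ (z : G.U) (hz : z ∈ W) (r : Γ(G.U, W)), z ∈ G.U.basicOpen r ↔ r ∉ (hW.primeIdealOf ⟨z, hz⟩).asIdeal := fun z hz r => by
    conv_lhs => rw [show z = hW.fromSpec (hW.primeIdealOf ⟨z, hz⟩) from (hW.fromSpec_primeIdealOf ⟨z, hz⟩).symm]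
    exact SetLike.ext_iff.1 (hW.fromSpec_preimage_basicOpen r) _
  let O : G.U.Opens := ⟨(D : Set G.U) ∩ ((fittData G.s (rk G.s y)).support : Set G.U)ᶜ,
    D.2.inter (fittData G.s (rk G.s y)).support.isClosed.isOpen_compl⟩
  refine interior_maximal (t := (O : Set G.U)) ?_ O.2 ⟨(hbasic y hyW f).2 hf, notMem_support_rk G.s y⟩
  rintro z ⟨hzD, hzs⟩
  refine le_antisymm (rk_le_of_notMem G.s hzs) ?_
  have hzW : z ∈ W := G.U.basicOpen_le f hzD
  let Q := hW.primeIdealOf ⟨z, hzW⟩
  have hz : z ∈ (atLeast G.s (rk G.s y)).support := by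
    rw [Scheme.IdealSheafData.mem_support_iff_of_mem (U := ⟨W, hW⟩) hzW, mem_zeroLocus_iff hW ⟨z, hzW⟩, ← hgens]
    refine Ideal.span_le.2 fun g hg => ?_
    have h0 : c ⟨g, hg⟩ * g ^ N ⟨g, hg⟩ ∈ Q.asIdeal := by rw [hN ⟨g, hg⟩]; exact Q.asIdeal.zero_mem
    refine Q.isPrime.mem_of_pow_mem _ ((Q.isPrime.mem_or_mem h0).resolve_left fun h => ?_)
    exact (hbasic z hzW f).1 hzD
      (Q.asIdeal.mem_of_dvd (Finset.dvd_prod_of_mem _ (Finset.mem_univ _)) h)
  rcases h : rk G.s y with _ | m
  · exact Nat.zero_le _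
  · by_contra hlt
    rw [h] at hz
    exact notMem_support_rk G.s z (fittData_mono G.s (show rk G.s z ≤ m by omega) hz)

end Groth.Agent.H19Grp.FittStrata
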