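import Groth.Agent.H19Grp.FittStrataMain
import Groth.Agent.H19Grp.GrpdInvAffine
import Groth.Agent.H17.FiniteAffine

/-!
# Invariant affine thickenings around orbits of generic points
-/

set_option autoImplicit false
set_option linter.style.haveILetI false
set_option backward.isDefEq.respectTransparency false
set_option maxHeartbeats 1000000

universe u

open CategoryTheory CategoryTheory.Limits AlgebraicGeometry TopologicalSpace

noncomputable section

namespace Groth.Agent.H19Grp.FittStrata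

open Groth.Agent.H13Grpd (orbit self_mem_orbit orbit_eq orbit_eq_of_mem)

variable {S : Scheme.{u}} (G : Grpd.GroupoidScheme S) [IsFinite G.s]

/-- The thickened stratum restricts to every invariant open inside the rank open. -/
theorem exists_restrict [LocallyOfFinitePresentation G.s] (V : G.U.Opens) (hle : V ≤ opens G)
    (hinv : G.s ⁻¹ᵁ V = G.t ⁻¹ᵁ V) :
    ∃ V' : (↑V : Scheme.{u}).IdealSheafData, V'.support = ⊤ ∧ LocallyOfFinitePresentation V'.subschemeι ∧
      (∃ φ : pullback G.s (V'.subschemeι ≫ V.ι) ≅ pullback G.t (V'.subschemeι ≫ V.ι),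
        φ.hom ≫ pullback.fst G.t (V'.subschemeι ≫ V.ι) = pullback.fst G.s (V'.subschemeι ≫ V.ι)) ∧
      Mor2.IsFinLocFree (pullback.snd G.s (V'.subschemeι ≫ V.ι)) ∧
      Mor2.IsFinLocFree (pullback.snd G.t (V'.subschemeι ≫ V.ι)) := by
  let e := G.U.homOfLE hle
  let V' := (thick G).comap e
  let j : V'.subscheme ⟶ (thick G).subscheme := ((thick G).comapIso e).hom ≫ pullback.snd _ _
  have hpb : IsPullback V'.subschemeι j e (thick G).subschemeι :=
    IsPullback.of_iso_pullback ⟨by simp [j, V']⟩ ((thick G).comapIso e)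
      (Scheme.IdealSheafData.comapIso_hom_fst _ _) rfl
  have hjk : j ≫ incl G = V'.subschemeι ≫ V.ι := by
    show j ≫ (thick G).subschemeι ≫ (opens G).ι = _
    rw [← Category.assoc, ← hpb.w, Category.assoc, Scheme.homOfLE_ι]
  haveI := locallyOfFinitePresentation_thick G
  refine ⟨V', ?_, MorphismProperty.of_isPullback (P := @LocallyOfFinitePresentation) hpb.flip inferInstance,
    ?_, ?_⟩
  · refine SetLike.coe_injective ?_
    rw [Scheme.IdealSheafData.support_comap, thick_support]
    rfl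
  · -- the lift
    have lift : ∀ {a b : G.R ⟶ G.U}, (∀ n, (atLeast G.s n).comap a = (atLeast G.s n).comap b) →
        (∀ n r, a r ∈ piece G n ↔ b r ∈ piece G n) → a ⁻¹ᵁ V = b ⁻¹ᵁ V → ∀ {P : Scheme.{u}} (h : P ⟶ G.R)
        (q : P ⟶ V'.subscheme), h ≫ a = q ≫ V'.subschemeι ≫ V.ι →
        ∃ q' : P ⟶ V'.subscheme, h ≫ b = q' ≫ V'.subschemeι ≫ V.ι := by
      intro a b hab hp hV P h q w
      obtain ⟨q₁, hq₁⟩ := exists_lift G hab hp h (q ≫ j) (by rw [Category.assoc, hjk, w])
      have hrange : Set.range (h ≫ b) ⊆ Set.range V.ι := by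
        rw [Scheme.Opens.range_ι]
        rintro _ ⟨x, rfl⟩
        show h x ∈ b ⁻¹ᵁ V
        rw [← hV]
        show a (h x) ∈ V
        rw [← Scheme.Hom.comp_apply, w]
        exact (V'.subschemeι (q x)).2
      let l := IsOpenImmersion.lift V.ι (h ≫ b) hrange
      have hl : l ≫ V.ι = h ≫ b := IsOpenImmersion.lift_fac _ _ _
      have hle' : l ≫ e = q₁ ≫ (thick G).subschemeι := by
        rw [← cancel_mono (opens G).ι, Category.assoc, Scheme.homOfLE_ι, hl, hq₁, Category.assoc]
      exact ⟨hpb.lift l q₁ hle', by rw [hpb.lift_fst_assoc, hl]⟩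
    obtain ⟨q, hq⟩ := lift (atLeast_invariant G) (piece_invariant G) hinv
      (pullback.fst G.s (V'.subschemeι ≫ V.ι)) (pullback.snd G.s (V'.subschemeι ≫ V.ι)) pullback.condition
    obtain ⟨q', hq'⟩ := lift (fun n => (atLeast_invariant G n).symm) (fun n r => (piece_invariant G n r).symm)
      hinv.symm (pullback.fst G.t (V'.subschemeι ≫ V.ι)) (pullback.snd G.t (V'.subschemeι ≫ V.ι)) pullback.condition
    exact ⟨⟨pullback.lift _ q hq, pullback.lift _ q' hq',
      (cancel_mono (pullback.fst G.s (V'.subschemeι ≫ V.ι))).1 (by simp),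
      (cancel_mono (pullback.fst G.t (V'.subschemeι ≫ V.ι))).1 (by simp)⟩, pullback.lift_fst _ _ _⟩
  · have key : ∀ (a : G.R ⟶ G.U), Mor2.IsFinLocFree (pullback.snd a (incl G)) →
        Mor2.IsFinLocFree (pullback.snd a (V'.subschemeι ≫ V.ι)) := by
      rintro a ⟨hf, hfl, hfp⟩
      have h : IsPullback (pullback.lift (pullback.fst a (V'.subschemeι ≫ V.ι))
          (pullback.snd a (V'.subschemeι ≫ V.ι) ≫ j) (by rw [Category.assoc, hjk, pullback.condition]))
          (pullback.snd a (V'.subschemeι ≫ V.ι)) (pullback.snd a (incl G)) j :=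
        IsPullback.of_right (by simpa [hjk] using IsPullback.of_hasPullback a (V'.subschemeι ≫ V.ι))
          (pullback.lift_snd _ _ _) (IsPullback.of_hasPullback a (incl G))
      exact ⟨MorphismProperty.of_isPullback (P := @IsFinite) h hf,
        MorphismProperty.of_isPullback (P := @Flat) h hfl,
        MorphismProperty.of_isPullback (P := @LocallyOfFinitePresentation) h hfp⟩
    exact ⟨key _ (isFinLocFree_s G), key _ (isFinLocFree_t G)⟩

/-- Orbits of generic points have an invariant affine neighbourhood with a locally free thickening. -/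
theorem exists_thickening [IsFinite G.t] [LocallyOfFinitePresentation G.s] [QuasiSeparatedSpace G.U]
    (m : ℕ) (u : Fin m → G.U)
    (hu : ∀ i (r : G.R), G.s r = u i → ∀ x : G.U, x ⤳ G.t r → x = G.t r) :
    ∃ (V : G.U.Opens) (V' : (↑V : Scheme.{u}).IdealSheafData), IsAffineOpen V ∧ (∀ i, u i ∈ V) ∧
      G.s ⁻¹ᵁ V = G.t ⁻¹ᵁ V ∧ V'.support = ⊤ ∧ LocallyOfFinitePresentation V'.subschemeι ∧
      (∃ φ : pullback G.s (V'.subschemeι ≫ V.ι) ≅ pullback G.t (V'.subschemeι ≫ V.ι),
        φ.hom ≫ pullback.fst G.t (V'.subschemeι ≫ V.ι) = pullback.fst G.s (V'.subschemeι ≫ V.ι)) ∧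
      Mor2.IsFinLocFree (pullback.snd G.s (V'.subschemeι ≫ V.ι)) ∧
      Mor2.IsFinLocFree (pullback.snd G.t (V'.subschemeι ≫ V.ι)) := by
  classical
  let O : Set G.U := ⋃ i, orbit G (u i)
  have hOfin : O.Finite := Set.finite_iUnion fun i => (G.s.finite_preimage_singleton _).image _
  have horb : ∀ x ∈ O, orbit G x ⊆ O := fun x hx => by
    obtain ⟨i, hi⟩ := Set.mem_iUnion.1 hx
    rw [orbit_eq_of_mem G hi]
    exact Set.subset_iUnion (fun i => orbit G (u i)) i
  have hmax : ∀ x ∈ O, ∀ z : G.U, z ⤳ x → z = x := fun x hx z hz => by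
    obtain ⟨i, r, hr, rfl⟩ := Set.mem_iUnion.1 hx
    exact hu i r hr z hz
  have hgen : O ⊆ genericPoints G.U := fun x hx => ⟨isIrreducible_singleton.closure, fun T hT hle => by
    obtain ⟨η, hη⟩ := QuasiSober.sober hT.closure isClosed_closure
    obtain rfl := hmax x hx η (hη.specializes (subset_closure (hle (subset_closure rfl))))
    exact subset_closure.trans hη.def.ge⟩
  have hOopen : ∀ x ∈ O, x ∈ opens G := fun x hx =>
    mem_opens_of_maximal G x fun y hy => hmax y (horb x hx hy)
  obtain ⟨U, hU, hdis⟩ := Groth.Agent.H17.exists_disjoint_affine_nhds O hOfin hgen (fun _ => opens G) hOopen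
  let A : G.U.Opens := ⨆ z ∈ O, U z
  obtain ⟨W, hW, hWA, hOW, hinv⟩ := Groth.Agent.H19Grp.InvAffine.exists_invariant_affine_of_dim_le_one G O
    hOfin horb (fun x hx y z _ hyx => Or.inl (hmax x hx y hyx)) A
    (IsAffineOpen.biSup_of_disjoint hOfin (fun z hz => (hU z hz).1) hdis)
    (fun x hx => Opens.mem_iSup.2 ⟨x, Opens.mem_iSup.2 ⟨hx, (hU x hx).2.1⟩⟩)
  obtain ⟨V', h⟩ := exists_restrict G W (hWA.trans (iSup₂_le fun z hz => (hU z hz).2.2)) hinv
  exact ⟨W, V', hW, fun i => hOW (Set.mem_iUnion.2 ⟨i, self_mem_orbit G _⟩), hinv, h⟩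

end Groth.Agent.H19Grp.FittStrata
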