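import Groth.Agent.H19Grp.GrpdShear

/-!
# Composition is cartesian over the target
-/

universe u

open CategoryTheory CategoryTheory.Limits AlgebraicGeometry

namespace Groth.Agent.H19Grp

variable {S : Scheme.{u}} (G : Grpd.GroupoidScheme S)

/-- (a, b) ↦ a is recovered from (a, b) ↦ a ∘ b: composition is cartesian over t. -/
lemma isPullback_c_fst : IsPullback G.c (pullback.fst G.s G.t) G.t G.t := by
  refine ⟨⟨c_t G⟩, ⟨PullbackCone.IsLimit.mk _
    (fun z => pullback.lift z.snd
      (mulR G (invR G z.snd) z.fst ((invR_s G z.snd).trans z.condition.symm))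
      (((mulR_t G _ _ _).trans (invR_t G z.snd))).symm) ?_ ?_ ?_⟩⟩
  · intro z; exact mulR_invR_cancel G z.snd z.fst z.condition.symm
  · intro z; exact pullback.lift_fst _ _ _
  · intro z m h1 h2
    apply pullback.hom_ext
    · rw [pullback.lift_fst, h2]
    · rw [pullback.lift_snd]
      have h3 : mulR G (m ≫ pullback.fst G.s G.t) (m ≫ pullback.snd G.s G.t)
          (by rw [Category.assoc, Category.assoc, pullback.condition]) = z.fst := by
        rw [← comp_mulR G m _ _ pullback.condition, ← c_eq]; exact h1
      rw [← invR_mulR_cancel G (m ≫ pullback.fst G.s G.t) (m ≫ pullback.snd G.s G.t)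
        (by rw [Category.assoc, Category.assoc, pullback.condition])]
      exact mulR_congr G (by rw [h2]) h3 _

end Groth.Agent.H19Grp
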