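import Groth.Agent.H19Grp.GrpdShearFst
import Groth.Agent.H19Grp.Components
import Groth.Agent.H17.LocusBC

/-!
# Smoothness of groupoids over a field is homogeneous
-/

set_option autoImplicit false
set_option linter.style.haveILetI false
universe u
open CategoryTheory CategoryTheory.Limits AlgebraicGeometry

namespace Groth.Agent.H19Grp

variable {S : Scheme.{u}} (G : Grpd.GroupoidScheme S)

/-- If the source of a groupoid over a point is flat and smooth somewhere, it is smooth. -/
theorem smooth_s_of_mem_smoothLocus [Subsingleton G.U] [LocallyOfFinitePresentation G.s] [Flat G.s]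
    [Flat G.t] {w : G.R} (hw : w ∈ G.s.smoothLocus) : Smooth G.s := by
  haveI : LocallyOfFinitePresentation (pullback.snd G.s G.t) :=
    MorphismProperty.pullback_snd _ _ inferInstance
  rw [← Scheme.Hom.smoothLocus_eq_top_iff, eq_top_iff]
  intro x _
  obtain ⟨z, hzx, hzw⟩ : ∃ z, G.c z = x ∧ pullback.fst G.s G.t z = w := by
    obtain ⟨p, hp1, hp2⟩ := Scheme.Pullback.exists_preimage_pullback (f := G.t) (g := G.t) x w
      (Subsingleton.elim _ _)
    refine ⟨(isPullback_c_fst G).isoPullback.inv p, ?_, ?_⟩
    · rw [← Scheme.Hom.comp_apply, (isPullback_c_fst G).isoPullback_inv_fst]; exact hp1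
    · rw [← Scheme.Hom.comp_apply, (isPullback_c_fst G).isoPullback_inv_snd]; exact hp2
  have hB := IsPullback.of_hasPullback G.s G.t
  have h1 : z ∈ (pullback.snd G.s G.t).smoothLocus :=
    H17.LocusBC.preimage_smoothLocus_le hB (show pullback.fst G.s G.t z ∈ G.s.smoothLocus by rwa [hzw])
  have h2 := H17.LocusBC.mem_smoothLocus_of_flat_baseChange (isPullback_c_snd G) z h1
  rwa [hzx] at h2

theorem smooth_t_of_smooth_s [Smooth G.s] : Smooth G.t := by
  haveI := isIso_i G
  rw [← G.i_s]
  infer_instance

end Groth.Agent.H19Grp
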