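import Groth.Agent.H19Grp.TangentDer
import Groth.Agent.H19Grp.GrpdBasic
import Mathlib

/-!
# Cartier's theorem at the unit of a groupoid over a field
-/

set_option autoImplicit false
set_option linter.style.haveILetI false
set_option backward.isDefEq.respectTransparency false

universe u

open CategoryTheory CategoryTheory.Limits AlgebraicGeometry TrivSqZeroExt

namespace Groth.Agent.H19Grp

lemma fst_dualMap {A R : Type u} [CommRing A] [CommRing R] (f : A →+* R) (z : DualNumber A) :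
    TrivSqZeroExt.fst (dualMap f z) = f (TrivSqZeroExt.fst z) := by simp [dualMap]

lemma snd_dualMap {A R : Type u} [CommRing A] [CommRing R] (f : A →+* R) (z : DualNumber A) :
    TrivSqZeroExt.snd (dualMap f z) = f (TrivSqZeroExt.snd z) := by simp [dualMap]

variable {S : Scheme.{u}} (G : Grpd.GroupoidScheme S) {K : Type u} [Field K]
  (eU : G.U ≅ Spec (CommRingCat.of K))

/-- A vector at the unit tangent to the target fibre extends to a Leibniz map. -/
theorem exists_leibniz_grpd (A : CommRingCat.{u}) [IsLocalRing A] (u : Spec A ⟶ G.R) [Mono u]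
    (ε : A ⟶ CommRingCat.of K) (ψ ψt : CommRingCat.of K ⟶ A)
    (hψ : Spec.map ψ = u ≫ G.s ≫ eU.hom) (hψt : Spec.map ψt = u ≫ G.t ≫ eU.hom)
    (hε : Spec.map ε ≫ u = eU.inv ≫ G.e) (hεψ : ψ ≫ ε = 𝟙 _) (hεψt : ψt ≫ ε = 𝟙 _)
    (hfac : ∀ (R : CommRingCat.{u}) [IsLocalRing R] (g : Spec R ⟶ G.R),
      g (IsLocalRing.closedPoint R) = u (IsLocalRing.closedPoint A) → ∃ φ, g = Spec.map φ ≫ u)
    (τ : A →+ K) (hτ : ∀ a b, τ (a * b) = ε.hom a * τ b + ε.hom b * τ a)
    (hτ0 : ∀ c, τ (ψt.hom c) = 0) :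
    ∃ D : A →+ A, IsLeibniz D ∧ ∀ a, ε.hom (D a) = τ a := by
  have hεψ' : ∀ c, ε.hom (ψ.hom c) = c := hom_apply_of_comp_eq_id ψ ε hεψ
  have hεψt' : ∀ c, ε.hom (ψt.hom c) = c := hom_apply_of_comp_eq_id ψt ε hεψt
  let R : CommRingCat.{u} := CommRingCat.of (DualNumber A)
  have : IsLocalRing (DualNumber A) := IsLocalRing.of_isUnit_or_isUnit_one_sub_self fun z => by
    simpa [TrivSqZeroExt.isUnit_iff_isUnit_fst] using
      IsLocalRing.isUnit_or_isUnit_one_sub_self (TrivSqZeroExt.fst z)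
  have : IsLocalRing R := this
  let inlA : A ⟶ R := CommRingCat.ofHom (inlHom A A)
  let fstA : R ⟶ A := CommRingCat.ofHom (fstHom A A A).toRingHom
  let ψh : K →+* A := ψ.hom
  let εh : A →+* K := ε.hom
  have hleib : ∀ a b : A, (ψh.toAddMonoidHom.comp τ) (a * b) =
      (ψh.comp εh) a * (ψh.toAddMonoidHom.comp τ) b + (ψh.comp εh) b * (ψh.toAddMonoidHom.comp τ) a := by
    intro a b
    show ψh (τ (a * b)) = ψh (εh a) * ψh (τ b) + ψh (εh b) * ψh (τ a)
    rw [← map_mul, ← map_mul, ← map_add]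
    exact congrArg ψh (hτ a b)
  let ψτ : A ⟶ R := CommRingCat.ofHom (dualHom (ψh.comp εh) (ψh.toAddMonoidHom.comp τ) hleib)
  have hφ0 : ψt ≫ ψτ = ψ ≫ inlA := by
    ext c : 2
    refine TrivSqZeroExt.ext ?_ ?_
    · show TrivSqZeroExt.fst (dualHom (ψh.comp εh) (ψh.toAddMonoidHom.comp τ) hleib (ψt.hom c)) = _
      rw [fst_dualHom]
      exact congrArg ψ.hom (hεψt' c)
    · show TrivSqZeroExt.snd (dualHom (ψh.comp εh) (ψh.toAddMonoidHom.comp τ) hleib (ψt.hom c)) = _
      rw [snd_dualHom]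
      exact (congrArg ψ.hom (hτ0 c)).trans (map_zero _)
  let g1 : Spec R ⟶ G.R := Spec.map inlA ≫ u
  let g2 : Spec R ⟶ G.R := Spec.map ψτ ≫ u
  have hover : g1 ≫ G.s = g2 ≫ G.t := by
    rw [← cancel_mono eU.hom]
    simp only [g1, g2, Category.assoc]
    rw [← hψ, ← hψt, ← Spec.map_comp, ← Spec.map_comp, hφ0]
  let g := mulR G g1 g2 hover
  have hfi : Spec.map fstA ≫ Spec.map inlA = 𝟙 _ := by
    rw [← Spec.map_comp, ← Spec.map_id]; rfl
  have hr : Spec.map fstA ≫ g = u := by
    have h1 : Spec.map fstA ≫ g1 = u := by simp [g1, reassoc_of% hfi]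
    have h2 : Spec.map fstA ≫ g2 = u ≫ G.s ≫ G.e := by
      have hcomp : ψτ ≫ fstA = ε ≫ ψ := by
        ext a
        exact fst_dualHom (ψh.comp εh) (ψh.toAddMonoidHom.comp τ) hleib a
      show Spec.map fstA ≫ Spec.map ψτ ≫ u = _
      rw [← Category.assoc, ← Spec.map_comp, hcomp, Spec.map_comp, hψ, Category.assoc, hε]
      simp
    show Spec.map fstA ≫ mulR G g1 g2 hover = u
    rw [comp_mulR, mulR_congr G h1 h2]
    exact G.comp_e u
  have hpt : g (IsLocalRing.closedPoint R) = u (IsLocalRing.closedPoint A) := by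
    have : IsLocalHom fstA.hom := ⟨fun z hz => TrivSqZeroExt.isUnit_iff_isUnit_fst.mpr hz⟩
    have hfst : Spec.map fstA (IsLocalRing.closedPoint A) = IsLocalRing.closedPoint R := Spec_closedPoint
    rw [← hfst, ← Scheme.Hom.comp_apply, hr]
  obtain ⟨φ, hφ⟩ := hfac R g hpt
  have hφfst : φ ≫ fstA = 𝟙 A := by
    apply Spec.map_injective
    rw [← cancel_mono u, Spec.map_comp, Spec.map_id, Category.id_comp, Category.assoc, ← hφ]
    exact hr
  let RK : CommRingCat.{u} := CommRingCat.of (DualNumber K)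
  let χ : R ⟶ RK := CommRingCat.ofHom (dualMap ε.hom)
  have hinlK : inlA ≫ χ = (ε ≫ ψ) ≫ inlA ≫ χ := by
    ext a : 2
    refine TrivSqZeroExt.ext ?_ ?_
    · show TrivSqZeroExt.fst (dualMap ε.hom (inl a)) =
        TrivSqZeroExt.fst (dualMap ε.hom (inl (ψ.hom (ε.hom a))))
      rw [fst_dualMap, fst_dualMap, fst_inl, fst_inl, hεψ']
    · show TrivSqZeroExt.snd (dualMap ε.hom (inl a)) =
        TrivSqZeroExt.snd (dualMap ε.hom (inl (ψ.hom (ε.hom a))))
      rw [snd_dualMap, snd_dualMap, snd_inl, snd_inl]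
  have hz : Spec.map χ ≫ g = Spec.map χ ≫ g2 := by
    have h1 : Spec.map χ ≫ g1 = (Spec.map χ ≫ g2) ≫ G.t ≫ G.e := by
      have h3 : (Spec.map χ ≫ g2) ≫ G.t ≫ G.e = (Spec.map χ ≫ g1) ≫ G.s ≫ G.e := by
        simp only [Category.assoc]; rw [← reassoc_of% hover]
      rw [h3]
      have h4 : (Spec.map χ ≫ g1) = (Spec.map χ ≫ Spec.map inlA ≫ Spec.map ψ ≫ Spec.map ε) ≫ u := by
        simp only [g1, ← Category.assoc, ← Spec.map_comp]
        rw [hinlK]
        simp only [Category.assoc]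
      conv_lhs => rw [h4]
      simp only [g1, Category.assoc]
      rw [hψ, hε]
      simp
    show Spec.map χ ≫ mulR G g1 g2 hover = _
    rw [comp_mulR, mulR_congr G h1 rfl]
    exact G.e_comp _
  have hφsnd : ∀ a : A, ε.hom (TrivSqZeroExt.snd (φ.hom a)) = τ a := by
    have h : φ ≫ χ = ψτ ≫ χ := by
      apply Spec.map_injective
      rw [← cancel_mono u, Spec.map_comp, Spec.map_comp, Category.assoc, Category.assoc, ← hφ]
      exact hz
    intro a
    have := congrArg (fun f => TrivSqZeroExt.snd (CommRingCat.Hom.hom f a)) h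
    change TrivSqZeroExt.snd (dualMap ε.hom (φ.hom a)) =
      TrivSqZeroExt.snd (dualMap ε.hom (dualHom (ψh.comp εh) (ψh.toAddMonoidHom.comp τ) hleib a)) at this
    rw [snd_dualMap, snd_dualMap, snd_dualHom] at this
    exact this.trans (hεψ' (τ a))
  refine ⟨{ toFun := fun a => TrivSqZeroExt.snd (φ.hom a), map_zero' := by simp [R]
            map_add' := fun a b => by simp [R] }, fun a b => ?_, hφsnd⟩
  have h1 : ∀ a : A, TrivSqZeroExt.fst (φ.hom a) = a := fun a =>
    congrArg (fun f => CommRingCat.Hom.hom f a) hφfst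
  show TrivSqZeroExt.snd (φ.hom (a * b)) = _
  rw [map_mul]
  refine (DualNumber.snd_mul _ _).trans ?_
  rw [h1, h1, mul_comm (TrivSqZeroExt.snd (φ.hom a))]
  rfl

/-- Cartier: in characteristic zero the local ring at the unit of a groupoid over a field with
source locally of finite type is a domain. -/
theorem isDomain_stalk_grpdUnit [CharZero K] [LocallyOfFiniteType G.s] :
    IsDomain (G.R.presheaf.stalk ((eU.inv ≫ G.e) (IsLocalRing.closedPoint K))) := by
  haveI : IsLocallyNoetherian G.R := LocallyOfFiniteType.isLocallyNoetherian (G.s ≫ eU.hom)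
  let p : G.R := (eU.inv ≫ G.e) (IsLocalRing.closedPoint K)
  let A := G.R.presheaf.stalk p
  let εc : A ⟶ CommRingCat.of K := Scheme.stalkClosedPointTo (R := CommRingCat.of K) (eU.inv ≫ G.e)
  let u := G.R.fromSpecStalk p
  have hεu : Spec.map εc ≫ u = eU.inv ≫ G.e :=
    Scheme.Spec_stalkClosedPointTo_fromSpecStalk (R := CommRingCat.of K) (eU.inv ≫ G.e)
  let ψs : CommRingCat.of K ⟶ A := Spec.preimage (u ≫ G.s ≫ eU.hom)
  let ψt : CommRingCat.of K ⟶ A := Spec.preimage (u ≫ G.t ≫ eU.hom)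
  have hs : ψs ≫ εc = 𝟙 _ := by
    apply Spec.map_injective
    rw [Spec.map_comp, Spec.map_preimage, reassoc_of% hεu, reassoc_of% G.e_s, Spec.map_id]
    exact eU.inv_hom_id
  have ht : ψt ≫ εc = 𝟙 _ := by
    apply Spec.map_injective
    rw [Spec.map_comp, Spec.map_preimage, reassoc_of% hεu, reassoc_of% G.e_t, Spec.map_id]
    exact eU.inv_hom_id
  let ε : A →+* K := εc.hom
  let ψ : K →+* A := ψt.hom
  have hεψ : ∀ c, ε (ψ c) = c := hom_apply_of_comp_eq_id ψt εc ht
  have hsurj : Function.Surjective ε := fun c => ⟨ψ c, hεψ c⟩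
  have hker : RingHom.ker ε = IsLocalRing.maximalIdeal A :=
    IsLocalRing.eq_maximalIdeal (RingHom.ker_isMaximal_of_surjective ε hsurj)
  have : IsLocalHom ε := ⟨fun a ha => by
    by_contra h
    have : a ∈ RingHom.ker ε := hker ▸ h
    rw [RingHom.mem_ker] at this
    rw [this] at ha
    simp at ha⟩
  let m := IsLocalRing.maximalIdeal A
  let b := Module.finBasis (IsLocalRing.ResidueField A) (IsLocalRing.CotangentSpace A)
  choose x hx using fun i => Ideal.toCotangent_surjective m (b i)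
  have hspan : Ideal.span (Set.range fun i => (x i : A)) = m := by
    have h : Submodule.span (IsLocalRing.ResidueField A) (m.toCotangent '' Set.range x) = ⊤ := by
      rw [← Set.range_comp, show m.toCotangent ∘ x = b from funext hx, b.span_eq]
    have := congrArg (Submodule.map m.subtype) (IsLocalRing.CotangentSpace.span_image_eq_top_iff.mp h)
    simpa [Submodule.map_span, ← Set.range_comp, Function.comp_def] using this
  have hmem : ∀ a, a - ψ (ε a) ∈ m := fun a => by
    show _ ∈ IsLocalRing.maximalIdeal A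
    rw [← hker, RingHom.mem_ker, map_sub, hεψ, sub_self]
  let res := IsLocalRing.ResidueField.lift ε
  let τ : ∀ i, A →+ K := fun i =>
    { toFun := fun a => res (b.repr (m.toCotangent ⟨a - ψ (ε a), hmem a⟩) i)
      map_zero' := by
        show res (b.repr (m.toCotangent ⟨0 - ψ (ε 0), hmem _⟩) i) = 0
        rw [show (⟨0 - ψ (ε 0), hmem _⟩ : m) = 0 from Subtype.ext (by simp)]
        simp
      map_add' := fun a a' => by
        rw [show (⟨a + a' - ψ (ε (a + a')), hmem _⟩ : m) =
            ⟨a - ψ (ε a), hmem a⟩ + ⟨a' - ψ (ε a'), hmem a'⟩ from Subtype.ext (by simp; ring)]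
        rw [map_add, map_add, Finsupp.add_apply, map_add] }
  have hτ : ∀ i a a', τ i (a * a') = ε a * τ i a' + ε a' * τ i a := by
    intro i a a'
    have hc : m.toCotangent ⟨a * a' - ψ (ε (a * a')), hmem _⟩ =
        IsLocalRing.residue A (ψ (ε a)) • m.toCotangent ⟨a' - ψ (ε a'), hmem a'⟩ +
          IsLocalRing.residue A (ψ (ε a')) • m.toCotangent ⟨a - ψ (ε a), hmem a⟩ := by
      rw [← IsLocalRing.ResidueField.algebraMap_eq, algebraMap_smul, algebraMap_smul]
      rw [← map_smul, ← map_smul, ← map_add, Ideal.toCotangent_eq]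
      have := Ideal.mul_mem_mul (hmem a) (hmem a')
      rw [← pow_two] at this
      convert this using 1
      simp
      ring
    show res (b.repr (m.toCotangent ⟨a * a' - ψ (ε (a * a')), hmem _⟩) i) = _
    rw [hc, map_add, map_smul, map_smul]
    simp [res, hεψ, τ]
  have hτ0 : ∀ i c, τ i (ψ c) = 0 := fun i c => by
    show res (b.repr (m.toCotangent ⟨ψ c - ψ (ε (ψ c)), hmem _⟩) i) = 0
    rw [show (⟨ψ c - ψ (ε (ψ c)), hmem _⟩ : m) = 0 from Subtype.ext (by simp [hεψ])]
    simp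
  have hfac : ∀ (R : CommRingCat.{u}) [IsLocalRing R] (g : Spec R ⟶ G.R),
      g (IsLocalRing.closedPoint R) = u (IsLocalRing.closedPoint A) → ∃ φ, g = Spec.map φ ≫ u :=
    fun R _ g hg => exists_hom_of_closedPoint_eq g (hg.trans Scheme.fromSpecStalk_closedPoint)
  choose D hD hDτ using fun i => exists_leibniz_grpd G eU A u εc ψs ψt (Spec.map_preimage _)
    (Spec.map_preimage _) hεu hs ht hfac (τ i) (hτ i) (hτ0 i)
  refine isDomain_of_derivations (ε := ε) (fun i => (x i : A)) hker hsurj hspan D hD (fun i j => ?_)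
  rw [hDτ]
  show res (b.repr (m.toCotangent ⟨(x j : A) - ψ (ε (x j)), hmem _⟩) i) = _
  have hxj : ε (x j : A) = 0 := RingHom.mem_ker.mp (hker.symm ▸ (x j).2)
  rw [show (⟨(x j : A) - ψ (ε (x j)), hmem _⟩ : m) = x j from Subtype.ext (by simp [hxj]), hx]
  simp [Finsupp.single_apply, eq_comm, apply_ite res]

end Groth.Agent.H19Grp
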