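import Mathlib

/-!
Differentials of a commutative Hopf algebra: `Ω[B⁄R] ≅ B ⊗[R] ω` with
`ω = Ω[B⁄R] ⧸ (ker ε) Ω[B⁄R]`.
-/

set_option autoImplicit false
set_option linter.style.haveILetI false
universe u v
set_option maxHeartbeats 400000

open Coalgebra TensorProduct
open scoped TensorProduct

namespace Groth.Agent.H19Grp.HopfOmega

variable (R : Type u) [CommRing R] (B : Type v) [CommRing B] [HopfAlgebra R B]

/-- The augmentation ideal. -/
noncomputable def aug : Ideal B := RingHom.ker (Bialgebra.counitAlgHom R B)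

/-- `Ω ⊗_{B,ε} R`. -/
abbrev omega : Type v := Ω[B⁄R] ⧸ (aug R B • (⊤ : Submodule B Ω[B⁄R]))

/-- The universal invariant differential. -/
noncomputable def piMap : B →ₗ[R] omega R B :=
  ((Submodule.mkQ (aug R B • (⊤ : Submodule B Ω[B⁄R]))).restrictScalars R).comp
    (KaehlerDifferential.D R B).toLinearMap

lemma mk_smul (b : B) (m : Ω[B⁄R]) :
    (Submodule.Quotient.mk (b • m) : omega R B) =
      counit (R := R) b • (Submodule.Quotient.mk m : omega R B) := by
  rw [← Submodule.Quotient.mk_smul, Submodule.Quotient.eq,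
    ← algebraMap_smul B (counit (R := R) b) m, ← sub_smul]
  refine Submodule.smul_mem_smul ?_ Submodule.mem_top
  simp [aug, RingHom.mem_ker]

lemma piMap_mul (x y : B) :
    piMap R B (x * y) =
      counit (R := R) x • piMap R B y + counit (R := R) y • piMap R B x := by
  simp only [piMap, LinearMap.comp_apply, Derivation.coeFn_coe, Derivation.leibniz,
    LinearMap.restrictScalars_apply, map_add, Submodule.mkQ_apply, Submodule.Quotient.mk_add,
    mk_smul]

/-- `(x, y) ↦ S x • d y`. -/
noncomputable def sdMap : B ⊗[R] B →ₗ[R] Ω[B⁄R] :=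
  TensorProduct.lift (LinearMap.mk₂ R
    (fun x y => HopfAlgebra.antipode R x • KaehlerDifferential.D R B y)
    (fun x x' y => by rw [map_add]; exact add_smul _ _ _)
    (fun c x y => by rw [map_smul]; exact smul_assoc _ _ _)
    (fun x y y' => by rw [map_add]; exact smul_add _ _ _)
    (fun c x y => by rw [Derivation.map_smul]; exact smul_comm _ _ _))

@[simp] lemma sdMap_tmul (x y : B) :
    sdMap R B (x ⊗ₜ y) = HopfAlgebra.antipode R x • KaehlerDifferential.D R B y := rfl

/-- `b ↦ Σ S b₁ • d b₂`. -/
noncomputable def theta : B →ₗ[R] Ω[B⁄R] := (sdMap R B).comp comul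

lemma theta_eq {ι : Type*} {a : B} (r : Coalgebra.Repr R a ι) :
    theta R B a = ∑ i ∈ r.index,
      HopfAlgebra.antipode R (r.left i) • KaehlerDifferential.D R B (r.right i) := by
  simp [theta, ← r.eq, map_sum]

lemma theta_one : theta R B 1 = 0 := by
  simp [theta, Algebra.TensorProduct.one_def]

lemma sum_antipode_left {ι : Type*} {a : B} (r : Coalgebra.Repr R a ι) :
    ∑ i ∈ r.index, HopfAlgebra.antipode R (r.left i) * r.right i =
      algebraMap R B (counit a) :=
  HopfAlgebra.sum_antipode_mul_eq_algebraMap_counit r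

lemma theta_mul (a b : B) :
    theta R B (a * b) = counit (R := R) a • theta R B b + counit (R := R) b • theta R B a := by
  classical
  let ra := ℛ R a
  let rb := ℛ R b
  rw [theta_eq R B ra, theta_eq R B rb, theta, LinearMap.comp_apply, Bialgebra.comul_mul,
    ← ra.eq, ← rb.eq]
  simp only [Finset.sum_mul_sum, Algebra.TensorProduct.tmul_mul_tmul, map_sum, sdMap_tmul, Derivation.leibniz, smul_add,
    Finset.sum_add_distrib, smul_smul, HopfAlgebra.antipode_mul_distrib]
  congr 1
  · rw [← algebraMap_smul B (counit (R := R) a), Finset.smul_sum,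
      ← sum_antipode_left R B ra, Finset.sum_comm]
    refine Finset.sum_congr rfl fun j _ => ?_
    rw [smul_smul, Finset.sum_mul, Finset.sum_smul]
    refine Finset.sum_congr rfl fun i _ => ?_
    congr 1
    ring
  · rw [← algebraMap_smul B (counit (R := R) b), Finset.smul_sum,
      ← sum_antipode_left R B rb]
    refine Finset.sum_congr rfl fun i _ => ?_
    rw [smul_smul, Finset.sum_mul, Finset.sum_smul]
    refine Finset.sum_congr rfl fun j _ => ?_
    congr 1
    ring

/-- `b ↦ Σ b₁ ⊗ π b₂`. -/
noncomputable def dLin : B →ₗ[R] B ⊗[R] omega R B := ((piMap R B).lTensor B).comp comul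

lemma dLin_eq {ι : Type*} {a : B} (r : Coalgebra.Repr R a ι) :
    dLin R B a = ∑ i ∈ r.index, r.left i ⊗ₜ[R] piMap R B (r.right i) := by
  simp [dLin, ← r.eq, map_sum]

lemma dLin_mul (a b : B) : dLin R B (a * b) = a • dLin R B b + b • dLin R B a := by
  classical
  let ra := ℛ R a
  let rb := ℛ R b
  rw [dLin_eq R B ra, dLin_eq R B rb, dLin, LinearMap.comp_apply, Bialgebra.comul_mul,
    ← ra.eq, ← rb.eq]
  simp only [Finset.sum_mul_sum, Algebra.TensorProduct.tmul_mul_tmul, map_sum, LinearMap.lTensor_tmul, piMap_mul, TensorProduct.tmul_add,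
    Finset.sum_add_distrib, Finset.smul_sum, TensorProduct.smul_tmul', smul_eq_mul,
    ← TensorProduct.smul_tmul]
  have ha : ∑ i ∈ ra.index, counit (R := R) (ra.right i) • ra.left i = a := by
    have h := congr(TensorProduct.lift ((LinearMap.lsmul R B).flip)
      $(Coalgebra.sum_tmul_counit_eq ra))
    simp only [map_sum, TensorProduct.lift.tmul, LinearMap.flip_apply, LinearMap.lsmul_apply,
      one_smul] at h
    exact h
  have hb : ∑ i ∈ rb.index, counit (R := R) (rb.right i) • rb.left i = b := by
    have h := congr(TensorProduct.lift ((LinearMap.lsmul R B).flip)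
      $(Coalgebra.sum_tmul_counit_eq rb))
    simp only [map_sum, TensorProduct.lift.tmul, LinearMap.flip_apply, LinearMap.lsmul_apply,
      one_smul] at h
    exact h
  congr 1
  · rw [Finset.sum_comm]
    refine Finset.sum_congr rfl fun j _ => ?_
    rw [← TensorProduct.sum_tmul]
    congr 1
    conv_rhs => rw [← ha, Finset.sum_mul]
    refine Finset.sum_congr rfl fun i _ => ?_
    rw [smul_mul_assoc]
  · refine Finset.sum_congr rfl fun i _ => ?_
    rw [← TensorProduct.sum_tmul]
    congr 1
    conv_rhs => rw [← hb, Finset.sum_mul]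
    refine Finset.sum_congr rfl fun j _ => ?_
    rw [smul_mul_assoc, mul_comm (ra.left i)]

/-- The derivation `b ↦ Σ b₁ ⊗ π b₂`. -/
noncomputable def dDer : Derivation R B (B ⊗[R] omega R B) :=
  Derivation.mk' (dLin R B) (dLin_mul R B)

@[simp] lemma dDer_apply (b : B) : dDer R B b = dLin R B b := rfl

/-- `Ω` with `B` acting through the counit. -/
def Tw : Type v := Ω[B⁄R]

noncomputable instance : AddCommGroup (Tw R B) := inferInstanceAs (AddCommGroup Ω[B⁄R])
noncomputable instance instModR : Module R (Tw R B) := inferInstanceAs (Module R Ω[B⁄R])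
noncomputable instance instModB : Module B (Tw R B) :=
  Module.compHom (Tw R B) (Bialgebra.counitAlgHom R B).toRingHom

lemma tw_smul (b : B) (m : Tw R B) : b • m = counit (R := R) b • m := rfl

instance : IsScalarTower R B (Tw R B) :=
  ⟨fun c b m => by
    show counit (R := R) (c • b) • m = c • (counit (R := R) b • m)
    rw [map_smul, smul_eq_mul, mul_smul]⟩

/-- `theta` as a derivation into the twisted module. -/
noncomputable def thetaDer : Derivation R B (Tw R B) :=
  Derivation.mk' (M := Tw R B) (theta R B : B →ₗ[R] Tw R B) (fun a b => theta_mul R B a b)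

/-- The map `ω → Ω`, `π c ↦ θ c`. -/
noncomputable def thetaBar : omega R B →ₗ[R] Ω[B⁄R] :=
  (Submodule.liftQ (aug R B • (⊤ : Submodule B Ω[B⁄R])) (thetaDer R B).liftKaehlerDifferential
    (Submodule.smul_le.mpr fun r hr n _ => by
      rw [LinearMap.mem_ker, map_smul, tw_smul]
      simp only [aug, RingHom.mem_ker, Bialgebra.counitAlgHom_apply] at hr
      rw [hr, zero_smul])).restrictScalars R

@[simp] lemma thetaBar_piMap (b : B) : thetaBar R B (piMap R B b) = theta R B b :=
  (thetaDer R B).liftKaehlerDifferential_comp_D b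

/-- The map `B ⊗ ω → Ω`. -/
noncomputable def bwd : B ⊗[R] omega R B →ₗ[B] Ω[B⁄R] := (thetaBar R B).liftBaseChange B

@[simp] lemma bwd_tmul (b : B) (w : omega R B) : bwd R B (b ⊗ₜ w) = b • thetaBar R B w :=
  rfl

/-- The map `Ω → B ⊗ ω`. -/
noncomputable def fwd : Ω[B⁄R] →ₗ[B] B ⊗[R] omega R B := (dDer R B).liftKaehlerDifferential

@[simp] lemma fwd_D (b : B) : fwd R B (KaehlerDifferential.D R B b) = dLin R B b :=
  (dDer R B).liftKaehlerDifferential_comp_D b

/-- `(x, y, z) ↦ (x S y) • d z`. -/
noncomputable def leftMap : B ⊗[R] (B ⊗[R] B) →ₗ[R] Ω[B⁄R] :=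
  TensorProduct.lift (LinearMap.mk₂ R (fun x w => x • sdMap R B w)
    (fun x x' w => add_smul x x' _)
    (fun c x w => smul_assoc c x _)
    (fun x w w' => by rw [map_add]; exact smul_add _ _ _)
    (fun c x w => by rw [map_smul]; exact smul_comm _ _ _))

@[simp] lemma leftMap_tmul (x : B) (w : B ⊗[R] B) : leftMap R B (x ⊗ₜ w) = x • sdMap R B w := rfl

/-- `(x, y, z) ↦ S x y ⊗ π z`. -/
noncomputable def rightMap : B ⊗[R] (B ⊗[R] B) →ₗ[R] B ⊗[R] omega R B :=
  TensorProduct.lift (LinearMap.mk₂ R
    (fun x w => HopfAlgebra.antipode R x • (piMap R B).lTensor B w)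
    (fun x x' w => by rw [map_add]; exact add_smul _ _ _)
    (fun c x w => by rw [map_smul]; exact smul_assoc _ _ _)
    (fun x w w' => by rw [map_add]; exact smul_add _ _ _)
    (fun c x w => by rw [map_smul]; exact smul_comm _ _ _))

@[simp] lemma rightMap_tmul (x : B) (w : B ⊗[R] B) :
    rightMap R B (x ⊗ₜ w) = HopfAlgebra.antipode R x • (piMap R B).lTensor B w := rfl

lemma bwd_dLin (b : B) : bwd R B (dLin R B b) = KaehlerDifferential.D R B b := by
  classical
  let r := ℛ R b
  have key := congr(leftMap R B $(Coalgebra.sum_tmul_tmul_eq r (fun i => ℛ R (r.left i))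
    (fun i => ℛ R (r.right i))))
  simp only [map_sum, leftMap_tmul, sdMap_tmul, smul_smul, ← Finset.sum_smul,
    HopfAlgebra.sum_mul_antipode_eq_algebraMap_counit] at key
  rw [dLin_eq R B r, map_sum]
  simp only [bwd_tmul, thetaBar_piMap]
  rw [Finset.sum_congr rfl fun i _ => by
    rw [theta_eq R B (ℛ R (r.right i)), Finset.smul_sum]]
  simp only [smul_smul, ← key, algebraMap_smul]
  conv_rhs => rw [← Coalgebra.sum_counit_smul r]
  simp [map_sum]

lemma fwd_theta (c : B) : fwd R B (theta R B c) = 1 ⊗ₜ piMap R B c := by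
  classical
  let r := ℛ R c
  have key := congr(rightMap R B $(Coalgebra.sum_tmul_tmul_eq r (fun i => ℛ R (r.left i))
    (fun i => ℛ R (r.right i))))
  simp only [map_sum, rightMap_tmul, LinearMap.lTensor_tmul, TensorProduct.smul_tmul',
    smul_eq_mul, ← TensorProduct.sum_tmul,
    HopfAlgebra.sum_antipode_mul_eq_algebraMap_counit] at key
  rw [theta_eq R B r, map_sum]
  simp only [map_smul, fwd_D]
  rw [Finset.sum_congr rfl fun i _ => by
    rw [dLin_eq R B (ℛ R (r.right i)), Finset.smul_sum]]
  simp only [TensorProduct.smul_tmul', smul_eq_mul, ← key]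
  conv_rhs => rw [← Coalgebra.sum_counit_smul r]
  simp [map_sum, TensorProduct.tmul_sum, Algebra.algebraMap_eq_smul_one, TensorProduct.smul_tmul]

/-- Differentials of a Hopf algebra are translation invariant: `Ω[B⁄R] ≅ B ⊗[R] ω`. -/
noncomputable def equiv : Ω[B⁄R] ≃ₗ[B] B ⊗[R] omega R B :=
  LinearEquiv.ofLinear (fwd R B) (bwd R B)
    (by
      refine TensorProduct.AlgebraTensorModule.ext fun b w => ?_
      obtain ⟨m, rfl⟩ := Submodule.Quotient.mk_surjective _ w
      have hm : m ∈ Submodule.span B (Set.range (KaehlerDifferential.D R B)) := by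
        rw [KaehlerDifferential.span_range_derivation]; exact Submodule.mem_top
      induction hm using Submodule.span_induction generalizing b with
      | mem x hx =>
        obtain ⟨c, rfl⟩ := hx
        show fwd R B (bwd R B (b ⊗ₜ piMap R B c)) = b ⊗ₜ piMap R B c
        rw [bwd_tmul, thetaBar_piMap, map_smul, fwd_theta, TensorProduct.smul_tmul', smul_eq_mul,
          mul_one]
      | zero => simp
      | add x y _ _ hx hy =>
        simp only [Submodule.Quotient.mk_add, TensorProduct.tmul_add, map_add, hx, hy]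
      | smul c x _ hx =>
        simp only [mk_smul, TensorProduct.tmul_smul]
        rw [LinearMap.map_smul_of_tower, hx]
        simp)
    (by
      refine Derivation.liftKaehlerDifferential_unique _ _ (Derivation.ext fun b => ?_)
      simp [bwd_dLin])

end Groth.Agent.H19Grp.HopfOmega
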