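import Groth.Agent.S18828
import Mathlib

/-!
# A monomorphism through which the infinitesimal neighbourhoods lift is an open immersion
-/

set_option autoImplicit false
set_option maxHeartbeats 1000000
set_option synthInstance.maxHeartbeats 100000
set_option linter.style.haveILetI false
set_option backward.isDefEq.respectTransparency false

universe u

open CategoryTheory CategoryTheory.Limits AlgebraicGeometry IsLocalRing

namespace Groth.Agent.H19Grp.MonoEtale

variable {R : Type u} [CommRing R] [IsLocalRing R]

instance isLocalRing_quotient (n : ℕ) : IsLocalRing (R ⧸ maximalIdeal R ^ (n + 1)) := by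
  haveI : Nontrivial (R ⧸ maximalIdeal R ^ (n + 1)) := Ideal.Quotient.nontrivial_iff.mpr fun h =>
    (maximalIdeal.isMaximal R).ne_top (top_le_iff.mp (h ▸ Ideal.pow_le_self (Nat.succ_ne_zero n)))
  exact IsLocalRing.of_surjective' (Ideal.Quotient.mk _) Ideal.Quotient.mk_surjective

theorem isNilpotent_maximalIdeal_quotient (n : ℕ) :
    maximalIdeal (R ⧸ maximalIdeal R ^ (n + 1)) ^ (n + 1) = ⊥ := by
  have h : maximalIdeal (R ⧸ maximalIdeal R ^ (n + 1)) ≤
      (maximalIdeal R).map (Ideal.Quotient.mk (maximalIdeal R ^ (n + 1))) := by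
    intro x hx
    obtain ⟨a, rfl⟩ := Ideal.Quotient.mk_surjective x
    exact Ideal.mem_map_of_mem _ fun ha => hx (ha.map _)
  rw [eq_bot_iff]
  refine (Ideal.pow_right_mono h _).trans ?_
  rw [← Ideal.map_pow, Ideal.map_quotient_self]

theorem exists_lift_local {X : Scheme.{u}} {A : Type u} [CommRing A] [IsLocalRing A]
    (g : Spec (CommRingCat.of A) ⟶ X) (x : X) (h : g.base (closedPoint A) = x) :
    ∃ g' : X.presheaf.stalk x ⟶ CommRingCat.of A,
      IsLocalHom g'.hom ∧ Spec.map g' ≫ X.fromSpecStalk x = g := by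
  subst h
  exact ⟨Scheme.stalkClosedPointTo g, inferInstance, Scheme.Spec_stalkClosedPointTo_fromSpecStalk g⟩

/-- A monomorphism locally of finite type of locally Noetherian schemes such that all infinitesimal
neighbourhoods of image points lift is an open immersion. -/
theorem isOpenImmersion_of_lift {X Y : Scheme.{u}} (i : X ⟶ Y) [IsLocallyNoetherian X]
    [IsLocallyNoetherian Y] [Mono i] [LocallyOfFiniteType i]
    (h : ∀ (x : X) (n : ℕ), ∃ g : Spec (CommRingCat.of (Y.presheaf.stalk (i.base x) ⧸
        maximalIdeal (Y.presheaf.stalk (i.base x)) ^ (n + 1))) ⟶ X,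
      g ≫ i = Spec.map (CommRingCat.ofHom (Ideal.Quotient.mk _)) ≫ Y.fromSpecStalk (i.base x)) :
    IsOpenImmersion i := by
  haveI : LocallyOfFinitePresentation i := inferInstance
  haveI : Flat i := Flat.of_stalkMap _ fun x => by
    have key : ∀ n : ℕ, (∀ s : X.presheaf.stalk x, ∃ r : Y.presheaf.stalk (i.base x),
        s - (i.stalkMap x).hom r ∈ maximalIdeal (X.presheaf.stalk x) ^ (n + 1)) ∧
        ∀ a : Y.presheaf.stalk (i.base x), (i.stalkMap x).hom a ∈ maximalIdeal (X.presheaf.stalk x) ^ (n + 1) ↔
          a ∈ maximalIdeal (Y.presheaf.stalk (i.base x)) ^ (n + 1) := by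
      intro n
      obtain ⟨g, hg⟩ := h x n
      haveI : IsLocalHom (CommRingCat.ofHom
          (Ideal.Quotient.mk (maximalIdeal (Y.presheaf.stalk (i.base x)) ^ (n + 1)))).hom :=
        IsLocalHom.of_surjective _ Ideal.Quotient.mk_surjective
      haveI hL : IsLocalRing (CommRingCat.of (Y.presheaf.stalk (i.base x) ⧸ maximalIdeal (Y.presheaf.stalk (i.base x)) ^ (n + 1))) :=
        isLocalRing_quotient n
      have hgx : g.base (closedPoint (Y.presheaf.stalk (i.base x) ⧸ maximalIdeal (Y.presheaf.stalk (i.base x)) ^ (n + 1))) = x := by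
        apply i.injective
        have h1 := congr(($hg).base (closedPoint _))
        simp only [Scheme.Hom.comp_apply] at h1
        exact h1.trans ((congrArg _ (IsLocalRing.comap_closedPoint (Ideal.Quotient.mk
          (maximalIdeal (Y.presheaf.stalk (i.base x)) ^ (n + 1))))).trans Scheme.fromSpecStalk_closedPoint)
      obtain ⟨g', hloc, rfl⟩ := exists_lift_local g x hgx
      have hcomp : i.stalkMap x ≫ g' = CommRingCat.ofHom (Ideal.Quotient.mk _) := by
        apply Spec.map_injective
        rw [← cancel_mono (Y.fromSpecStalk (i.base x)), ← hg, Spec.map_comp, Category.assoc, Category.assoc,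
          Scheme.SpecMap_stalkMap_fromSpecStalk]
      have hle : maximalIdeal (Y.presheaf.stalk (i.base x)) ^ (n + 1) ≤
          (maximalIdeal (X.presheaf.stalk x) ^ (n + 1)).comap (i.stalkMap x).hom :=
        (Ideal.pow_right_mono (by rw [IsLocalRing.maximalIdeal_comap]) _).trans (Ideal.le_comap_pow _ _)
      let φbar : CommRingCat.of (Y.presheaf.stalk (i.base x) ⧸ maximalIdeal (Y.presheaf.stalk (i.base x)) ^ (n + 1)) ⟶
          CommRingCat.of (X.presheaf.stalk x ⧸ maximalIdeal (X.presheaf.stalk x) ^ (n + 1)) :=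
        CommRingCat.ofHom (Ideal.quotientMap _ (i.stalkMap x).hom hle)
      have hbar : CommRingCat.ofHom (Ideal.Quotient.mk _) ≫ φbar =
          i.stalkMap x ≫ CommRingCat.ofHom (Ideal.Quotient.mk _) := by
        ext a; rfl
      have hproj : g' ≫ φbar = CommRingCat.ofHom (Ideal.Quotient.mk _) := by
        apply Spec.map_injective
        rw [← cancel_mono (X.fromSpecStalk x), ← cancel_mono i, Spec.map_comp, Category.assoc,
          Category.assoc, Category.assoc, ← Category.assoc (Spec.map g'), hg, ← Category.assoc,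
          ← Spec.map_comp, hbar, Spec.map_comp, Category.assoc, Scheme.SpecMap_stalkMap_fromSpecStalk]
      refine ⟨fun s => ?_, fun a => ⟨fun ha => ?_, fun ha => hle ha⟩⟩
      · obtain ⟨r, hr⟩ := Ideal.Quotient.mk_surjective (g'.hom s)
        refine ⟨r, Ideal.Quotient.eq.mp ?_⟩
        have h1 := congr(($hproj).hom s)
        simp only [CommRingCat.hom_comp, CommRingCat.hom_ofHom, RingHom.comp_apply] at h1
        exact h1.symm.trans ((congrArg _ hr.symm).trans (congr(($hbar).hom r)))
      · haveI := hloc
        have h1 : g'.hom ((i.stalkMap x).hom a) ∈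
            maximalIdeal (Y.presheaf.stalk (i.base x) ⧸ maximalIdeal (Y.presheaf.stalk (i.base x)) ^ (n + 1)) ^ (n + 1) :=
          Ideal.le_comap_pow _ _ (Ideal.pow_right_mono (by rw [IsLocalRing.maximalIdeal_comap]) _ ha)
        rw [isNilpotent_maximalIdeal_quotient, Submodule.mem_bot,
          ← RingHom.comp_apply, ← CommRingCat.hom_comp, hcomp] at h1
        exact Ideal.Quotient.eq_zero_iff_mem.mp h1
    exact S18828.flat_of_completion_iso _ (fun n => (key n).1) (fun n => (key n).2)
  exact IsOpenImmersion.of_flat_of_mono i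

end Groth.Agent.H19Grp.MonoEtale
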