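import Groth.Agent.H19Grp.NeutralPts
import Mathlib

/-!
# Quasi-compactness of the union of the neutral components
-/

set_option autoImplicit false
set_option linter.style.haveILetI false
set_option backward.isDefEq.respectTransparency false

universe u

open CategoryTheory Limits MonoidalCategory CartesianMonoidalCategory MonObj AlgebraicGeometry TopologicalSpace

namespace Groth.Agent.H19Grp

variable {S : Scheme.{u}} (G : Over S) [GrpObj G]

/-- Over a quasi-compact quasi-separated open of the base the neutral set is inside a quasi-compact set. -/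
theorem exists_compact_supset_neutralSet (V : S.Opens) (hVc : IsCompact (V : Set S)) [QuasiSeparatedSpace V] :
    ∃ K : Set G.left, IsCompact K ∧ SGA3x.neutralSet G ∩ G.hom ⁻¹' V ⊆ K ∧ K ⊆ G.hom ⁻¹' V := by
  -- a quasi-compact open containing the unit section over `V`
  obtain ⟨W, hWc, hηW, hWV⟩ : ∃ W : G.left.Opens, IsCompact (W : Set G.left) ∧
      η[G].left '' (V : Set S) ⊆ W ∧ (W : Set G.left) ⊆ G.hom ⁻¹' V := by
    have hc : IsCompact (η[G].left '' (V : Set S)) := hVc.image η[G].left.continuous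
    obtain ⟨t, ht⟩ := hc.elim_finite_subcover
      (fun U : {U : G.left.Opens // IsAffineOpen U ∧ U ≤ G.hom ⁻¹ᵁ V} => (U.1 : Set G.left)) (fun U => U.1.2)
      (by
        rintro _ ⟨s, hs, rfl⟩
        obtain ⟨U, hU, hxU, hUV⟩ := exists_isAffineOpen_mem_and_subset (X := G.left) (x := η[G].left s)
          (U := G.hom ⁻¹ᵁ V) (show G.hom (η[G].left s) ∈ V by rw [hom_one_apply]; exact hs)
        exact Set.mem_iUnion.2 ⟨⟨U, hU, hUV⟩, hxU⟩)
    refine ⟨⟨⋃ U ∈ t, (U.1 : Set G.left), isOpen_biUnion fun U _ => U.1.2⟩,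
      t.isCompact_biUnion fun U _ => U.2.1.isCompact, ht, Set.iUnion₂_subset fun U _ => U.2.2⟩
  haveI : CompactSpace W := isCompact_iff_compactSpace.mp hWc
  let w : (W : Scheme.{u}) ⟶ (V : Scheme.{u}) :=
    IsOpenImmersion.lift V.ι (W.ι ≫ G.hom) (by
      rw [Scheme.Opens.range_ι]
      rintro _ ⟨z, rfl⟩
      rw [Scheme.Hom.comp_apply]
      exact hWV z.2)
  have hw : w ≫ V.ι = W.ι ≫ G.hom := IsOpenImmersion.lift_fac _ _ _
  haveI : QuasiCompact w := inferInstance
  haveI : CompactSpace ↥(pullback w w) := QuasiCompact.compactSpace_of_compactSpace (pullback.fst w w)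
  let m : pullback w w ⟶ (G ⊗ G).left :=
    pullback.map w w G.hom G.hom W.ι W.ι V.ι hw hw
  let μ' : pullback w w ⟶ G.left := m ≫ μ[G].left
  refine ⟨Set.range μ', isCompact_range μ'.continuous, ?_, ?_⟩
  · rintro x ⟨hx, hxV⟩
    obtain ⟨z, hz, ⟨h1, -⟩, ⟨h2, -⟩⟩ := exists_mul_eq_of_mem_neutralSet G W (hηW ⟨_, hxV, rfl⟩) hx
    obtain ⟨y, hy⟩ : z ∈ Set.range m := by
      erw [Scheme.Pullback.range_map]
      rw [Scheme.Opens.range_ι]
      exact ⟨h1, h2⟩
    exact ⟨y, by rw [Scheme.Hom.comp_apply, hy, hz]⟩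
  · rintro _ ⟨y, rfl⟩
    show G.hom (μ' y) ∈ V
    rw [← Scheme.Hom.comp_apply, show μ' ≫ G.hom = (pullback.fst w w ≫ w) ≫ V.ι by
      rw [Category.assoc, Category.assoc, hw]
      erw [Over.w μ[G]]
      exact pullback.lift_fst_assoc _ _ _ _]
    rw [Scheme.Hom.comp_apply]
    exact ((pullback.fst w w ≫ w) y).2

end Groth.Agent.H19Grp
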