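import Groth.Agent.H19Grp.NeutralPts
import Groth.Agent.H06SecComp.ModelApps
import Groth.Agent.H12AlgSp.UnivInj
import Groth.Agent.H17.IndCons
import Groth.Agent.H13AlgSp.EtaleLocally
import Mathlib

/-!
# Constructibility properties of the neutral set
-/

set_option autoImplicit false
set_option linter.style.haveILetI false
set_option backward.isDefEq.respectTransparency false

universe u

open CategoryTheory Limits MonoidalCategory CartesianMonoidalCategory MonObj GrpObj AlgebraicGeometry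
open Topology

namespace Groth.Agent.H19Grp

variable {S : Scheme.{u}} (G : Over S) [GrpObj G]

/-- On an open containing the units over an open of the base, the neutral set is the union of the
components of the units. -/
theorem preimage_neutralSet_eq_sectionComponents (U : G.left.Opens) (W : S.Opens)
    (hU : U ≤ G.hom ⁻¹ᵁ W) (hη : ∀ s ∈ W, η[G].left s ∈ U)
    (g : W.toScheme ⟶ U.toScheme) (hg : ∀ w, U.ι (g w) = η[G].left (W.ι w)) :
    U.ι ⁻¹' SGA3x.neutralSet G = MoreMor.sectionComponents (G.hom.resLE W U hU) g := by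
  have hf : ∀ u, W.ι (G.hom.resLE W U hU u) = G.hom (U.ι u) := fun u =>
    congrArg (fun m : U.toScheme ⟶ S => m u) (Scheme.Hom.resLE_comp_ι G.hom hU)
  have hfib : ∀ w, G.hom.resLE W U hU ⁻¹' {w} = U.ι ⁻¹' (G.hom ⁻¹' {W.ι w}) := fun w => by
    ext u
    simp only [Set.mem_preimage, Set.mem_singleton_iff]
    rw [← hf]
    exact W.ι.isOpenEmbedding.injective.eq_iff.symm
  have hmem : ∀ w, W.ι w ∈ W := fun w => (W.range_ι.le ⟨w, rfl⟩ : W.ι w ∈ (W : Set S))
  ext u
  set w := G.hom.resLE W U hU u with hw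
  show U.ι u ∈ SGA3x.neutralSet G ↔ u ∈ connectedComponentIn (G.hom.resLE W U hU ⁻¹' {w}) (g w)
  rw [mem_neutralSet_iff, ← hf, hfib, ← hw]
  constructor
  · intro hu
    have hne : (neutralAt G (W.ι w) ∩ Set.range U.ι).Nonempty :=
      ⟨η[G].left (W.ι w), mem_connectedComponentIn (hom_one_apply G _),
        U.range_ι.symm ▸ hη _ (hmem w)⟩
    have hirr : IsIrreducible (U.ι ⁻¹' neutralAt G (W.ι w)) :=
      (isIrreducible_neutralAt G (W.ι w)).preimage U.ι.isOpenEmbedding hne
    refine hirr.2.isPreconnected.subset_connectedComponentIn ?_ ?_ hu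
    · show U.ι (g w) ∈ neutralAt G (W.ι w)
      rw [hg]
      exact mem_connectedComponentIn (hom_one_apply G _)
    · intro v hv
      exact connectedComponentIn_subset (G.hom ⁻¹' {W.ι w}) (η[G].left (W.ι w)) hv
  · intro hu
    refine (isPreconnected_connectedComponentIn.image _
      U.ι.continuous.continuousOn).subset_connectedComponentIn ?_ ?_ ⟨u, hu, rfl⟩
    · refine ⟨g w, mem_connectedComponentIn ?_, hg w⟩
      show G.hom (U.ι (g w)) = W.ι w
      rw [hg]
      exact hom_one_apply G _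
    · rintro _ ⟨v, hv, rfl⟩
      exact (connectedComponentIn_subset (U.ι ⁻¹' (G.hom ⁻¹' {W.ι w})) (g w) hv :)

/-- Near every point of the base, the neutral set is the image of a constructible subset of an
affine scheme under a morphism locally of finite presentation; if an open containing the unit
section is smooth, the subset is open and the morphism smooth. -/
theorem exists_neutral_model' (V : G.left.Opens) (hV : ∀ s, η[G].left s ∈ V)
    (hfin : LocallyOfFinitePresentation G.hom ∨ Smooth (V.ι ≫ G.hom)) (s₀ : S) :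
    ∃ (W : S.Opens) (_ : s₀ ∈ W) (_ : IsAffineOpen W) (P : Scheme.{u}) (_ : IsAffine P)
      (m : P ⟶ G.left) (K : Set P), LocallyOfFinitePresentation m ∧ IsConstructible K ∧
      Set.range m ⊆ G.hom ⁻¹ᵁ W ∧ m '' K = SGA3x.neutralSet G ∩ (G.hom ⁻¹ᵁ W : G.left.Opens) ∧
      (Smooth (V.ι ≫ G.hom) → Smooth m ∧ Smooth (m ≫ G.hom) ∧ IsOpen K) := by
  obtain ⟨S₀, hS₀, hs₀, -⟩ := exists_isAffineOpen_mem_and_subset (X := S) (x := s₀) (U := ⊤) trivial
  obtain ⟨U₀, hU₀, heU, hU₀'⟩ := exists_isAffineOpen_mem_and_subset (X := G.left)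
    (x := η[G].left s₀) (U := V ⊓ G.hom ⁻¹ᵁ S₀) ⟨hV s₀, show G.hom (η[G].left s₀) ∈ S₀ by
      rwa [hom_one_apply]⟩
  have hUV : U₀ ≤ V := fun _ hx => (hU₀' hx).1
  have hUS : U₀ ≤ G.hom ⁻¹ᵁ S₀ := fun _ hx => (hU₀' hx).2
  obtain ⟨r, hr, hs₀r⟩ := hS₀.exists_basicOpen_le (V := η[G].left ⁻¹ᵁ U₀) ⟨s₀, heU⟩ hs₀
  let W := S.basicOpen r
  let U : G.left.Opens := U₀ ⊓ G.hom ⁻¹ᵁ W
  have hW : IsAffineOpen W := hS₀.basicOpen r
  have hUaff : IsAffineOpen U := by
    have : U = G.left.basicOpen (G.hom.appLE S₀ U₀ hUS r) := by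
      rw [Scheme.Hom.appLE, CommRingCat.comp_apply, Scheme.basicOpen_res, ← Scheme.preimage_basicOpen]
    rw [this]
    exact hU₀.basicOpen _
  have hUW : U ≤ G.hom ⁻¹ᵁ W := inf_le_right
  have hη : ∀ s ∈ W, η[G].left s ∈ U := fun s hs =>
    ⟨hr hs, show G.hom (η[G].left s) ∈ W by rwa [hom_one_apply]⟩
  haveI : IsAffine W.toScheme := hW
  haveI : IsAffine U.toScheme := hUaff
  let f := G.hom.resLE W U hUW
  have hηle : W ≤ η[G].left ⁻¹ᵁ U := fun s hs => hη s hs
  let g : W.toScheme ⟶ U.toScheme := η[G].left.resLE U W hηle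
  have hg : g ≫ U.ι = W.ι ≫ η[G].left := Scheme.Hom.resLE_comp_ι _ hηle
  have hgf : g ≫ f = 𝟙 _ := by
    rw [← cancel_mono W.ι, Category.assoc, Scheme.Hom.resLE_comp_ι, reassoc_of% hg, Over.w η[G],
      Category.id_comp]
    exact Category.comp_id _
  have hUV' : U ≤ V := inf_le_left.trans hUV
  haveI hT : LocallyOfFinitePresentation (U.ι ≫ G.hom) := by
    rcases hfin with h | h
    · infer_instance
    · rw [← Scheme.homOfLE_ι G.left hUV', Category.assoc]
      infer_instance
  haveI : LocallyOfFinitePresentation f := by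
    haveI : LocallyOfFinitePresentation (f ≫ W.ι) := by
      rw [Scheme.Hom.resLE_comp_ι]; infer_instance
    exact H12AlgSp.lfp_of_comp f W.ι
  have hSC : IsConstructible (MoreMor.sectionComponents f g) :=
    (H06SecComp.isLocallyConstructible_sectionComponents_fp f g hgf).isConstructible
  have hN : U.ι ⁻¹' SGA3x.neutralSet G = MoreMor.sectionComponents f g :=
    preimage_neutralSet_eq_sectionComponents G U W hUW hη g fun w =>
      congrArg (fun m : W.toScheme ⟶ G.left => m w) hg
  have hfW : U.ι ≫ G.hom = f ≫ W.ι := (Scheme.Hom.resLE_comp_ι G.hom hUW).symm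
  let T : Over S := Over.mk (U.ι ≫ G.hom)
  let ψ : T ⟶ G := Over.homMk U.ι rfl
  let P := (T ⊗ T).left
  haveI : IsAffine P := by
    let e : pullback f f ⟶ P := pullback.lift (pullback.fst f f) (pullback.snd f f) (by
      show pullback.fst f f ≫ U.ι ≫ G.hom = pullback.snd f f ≫ U.ι ≫ G.hom
      rw [hfW, pullback.condition_assoc])
    haveI : IsIso e := by
      refine ⟨pullback.lift (pullback.fst _ _) (pullback.snd _ _) ?_, ?_, ?_⟩
      · rw [← cancel_mono W.ι, Category.assoc, Category.assoc, ← hfW]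
        exact pullback.condition
      · apply pullback.hom_ext <;> simp [e]
      · apply pullback.hom_ext <;> simp [e]
    exact .of_isIso (inv e)
  let m : P ⟶ G.left := ((ψ ⊗ₘ ψ) ≫ μ[G]).left
  let K : Set P := (fst T T).left ⁻¹' MoreMor.sectionComponents f g ∩
    (snd T T).left ⁻¹' MoreMor.sectionComponents f g
  have hmw : m ≫ G.hom = (fst T T).left ≫ f ≫ W.ι :=
    (Over.w ((ψ ⊗ₘ ψ) ≫ μ[G])).trans (by rw [← hfW]; exact (Over.w (fst T T)).symm)
  haveI : LocallyOfFinitePresentation T.hom := hT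
  haveI : LocallyOfFinitePresentation (m ≫ G.hom) := by
    rw [show m ≫ G.hom = pullback.fst T.hom T.hom ≫ T.hom from
      (Over.w ((ψ ⊗ₘ ψ) ≫ μ[G])).trans rfl]
    infer_instance
  have hmlfp : LocallyOfFinitePresentation m := by
    rcases hfin with h | h
    · exact H12AlgSp.lfp_of_comp m G.hom
    · haveI : IsOpenImmersion (T ◁ ψ).left := by
        rw [Over.whiskerLeft_left]
        exact MorphismProperty.pullbackMap (P := @IsOpenImmersion)
          (inferInstanceAs (IsOpenImmersion (𝟙 _))) (inferInstanceAs (IsOpenImmersion U.ι))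
          (Category.id_comp _).symm (Over.w ψ).symm
      haveI : LocallyOfFinitePresentation ((ψ ▷ G) ≫ μ[G]).left :=
        whiskerRight_act_left_of (selfAction G) ψ @LocallyOfFinitePresentation hT
      show LocallyOfFinitePresentation ((ψ ⊗ₘ ψ) ≫ μ[G]).left
      rw [show ψ ⊗ₘ ψ = (T ◁ ψ) ≫ (ψ ▷ G) from MonoidalCategory.tensorHom_def' ψ ψ,
        Category.assoc, Over.comp_left]
      infer_instance
  refine ⟨W, hs₀r, hW, P, inferInstance, m, K, hmlfp,
    (Scheme.Hom.isConstructible_preimage _ hSC).inter (Scheme.Hom.isConstructible_preimage _ hSC),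
    ?_, ?_, ?_⟩
  · rintro _ ⟨p, rfl⟩
    show G.hom (m p) ∈ W
    rw [← Scheme.Hom.comp_apply, hmw]
    exact W.range_ι.le ⟨_, rfl⟩
  · ext x
    constructor
    · rintro ⟨p, ⟨hp1, hp2⟩, rfl⟩
      refine ⟨?_, ?_⟩
      · show μ[G].left ((ψ ⊗ₘ ψ).left p) ∈ SGA3x.neutralSet G
        rw [← hN] at hp1 hp2
        apply mul_mem_neutralSet
        · rw [← Scheme.Hom.comp_apply, ← Over.comp_left, tensorHom_fst]
          exact hp1
        · rw [← Scheme.Hom.comp_apply, ← Over.comp_left, tensorHom_snd]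
          exact hp2
      · show G.hom (m p) ∈ W
        rw [← Scheme.Hom.comp_apply, hmw]
        exact W.range_ι.le ⟨_, rfl⟩
    · rintro ⟨hx, hxW⟩
      obtain ⟨z, hz, ⟨h1U, h1⟩, ⟨h2U, h2⟩⟩ :=
        exists_mul_eq_of_mem_neutralSet G U (hη _ hxW) hx
      obtain ⟨p, hp⟩ : z ∈ Set.range (ψ ⊗ₘ ψ).left := by
        rw [Over.tensorHom_left]
        erw [Scheme.Pullback.range_map]
        show z ∈ _ ⁻¹' Set.range U.ι ∩ _ ⁻¹' Set.range U.ι
        rw [U.range_ι]
        exact ⟨h1U, h2U⟩
      refine ⟨p, ⟨?_, ?_⟩, ?_⟩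
      · rw [Set.mem_preimage, ← hN]
        show U.ι ((fst T T).left p) ∈ SGA3x.neutralSet G
        rw [← hp, ← Scheme.Hom.comp_apply, ← Over.comp_left, tensorHom_fst] at h1
        exact h1
      · rw [Set.mem_preimage, ← hN]
        show U.ι ((snd T T).left p) ∈ SGA3x.neutralSet G
        rw [← hp, ← Scheme.Hom.comp_apply, ← Over.comp_left, tensorHom_snd] at h2
        exact h2
      · show μ[G].left ((ψ ⊗ₘ ψ).left p) = x
        rw [hp, hz]
  · intro hsm
    haveI hT : Smooth T.hom := by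
      show Smooth (U.ι ≫ G.hom)
      rw [← Scheme.homOfLE_ι G.left (show U ≤ V from inf_le_left.trans hUV), Category.assoc]
      infer_instance
    have hfsm : Smooth f := by
      haveI : Smooth (f ≫ W.ι) := by rw [← hfW]; exact hT
      haveI : @IsOpenImmersion _ _ W.ι := inferInstance
      exact MorphismProperty.of_postcomp (W := @Smooth) (W' := @IsOpenImmersion) f W.ι
        inferInstance inferInstance
    haveI := hfsm
    refine ⟨?_, ?_, ?_⟩
    · show Smooth ((ψ ⊗ₘ ψ) ≫ μ[G]).left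
      haveI : IsOpenImmersion (T ◁ ψ).left := by
        rw [Over.whiskerLeft_left]
        exact MorphismProperty.pullbackMap (P := @IsOpenImmersion)
          (inferInstanceAs (IsOpenImmersion (𝟙 _))) (inferInstanceAs (IsOpenImmersion U.ι))
          (Category.id_comp _).symm (Over.w ψ).symm
      haveI : Smooth ((ψ ▷ G) ≫ μ[G]).left :=
        whiskerRight_act_left_of (selfAction G) ψ @Smooth hT
      rw [show ψ ⊗ₘ ψ = (T ◁ ψ) ≫ (ψ ▷ G) from MonoidalCategory.tensorHom_def' ψ ψ,
        Category.assoc, Over.comp_left]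
      infer_instance
    · rw [show m ≫ G.hom = pullback.fst T.hom T.hom ≫ T.hom from
        (Over.w ((ψ ⊗ₘ ψ) ≫ μ[G])).trans rfl]
      infer_instance
    · have hopen : IsOpen (MoreMor.sectionComponents f g) := by
        rw [← subset_interior_iff_isOpen]
        intro x hx
        refine H06SecComp.mem_interior_sectionComponents_fp f g hgf (f x) (fun a _ K _ _ u _ => ?_) hx
        haveI : Smooth (f.fiberToSpecResidueField (f a)) := by
          unfold Scheme.Hom.fiberToSpecResidueField; infer_instance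
        haveI : IsReduced (FBase.bc (f.fiberToSpecResidueField (f a)) K) :=
          H13AlgSp.isReduced_of_smooth_mor (Limits.pullback.snd (f.fiberToSpecResidueField (f a))
            (Spec.map (CommRingCat.ofHom
              (algebraMap (IsLocalRing.ResidueField (W.toScheme.presheaf.stalk (f a))) K))))
        infer_instance
      exact (hopen.preimage (fst T T).left.continuous).inter
        (hopen.preimage (snd T T).left.continuous)

theorem exists_neutral_model [LocallyOfFinitePresentation G.hom] (s₀ : S) :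
    ∃ (W : S.Opens) (_ : s₀ ∈ W) (_ : IsAffineOpen W) (P : Scheme.{u}) (_ : IsAffine P)
      (m : P ⟶ G.left) (K : Set P), LocallyOfFinitePresentation m ∧ IsConstructible K ∧
      Set.range m ⊆ G.hom ⁻¹ᵁ W ∧ m '' K = SGA3x.neutralSet G ∩ (G.hom ⁻¹ᵁ W : G.left.Opens) := by
  obtain ⟨W, h1, h2, P, h3, m, K, h4, h5, h6, h7, -⟩ :=
    exists_neutral_model' G ⊤ (fun _ => trivial) (Or.inl inferInstance) s₀
  exact ⟨W, h1, h2, P, h3, m, K, h4, h5, h6, h7⟩

theorem chartInd_neutralSet [LocallyOfFinitePresentation G.hom] :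
    H17.IndCons.ChartInd (SGA3x.neutralSet G) := by
  intro R a _ y hy
  obtain ⟨W, hsW, hW, P, _, m, K, _, hK, -, hmK⟩ := exists_neutral_model G (G.hom (a y))
  obtain ⟨k, hk, hky⟩ : a y ∈ m '' K := by rw [hmK]; exact ⟨hy, hsW⟩
  obtain ⟨q, hq1, hq2⟩ := Scheme.Pullback.exists_preimage_pullback (f := m) (g := a) k y hky
  obtain ⟨A, hA, hqA, -⟩ := exists_isAffineOpen_mem_and_subset (X := pullback m a) (x := q) (U := ⊤)
    trivial
  haveI : IsAffine A.toScheme := hA
  obtain ⟨q', rfl⟩ : q ∈ Set.range A.ι := A.range_ι.symm ▸ hqA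
  refine ⟨(A.ι ≫ pullback.snd m a) '' ((A.ι ≫ pullback.fst m a) ⁻¹' K),
    Scheme.Hom.isConstructible_image _ (Scheme.Hom.isConstructible_preimage _ hK),
    ⟨q', ?_, ?_⟩, ?_⟩
  · show pullback.fst m a (A.ι q') ∈ K
    rw [hq1]; exact hk
  · rw [Scheme.Hom.comp_apply, hq2]
  · rintro _ ⟨t, ht, rfl⟩
    show a (pullback.snd m a (A.ι t)) ∈ SGA3x.neutralSet G
    rw [← Scheme.Hom.comp_apply, ← pullback.condition, Scheme.Hom.comp_apply]
    have h : m (pullback.fst m a (A.ι t)) ∈ m '' K := ⟨_, ht, rfl⟩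
    rw [hmK] at h
    exact h.1

theorem isLocallyConstructible_neutralSet [LocallyOfFinitePresentation G.hom]
    [QuasiSeparated G.hom] : IsLocallyConstructible (SGA3x.neutralSet G) := by
  choose W hsW hW P hP m K hm hK hrange hmK using fun s => exists_neutral_model G s
  refine IsLocallyConstructible.of_isOpenCover
    (U := fun s : S => G.hom ⁻¹ᵁ W s) (eq_top_iff.mpr fun x _ =>
      TopologicalSpace.Opens.mem_iSup.mpr ⟨G.hom x, hsW _⟩) fun s => ?_
  let V := G.hom ⁻¹ᵁ W s
  haveI := hP s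
  haveI := hm s
  haveI : IsAffine (W s).toScheme := hW s
  haveI : QuasiSeparatedSpace V.toScheme :=
    quasiSeparatedSpace_of_quasiSeparated (G.hom ∣_ W s)
  let m' : P s ⟶ V.toScheme := IsOpenImmersion.lift V.ι (m s) (by
    rw [Scheme.Opens.range_ι]; exact hrange s)
  have hm' : m' ≫ V.ι = m s := IsOpenImmersion.lift_fac _ _ _
  haveI : LocallyOfFinitePresentation (m' ≫ V.ι) := by rw [hm']; infer_instance
  haveI : LocallyOfFinitePresentation m' := H12AlgSp.lfp_of_comp m' V.ι
  haveI : QuasiCompact m' := quasiCompact_of_compactSpace _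
  have h := Scheme.Hom.isLocallyConstructible_image m' (hK s).isLocallyConstructible
  have heq : V.ι ⁻¹' SGA3x.neutralSet G = m' '' (K s) := by
    rw [← Set.preimage_image_eq (m' '' K s) V.ι.isOpenEmbedding.injective, ← Set.image_comp]
    have : ⇑V.ι ∘ ⇑m' = ⇑(m s) := by rw [← hm']; rfl
    rw [this, hmK, Set.preimage_inter]
    ext v
    exact ⟨fun h => ⟨h, V.range_ι ▸ Set.mem_range_self v⟩, fun h => h.1⟩
  rw [← heq] at h
  exact h

theorem isConstructible_neutralSet [LocallyOfFinitePresentation G.hom] [QuasiSeparated G.hom]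
    [CompactSpace S] [QuasiSeparatedSpace S] : IsConstructible (SGA3x.neutralSet G) := by
  choose W hsW hW P hP m K hm hK hrange hmK using fun s => exists_neutral_model G s
  obtain ⟨σ, hσ⟩ := isCompact_univ.elim_finite_subcover (fun s : S => (W s : Set S))
    (fun s => (W s).isOpen) fun s _ => Set.mem_iUnion.mpr ⟨s, hsW s⟩
  haveI : QuasiSeparatedSpace G.left :=
    quasiSeparatedSpace_of_quasiSeparated G.hom
  refine (isLocallyConstructible_neutralSet G).isConstructible_of_subset_of_isCompact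
    (t := ⋃ s ∈ σ, Set.range (m s)) ?_ (σ.isCompact_biUnion fun s _ => by
      haveI := hP s
      exact isCompact_range (m s).continuous)
  intro x hx
  obtain ⟨s, hs, hxs⟩ := Set.mem_iUnion₂.mp (hσ (Set.mem_univ (G.hom x)))
  obtain ⟨p, -, rfl⟩ : x ∈ m s '' K s := by rw [hmK]; exact ⟨hx, hxs⟩
  exact Set.mem_biUnion hs ⟨p, rfl⟩

end Groth.Agent.H19Grp
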