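import Groth.Agent.H17.IndCons
import Groth.Agent.H7Lim.LFPCriterion
import Groth.Agent.H18Et.TopInvariance
import Mathlib

/-!
# A monomorphism representing the maps landing in an ind-constructible set is an open immersion
-/

set_option autoImplicit false
set_option linter.style.haveILetI false
set_option backward.isDefEq.respectTransparency false

universe u

open CategoryTheory Limits AlgebraicGeometry Topology

namespace Groth.Agent.H19Grp

variable {X Y : Scheme.{u}}

/-- Preimages of ind-constructible sets are ind-constructible. -/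
theorem chartInd_preimage {E : Set X} (hE : H17.IndCons.ChartInd E) (g : Y ⟶ X) :
    H17.IndCons.ChartInd (g ⁻¹' E) := by
  intro R a _ y hy
  obtain ⟨R', b, _, hb⟩ := H17.IndCons.exists_chart (g (a y))
  let O : (Spec R).Opens := (a ≫ g) ⁻¹ᵁ b.opensRange
  obtain ⟨A, hA, hyA, hAO⟩ := exists_isAffineOpen_mem_and_subset (X := Spec R) (x := y) (U := O)
    (show (a ≫ g) y ∈ Set.range b from hb)
  haveI : IsAffine A.toScheme := hA
  let l : A.toScheme ⟶ Spec R' := IsOpenImmersion.lift b (A.ι ≫ a ≫ g) (by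
    rintro _ ⟨z, rfl⟩
    exact hAO (A.range_ι.le ⟨z, rfl⟩))
  have hl : l ≫ b = A.ι ≫ a ≫ g := IsOpenImmersion.lift_fac _ _ _
  have hlE : ∀ z, b (l z) = g (a (A.ι z)) := fun z =>
    congrArg (fun m : A.toScheme ⟶ X => m z) hl
  obtain ⟨y', rfl⟩ := A.range_ι.ge hyA
  obtain ⟨T, hT, hyT, hTE⟩ := hE R' b (l y') (show b (l y') ∈ E by rw [hlE]; exact hy)
  refine ⟨A.ι '' (l ⁻¹' T), ?_, ⟨y', hyT, rfl⟩, ?_⟩
  · refine (Scheme.Hom.isConstructible_preimage l hT).image_of_isOpenEmbedding A.ι.isOpenEmbedding ?_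
    rw [A.range_ι]
    exact hA.isCompact.isRetrocompact A.2
  · rintro _ ⟨z, hz, rfl⟩
    show g (a (A.ι z)) ∈ E
    rw [← hlE]
    exact hTE hz

variable (f : X ⟶ Y) {E : Set Y}

/-- The condition that f represents the morphisms with image in E. -/
def RepresentsMapsInto (E : Set Y) : Prop :=
  ∀ (T : Scheme.{u}) (g : T ⟶ Y), (∃ z : T ⟶ X, z ≫ f = g) ↔ Set.range g ⊆ E

variable {f}

theorem RepresentsMapsInto.range_eq (h : RepresentsMapsInto f E) : Set.range f = E := by
  refine Set.Subset.antisymm ((h X f).1 ⟨𝟙 X, Category.id_comp f⟩) fun y hy => ?_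
  obtain ⟨z, hz⟩ := (h _ (Y.fromSpecResidueField y)).2 (by
    rintro _ ⟨x, rfl⟩
    rw [Y.fromSpecResidueField_apply]; exact hy)
  refine ⟨z (IsLocalRing.closedPoint _), ?_⟩
  rw [← Scheme.Hom.comp_apply, hz, Y.fromSpecResidueField_apply]

theorem RepresentsMapsInto.locallyOfFinitePresentation [Mono f] (h : RepresentsMapsInto f E)
    (hE : H17.IndCons.ChartInd E) : LocallyOfFinitePresentation f := by
  refine H7Lim.locallyOfFinitePresentation_of_surjOn fun U _ => ?_
  intro J _ _ _ D t c hc haff j₀ g hg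
  haveI : ∀ {i j : Jᵒᵖ} (a : i ⟶ j), IsAffineHom (D.map a) := fun a =>
    haveI := haff
    isAffineHom_of_isAffine (D.map a)
  haveI : CompactSpace (D.obj j₀) := by
    have := haff j₀; infer_instance
  have huniv : c.π.app j₀ ⁻¹' ((t.app j₀ ≫ U.ι) ⁻¹' E) = Set.univ := by
    refine Set.eq_univ_of_forall fun x => ?_
    show (t.app j₀ ≫ U.ι) (c.π.app j₀ x) ∈ E
    rw [← Scheme.Hom.comp_apply, ← hg, Scheme.Hom.comp_apply, ← h.range_eq]
    exact ⟨_, rfl⟩
  obtain ⟨j, φ, hφ⟩ := H17.IndCons.exists_stage_eq_univ hc j₀ (chartInd_preimage hE _) huniv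
  have hn : D.map φ ≫ t.app j₀ = t.app j := (t.naturality φ).trans (Category.comp_id _)
  obtain ⟨z, hz⟩ := (h (D.obj j) (t.app j ≫ U.ι)).2 (by
    rintro _ ⟨x, rfl⟩
    have := hφ.ge (Set.mem_univ x)
    rw [← hn, Category.assoc]
    exact this)
  refine ⟨j, z, hz, ?_⟩
  rw [← cancel_mono f, Category.assoc, hz, hg, ← c.w φ, Category.assoc, reassoc_of% hn]

theorem RepresentsMapsInto.etale [Mono f] (h : RepresentsMapsInto f E)
    (hE : H17.IndCons.ChartInd E) : Etale f := by
  haveI := h.locallyOfFinitePresentation hE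
  rw [HasRingHomProperty.iff_appLE (P := @Etale)]
  intro U V e
  have hfp : (f.appLE U.1 V.1 e).hom.FinitePresentation :=
    HasRingHomProperty.appLE (P := @LocallyOfFinitePresentation) f inferInstance U V e
  haveI : IsOpenImmersion (pullback.diagonal f) := inferInstance
  have hunr : (f.appLE U.1 V.1 e).hom.FormallyUnramified :=
    HasRingHomProperty.appLE (P := @FormallyUnramified) f inferInstance U V e
  algebraize [(f.appLE U.1 V.1 e).hom]
  haveI : Algebra.FormallySmooth Γ(Y, U.1) Γ(X, V.1) := by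
    refine Algebra.FormallySmooth.of_comp_surjective fun B _ _ I hI ψ => ?_
    let p : Spec (CommRingCat.of (B ⧸ I)) ⟶ Spec (CommRingCat.of B) :=
      Spec.map (CommRingCat.ofHom (Ideal.Quotient.mk I))
    let u : Spec (CommRingCat.of (B ⧸ I)) ⟶ X :=
      Spec.map (CommRingCat.ofHom ψ.toRingHom) ≫ V.2.fromSpec
    let g : Spec (CommRingCat.of B) ⟶ Y :=
      Spec.map (CommRingCat.ofHom (algebraMap Γ(Y, U.1) B)) ≫ U.2.fromSpec
    have hug : u ≫ f = p ≫ g := by
      simp only [u, p, g, Category.assoc]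
      rw [← IsAffineOpen.SpecMap_appLE_fromSpec f U.2 V.2 e, ← Spec.map_comp_assoc,
        ← Spec.map_comp_assoc]
      congr 2
      ext r
      exact ψ.commutes r
    have hp : Function.Surjective p := by
      intro x
      have hker : I ≤ (x : PrimeSpectrum B).asIdeal := fun b hb => by
        have h0 : b ^ 2 = 0 := by simpa [hI] using Ideal.pow_mem_pow hb 2
        exact (x : PrimeSpectrum B).isPrime.mem_of_pow_mem 2 (h0 ▸ zero_mem _)
      obtain ⟨y, hy⟩ := (range_comap_of_surjective _ _
        Ideal.Quotient.mk_surjective).ge (show (x : PrimeSpectrum B) ∈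
          PrimeSpectrum.zeroLocus (RingHom.ker (Ideal.Quotient.mk I)) by
          rw [Ideal.mk_ker]; exact hker)
      exact ⟨y, hy⟩
    obtain ⟨z, hz⟩ := (h _ g).2 (by
      rintro _ ⟨x, rfl⟩
      obtain ⟨y, rfl⟩ := hp x
      rw [← Scheme.Hom.comp_apply, ← hug, Scheme.Hom.comp_apply, ← h.range_eq]
      exact ⟨_, rfl⟩)
    have hzu : p ≫ z = u := by rw [← cancel_mono f, Category.assoc, hz, hug]
    let l : Spec (CommRingCat.of B) ⟶ Spec Γ(X, V.1) := IsOpenImmersion.lift V.2.fromSpec z (by
      rintro _ ⟨x, rfl⟩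
      obtain ⟨y, rfl⟩ := hp x
      rw [← Scheme.Hom.comp_apply, hzu]
      exact ⟨_, rfl⟩)
    have hl : l ≫ V.2.fromSpec = z := IsOpenImmersion.lift_fac _ _ _
    have hlR : f.appLE U.1 V.1 e ≫ Spec.preimage l = CommRingCat.ofHom (algebraMap Γ(Y, U.1) B) := by
      refine Spec.map_injective ?_
      rw [Spec.map_comp, Spec.map_preimage, ← cancel_mono U.2.fromSpec, Category.assoc,
        IsAffineOpen.SpecMap_appLE_fromSpec f U.2 V.2 e, reassoc_of% hl, hz]
    refine ⟨{ (Spec.preimage l).hom with commutes' := fun r => congr($hlR r) }, ?_⟩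
    have hlψ : Spec.preimage l ≫ CommRingCat.ofHom (Ideal.Quotient.mk I) =
        CommRingCat.ofHom ψ.toRingHom := by
      refine Spec.map_injective ?_
      rw [Spec.map_comp, Spec.map_preimage, ← cancel_mono V.2.fromSpec, Category.assoc, hl]
      exact hzu
    exact AlgHom.ext fun a => congr($hlψ a)
  haveI : Algebra.FormallyEtale Γ(Y, U.1) Γ(X, V.1) :=
    .of_formallyUnramified_and_formallySmooth
  exact ⟨inferInstance, inferInstance⟩

/-- A monomorphism representing the maps into an ind-constructible set is an open immersion. -/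
theorem RepresentsMapsInto.isOpenImmersion [Mono f] (h : RepresentsMapsInto f E)
    (hE : H17.IndCons.ChartInd E) : IsOpenImmersion f := by
  haveI := h.etale hE
  haveI : UniversallyInjective f := inferInstance
  exact H18Et.TopInv.isOpenImmersion_of_etale_of_universallyInjective f

end Groth.Agent.H19Grp
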