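import Groth.Agent.H19Grp.ConnFibre
import Groth.Agent.H18Torsor.Glue
import Groth.Prelude.Def_AlgGrp
import Groth.Prelude.Def_EGA43

/-!
# Separatedness and quasi-compactness by translating into opens
-/

set_option autoImplicit false
set_option linter.style.haveILetI false
set_option backward.isDefEq.respectTransparency false

universe u

open CategoryTheory CategoryTheory.Limits MonoidalCategory CartesianMonoidalCategory MonObj GrpObj
  AlgebraicGeometry

namespace Groth.Agent.H19Grp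

variable {S : Scheme.{u}} {G X : Over S}

theorem range_lift_left {T : Over S} (f g : T ⟶ X) (z : T.left) :
    (fst X X).left ((lift f g).left z) = f.left z ∧ (snd X X).left ((lift f g).left z) = g.left z := by
  rw [← Scheme.Hom.comp_apply, ← Scheme.Hom.comp_apply, ← Over.comp_left, ← Over.comp_left, lift_fst, lift_snd]
  exact ⟨rfl, rfl⟩

/-- The diagonal is closed inside the square of a separated open. -/
theorem diag_closed_on_separated (U : X.left.Opens) [IsSeparated (U.ι ≫ X.hom)] {z : (X ⊗ X).left}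
    (h1 : (fst X X).left z ∈ U) (h2 : (snd X X).left z ∈ U)
    (hz : z ∈ closure (Set.range (lift (𝟙 X) (𝟙 X)).left)) : z ∈ Set.range (lift (𝟙 X) (𝟙 X)).left := by
  let q : pullback (U.ι ≫ X.hom) (U.ι ≫ X.hom) ⟶ (X ⊗ X).left :=
    pullback.map (U.ι ≫ X.hom) (U.ι ≫ X.hom) X.hom X.hom U.ι U.ι (𝟙 S) (Category.comp_id _) (Category.comp_id _)
  haveI : IsOpenImmersion q := inferInstance
  obtain ⟨z', rfl⟩ : z ∈ Set.range q := by
    dsimp only [q]
    erw [Scheme.Pullback.range_map]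
    exact ⟨by rw [Scheme.Opens.range_ι]; exact h1, by rw [Scheme.Opens.range_ι]; exact h2⟩
  let D := pullback.diagonal (U.ι ≫ X.hom)
  have hD : D ≫ q = U.ι ≫ (lift (𝟙 X) (𝟙 X)).left := by
    apply pullback.hom_ext
    · rw [Category.assoc, Category.assoc]
      simp only [D, q, pullback.lift_fst, pullback.diagonal_fst_assoc]
      exact (congrArg (U.ι ≫ ·) (congrArg Over.Hom.left (lift_fst (𝟙 X) (𝟙 X)))).trans (Category.comp_id _) |>.symm
    · rw [Category.assoc, Category.assoc]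
      simp only [D, q, pullback.lift_snd, pullback.diagonal_snd_assoc]
      exact (congrArg (U.ι ≫ ·) (congrArg Over.Hom.left (lift_snd (𝟙 X) (𝟙 X)))).trans (Category.comp_id _) |>.symm
  have hpre : q ⁻¹' Set.range (lift (𝟙 X) (𝟙 X)).left ⊆ Set.range D := by
    rintro w ⟨x, hx⟩
    have hxU : x ∈ U := by
      have e : (pullback.fst (U.ι ≫ X.hom) (U.ι ≫ X.hom) ≫ U.ι) w = x := by
        rw [show pullback.fst (U.ι ≫ X.hom) (U.ι ≫ X.hom) ≫ U.ι = q ≫ (fst X X).left from
          (pullback.lift_fst _ _ _).symm, Scheme.Hom.comp_apply, ← hx]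
        exact (range_lift_left (𝟙 X) (𝟙 X) x).1
      rw [← e]
      exact (pullback.fst (U.ι ≫ X.hom) (U.ι ≫ X.hom) w).2
    refine ⟨⟨x, hxU⟩, q.isOpenEmbedding.injective ?_⟩
    rw [← Scheme.Hom.comp_apply, hD, Scheme.Hom.comp_apply]
    exact hx
  have hcl : z' ∈ closure (Set.range D) :=
    closure_mono hpre (q.isOpenEmbedding.isOpenMap.preimage_closure_subset_closure_preimage hz)
  rw [D.isClosedEmbedding.isClosed_range.closure_eq] at hcl
  obtain ⟨x, rfl⟩ := hcl
  exact ⟨U.ι x, by rw [← Scheme.Hom.comp_apply, ← Scheme.Hom.comp_apply, hD]⟩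

variable [GrpObj G]

/-- A point in the closure of the diagonal lies in it if it can be translated into the square of a
separated open by a point at which the group is universally open. -/
theorem mem_diag_of_translation (a : AlgGrp.Action G X) {z : (X ⊗ X).left}
    (hz : z ∈ closure (Set.range (lift (𝟙 X) (𝟙 X)).left)) (U : X.left.Opens)
    (hU : IsSeparated (U.ι ≫ X.hom)) (w : (G ⊗ (X ⊗ X)).left) (hwz : (snd G (X ⊗ X)).left w = z)
    (hwW : EGA43.IsUnivOpenAt G.hom ((fst G (X ⊗ X)).left w))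
    (hwA : ((G ◁ fst X X) ≫ a.act).left w ∈ U) (hwB : ((G ◁ snd X X) ≫ a.act).left w ∈ U) :
    z ∈ Set.range (lift (𝟙 X) (𝟙 X)).left := by
  let δ : X ⟶ X ⊗ X := lift (𝟙 X) (𝟙 X)
  let Aw : G ⊗ (X ⊗ X) ⟶ X := (G ◁ fst X X) ≫ a.act
  let Bw : G ⊗ (X ⊗ X) ⟶ X := (G ◁ snd X X) ≫ a.act
  let AB : G ⊗ (X ⊗ X) ⟶ X ⊗ X := lift Aw Bw
  have hproj : ∀ O : Set ↥(G ⊗ (X ⊗ X)).left, IsOpen O → w ∈ O →
      (snd G (X ⊗ X)).left '' O ∈ nhds z := fun O hO hwO => by
    rw [← hwz]
    exact hwW (X ⊗ X).left (X ⊗ X).hom w rfl O (hO.mem_nhds hwO)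
  let V : Set ↥(G ⊗ (X ⊗ X)).left :=
    Aw.left ⁻¹' (U : Set X.left) ∩ Bw.left ⁻¹' (U : Set X.left)
  have hwcl : w ∈ closure (V ∩ (snd G (X ⊗ X)).left ⁻¹' Set.range δ.left) := by
    rw [mem_closure_iff]
    intro O hO hwO
    have hVo : IsOpen V := (U.2.preimage (Scheme.Hom.continuous _)).inter
      (U.2.preimage (Scheme.Hom.continuous _))
    obtain ⟨_, ⟨o, ho, rfl⟩, hd⟩ :=
      mem_closure_iff_nhds.1 hz _ (hproj (O ∩ V) (hO.inter hVo) ⟨hwO, hwA, hwB⟩)
    exact ⟨o, ho.1, ho.2, hd⟩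
  have himg : AB.left '' ((snd G (X ⊗ X)).left ⁻¹' Set.range δ.left) ⊆ Set.range δ.left := by
    rintro _ ⟨o, ⟨x, hx⟩, rfl⟩
    obtain ⟨r, hr1, hr2⟩ := Scheme.Pullback.exists_preimage_pullback (f := (snd G (X ⊗ X)).left) (g := δ.left) o x hx.symm
    refine ⟨((pullback.fst (snd G (X ⊗ X)).left δ.left) ≫ Aw.left) r, ?_⟩
    let R : Over S := Over.mk (pullback.fst (snd G (X ⊗ X)).left δ.left ≫ (G ⊗ (X ⊗ X)).hom)
    let rG : R ⟶ G ⊗ (X ⊗ X) := Over.homMk (pullback.fst (snd G (X ⊗ X)).left δ.left) rfl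
    let rX : R ⟶ X := Over.homMk (pullback.snd (snd G (X ⊗ X)).left δ.left) (by
      change _ = pullback.fst (snd G (X ⊗ X)).left δ.left ≫ (G ⊗ (X ⊗ X)).hom
      rw [← Over.w (snd G (X ⊗ X)), pullback.condition_assoc, Over.w δ])
    have e : rG ≫ snd G (X ⊗ X) = rX ≫ δ := Over.OverMorphism.ext pullback.condition
    have e2 : rG ≫ AB = (rG ≫ Aw) ≫ δ := by
      have e3 : rG ≫ Aw = rG ≫ Bw := by
        simp only [Aw, Bw, ← Category.assoc]
        refine congrArg (· ≫ a.act) (CartesianMonoidalCategory.hom_ext _ _ (by simp) ?_)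
        simp only [Category.assoc, whiskerLeft_snd]
        rw [reassoc_of% e, reassoc_of% e]
        simp [δ]
      simp only [AB, δ, comp_lift, Category.comp_id, e3]
    have e4 := congrArg (fun m : R ⟶ X ⊗ X => m.left r) e2
    simp only [Over.comp_left, Scheme.Hom.comp_apply] at e4 ⊢
    rw [← hr1]
    exact e4.symm
  have hABw : AB.left w ∈ Set.range δ.left := by
    haveI := hU
    refine diag_closed_on_separated U ?_ ?_ ?_
    · rw [(range_lift_left Aw Bw w).1]; exact hwA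
    · rw [(range_lift_left Aw Bw w).2]; exact hwB
    · exact closure_mono himg ((image_closure_subset_closure_image AB.left.continuous)
        ⟨w, closure_mono Set.inter_subset_right hwcl, rfl⟩)
  obtain ⟨x, hx⟩ := hABw
  obtain ⟨r, hr1, -⟩ := Scheme.Pullback.exists_preimage_pullback (f := AB.left) (g := δ.left) w x hx.symm
  let R : Over S := Over.mk (pullback.fst AB.left δ.left ≫ (G ⊗ (X ⊗ X)).hom)
  let rG : R ⟶ G ⊗ (X ⊗ X) := Over.homMk (pullback.fst AB.left δ.left) rfl
  let rX : R ⟶ X := Over.homMk (pullback.snd AB.left δ.left) (by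
    change _ = pullback.fst AB.left δ.left ≫ (G ⊗ (X ⊗ X)).hom
    rw [← Over.w AB, pullback.condition_assoc, Over.w δ])
  have e : rG ≫ AB = rX ≫ δ := Over.OverMorphism.ext pullback.condition
  let g := rG ≫ fst G (X ⊗ X)
  let x1 := rG ≫ snd G (X ⊗ X) ≫ fst X X
  let x2 := rG ≫ snd G (X ⊗ X) ≫ snd X X
  have ea : H18Torsor.smul a g x1 = H18Torsor.smul a g x2 := by
    have h1 : rG ≫ Aw = rX := by
      have := congrArg (· ≫ fst X X) e
      simpa [AB, δ] using this
    have h2 : rG ≫ Bw = rX := by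
      have := congrArg (· ≫ snd X X) e
      simpa [AB, δ] using this
    have h3 : H18Torsor.smul a g x1 = rG ≫ Aw := by
      rw [H18Torsor.smul, ← Category.assoc rG]
      refine congrArg (· ≫ a.act) (CartesianMonoidalCategory.hom_ext _ _ ?_ ?_) <;> simp [g, x1]
    have h4 : H18Torsor.smul a g x2 = rG ≫ Bw := by
      rw [H18Torsor.smul, ← Category.assoc rG]
      refine congrArg (· ≫ a.act) (CartesianMonoidalCategory.hom_ext _ _ ?_ ?_) <;> simp [g, x2]
    rw [h3, h4, h1, h2]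
  have e12 : x1 = x2 := by
    rw [← H18Torsor.one_smul_pt a x1, ← inv_mul_cancel g, H18Torsor.mul_smul_pt, ea, ← H18Torsor.mul_smul_pt,
      inv_mul_cancel, H18Torsor.one_smul_pt]
  have e5 : rG ≫ snd G (X ⊗ X) = x1 ≫ δ := by
    apply CartesianMonoidalCategory.hom_ext
    · simp [δ, x1]
    · rw [Category.assoc, Category.assoc, lift_snd, Category.comp_id]
      exact e12.symm
  refine ⟨x1.left r, ?_⟩
  have e6 := congrArg (fun m : R ⟶ X ⊗ X => m.left r) e5
  simp only [Over.comp_left, Scheme.Hom.comp_apply] at e6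
  rw [← e6, ← hwz, ← hr1]
  rfl

/-- Separatedness by translating any pair of points into a separated open by points at which the
group is universally open. -/
theorem isSeparated_of_translations' (a : AlgGrp.Action G X)
    (h : ∀ z : (X ⊗ X).left, ∃ (U : X.left.Opens) (w : (G ⊗ (X ⊗ X)).left), IsSeparated (U.ι ≫ X.hom) ∧
      (snd G (X ⊗ X)).left w = z ∧ EGA43.IsUnivOpenAt G.hom ((fst G (X ⊗ X)).left w) ∧
      ((G ◁ fst X X) ≫ a.act).left w ∈ U ∧ ((G ◁ snd X X) ≫ a.act).left w ∈ U) :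
    IsSeparated X.hom := by
  let δ : X ⟶ X ⊗ X := lift (𝟙 X) (𝟙 X)
  have hδ : δ.left = pullback.diagonal X.hom := by
    apply pullback.hom_ext
    · rw [pullback.diagonal_fst]
      exact congrArg Over.Hom.left (lift_fst (𝟙 X) (𝟙 X))
    · rw [pullback.diagonal_snd]
      exact congrArg Over.Hom.left (lift_snd (𝟙 X) (𝟙 X))
  suffices hc : IsClosed (Set.range δ.left) by
    rw [hδ] at hc
    exact ⟨IsClosedImmersion.of_isPreimmersion _ hc⟩
  refine closure_subset_iff_isClosed.1 fun z hz => ?_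
  obtain ⟨U, w, hU, hwz, hwW, hwA, hwB⟩ := h z
  exact mem_diag_of_translation a hz U hU w hwz hwW hwA hwB

/-- An open which is universally open gives points at which the morphism is universally open. -/
theorem isUnivOpenAt_of_universallyOpen {X S : Scheme.{u}} (f : X ⟶ S) (W : X.Opens)
    [UniversallyOpen (W.ι ≫ f)] {x : X} (hx : x ∈ W) : EGA43.IsUnivOpenAt f x := by
  intro Y' g x' hx' N hN
  let q : pullback (W.ι ≫ f) g ⟶ pullback f g :=
    pullback.map (W.ι ≫ f) g f g W.ι (𝟙 _) (𝟙 S) (Category.comp_id _) (by simp)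
  haveI : IsOpenImmersion q := inferInstance
  obtain ⟨v, rfl⟩ : x' ∈ Set.range q := by
    dsimp only [q]
    erw [Scheme.Pullback.range_map]
    refine ⟨?_, by simp⟩
    show pullback.fst f g x' ∈ Set.range W.ι
    rw [W.range_ι]
    exact hx' ▸ hx
  obtain ⟨O, hON, hO, hvO⟩ := mem_nhds_iff.1 hN
  have h2 : q ≫ pullback.snd f g = pullback.snd (W.ι ≫ f) g := by simp [q]
  have h3 : (pullback.snd (W.ι ≫ f) g) '' (q ⁻¹' O) ⊆ (pullback.snd f g) '' N := by
    rintro _ ⟨t, ht, rfl⟩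
    exact ⟨q t, hON ht, congrArg (fun m : pullback (W.ι ≫ f) g ⟶ Y' => m t) h2⟩
  refine Filter.mem_of_superset ?_ h3
  rw [← Scheme.Hom.comp_apply, h2]
  exact ((pullback.snd (W.ι ≫ f) g).isOpenMap _ (hO.preimage q.continuous)).mem_nhds ⟨v, hvO, rfl⟩

/-- Separatedness by translating any pair of points into a separated open. -/
theorem isSeparated_of_translations (a : AlgGrp.Action G X) (W : G.left.Opens) [UniversallyOpen (W.ι ≫ G.hom)]
    (h : ∀ z : (X ⊗ X).left, ∃ (U : X.left.Opens) (w : (G ⊗ (X ⊗ X)).left), IsSeparated (U.ι ≫ X.hom) ∧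
      (snd G (X ⊗ X)).left w = z ∧ (fst G (X ⊗ X)).left w ∈ W ∧
      ((G ◁ fst X X) ≫ a.act).left w ∈ U ∧ ((G ◁ snd X X) ≫ a.act).left w ∈ U) :
    IsSeparated X.hom :=
  isSeparated_of_translations' a fun z => by
    obtain ⟨U, w, h1, h2, h3, h4⟩ := h z
    exact ⟨U, w, h1, h2, isUnivOpenAt_of_universallyOpen G.hom W h3, h4⟩

/-- A geometric point over a point of a scheme over `S`. -/
theorem exists_geometric_point {Y : Over S} (y : Y.left) :
    ∃ (Ω : Type u) (_ : Field Ω) (P : Over S) (_ : P.left = Spec (CommRingCat.of Ω)) (p : P ⟶ Y),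
      ∀ t : P.left, p.left t = y := by
  let Ω := AlgebraicClosure (Y.left.residueField y)
  let f : Spec (CommRingCat.of Ω) ⟶ Y.left :=
    Spec.map (CommRingCat.ofHom (algebraMap (Y.left.residueField y) Ω)) ≫ Y.left.fromSpecResidueField y
  exact ⟨Ω, inferInstance, Over.mk (f ≫ Y.hom), rfl, Over.homMk f rfl,
    fun t => (Scheme.Hom.comp_apply _ _ _).trans (Y.left.fromSpecResidueField_apply y _)⟩

theorem irreducibleSpace_tensor_point [LocallyOfFiniteType G.hom] (hconn : ∀ s : S, ConnectedSpace (G.hom.fiber s))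
    {Ω : Type u} [Field Ω] (P : Over S) (hP : P.left = Spec (CommRingCat.of Ω)) : IrreducibleSpace ↥(G ⊗ P).left := by
  obtain ⟨PL, ⟨⟩, Ph⟩ := P
  cases hP
  exact irreducibleSpace_pullback_of_connected_fibres G hconn Ph

end Groth.Agent.H19Grp
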