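import Groth.Agent.H19Grp.NeutralUnivOpen
import Groth.Agent.H19Grp.NeutralConstr
import Groth.Agent.H19Grp.NeutralOpen
import Groth.Agent.H19Grp.Translations
import Groth.Agent.H19Grp.RepresentsOpen

/-!
# Orbits of opens under the neutral components
-/

set_option autoImplicit false
set_option linter.style.haveILetI false
set_option backward.isDefEq.respectTransparency false

universe u

open CategoryTheory Limits MonoidalCategory CartesianMonoidalCategory MonObj GrpObj AlgebraicGeometry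
open Topology

namespace Groth.Agent.H19Grp

variable {S : Scheme.{u}} (G : Over S) [GrpObj G] [LocallyOfFinitePresentation G.hom]

/-- The image in the base of the part in an open of the neutral set of a base change is open. -/
theorem isOpen_image_neutralSet_inter (hdim : DimLocConst G) {S' : Scheme.{u}} (k : S' ⟶ S)
    (O : (Red.bc k G).left.Opens) :
    IsOpen ((Red.bc k G).hom '' (SGA3x.neutralSet (Red.bc k G) ∩ (O : Set (Red.bc k G).left))) := by
  haveI : LocallyOfFinitePresentation (Red.bc k G).hom :=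
    show LocallyOfFinitePresentation (pullback.snd G.hom k) from inferInstance
  refine isOpen_of_chartInd ?_ ?_
  · intro R c _ y hy
    obtain ⟨w, ⟨hwN, hwO⟩, hwy⟩ := hy
    let D : (Red.bc k G).left.Opens := O ⊓ (Red.bc k G).hom ⁻¹ᵁ c.opensRange
    obtain ⟨A, hA, hwA, hAD⟩ := exists_isAffineOpen_mem_and_subset (X := (Red.bc k G).left) (x := w)
      (U := D) ⟨hwO, y, hwy.symm⟩
    haveI : IsAffine A.toScheme := hA
    let l : A.toScheme ⟶ Spec R := IsOpenImmersion.lift c (A.ι ≫ (Red.bc k G).hom) (by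
      rintro _ ⟨z, rfl⟩
      exact (hAD (A.range_ι.le ⟨z, rfl⟩)).2)
    have hl : l ≫ c = A.ι ≫ (Red.bc k G).hom := IsOpenImmersion.lift_fac _ _ _
    haveI : LocallyOfFinitePresentation (l ≫ c) := by rw [hl]; infer_instance
    haveI : LocallyOfFinitePresentation l := H12AlgSp.lfp_of_comp l c
    obtain ⟨w', rfl⟩ := A.range_ι.ge hwA
    obtain ⟨T, hT, hwT, hTN⟩ := chartInd_preimage (chartInd_neutralSet (Red.bc k G))
      A.ι (CommRingCat.of Γ(A.toScheme, ⊤)) A.toScheme.isoSpec.inv (A.toScheme.isoSpec.hom w') (by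
        show A.ι (A.toScheme.isoSpec.inv (A.toScheme.isoSpec.hom w')) ∈ SGA3x.neutralSet (Red.bc k G)
        rw [← Scheme.Hom.comp_apply A.toScheme.isoSpec.hom, Iso.hom_inv_id]
        exact hwN)
    refine ⟨(A.toScheme.isoSpec.inv ≫ l) '' T, Scheme.Hom.isConstructible_image _ hT,
      ⟨_, hwT, ?_⟩, ?_⟩
    · apply c.isOpenEmbedding.injective
      rw [← Scheme.Hom.comp_apply, Category.assoc, hl, ← Scheme.Hom.comp_apply,
        Iso.hom_inv_id_assoc, Scheme.Hom.comp_apply]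
      exact hwy
    · rintro _ ⟨t, ht, rfl⟩
      refine ⟨A.ι (A.toScheme.isoSpec.inv t), ⟨hTN ht, (hAD (A.range_ι.le ⟨_, rfl⟩)).1⟩, ?_⟩
      rw [← Scheme.Hom.comp_apply, ← Scheme.Hom.comp_apply, ← Scheme.Hom.comp_apply, Category.assoc, hl]
  · rintro y y' hy ⟨w, ⟨hwN, hwO⟩, rfl⟩
    rw [mem_neutralSet_iff] at hwN
    obtain ⟨v, hvO, hv⟩ :=
      mem_closure_iff.1 (neutralAt_subset_closure G hdim k hy hwN) O O.2 hwO
    exact ⟨v, ⟨neutralAt_subset_neutralSet _ _ hv, hvO⟩, connectedComponentIn_subset ((Red.bc k G).hom ⁻¹' {y'}) (η[Red.bc k G].left y') hv⟩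

variable {G} {X : Over S} (a : AlgGrp.Action G X) (U : X.left.Opens)

/-- The orbit of an open under the neutral components. -/
def neutralOrbit : Set X.left :=
  a.act.left '' {z : ↥(G ⊗ X).left | (fst G X).left z ∈ SGA3x.neutralSet G ∧ (snd G X).left z ∈ U}

/-- The exchange (g, x) ↦ (g⁻¹, g · x). -/
noncomputable def exch : G ⊗ X ⟶ G ⊗ X := lift (fst G X ≫ ι[G]) a.act

omit [LocallyOfFinitePresentation G.hom] in
theorem exch_snd : exch a ≫ snd G X = a.act := lift_snd _ _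

omit [LocallyOfFinitePresentation G.hom] in
theorem exch_act : exch a ≫ a.act = snd G X := by
  have h : a.act = smulPt a (fst G X) (snd G X) := act_eq_smulPt a
  have h2 : exch a ≫ a.act = smulPt a (fst G X)⁻¹ a.act := by
    rw [exch, smulPt, Hom.inv_def]
  rw [h2]
  conv_lhs => rw [h]
  exact inv_smulPt_smulPt a _ _

omit [LocallyOfFinitePresentation G.hom] in
theorem exch_fst_mem {w : (G ⊗ X).left} (hw : (fst G X).left w ∈ SGA3x.neutralSet G) :
    (fst G X).left ((exch a).left w) ∈ SGA3x.neutralSet G := by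
  rw [← Scheme.Hom.comp_apply, ← Over.comp_left, exch, lift_fst]
  exact inv_mem_neutralSet G hw

omit [LocallyOfFinitePresentation G.hom] in
theorem neutralOrbit_eq : neutralOrbit a U =
    (snd G X).left '' ((fst G X).left ⁻¹' SGA3x.neutralSet G ∩ a.act.left ⁻¹' (U : Set X.left)) := by
  have e1 : ∀ w, a.act.left ((exch a).left w) = (snd G X).left w := fun w =>
    congrArg (fun m : G ⊗ X ⟶ X => m.left w) (exch_act a)
  have e2 : ∀ w, (snd G X).left ((exch a).left w) = a.act.left w := fun w =>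
    congrArg (fun m : G ⊗ X ⟶ X => m.left w) (exch_snd a)
  ext y
  constructor
  · rintro ⟨w, ⟨h1, h2⟩, rfl⟩
    exact ⟨(exch a).left w, ⟨exch_fst_mem a h1, show _ ∈ U from (e1 w).symm ▸ h2⟩, e2 w⟩
  · rintro ⟨w, ⟨h1, h2⟩, rfl⟩
    exact ⟨(exch a).left w, ⟨exch_fst_mem a h1, show _ ∈ U from (e2 w).symm ▸ h2⟩, e1 w⟩

theorem isOpen_neutralOrbit (hdim : DimLocConst G) : IsOpen (neutralOrbit a U) := by
  rw [neutralOrbit_eq]
  have hN : (fst G X).left ⁻¹' SGA3x.neutralSet G = SGA3x.neutralSet (Red.bc X.hom G) :=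
    (neutralSet_baseChange G X.hom).symm
  rw [hN]
  exact isOpen_image_neutralSet_inter G hdim X.hom (a.act.left ⁻¹ᵁ U)

theorem exists_translation (hdim : DimLocConst G) {z : (X ⊗ X).left}
    (h1 : (fst X X).left z ∈ neutralOrbit a U) (h2 : (snd X X).left z ∈ neutralOrbit a U) :
    ∃ w : (G ⊗ (X ⊗ X)).left, (snd G (X ⊗ X)).left w = z ∧
      EGA43.IsUnivOpenAt G.hom ((fst G (X ⊗ X)).left w) ∧
      ((G ◁ fst X X) ≫ a.act).left w ∈ U ∧ ((G ◁ snd X X) ≫ a.act).left w ∈ U := by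
  let G' := Red.bc (X ⊗ X).hom G
  let C : Set (G ⊗ (X ⊗ X)).left := neutralAt G' z
  have hC : IsIrreducible C := isIrreducible_neutralAt G' z
  have hN : ∀ w : (G ⊗ (X ⊗ X)).left, w ∈ C →
      (snd G (X ⊗ X)).left w = z ∧ (fst G (X ⊗ X)).left w ∈ SGA3x.neutralSet G := fun w hw =>
    ⟨connectedComponentIn_subset (G'.hom ⁻¹' {z}) (η[G'].left z) hw,
      (Set.ext_iff.1 (neutralSet_baseChange G (X ⊗ X).hom) w).1 (neutralAt_subset_neutralSet G' z hw)⟩
  have hC' : ∀ w : (G ⊗ (X ⊗ X)).left, (snd G (X ⊗ X)).left w = z →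
      (fst G (X ⊗ X)).left w ∈ SGA3x.neutralSet G → w ∈ C := fun w hs hf => by
    have := (mem_neutralSet_iff G' w).1 ((Set.ext_iff.1 (neutralSet_baseChange G (X ⊗ X).hom) w).2 hf)
    rwa [show G'.hom w = z from hs] at this
  have key : ∀ p : X ⊗ X ⟶ X, p.left z ∈ neutralOrbit a U →
      (C ∩ ((G ◁ p) ≫ a.act).left ⁻¹' (U : Set X.left)).Nonempty := by
    intro p hp
    rw [neutralOrbit_eq] at hp
    obtain ⟨v, ⟨hv1, hv2⟩, hv⟩ := hp
    have hsq : IsPullback (G ◁ p).left (snd G (X ⊗ X)).left (snd G X).left p.left := by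
      refine IsPullback.of_right (h₁₂ := (fst G X).left) (v₁₃ := G.hom) (h₂₂ := X.hom) ?_
        (congrArg Over.Hom.left (whiskerLeft_snd G p)) (IsPullback.of_hasPullback G.hom X.hom)
      rw [← Over.comp_left, whiskerLeft_fst, Over.w p]
      exact IsPullback.of_hasPullback G.hom (X ⊗ X).hom
    obtain ⟨w, hw1, hw2⟩ := Scheme.exists_preimage_of_isPullback hsq v z hv
    refine ⟨w, hC' w hw2 ?_, ?_⟩
    · rw [show (fst G (X ⊗ X)).left w = (fst G X).left ((G ◁ p).left w) from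
        (congrArg (fun m : G ⊗ (X ⊗ X) ⟶ G => m.left w) (whiskerLeft_fst G p)).symm, hw1]
      exact hv1
    · show a.act.left ((G ◁ p).left w) ∈ U
      rw [hw1]
      exact hv2
  obtain ⟨w₁, hw₁⟩ := key (fst X X) h1
  obtain ⟨w₂, hw₂⟩ := key (snd X X) h2
  obtain ⟨w, hw, hwU1, hwU2⟩ := hC.2 _ _ (U.2.preimage ((G ◁ fst X X) ≫ a.act).left.continuous)
    (U.2.preimage ((G ◁ snd X X) ≫ a.act).left.continuous) ⟨w₁, hw₁⟩ ⟨w₂, hw₂⟩
  exact ⟨w, (hN w hw).1, isUnivOpenAt_neutralSet G hdim (hN w hw).2, hwU1, hwU2⟩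

theorem isSeparated_neutralOrbit (hdim : DimLocConst G) (hU : IsSeparated (U.ι ≫ X.hom))
    (V : X.left.Opens) (hV : (V : Set X.left) = neutralOrbit a U) : IsSeparated (V.ι ≫ X.hom) := by
  let D := pullback.diagonal (V.ι ≫ X.hom)
  suffices hc : IsClosed (Set.range D) from ⟨IsClosedImmersion.of_isPreimmersion _ hc⟩
  let q : pullback (V.ι ≫ X.hom) (V.ι ≫ X.hom) ⟶ (X ⊗ X).left :=
    pullback.map (V.ι ≫ X.hom) (V.ι ≫ X.hom) X.hom X.hom V.ι V.ι (𝟙 S) (Category.comp_id _)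
      (Category.comp_id _)
  have hδ : (lift (𝟙 X) (𝟙 X)).left = pullback.diagonal X.hom := by
    apply pullback.hom_ext
    · rw [pullback.diagonal_fst]
      exact congrArg Over.Hom.left (lift_fst (𝟙 X) (𝟙 X))
    · rw [pullback.diagonal_snd]
      exact congrArg Over.Hom.left (lift_snd (𝟙 X) (𝟙 X))
  have hD : D ≫ q = V.ι ≫ (lift (𝟙 X) (𝟙 X)).left := by
    rw [hδ]
    apply pullback.hom_ext <;> simp [D, q]
  have hfst : ∀ v, (fst X X).left (q v) = V.ι (pullback.fst (V.ι ≫ X.hom) (V.ι ≫ X.hom) v) := fun v =>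
    congrArg (fun m : pullback (V.ι ≫ X.hom) (V.ι ≫ X.hom) ⟶ X.left => m v) (pullback.lift_fst _ _ _)
  have hsnd : ∀ v, (snd X X).left (q v) = V.ι (pullback.snd (V.ι ≫ X.hom) (V.ι ≫ X.hom) v) := fun v =>
    congrArg (fun m : pullback (V.ι ≫ X.hom) (V.ι ≫ X.hom) ⟶ X.left => m v) (pullback.lift_snd _ _ _)
  refine closure_subset_iff_isClosed.1 fun v hv => ?_
  have hq : q v ∈ closure (Set.range (lift (𝟙 X) (𝟙 X)).left) := by
    refine closure_mono ?_ (image_closure_subset_closure_image q.continuous ⟨v, hv, rfl⟩)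
    rintro _ ⟨_, ⟨x, rfl⟩, rfl⟩
    exact ⟨V.ι x, (congrArg (fun m : V.toScheme ⟶ (X ⊗ X).left => m x) hD).symm⟩
  have hm : ∀ p, V.ι p ∈ neutralOrbit a U := fun p => hV ▸ V.range_ι.le ⟨p, rfl⟩
  obtain ⟨w, hwz, hwW, hwA, hwB⟩ :=
    exists_translation a U hdim (z := q v) (by rw [hfst]; exact hm _) (by rw [hsnd]; exact hm _)
  obtain ⟨x, hx⟩ := mem_diag_of_translation a hq U hU w hwz hwW hwA hwB
  have hxV : x ∈ Set.range V.ι := by
    refine ⟨pullback.fst (V.ι ≫ X.hom) (V.ι ≫ X.hom) v, ?_⟩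
    rw [← hfst, ← hx]
    exact (range_lift_left (𝟙 X) (𝟙 X) x).1
  obtain ⟨x', rfl⟩ := hxV
  haveI : IsOpenImmersion q := inferInstance
  refine ⟨x', q.isOpenEmbedding.injective ?_⟩
  rw [← hx]
  exact congrArg (fun m : V.toScheme ⟶ (X ⊗ X).left => m x') hD

end Groth.Agent.H19Grp
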