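import Groth.Agent.H19Grp.Neutral

/-!
# The neutral set and the multiplication

The neutral component of each fibre is irreducible, the neutral set is stable under multiplication
and every point of it is a product of two points of it in a given open containing the unit.
-/

set_option autoImplicit false
set_option linter.style.haveILetI false
set_option backward.isDefEq.respectTransparency false

universe u

open CategoryTheory Limits MonoidalCategory CartesianMonoidalCategory MonObj GrpObj AlgebraicGeometry

namespace Groth.Agent.H19Grp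

section field

variable {K : Type u} [Field K] (G : Over (Spec (CommRingCat.of K))) [GrpObj G]

/-- Every point of the component of the unit is a product of two points of it lying in a given open
neighbourhood of the unit. -/
theorem exists_mul_eq_of_mem_component (W : G.left.Opens) (hW : ept G ∈ W) {x : G.left}
    (hx : x ∈ connectedComponent (ept G)) :
    ∃ z : (G ⊗ G).left, μ[G].left z = x ∧
      (fst G G).left z ∈ (W : Set G.left) ∩ connectedComponent (ept G) ∧
      (snd G G).left z ∈ (W : Set G.left) ∩ connectedComponent (ept G) := by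
  obtain ⟨inst, hm⟩ := exists_grpObj_idComp G
  letI := inst
  haveI := hm
  let G₀ := idComp G
  let j := idCompι G
  have hrange : ∀ p, j.left p ∈ connectedComponent (ept G) := fun p => by
    rw [← range_idCompι_ept]; exact ⟨p, rfl⟩
  obtain ⟨x₀, rfl⟩ : x ∈ Set.range j.left := by rw [range_idCompι_ept]; exact hx
  haveI : IrreducibleSpace G₀.left := by
    rw [irreducibleSpace_def]
    show IsIrreducible Set.univ
    haveI := geometricallyIrreducible_idComp G
    haveI : IrreducibleSpace ↥(pullback G₀.hom (𝟙 _)) :=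
      GeometricallyIrreducible.geometrically_irreducibleSpace _ _ _
        (IsPullback.of_hasPullback G₀.hom (𝟙 _))
    have hs : Function.Surjective (pullback.fst G₀.hom (𝟙 _)) :=
      (pullback.fst G₀.hom (𝟙 _)).homeomorph.surjective
    rw [← hs.range_eq, ← Set.image_univ]
    exact (IrreducibleSpace.isIrreducible_univ _).image _
      (pullback.fst G₀.hom (𝟙 _)).continuous.continuousOn
  let W₀ := j.left ⁻¹ᵁ W
  have he : ept G₀ ∈ W₀ := show j.left _ ∈ W from (hom_one_apply_map j _).symm ▸ hW
  have hze : zeta (ept G₀) ∈ W₀ := (zeta_specializes (ept G₀)).mem_open W₀.2 he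
  have hx' : x₀ ∈ sat (α := G₀.left) (W₀ : Set G₀.left) := by
    show zeta x₀ ∈ W₀
    rwa [zeta_eq_of_isIrreducible (dirGen (grpToGrpd G₀) (Iso.refl _))
      (IrreducibleSpace.isIrreducible_univ _) (Set.mem_univ x₀) (Set.mem_univ (ept G₀))]
  rw [sat_eq_image (grpToGrpd G₀) (Iso.refl _) W₀ W₀ hze] at hx'
  obtain ⟨z, ⟨h1, -, h2⟩, hz⟩ := hx'
  refine ⟨(j ⊗ₘ j).left z, ?_, ?_, ?_⟩
  · rw [← hz, ← Scheme.Hom.comp_apply, ← Over.comp_left, ← IsMonHom.mul_hom (f := j)]
    rfl
  · rw [← Scheme.Hom.comp_apply, ← Over.comp_left, tensorHom_fst]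
    exact ⟨h1, hrange _⟩
  · rw [← Scheme.Hom.comp_apply, ← Over.comp_left, tensorHom_snd]
    exact ⟨h2, hrange _⟩

end field

section main

variable {S : Scheme.{u}} (G : Over S) [GrpObj G]

theorem isIrreducible_neutralAt (s : S) : IsIrreducible (neutralAt G s) := by
  let x := S.fromSpecResidueField s
  have h := (isIrreducible_component (Red.bc x G)).image _
    (pullback.fst G.hom x).continuous.continuousOn
  rwa [← preimage_neutralSet_residueField, Set.image_preimage_eq_inter_range,
    show Set.range (pullback.fst G.hom x) = G.hom ⁻¹' {s} from G.hom.range_fiberι s,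
    neutralSet_inter_fibre] at h

theorem tensor_hom_apply (z : (G ⊗ G).left) :
    G.hom ((fst G G).left z) = (G ⊗ G).hom z ∧ G.hom ((snd G G).left z) = (G ⊗ G).hom z ∧
      G.hom (μ[G].left z) = (G ⊗ G).hom z :=
  ⟨congrArg (fun m : (G ⊗ G).left ⟶ S => m z) (Over.w (fst G G)),
    congrArg (fun m : (G ⊗ G).left ⟶ S => m z) (Over.w (snd G G)),
    congrArg (fun m : (G ⊗ G).left ⟶ S => m z) (Over.w μ[G])⟩

/-- A point of the product in a fibre gives a point of the product. -/
theorem fibre_tensor_point {S' : Scheme.{u}} (f : S' ⟶ S)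
    (z : (Red.bc f G ⊗ Red.bc f G).left) :
    ∃ w : (G ⊗ G).left,
      (fst G G).left w = pullback.fst G.hom f ((fst (Red.bc f G) (Red.bc f G)).left z) ∧
      (snd G G).left w = pullback.fst G.hom f ((snd (Red.bc f G) (Red.bc f G)).left z) ∧
      μ[G].left w = pullback.fst G.hom f (μ[Red.bc f G].left z) := by
  refine ⟨pullback.fst (G ⊗ G).hom f ((Functor.LaxMonoidal.μ (Over.pullback f) G G).left z),
    ?_, ?_, ?_⟩
  · rw [← Functor.Monoidal.μ_fst, ← Scheme.Hom.comp_apply, ← bc_map_fst f (fst G G),
      Over.comp_left]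
    rfl
  · rw [← Functor.Monoidal.μ_snd, ← Scheme.Hom.comp_apply, ← bc_map_fst f (snd G G),
      Over.comp_left]
    rfl
  · rw [show μ[Red.bc f G] = Functor.LaxMonoidal.μ (Over.pullback f) G G ≫
        (Over.pullback f).map μ[G] from Functor.obj.μ_def (F := Over.pullback f) G,
      ← Scheme.Hom.comp_apply, ← bc_map_fst f μ[G], Over.comp_left]
    rfl

/-- Every point of the neutral set is a product of two points of it in a given open containing the
unit point over the same point of the base. -/
theorem exists_mul_eq_of_mem_neutralSet (W : G.left.Opens) {x : G.left}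
    (hW : η[G].left (G.hom x) ∈ W) (hx : x ∈ SGA3x.neutralSet G) :
    ∃ z : (G ⊗ G).left, μ[G].left z = x ∧
      (fst G G).left z ∈ (W : Set G.left) ∩ SGA3x.neutralSet G ∧
      (snd G G).left z ∈ (W : Set G.left) ∩ SGA3x.neutralSet G := by
  let s := G.hom x
  let f := S.fromSpecResidueField s
  obtain ⟨y, hy⟩ : ∃ y, pullback.fst G.hom f y = x := ⟨G.hom.asFiber x, G.hom.fiberι_asFiber x⟩
  have hyC : y ∈ connectedComponent (ept (Red.bc f G)) := by
    rw [← preimage_neutralSet_residueField, Set.mem_preimage, hy]; exact hx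
  obtain ⟨z, hz, h1, h2⟩ := exists_mul_eq_of_mem_component (Red.bc f G) (pullback.fst G.hom f ⁻¹ᵁ W)
    (by
      show pullback.fst G.hom f _ ∈ W
      exact ((fst_one_apply f G _).trans
        (congrArg η[G].left (S.fromSpecResidueField_apply s _))).symm ▸ hW) hyC
  obtain ⟨w, hw1, hw2, hw3⟩ := fibre_tensor_point G f z
  rw [← preimage_neutralSet_residueField] at h1 h2
  exact ⟨w, by rw [hw3, hz, hy], hw1 ▸ h1, hw2 ▸ h2⟩

/-- The neutral set is stable under multiplication. -/
theorem mul_mem_neutralSet (z : (G ⊗ G).left) (h1 : (fst G G).left z ∈ SGA3x.neutralSet G)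
    (h2 : (snd G G).left z ∈ SGA3x.neutralSet G) : μ[G].left z ∈ SGA3x.neutralSet G := by
  let s := (G ⊗ G).hom z
  let f := S.fromSpecResidueField s
  obtain ⟨y, hy⟩ : ∃ y, pullback.fst (G ⊗ G).hom f y = z :=
    ⟨(G ⊗ G).hom.asFiber z, (G ⊗ G).hom.fiberι_asFiber z⟩
  let F := Over.pullback f
  let z' : (Red.bc f G ⊗ Red.bc f G).left := (Functor.OplaxMonoidal.δ F G G).left y
  obtain ⟨w, hw1, hw2, hw3⟩ := fibre_tensor_point G f z'
  have hμ : (Functor.LaxMonoidal.μ F G G).left z' = y := by
    rw [← Scheme.Hom.comp_apply, ← Over.comp_left, Functor.Monoidal.δ_μ]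
    rfl
  have e1 : pullback.fst G.hom f ((fst (Red.bc f G) (Red.bc f G)).left z') = (fst G G).left z := by
    rw [← Functor.Monoidal.μ_fst, Over.comp_left, Scheme.Hom.comp_apply]
    erw [hμ]
    exact (congrArg (fun m : (Red.bc f (G ⊗ G)).left ⟶ G.left => m y) (bc_map_fst f (fst G G))).trans
      (congrArg (fst G G).left hy)
  have e2 : pullback.fst G.hom f ((snd (Red.bc f G) (Red.bc f G)).left z') = (snd G G).left z := by
    rw [← Functor.Monoidal.μ_snd, Over.comp_left, Scheme.Hom.comp_apply]
    erw [hμ]
    exact (congrArg (fun m : (Red.bc f (G ⊗ G)).left ⟶ G.left => m y) (bc_map_fst f (snd G G))).trans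
      (congrArg (snd G G).left hy)
  have e3 : pullback.fst G.hom f (μ[Red.bc f G].left z') = μ[G].left z := by
    rw [show μ[Red.bc f G] = Functor.LaxMonoidal.μ F G G ≫ F.map μ[G] from
      Functor.obj.μ_def (F := F) G, Over.comp_left, Scheme.Hom.comp_apply]
    erw [hμ]
    exact (congrArg (fun m : (Red.bc f (G ⊗ G)).left ⟶ G.left => m y) (bc_map_fst f μ[G])).trans
      (congrArg μ[G].left hy)
  rw [← e3, ← Set.mem_preimage, preimage_neutralSet_residueField]
  refine mul_mem_component (Red.bc f G) z' ?_ ?_
  · show _ ∈ connectedComponent (ept (Red.bc f G))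
    rw [← preimage_neutralSet_residueField, Set.mem_preimage, e1]
    exact h1
  · show _ ∈ connectedComponent (ept (Red.bc f G))
    rw [← preimage_neutralSet_residueField, Set.mem_preimage, e2]
    exact h2

end main

end Groth.Agent.H19Grp
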