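import Groth.Agent.H3CAlg.CompletedFS
import Mathlib

/-!
# Morphisms with flat source which are bijective on points over a nilpotent thickening are isomorphisms
-/

set_option autoImplicit false
set_option maxHeartbeats 1000000
set_option synthInstance.maxHeartbeats 100000
set_option linter.style.haveILetI false
set_option backward.isDefEq.respectTransparency false

universe u

open CategoryTheory CategoryTheory.Limits AlgebraicGeometry MonoidalCategory CartesianMonoidalCategory

namespace Groth.Agent.H19Grp.NilIso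

variable {R : Type u} [CommRing R] (I : Ideal R)

/-- The closed subscheme of `Spec R` cut out by `I`. -/
noncomputable abbrev thick : Spec (CommRingCat.of (R ⧸ I)) ⟶ Spec (CommRingCat.of R) :=
  Spec.map (CommRingCat.ofHom (Ideal.Quotient.mk I))

/-- Bijectivity on points over the thickening. -/
def BijOver {W V : Over (Spec (CommRingCat.of R))} (f : W ⟶ V) : Prop :=
  ∀ T : Over (Spec (CommRingCat.of (R ⧸ I))),
    Function.Bijective fun g : (Over.map (thick I)).obj T ⟶ W => g ≫ f

theorem bijOver_of_isIso {W V : Over (Spec (CommRingCat.of R))} (f : W ⟶ V)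
    [IsIso ((Over.pullback (thick I)).map f)] : BijOver I f := fun T => by
  have h : (fun g : (Over.map (thick I)).obj T ⟶ W => g ≫ f) =
      ((Over.mapPullbackAdj (thick I)).homEquiv T V).symm ∘
        (fun g : T ⟶ (Over.pullback (thick I)).obj W => g ≫ (Over.pullback (thick I)).map f) ∘
          (Over.mapPullbackAdj (thick I)).homEquiv T W := by
    funext g
    simp [Adjunction.homEquiv_naturality_right_symm]
  rw [h]
  exact ((Equiv.bijective _).comp ((asIso ((Over.pullback (thick I)).map f)).homToEquiv.bijective)).comp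
    (Equiv.bijective _)

theorem isHomeomorph_of_bijOver (hI : IsNilpotent I) {W V : Over (Spec (CommRingCat.of R))} (f : W ⟶ V)
    [IsIso ((Over.pullback (thick I)).map f)] : IsHomeomorph f.left := by
  haveI : IsClosedImmersion (thick I) := IsClosedImmersion.spec_of_surjective _ Ideal.Quotient.mk_surjective
  haveI : Surjective (thick I) := ⟨fun p => by
    obtain ⟨n, hn⟩ := hI
    have hle : I ≤ p.asIdeal := fun x hx => p.2.mem_of_pow_mem n (by
      have := Ideal.pow_mem_pow hx n
      rw [hn] at this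
      rw [show x ^ n = 0 from this]
      exact zero_mem _)
    have hp : p ∈ Set.range (PrimeSpectrum.comap (Ideal.Quotient.mk I)) := by
      rw [range_comap_of_surjective _ _ Ideal.Quotient.mk_surjective, PrimeSpectrum.mem_zeroLocus,
        Ideal.mk_ker]
      exact hle
    exact hp⟩
  let f₀ := ((Over.pullback (thick I)).map f).left
  let pW := pullback.fst W.hom (thick I)
  let pV := pullback.fst V.hom (thick I)
  haveI : IsClosedImmersion pW := MorphismProperty.pullback_fst _ _ ‹_›
  haveI : IsClosedImmersion pV := MorphismProperty.pullback_fst _ _ ‹_›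
  haveI : Surjective pW := MorphismProperty.pullback_fst _ _ ‹_›
  haveI : Surjective pV := MorphismProperty.pullback_fst _ _ ‹_›
  haveI : IsIso f₀ := inferInstanceAs (IsIso ((Over.forget _).map ((Over.pullback (thick I)).map f)))
  have w : pW ≫ f.left = f₀ ≫ pV := by
    show pW ≫ f.left = pullback.lift _ _ _ ≫ pV
    exact (pullback.lift_fst _ _ _).symm
  have wx : ∀ x, f.left (pW x) = pV (f₀ x) := fun x => congrArg (fun m => m x) w
  refine isHomeomorph_iff_continuous_isClosedMap_bijective.2
    ⟨f.left.continuous, fun C hC => ?_, fun x y hxy => ?_, fun y => ?_⟩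
  · have : f.left '' C = pV '' (f₀ '' (pW ⁻¹' C)) := by
      conv_lhs => rw [← Set.image_preimage_eq C pW.surjective]
      simp only [Set.image_image, wx]
      rfl
    rw [this]
    exact pV.isClosedMap _ (f₀.homeomorph.isClosedMap _ (hC.preimage pW.continuous))
  · obtain ⟨x, rfl⟩ := pW.surjective x
    obtain ⟨y, rfl⟩ := pW.surjective y
    rw [wx, wx] at hxy
    rw [f₀.homeomorph.injective (pV.isEmbedding.injective hxy)]
  · obtain ⟨y, rfl⟩ := pV.surjective y
    obtain ⟨x, rfl⟩ := f₀.homeomorph.surjective y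
    exact ⟨pW x, wx x⟩

/-- The affine case. -/
theorem bijective_appTop_of_bijOver (hI : IsNilpotent I) {A B : Type u} [CommRing A] [CommRing B]
    [Algebra R A] [Algebra R B] [Module.Flat R A] (φ : B →ₐ[R] A)
    (h : ∀ (D : Type u) [CommRing D] [Algebra R D], (∀ r ∈ I, algebraMap R D r = 0) →
      Function.Bijective fun ψ : A →ₐ[R] D => ψ.comp φ) : Function.Bijective φ := by
  let JA := I.map (algebraMap R A)
  let JB := I.map (algebraMap R B)
  have hkill : ∀ (C : Type u) [CommRing C] [Algebra R C], ∀ r ∈ I,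
      algebraMap R (C ⧸ I.map (algebraMap R C)) r = 0 := fun C _ _ r hr =>
    Ideal.Quotient.eq_zero_iff_mem.2 (Ideal.mem_map_of_mem _ hr)
  obtain ⟨ψ, hψ : ψ.comp φ = Ideal.Quotient.mkₐ R JB⟩ :=
    (h (B ⧸ JB) (hkill B)).2 (Ideal.Quotient.mkₐ R JB)
  refine H3CAlg.CompletedFS.bijective_of_nilpotent I hI φ (fun s => ?_) (fun x hx => ?_)
  · obtain ⟨x, hx⟩ := Ideal.Quotient.mk_surjective (ψ s)
    have hle : JB ≤ RingHom.ker ((Ideal.Quotient.mkₐ R JA).comp φ) :=
      Ideal.map_le_iff_le_comap.2 fun r hr => by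
        show Ideal.Quotient.mk JA (φ (algebraMap R B r)) = 0
        rw [AlgHom.commutes]
        exact Ideal.Quotient.eq_zero_iff_mem.2 (Ideal.mem_map_of_mem _ hr)
    let φ' : B ⧸ JB →ₐ[R] A ⧸ JA := Ideal.Quotient.liftₐ JB ((Ideal.Quotient.mkₐ R JA).comp φ) hle
    have e : φ'.comp ψ = Ideal.Quotient.mkₐ R JA := by
      refine (h (A ⧸ JA) (hkill A)).1 (AlgHom.ext fun b => ?_)
      show φ' (ψ (φ b)) = _
      rw [← AlgHom.comp_apply ψ φ, hψ]
      rfl
    have e' := AlgHom.congr_fun e s
    rw [AlgHom.comp_apply, ← hx] at e'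
    exact ⟨x, Ideal.Quotient.eq.1 e'⟩
  · have hle : JA ≤ RingHom.ker ψ := Ideal.map_le_iff_le_comap.2 fun r hr => by
      show ψ (algebraMap R A r) = 0
      rw [AlgHom.commutes]
      exact hkill B r hr
    have := hle hx
    rw [RingHom.mem_ker, ← AlgHom.comp_apply, hψ] at this
    exact Ideal.Quotient.eq_zero_iff_mem.1 this

/-- A morphism with flat source which is an isomorphism modulo a nilpotent ideal is an isomorphism. -/
theorem isIso_of_isIso_mod (hI : IsNilpotent I) {W V : Over (Spec (CommRingCat.of R))} (f : W ⟶ V)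
    [Flat W.hom] [IsIso ((Over.pullback (thick I)).map f)] : IsIso f := by
  have hh := isHomeomorph_of_bijOver I hI f
  haveI : IsAffineHom f.left := isAffineHom_of_isInducing f.left hh.isInducing
    (by rw [Set.range_eq_univ.2 hh.surjective]; exact isClosed_univ)
  have hbij := bijOver_of_isIso I f
  suffices h : IsIso ((Over.forget _).map f) from isIso_of_reflects_iso f (Over.forget _)
  refine (IsZariskiLocalAtTarget.iff_of_iSup_eq_top (P := MorphismProperty.isomorphisms Scheme.{u})
    (fun U : {U : V.left.Opens // IsAffineOpen U} => U.1) (iSup_affineOpens_eq_top _)).2 fun U => ?_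
  show IsIso (f.left ∣_ U.1)
  let P := f.left ⁻¹ᵁ U.1
  have hP : IsAffineOpen P := U.2.preimage f.left
  haveI : IsAffine P.toScheme := hP
  haveI : IsAffine U.1.toScheme := U.2
  let W' : Over (Spec (CommRingCat.of R)) := Over.mk (P.ι ≫ W.hom)
  let V' : Over (Spec (CommRingCat.of R)) := Over.mk (U.1.ι ≫ V.hom)
  let f' : W' ⟶ V' := Over.homMk (f.left ∣_ U.1) (by
    show (f.left ∣_ U.1) ≫ U.1.ι ≫ V.hom = P.ι ≫ W.hom
    rw [morphismRestrict_ι_assoc, Over.w])
  have hb' : BijOver I f' := fun T => by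
    let ιW : W' ⟶ W := Over.homMk P.ι rfl
    let ιV : V' ⟶ V := Over.homMk U.1.ι rfl
    have hsq : f' ≫ ιV = ιW ≫ f := Over.OverMorphism.ext (morphismRestrict_ι _ _)
    haveI : Mono ιW := Over.mono_of_mono_left _
    haveI : Mono ιV := Over.mono_of_mono_left _
    refine ⟨fun g₁ g₂ hg => ?_, fun g' => ?_⟩
    · rw [← cancel_mono ιW]
      apply (hbij T).1
      show (g₁ ≫ ιW) ≫ f = (g₂ ≫ ιW) ≫ f
      rw [Category.assoc, Category.assoc, ← hsq, ← Category.assoc, ← Category.assoc]
      exact congrArg (· ≫ ιV) hg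
    · obtain ⟨g, hg : g ≫ f = g' ≫ ιV⟩ := (hbij T).2 (g' ≫ ιV)
      have hr : Set.range g.left ⊆ Set.range P.ι := by
        rintro _ ⟨x, rfl⟩
        rw [Scheme.Opens.range_ι]
        show f.left (g.left x) ∈ U.1
        rw [← Scheme.Hom.comp_apply, ← Over.comp_left, hg, Over.comp_left, Scheme.Hom.comp_apply]
        exact (g'.left x).2
      refine ⟨Over.homMk (IsOpenImmersion.lift P.ι g.left hr) (by
        show _ ≫ P.ι ≫ W.hom = _
        rw [IsOpenImmersion.lift_fac_assoc, Over.w]), ?_⟩
      rw [← cancel_mono ιV]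
      dsimp only
      rw [Category.assoc, hsq, ← Category.assoc, ← hg]
      congr 1
      exact Over.OverMorphism.ext (IsOpenImmersion.lift_fac _ _ _)
  haveI : Flat W'.hom := inferInstanceAs (Flat (P.ι ≫ W.hom))
  -- pass to rings
  haveI : IsAffine W'.left := ‹IsAffine P.toScheme›
  haveI : IsAffine V'.left := ‹IsAffine U.1.toScheme›
  let a := Spec.preimage (W'.left.isoSpec.inv ≫ W'.hom)
  let b := Spec.preimage (V'.left.isoSpec.inv ≫ V'.hom)
  letI := a.hom.toAlgebra
  letI := b.hom.toAlgebra
  let φ := Spec.preimage (W'.left.isoSpec.inv ≫ f'.left ≫ V'.left.isoSpec.hom)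
  have hφ : Spec.map φ = W'.left.isoSpec.inv ≫ f'.left ≫ V'.left.isoSpec.hom := Spec.map_preimage _
  have hbφ : b ≫ φ = a := Spec.map_injective (by
    rw [Spec.map_comp, hφ, Spec.map_preimage, Spec.map_preimage]
    simp [Over.w f'])
  let φₐ : Γ(V'.left, ⊤) →ₐ[R] Γ(W'.left, ⊤) :=
    { φ.hom with commutes' := fun r => congrArg (fun m : CommRingCat.of R ⟶ Γ(W'.left, ⊤) => m.hom r) hbφ }
  haveI : Module.Flat R Γ(W'.left, ⊤) := by
    have : Flat (Spec.map a) := by rw [Spec.map_preimage]; infer_instance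
    exact (HasRingHomProperty.Spec_iff (P := @Flat)).1 this
  have hbijφ : Function.Bijective φₐ := bijective_appTop_of_bijOver I hI φₐ fun D _ _ hD => by
    let d : R ⧸ I →+* D := Ideal.Quotient.lift I (algebraMap R D) hD
    let T : Over (Spec (CommRingCat.of (R ⧸ I))) := Over.mk (Spec.map (CommRingCat.ofHom d))
    have hd : Spec.map (CommRingCat.ofHom d) ≫ thick I = Spec.map (CommRingCat.ofHom (algebraMap R D)) := by
      rw [← Spec.map_comp]
      congr 1
    have toMap : ∀ (Z : Over (Spec (CommRingCat.of R))) [IsAffine Z.left]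
        (c : CommRingCat.of R ⟶ Γ(Z.left, ⊤)), Spec.map c = Z.left.isoSpec.inv ≫ Z.hom →
        ∀ ψ : Γ(Z.left, ⊤) ⟶ CommRingCat.of D, c ≫ ψ = CommRingCat.ofHom (algebraMap R D) →
        (Spec.map ψ ≫ Z.left.isoSpec.inv) ≫ Z.hom = Spec.map (CommRingCat.ofHom d) ≫ thick I := by
      intro Z _ c hc ψ hψ
      rw [Category.assoc, ← hc, ← Spec.map_comp, hψ, hd]
    refine ⟨fun ψ₁ ψ₂ hψ => ?_, fun χ => ?_⟩
    · let g : ∀ ψ : Γ(W'.left, ⊤) →ₐ[R] D, (Over.map (thick I)).obj T ⟶ W' := fun ψ =>
        Over.homMk (Spec.map (CommRingCat.ofHom ψ.toRingHom) ≫ W'.left.isoSpec.inv)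
          (toMap W' a (Spec.map_preimage _) _ (CommRingCat.hom_ext (RingHom.ext fun r => ψ.commutes r)))
      have hg : ∀ ψ, g ψ ≫ f' =
          Over.homMk (Spec.map (φ ≫ CommRingCat.ofHom ψ.toRingHom) ≫ V'.left.isoSpec.inv)
            (toMap V' b (Spec.map_preimage _) _ (by
              rw [← Category.assoc, hbφ]
              exact CommRingCat.hom_ext (RingHom.ext fun r => ψ.commutes r))) := fun ψ => by
        apply Over.OverMorphism.ext
        show (Spec.map _ ≫ W'.left.isoSpec.inv) ≫ f'.left = _ ≫ V'.left.isoSpec.inv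
        rw [Spec.map_comp, hφ]
        simp
      have h1 : g ψ₁ ≫ f' = g ψ₂ ≫ f' := by
        rw [hg, hg]
        apply Over.OverMorphism.ext
        show Spec.map (φ ≫ _) ≫ _ = Spec.map (φ ≫ _) ≫ _
        congr 2
        exact CommRingCat.hom_ext (congrArg AlgHom.toRingHom hψ)
      have h2 := congrArg CommaMorphism.left ((hb' T).1 h1)
      change Spec.map _ ≫ W'.left.isoSpec.inv = Spec.map _ ≫ W'.left.isoSpec.inv at h2
      exact AlgHom.coe_ringHom_injective (congrArg CommRingCat.Hom.hom (Spec.map_injective ((cancel_mono _).1 h2)))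
    · let gV : (Over.map (thick I)).obj T ⟶ V' :=
        Over.homMk (Spec.map (CommRingCat.ofHom χ.toRingHom) ≫ V'.left.isoSpec.inv)
          (toMap V' b (Spec.map_preimage _) _ (CommRingCat.hom_ext (RingHom.ext fun r => χ.commutes r)))
      obtain ⟨gW, hgW : gW ≫ f' = gV⟩ := (hb' T).2 gV
      let ψ := Spec.preimage (gW.left ≫ W'.left.isoSpec.hom)
      have hψ : Spec.map ψ = gW.left ≫ W'.left.isoSpec.hom := Spec.map_preimage _
      have haψ : a ≫ ψ = CommRingCat.ofHom (algebraMap R D) := Spec.map_injective (by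
        rw [Spec.map_comp, hψ, Spec.map_preimage, Category.assoc, Iso.hom_inv_id_assoc, ← hd]
        exact Over.w gW)
      refine ⟨{ ψ.hom with commutes' := fun r => congrArg (fun m : CommRingCat.of R ⟶ CommRingCat.of D => m.hom r) haψ }, ?_⟩
      apply AlgHom.coe_ringHom_injective
      have h3 : φ ≫ ψ = CommRingCat.ofHom χ.toRingHom := Spec.map_injective (by
        rw [Spec.map_comp, hψ, hφ]
        have := congrArg CommaMorphism.left hgW
        change gW.left ≫ f'.left = Spec.map _ ≫ V'.left.isoSpec.inv at this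
        simp only [Category.assoc, Iso.hom_inv_id_assoc]
        rw [reassoc_of% this, Iso.inv_hom_id, Category.comp_id])
      exact congrArg CommRingCat.Hom.hom h3
  haveI : IsIso φ := (ConcreteCategory.isIso_iff_bijective _).2 hbijφ
  have : f'.left = W'.left.isoSpec.hom ≫ Spec.map φ ≫ V'.left.isoSpec.inv := by rw [hφ]; simp
  show IsIso f'.left
  rw [this]
  infer_instance

end Groth.Agent.H19Grp.NilIso
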