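import Groth.Agent.H19Grp.Translations

/-!
# Orbit maps of transitive actions send generic points to generic points
-/

set_option autoImplicit false
set_option linter.style.haveILetI false
set_option backward.isDefEq.respectTransparency false

universe u v w

open CategoryTheory CategoryTheory.Limits MonoidalCategory CartesianMonoidalCategory MonObj GrpObj
  AlgebraicGeometry TopologicalSpace

namespace Groth.Agent.H19Grp

section Top

variable {α : Type v} [TopologicalSpace α]

/-- A point with no proper generization. -/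
def IsMaxPt (x : α) : Prop := ∀ y, y ⤳ x → x ⤳ y

theorem IsMaxPt.map {β : Type w} [TopologicalSpace β] {f : α → β} (hc : Continuous f) (hg : GeneralizingMap f)
    {x : α} (h : IsMaxPt x) : IsMaxPt (f x) := by
  intro y hy
  obtain ⟨x', hx', rfl⟩ := hg hy
  exact (h x' hx').map hc

theorem exists_isMaxPt [QuasiSober α] [T0Space α] (x : α) : ∃ y, y ⤳ x ∧ IsMaxPt y := by
  obtain ⟨Z, hZ, hxZ⟩ := exists_mem_irreducibleComponents_subset_of_isIrreducible _
    (isIrreducible_singleton (x := x))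
  have hg := hZ.1.isGenericPoint_genericPoint (isClosed_of_mem_irreducibleComponents _ hZ)
  refine ⟨_, hg.specializes (hxZ rfl), fun y hy => ?_⟩
  have hsub : Z ⊆ closure {y} := hg.def.symm.le.trans
    (closure_minimal (Set.singleton_subset_iff.mpr hy.mem_closure) isClosed_closure)
  have : closure {y} ⊆ Z := hZ.2 (isIrreducible_singleton.closure) hsub
  exact hg.specializes (this (subset_closure rfl))

/-- A maximal point with a Noetherian neighbourhood lies in every dense open subset. -/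
theorem IsMaxPt.mem_of_dense [QuasiSober α] {x : α} (hx : IsMaxPt x) {V : Set α} (hV : IsOpen V) (hxV : x ∈ V)
    [NoetherianSpace V] {D : Set α} (hD : IsOpen D) (hd : Dense D) : x ∈ D := by
  haveI : QuasiSober V := hV.isOpenEmbedding_subtypeVal.quasiSober
  let x' : V := ⟨x, hxV⟩
  let B : Set V := ⋃₀ {C ∈ irreducibleComponents V | x' ∉ C}
  have hB : IsClosed B := by
    rw [show B = ⋃ C ∈ {C ∈ irreducibleComponents V | x' ∉ C}, C from Set.sUnion_eq_biUnion]
    exact ((NoetherianSpace.finite_irreducibleComponents (α := V)).subset fun C hC => hC.1).isClosed_biUnion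
      fun C hC => isClosed_of_mem_irreducibleComponents _ hC.1
  have hN : IsOpen (Subtype.val '' Bᶜ : Set α) := hV.isOpenMap_subtype_val _ hB.isOpen_compl
  have hxN : x ∈ (Subtype.val '' Bᶜ : Set α) := ⟨x', fun ⟨C, hC, hxC⟩ => hC.2 hxC, rfl⟩
  obtain ⟨_, ⟨p, hp, rfl⟩, hpD⟩ := hd.inter_open_nonempty _ hN ⟨x, hxN⟩
  obtain ⟨C, hC, hpC⟩ := exists_mem_irreducibleComponents_subset_of_isIrreducible _
    (isIrreducible_singleton (x := p))
  have hxC : x' ∈ C := by
    by_contra h
    exact hp ⟨C, ⟨hC, h⟩, hpC rfl⟩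
  have hg := hC.1.isGenericPoint_genericPoint (isClosed_of_mem_irreducibleComponents _ hC)
  have h1 := hx _ ((hg.specializes hxC).map continuous_subtype_val)
  exact (h1.trans ((hg.specializes (hpC rfl)).map continuous_subtype_val)).mem_open hD hpD

end Top

section Fields

variable {S : Scheme.{u}} {X : Over S}

/-- Maximal points of a geometric fibre map into fibrewise dense opens. -/
theorem isMaxPt_mem_of_dense {Ω : Type u} [Field Ω] (y : Spec (CommRingCat.of Ω) ⟶ S)
    (hft : ∀ s : S, LocallyOfFiniteType (X.hom.fiberToSpecResidueField s))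
    (U : X.left.Opens) (hU : ∀ t, X.hom.base ⁻¹' {y t} ⊆ closure ((U : Set X.left) ∩ X.hom.base ⁻¹' {y t}))
    {em : ↥(pullback X.hom y)} (hem : IsMaxPt em) : pullback.fst X.hom y em ∈ U := by
  obtain ⟨⟨s, φ⟩, rfl⟩ := (Scheme.SpecToEquivOfField Ω S).symm.surjective y
  let ι₀ := S.fromSpecResidueField s
  let e := pullbackLeftPullbackSndIso X.hom ι₀ (Spec.map φ)
  let q : pullback X.hom (Spec.map φ ≫ ι₀) ⟶ X.hom.fiber s :=
    e.inv ≫ pullback.fst (pullback.snd X.hom ι₀) (Spec.map φ)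
  haveI : Flat (Spec.map φ) := inferInstance
  haveI : Flat q := inferInstance
  have hq : q ≫ X.hom.fiberι s = pullback.fst X.hom (Spec.map φ ≫ ι₀) := by
    simp [q, e, Scheme.Hom.fiberι, ι₀]
  haveI := hft s
  haveI : IsLocallyNoetherian (X.hom.fiber s) :=
    LocallyOfFiniteType.isLocallyNoetherian (X.hom.fiberToSpecResidueField s)
  have hmax : IsMaxPt (q em) := hem.map q.continuous (Flat.generalizingMap q)
  obtain ⟨_, ⟨(V : (X.hom.fiber s).Opens), (hV : IsAffineOpen V), rfl⟩, hxV, -⟩ :=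
    (X.hom.fiber s).isBasis_affineOpens.exists_subset_of_mem_open (Set.mem_univ (q em)) isOpen_univ
  haveI : IsAffine (V : Scheme) := hV
  haveI : IsNoetherian (V : Scheme) := {}
  haveI : NoetherianSpace ↥(V : Set ↥(X.hom.fiber s)) := inferInstanceAs (NoetherianSpace ↥(V : Scheme))
  have hd : Dense ((X.hom.fiberι s) ⁻¹' (U : Set X.left)) := by
    intro p
    have hp : (X.hom.fiberι s p) ∈ X.hom.base ⁻¹' {s} := by
      rw [← Scheme.Hom.range_fiberι]; exact ⟨p, rfl⟩
    obtain ⟨t⟩ : Nonempty (Spec (CommRingCat.of Ω)) := inferInstance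
    have ht : (Scheme.SpecToEquivOfField Ω S).symm ⟨s, φ⟩ t = s :=
      (Scheme.Hom.comp_apply _ _ _).trans (S.fromSpecResidueField_apply s _)
    have h2 := hU t (by rw [ht]; exact hp)
    rw [ht] at h2
    rw [(X.hom.fiberι s).isEmbedding.isInducing.closure_eq_preimage_closure_image]
    refine closure_mono ?_ h2
    rintro u ⟨hu1, hu2⟩
    obtain ⟨p', rfl⟩ : u ∈ Set.range (X.hom.fiberι s) := by rw [Scheme.Hom.range_fiberι]; exact hu2
    exact ⟨p', hu1, rfl⟩
  have := hmax.mem_of_dense V.2 hxV (U.2.preimage (X.hom.fiberι s).continuous) hd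
  show pullback.fst X.hom (Spec.map φ ≫ ι₀) em ∈ U
  rw [← hq, Scheme.Hom.comp_apply]
  exact this

end Fields

section Orbit

variable {S : Scheme.{u}} {G X : Over S} [GrpObj G] [LocallyOfFiniteType G.hom]
  {Ω : Type u} [Field Ω] [IsAlgClosed Ω] (y : Spec (CommRingCat.of Ω) ⟶ S)

omit [IsAlgClosed Ω] in
theorem dirGen_group_point (r : ↥(G ⊗ Over.mk y).left) : DirGen r := by
  let GP : Over (Spec (CommRingCat.of Ω)) := (Over.pullback y).obj G
  letI : GrpObj GP := Functor.grpObjObj
  haveI : LocallyOfFiniteType GP.hom := inferInstanceAs (LocallyOfFiniteType (pullback.snd G.hom y))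
  haveI : LocallyOfFiniteType (grpToGrpd GP).s := inferInstanceAs (LocallyOfFiniteType GP.hom)
  haveI : LocallyOfFiniteType (grpToGrpd GP).t := inferInstanceAs (LocallyOfFiniteType GP.hom)
  exact dirGen (grpToGrpd GP) (Iso.refl _) r

/-- Maximal points of the group over a geometric point are permuted transitively by translations,
so orbit maps send maximal points to maximal points. -/
theorem isMaxPt_orbit (a : AlgGrp.Action G X) [Surjective (lift a.act (snd G X)).left]
    (x : Over.mk y ⟶ X) {ξ : ↥(G ⊗ Over.mk y).left} (hξ : IsMaxPt ξ) :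
    IsMaxPt ((lift ((G ◁ x) ≫ a.act) (snd G (Over.mk y))).left ξ) := by
  let P := Over.mk y
  let o : G ⊗ P ⟶ X ⊗ P := lift ((G ◁ x) ≫ a.act) (snd G P)
  have hnonX : Nonempty ↥(X ⊗ P).left :=
    ⟨(lift x (𝟙 P)).left (IsLocalRing.closedPoint Ω)⟩
  obtain ⟨em, -, hem⟩ := exists_isMaxPt (Classical.arbitrary ↥(X ⊗ P).left)
  -- the orbit map is surjective
  obtain ⟨gm, hgm⟩ : ∃ gm, o.left gm = em := by
    obtain ⟨w, hw⟩ := Scheme.Hom.surjective (lift a.act (snd G X)).left ((X ◁ x).left em)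
    obtain ⟨r, -, hr2⟩ := Scheme.Pullback.exists_preimage_pullback (f := (lift a.act (snd G X)).left)
      (g := (X ◁ x).left) w em hw
    let Φ : G ⊗ X ⟶ X ⊗ X := lift a.act (snd G X)
    let R : Over S := Over.mk (pullback.snd Φ.left (X ◁ x).left ≫ (X ⊗ P).hom)
    let rG : R ⟶ G ⊗ X := Over.homMk (pullback.fst Φ.left (X ◁ x).left) (by
      change _ = pullback.snd Φ.left (X ◁ x).left ≫ (X ⊗ P).hom
      rw [← Over.w Φ, pullback.condition_assoc, Over.w (X ◁ x)])
    let rX : R ⟶ X ⊗ P := Over.homMk (pullback.snd Φ.left (X ◁ x).left) rfl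
    have e : rG ≫ Φ = rX ≫ (X ◁ x) := Over.OverMorphism.ext pullback.condition
    have e1 := congrArg (· ≫ fst X X) e
    have e2 := congrArg (· ≫ snd X X) e
    simp only [Φ, Category.assoc, lift_fst, lift_snd, whiskerLeft_fst, whiskerLeft_snd] at e1 e2
    have e3 : lift (rG ≫ fst G X) (rX ≫ snd X P) ≫ o = rX := by
      apply CartesianMonoidalCategory.hom_ext
      · simp only [o, Category.assoc, lift_fst, lift_whiskerLeft_assoc]
        rw [← e2, ← e1, ← comp_lift_assoc, lift_fst_snd, Category.id_comp]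
      · simp [o]
    refine ⟨(lift (rG ≫ fst G X) (rX ≫ snd X P)).left r, ?_⟩
    rw [← Scheme.Hom.comp_apply, ← Over.comp_left, e3]
    exact hr2
  obtain ⟨ξ₀, hξ₀gm, hξ₀⟩ := exists_isMaxPt gm
  have ho₀ : IsMaxPt (o.left ξ₀) := by
    intro z hz
    have h1 : o.left ξ₀ ⤳ em := hgm ▸ hξ₀gm.map o.left.continuous
    exact h1.trans (hem z (hz.trans h1))
  -- translation moving `ξ₀` to `ξ`
  haveI : LocallyOfFiniteType (snd G P).left := inferInstanceAs (LocallyOfFiniteType (pullback.snd G.hom y))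
  haveI : JacobsonSpace ↥P.left := inferInstanceAs (JacobsonSpace (PrimeSpectrum Ω))
  haveI : JacobsonSpace ↥(G ⊗ P).left := LocallyOfFiniteType.jacobsonSpace (snd G P).left
  have hpt : ∀ ζ : ↥(G ⊗ P).left, ∃ p : P ⟶ G, ζ ⤳ (lift p (𝟙 P)).left (IsLocalRing.closedPoint Ω) := by
    intro ζ
    obtain ⟨c, hc, hcc⟩ := nonempty_inter_closedPoints (X := ↥(G ⊗ P).left) (Z := closure {ζ})
      ⟨ζ, subset_closure rfl⟩ isClosed_closure.isLocallyClosed
    let p : P ⟶ G ⊗ P := Over.homMk (pointOfClosedPoint (snd G P).left c hcc) (by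
      rw [← Over.w (snd G P), pointOfClosedPoint_comp_assoc])
    refine ⟨p ≫ fst G P, ?_⟩
    have hp : lift (p ≫ fst G P) (𝟙 P) = p := by
      apply CartesianMonoidalCategory.hom_ext
      · simp
      · rw [lift_snd]; exact (Over.OverMorphism.ext (pointOfClosedPoint_comp _ _ _)).symm
    rw [hp]
    show ζ ⤳ pointOfClosedPoint (snd G P).left c hcc _
    rw [pointOfClosedPoint_apply]
    exact specializes_iff_mem_closure.2 hc
  obtain ⟨a₀, ha₀⟩ := hpt ξ₀
  obtain ⟨b, hb⟩ := hpt ξ
  let L : (P ⟶ G) → (G ⊗ P ⟶ G ⊗ P) := fun h => lift ((snd G P ≫ h) * fst G P) (snd G P)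
  let T : (P ⟶ G) → (X ⊗ P ⟶ X ⊗ P) := fun h =>
    lift (H18Torsor.smul a (snd X P ≫ h) (fst X P)) (snd X P)
  have hLL : ∀ h, L h ≫ L h⁻¹ = 𝟙 _ := fun h => by
    apply CartesianMonoidalCategory.hom_ext
    · simp [L, MonObj.comp_mul, GrpObj.comp_inv]
    · simp [L]
  have hTT : ∀ h, T h ≫ T h⁻¹ = 𝟙 _ := fun h => by
    apply CartesianMonoidalCategory.hom_ext
    · simp only [T, Category.assoc, lift_fst, H18Torsor.comp_smul, lift_snd_assoc, Category.id_comp]
      rw [← H18Torsor.mul_smul_pt, ← MonObj.comp_mul, inv_mul_cancel, MonObj.comp_one, H18Torsor.one_smul_pt]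
    · simp [T]
  let h := b * a₀⁻¹
  let LI : G ⊗ P ≅ G ⊗ P := ⟨L h, L h⁻¹, hLL h, by simpa using hLL h⁻¹⟩
  let TI : X ⊗ P ≅ X ⊗ P := ⟨T h, T h⁻¹, hTT h, by simpa using hTT h⁻¹⟩
  have hLo : L h ≫ o = o ≫ T h := by
    apply CartesianMonoidalCategory.hom_ext
    · simp only [o, L, T, Category.assoc, lift_fst, H18Torsor.comp_smul, lift_snd_assoc, lift_whiskerLeft_assoc]
      show H18Torsor.smul a ((snd G P ≫ h) * fst G P) (snd G P ≫ x) = H18Torsor.smul a (snd G P ≫ h) ((G ◁ x) ≫ a.act)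
      rw [H18Torsor.mul_smul_pt]
      congr 1
    · simp [o, L, T]
  let LH := ((Over.forget S).mapIso LI).hom.homeomorph
  let TH := ((Over.forget S).mapIso TI).hom.homeomorph
  have hL0 : IsMaxPt ((L h).left ξ₀) :=
    hξ₀.map LH.continuous fun z w hw => ⟨LH.symm w, by simpa using hw.map LH.symm.continuous, LH.apply_symm_apply w⟩
  have hLb : (L h).left ξ₀ ⤳ (lift b (𝟙 P)).left (IsLocalRing.closedPoint Ω) := by
    have h1 := ha₀.map (L h).left.continuous
    have h2 : lift a₀ (𝟙 P) ≫ L h = lift b (𝟙 P) := by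
      simp [L, h, MonObj.comp_mul]
    rwa [← Scheme.Hom.comp_apply, ← Over.comp_left, h2] at h1
  obtain ⟨c, hc1, hc2⟩ := dirGen_group_point y _ _ _ hb hLb
  have heq : ξ = (L h).left ξ₀ :=
    (((hξ c hc1).antisymm hc1).trans ((hL0 c hc2).antisymm hc2).symm).eq
  have hfin : IsMaxPt ((T h).left (o.left ξ₀)) :=
    ho₀.map TH.continuous fun z w hw => ⟨TH.symm w, by simpa using hw.map TH.symm.continuous, TH.apply_symm_apply w⟩
  rw [heq, ← Scheme.Hom.comp_apply, ← Over.comp_left]
  show IsMaxPt ((L h ≫ o).left ξ₀)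
  rw [hLo]
  exact hfin

end Orbit

end Groth.Agent.H19Grp
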