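import Groth.Agent.H19Grp.OrbitUnique
import Groth.Agent.H19Grp.NeutralOrbit
import Groth.Prelude.Def_ActBC
import Groth.Prelude.Def_AutSch

/-!
# Connected homogeneous spaces are irreducible
-/

set_option autoImplicit false
set_option linter.style.haveILetI false
set_option backward.isDefEq.respectTransparency false

universe u

open CategoryTheory CategoryTheory.Limits MonoidalCategory CartesianMonoidalCategory MonObj GrpObj
  AlgebraicGeometry TopologicalSpace

namespace Groth.Agent.H19Grp

section field

variable {K : Type u} [Field K]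

theorem flat_to_spec_field {L : Type u} [Field L] (f : Spec (CommRingCat.of L) ⟶ Spec (CommRingCat.of K)) :
    Flat f :=
  H12AlgSp.flat_to_field f

variable {G X : Over (Spec (CommRingCat.of K))} [GrpObj G] [LocallyOfFiniteType G.hom]
  (a : AlgGrp.Action G X) [Surjective (lift a.act (snd G X)).left]

include a in
theorem dirGen_action (w : X.left) : DirGen w := by
  let Ω := AlgebraicClosure (X.left.residueField w)
  let f₀ : Spec (CommRingCat.of Ω) ⟶ X.left :=
    Spec.map (CommRingCat.ofHom (algebraMap (X.left.residueField w) Ω)) ≫ X.left.fromSpecResidueField w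
  let y : Spec (CommRingCat.of Ω) ⟶ Spec (CommRingCat.of K) := f₀ ≫ X.hom
  let v : Over.mk y ⟶ X := Over.homMk f₀ rfl
  haveI : Flat y := flat_to_spec_field y
  haveI : Flat (fst X (Over.mk y)).left := MorphismProperty.pullback_fst X.hom y inferInstance
  have h := (dirGen_action_point a y v).image_flat (fst X (Over.mk y)).left
  rw [← Scheme.Hom.comp_apply, ← Over.comp_left, lift_fst] at h
  have hv : v.left (IsLocalRing.closedPoint Ω) = w :=
    (Scheme.Hom.comp_apply _ _ _).trans (X.left.fromSpecResidueField_apply w _)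
  rwa [hv] at h

variable {Ω : Type u} [Field Ω] [IsAlgClosed Ω] (y : Spec (CommRingCat.of Ω) ⟶ Spec (CommRingCat.of K))

omit [IsAlgClosed Ω] in
theorem ept_bc : ratImage (G := G) y 1 = ept (Red.bc y G) := by
  have h : (lift (1 : Over.mk y ⟶ G) (𝟙 (Over.mk y))).left = η[Red.bc y G].left := by
    apply pullback.hom_ext
    · erw [bc_one]
      show (lift (1 : Over.mk y ⟶ G) (𝟙 (Over.mk y))).left ≫ (fst G (Over.mk y)).left = _
      rw [← Over.comp_left, lift_fst, Hom.one_def, Over.comp_left]
      rfl
    · refine Eq.trans ?_ (Over.w η[Red.bc y G]).symm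
      show (lift (1 : Over.mk y ⟶ G) (𝟙 (Over.mk y))).left ≫ (snd G (Over.mk y)).left = _
      rw [← Over.comp_left, lift_snd]
      rfl
  exact congrArg (fun m : Spec (CommRingCat.of Ω) ⟶ (G ⊗ Over.mk y).left =>
    m (IsLocalRing.closedPoint Ω)) h

omit [IsAlgClosed Ω] in
/-- The maximal point over the component of the unit. -/
theorem exists_component_point :
    ∃ ξ : ↥(G ⊗ Over.mk y).left, IsMaxPt ξ ∧ ξ ⤳ ratImage y 1 ∧
      (fst G (Over.mk y)).left ξ ∈ SGA3x.neutralSet G ∧
      ∀ r : ↥(G ⊗ Over.mk y).left, (fst G (Over.mk y)).left r ∈ SGA3x.neutralSet G → ξ ⤳ r := by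
  let GP := Red.bc y G
  haveI : LocallyOfFiniteType GP.hom := inferInstanceAs (LocallyOfFiniteType (pullback.snd G.hom y))
  have hd := dirGen (grpToGrpd GP) (Iso.refl _)
  have hC : connectedComponent (ept GP) = irreducibleComponent (ept GP) :=
    connectedComponent_eq_irreducibleComponent (grpToGrpd GP) (Iso.refl _) _
  have hpre : ∀ r : ↥(G ⊗ Over.mk y).left, (fst G (Over.mk y)).left r ∈ SGA3x.neutralSet G ↔
      r ∈ irreducibleComponent (ept GP) := fun r => by
    rw [← hC, ← preimage_neutralSet_field G y]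
    exact Iff.rfl
  refine ⟨zeta (ept GP), ?_, ?_, ?_, fun r hr => ?_⟩
  · intro p hp
    rw [eq_zeta_of_specializes hd hp]
  · rw [ept_bc]; exact zeta_specializes _
  · exact (hpre _).2 (isGenericPoint_zeta (ept GP)).mem
  · exact (isGenericPoint_zeta (ept GP)).specializes ((hpre r).1 hr)

theorem isMaxPt_zeta {α : Type u} [TopologicalSpace α] [QuasiSober α] [T0Space α]
    (hd : ∀ x : α, DirGen x) (x : α) : IsMaxPt (zeta x) :=
  fun p hp => by rw [eq_zeta_of_specializes hd hp]

/-- The maximal generization of a point is the orbit of the maximal point of the component. -/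
theorem zeta_eq_orbit (v : Over.mk y ⟶ X) {ξ : ↥(G ⊗ Over.mk y).left} (hξ : IsMaxPt ξ)
    (hξe : ξ ⤳ ratImage y 1) :
    zeta (v.left (IsLocalRing.closedPoint Ω)) = ((G ◁ v) ≫ a.act).left ξ := by
  haveI : Flat y := flat_to_spec_field y
  haveI : Flat (fst X (Over.mk y)).left := MorphismProperty.pullback_fst X.hom y inferInstance
  have hd : ∀ x : X.left, DirGen x := dirGen_action a
  have hmax : IsMaxPt (((G ◁ v) ≫ a.act).left ξ) := by
    have := (isMaxPt_orbit y a v hξ).map (fst X (Over.mk y)).left.continuous (Flat.generalizingMap _)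
    rwa [← Scheme.Hom.comp_apply, ← Over.comp_left, lift_fst] at this
  have hv : ((G ◁ v) ≫ a.act).left (ratImage y 1) = v.left (IsLocalRing.closedPoint Ω) := by
    rw [← Scheme.Hom.comp_apply, ← Over.comp_left, ← Category.assoc, lift_whiskerLeft, Category.id_comp]
    exact congrArg (fun m : Over.mk y ⟶ X => m.left (IsLocalRing.closedPoint Ω))
      (one_smulPt a v)
  have hsp : ((G ◁ v) ≫ a.act).left ξ ⤳ v.left (IsLocalRing.closedPoint Ω) :=
    hv ▸ hξe.map ((G ◁ v) ≫ a.act).left.continuous
  rw [← zeta_eq_of_specializes hd hsp]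
  exact (eq_zeta_of_specializes hd (hmax _ (zeta_specializes _))).symm

omit [IsAlgClosed Ω] in
theorem exists_point_over {Y : Over (Spec (CommRingCat.of K))} (z : Y.left) :
    ∃ (L : Type u) (_ : Field L) (_ : IsAlgClosed L) (y : Spec (CommRingCat.of L) ⟶ Spec (CommRingCat.of K))
      (p : Over.mk y ⟶ Y), p.left (IsLocalRing.closedPoint L) = z := by
  let L := AlgebraicClosure (Y.left.residueField z)
  let f₀ : Spec (CommRingCat.of L) ⟶ Y.left :=
    Spec.map (CommRingCat.ofHom (algebraMap (Y.left.residueField z) L)) ≫ Y.left.fromSpecResidueField z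
  exact ⟨L, inferInstance, inferInstance, f₀ ≫ Y.hom, Over.homMk f₀ rfl,
    (Scheme.Hom.comp_apply _ _ _).trans (Y.left.fromSpecResidueField_apply z _)⟩

/-- The points whose maximal generization lies in an open are the orbit of the open. -/
theorem sat_eq_neutralOrbit (V : X.left.Opens) :
    sat (V : Set X.left) = neutralOrbit a V := by
  have hd : ∀ x : X.left, DirGen x := dirGen_action a
  ext w
  constructor
  · intro hw
    obtain ⟨L, _, _, y, v, rfl⟩ := exists_point_over w
    obtain ⟨ξ, hξ, hξe, hξN, -⟩ := exists_component_point (G := G) y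
    rw [neutralOrbit_eq]
    refine ⟨(G ◁ v).left ξ, ⟨?_, ?_⟩, ?_⟩
    · show (fst G X).left ((G ◁ v).left ξ) ∈ SGA3x.neutralSet G
      rw [← Scheme.Hom.comp_apply, ← Over.comp_left, whiskerLeft_fst]
      exact hξN
    · show a.act.left ((G ◁ v).left ξ) ∈ V
      have hz := zeta_eq_orbit a y v hξ hξe
      rw [Over.comp_left, Scheme.Hom.comp_apply] at hz
      rw [← hz]
      exact hw
    · rw [← Scheme.Hom.comp_apply, ← Over.comp_left, whiskerLeft_snd, Over.comp_left, Scheme.Hom.comp_apply]
      exact congrArg v.left (@Subsingleton.elim (PrimeSpectrum L) inferInstance _ _)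
  · rintro ⟨z, ⟨hz1, hz2⟩, rfl⟩
    obtain ⟨L, _, _, y, p, rfl⟩ := exists_point_over (Y := G ⊗ X) z
    obtain ⟨ξ, hξ, hξe, -, hξr⟩ := exists_component_point (G := G) y
    let g : Over.mk y ⟶ G := p ≫ fst G X
    let v : Over.mk y ⟶ X := p ≫ snd G X
    have hg : ξ ⤳ ratImage y g := hξr _ (by
      rw [← Scheme.Hom.comp_apply, ← Over.comp_left, lift_fst, Over.comp_left, Scheme.Hom.comp_apply]
      exact hz1)
    have h1 : ((G ◁ v) ≫ a.act).left (ratImage y g) = a.act.left (p.left (IsLocalRing.closedPoint L)) := by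
      rw [← Scheme.Hom.comp_apply, ← Over.comp_left, ← Category.assoc, lift_whiskerLeft, Category.id_comp]
      simp only [g, v]
      rw [← comp_lift, lift_fst_snd, Category.comp_id, Over.comp_left, Scheme.Hom.comp_apply]
    have h2 : zeta (a.act.left (p.left (IsLocalRing.closedPoint L))) =
        zeta (v.left (IsLocalRing.closedPoint L)) := by
      rw [zeta_eq_orbit a y v hξ hξe, ← h1,
        ← zeta_eq_of_specializes hd (hg.map ((G ◁ v) ≫ a.act).left.continuous)]
      rw [← zeta_eq_orbit a y v hξ hξe, zeta_zeta hd]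
    show zeta _ ∈ V
    rw [h2]
    refine (zeta_specializes _).mem_open V.2 ?_
    show (p ≫ snd G X).left (IsLocalRing.closedPoint L) ∈ V
    rw [Over.comp_left, Scheme.Hom.comp_apply]
    exact hz2

include a in
/-- A connected homogeneous space is irreducible. -/
theorem isPreirreducible_of_connected_homogeneous [QuasiSeparatedSpace X.left]
    [PreconnectedSpace X.left] : IsPreirreducible (Set.univ : Set X.left) := by
  classical
  have hd : ∀ x : X.left, DirGen x := dirGen_action a
  have hN : SGA3x.neutralSet G = connectedComponent (ept G) :=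
    AutSch.neutralSet_eq_connectedComponent G
  haveI : LocallyOfFinitePresentation G.hom := inferInstance
  haveI : Flat G.hom := inferInstance
  have key : ∀ V : X.left.Opens, IsCompact (V : Set X.left) → (V : Set X.left).Nonempty →
      ∀ x, zeta x ∈ V := by
    intro V hV hne x
    let C : G.left.Opens := ⟨SGA3x.neutralSet G, hN ▸ isOpen_component G⟩
    haveI : CompactSpace C.toScheme :=
      isCompact_iff_compactSpace.mp (show IsCompact (SGA3x.neutralSet G) from hN ▸ isCompact_component_ept G)
    haveI : CompactSpace V.toScheme := isCompact_iff_compactSpace.mp hV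
    haveI : QuasiCompact (C.ι ≫ G.hom) := quasiCompact_of_compactSpace _
    haveI : CompactSpace ↥(pullback (C.ι ≫ G.hom) (V.ι ≫ X.hom)) :=
      QuasiCompact.compactSpace_of_compactSpace (pullback.snd (C.ι ≫ G.hom) (V.ι ≫ X.hom))
    let q : pullback (C.ι ≫ G.hom) (V.ι ≫ X.hom) ⟶ (G ⊗ X).left :=
      pullback.map _ _ G.hom X.hom C.ι V.ι (𝟙 _) (Category.comp_id _) (Category.comp_id _)
    have hq : Set.range q = {z : ↥(G ⊗ X).left | (fst G X).left z ∈ SGA3x.neutralSet G ∧ (snd G X).left z ∈ V} := by
      dsimp only [q]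
      erw [Scheme.Pullback.range_map]
      rw [C.range_ι, V.range_ι]
      rfl
    have hc : IsCompact (neutralOrbit a V) := by
      show IsCompact (a.act.left '' _)
      rw [← hq, ← Set.image_univ, ← Set.image_comp]
      exact isCompact_univ.image (a.act.left.continuous.comp q.continuous)
    have ho : IsOpen (neutralOrbit a V) := by
      haveI : UniversallyOpen a.act.left := act_left_of a @UniversallyOpen inferInstance
      refine a.act.left.isOpenMap _ ?_
      rw [← hq]
      haveI : IsOpenImmersion q := inferInstance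
      exact q.isOpenEmbedding.isOpen_range
    rw [← sat_eq_neutralOrbit a V] at hc ho
    have hcl : IsClosed (sat (V : Set X.left)) :=
      isClosed_of_isCompact_of_stableUnderSpecialization ⟨_, ho⟩ hc fun p q hpq hp =>
        show zeta q ∈ V from zeta_eq_of_specializes hd hpq ▸ hp
    have huniv : sat (V : Set X.left) = Set.univ := by
      obtain ⟨p, hp⟩ := hne
      exact IsClopen.eq_univ ⟨hcl, ho⟩ ⟨p, (zeta_specializes p).mem_open V.2 hp⟩
    exact huniv.ge (Set.mem_univ x)
  rintro U V hU hV ⟨p, -, hp⟩ ⟨q, -, hq⟩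
  obtain ⟨U', hU', hpU', hUU'⟩ := exists_isAffineOpen_mem_and_subset (X := X.left) (x := p) (U := ⟨U, hU⟩) hp
  refine ⟨zeta q, trivial, hUU' (key U' hU'.isCompact ⟨p, hpU'⟩ q), ?_⟩
  exact (zeta_specializes q).mem_open hV hq

end field

end Groth.Agent.H19Grp
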