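import Groth.Agent.H19Grp.OrbitGeneric
import Groth.Agent.H19Grp.Components

/-!
# Transitive actions: every point of a fibre has a unique maximal generization
-/

set_option autoImplicit false
set_option linter.style.haveILetI false
set_option backward.isDefEq.respectTransparency false

universe u

open CategoryTheory CategoryTheory.Limits MonoidalCategory CartesianMonoidalCategory MonObj GrpObj
  AlgebraicGeometry TopologicalSpace

namespace Groth.Agent.H19Grp

variable {S : Scheme.{u}} {G X : Over S} [GrpObj G] (a : AlgGrp.Action G X)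

section maps

variable {P : Over S}

/-- Left translation by a point. -/
noncomputable abbrev transL (h : P ⟶ G) : G ⊗ P ⟶ G ⊗ P :=
  lift ((snd G P ≫ h) * fst G P) (snd G P)

/-- Right translation by a point. -/
noncomputable abbrev transR (h : P ⟶ G) : G ⊗ P ⟶ G ⊗ P :=
  lift (fst G P * (snd G P ≫ h)) (snd G P)

/-- Translation of X by a point. -/
noncomputable abbrev transX (h : P ⟶ G) : X ⊗ P ⟶ X ⊗ P :=
  lift (H18Torsor.smul a (snd X P ≫ h) (fst X P)) (snd X P)

/-- The orbit map of a point. -/
noncomputable abbrev orbitMap (v : P ⟶ X) : G ⊗ P ⟶ X ⊗ P :=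
  lift ((G ◁ v) ≫ a.act) (snd G P)

theorem isIso_transL (h : P ⟶ G) : IsIso (transL h).left := by
  have key : ∀ k : P ⟶ G, transL k ≫ transL k⁻¹ = 𝟙 _ := fun k => by
    apply CartesianMonoidalCategory.hom_ext
    · simp [transL, MonObj.comp_mul, GrpObj.comp_inv]
    · simp [transL]
  haveI : IsIso (transL h) := ⟨transL h⁻¹, key h, by simpa using key h⁻¹⟩
  exact ((Over.forget S).mapIso (asIso (transL h))).isIso_hom

theorem isIso_transR (h : P ⟶ G) : IsIso (transR h).left := by
  have key : ∀ k : P ⟶ G, transR k ≫ transR k⁻¹ = 𝟙 _ := fun k => by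
    apply CartesianMonoidalCategory.hom_ext
    · simp [transR, MonObj.comp_mul, GrpObj.comp_inv]
    · simp [transR]
  haveI : IsIso (transR h) := ⟨transR h⁻¹, key h, by simpa using key h⁻¹⟩
  exact ((Over.forget S).mapIso (asIso (transR h))).isIso_hom

theorem lift_transL (h c : P ⟶ G) : lift c (𝟙 P) ≫ transL h = lift (h * c) (𝟙 P) := by
  simp [transL, MonObj.comp_mul]

theorem lift_transR (h c : P ⟶ G) : lift c (𝟙 P) ≫ transR h = lift (c * h) (𝟙 P) := by
  simp [transR, MonObj.comp_mul]

theorem transL_orbitMap (h : P ⟶ G) (v : P ⟶ X) :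
    transL h ≫ orbitMap a v = orbitMap a v ≫ transX a h := by
  apply CartesianMonoidalCategory.hom_ext
  · simp only [orbitMap, transL, transX, Category.assoc, lift_fst, H18Torsor.comp_smul, lift_snd_assoc,
      lift_whiskerLeft_assoc]
    show H18Torsor.smul a ((snd G P ≫ h) * fst G P) (snd G P ≫ v) =
      H18Torsor.smul a (snd G P ≫ h) ((G ◁ v) ≫ a.act)
    rw [H18Torsor.mul_smul_pt]
    congr 1
  · simp [orbitMap, transL, transX]

theorem lift_transX (c : P ⟶ G) (v : P ⟶ X) :
    lift v (𝟙 P) ≫ transX a c = lift c (𝟙 P) ≫ orbitMap a v := by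
  apply CartesianMonoidalCategory.hom_ext
  · simp only [orbitMap, transX, Category.assoc, lift_fst, H18Torsor.comp_smul, lift_snd_assoc,
      lift_whiskerLeft_assoc, Category.id_comp]
    rfl
  · simp [orbitMap, transX]

end maps

theorem IsMaxPt.isoImage {X Y : Scheme.{u}} (f : X ⟶ Y) [IsIso f] {x : X} (h : IsMaxPt x) :
    IsMaxPt (f x) :=
  h.map f.continuous (Flat.generalizingMap f)

section point

variable [LocallyOfFiniteType G.hom] {Ω : Type u} [Field Ω] [IsAlgClosed Ω]
  (y : Spec (CommRingCat.of Ω) ⟶ S)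

/-- The point of the product given by a point of G over the geometric point. -/
noncomputable abbrev ratImage (p : Over.mk y ⟶ G) : ↥(G ⊗ Over.mk y).left :=
  (lift p (𝟙 (Over.mk y))).left (IsLocalRing.closedPoint Ω)

theorem exists_ratImage (c : ↥(G ⊗ Over.mk y).left) (hc : IsClosed ({c} : Set ↥(G ⊗ Over.mk y).left)) :
    ∃ p, ratImage y p = c := by
  haveI : LocallyOfFiniteType (snd G (Over.mk y)).left :=
    inferInstanceAs (LocallyOfFiniteType (pullback.snd G.hom y))
  let p : Over.mk y ⟶ G ⊗ Over.mk y := Over.homMk (pointOfClosedPoint (snd G (Over.mk y)).left c hc) (by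
    rw [← Over.w (snd G (Over.mk y)), pointOfClosedPoint_comp_assoc])
  refine ⟨p ≫ fst G (Over.mk y), ?_⟩
  have hp : lift (p ≫ fst G (Over.mk y)) (𝟙 (Over.mk y)) = p := by
    apply CartesianMonoidalCategory.hom_ext
    · simp
    · rw [lift_snd]; exact (Over.OverMorphism.ext (pointOfClosedPoint_comp _ _ _)).symm
  show (lift (p ≫ fst G (Over.mk y)) (𝟙 (Over.mk y))).left (IsLocalRing.closedPoint Ω) = c
  rw [hp]
  exact pointOfClosedPoint_apply (snd G (Over.mk y)).left c hc _

theorem jacobson_group_point : JacobsonSpace ↥(G ⊗ Over.mk y).left :=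
  haveI : LocallyOfFiniteType (snd G (Over.mk y)).left :=
    inferInstanceAs (LocallyOfFiniteType (pullback.snd G.hom y))
  haveI : JacobsonSpace ↥(Over.mk y).left := inferInstanceAs (JacobsonSpace (PrimeSpectrum Ω))
  LocallyOfFiniteType.jacobsonSpace (snd G (Over.mk y)).left

omit [IsAlgClosed Ω] in
theorem eq_of_isMaxPt_of_specializes {ξ ξ' r : ↥(G ⊗ Over.mk y).left} (h : IsMaxPt ξ) (h' : IsMaxPt ξ')
    (hr : ξ ⤳ r) (hr' : ξ' ⤳ r) : ξ = ξ' := by
  obtain ⟨c, hc1, hc2⟩ := dirGen_group_point y r _ _ hr hr'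
  exact (((h c hc1).antisymm hc1).trans ((h' c hc2).antisymm hc2).symm).eq

/-- The maximal generization of a point of a transitive action is unique. -/
theorem eq_orbit_of_isMaxPt [Surjective (lift a.act (snd G X)).left] (v : Over.mk y ⟶ X)
    {ξ : ↥(G ⊗ Over.mk y).left} (hξ : IsMaxPt ξ) (hξe : ξ ⤳ ratImage y 1)
    {em : ↥(X ⊗ Over.mk y).left} (hem : IsMaxPt em)
    (hemv : em ⤳ (lift v (𝟙 (Over.mk y))).left (IsLocalRing.closedPoint Ω)) :
    em = (orbitMap a v).left ξ := by
  haveI := jacobson_group_point (G := G) y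
  -- surjectivity of the orbit map
  obtain ⟨gm, hgm⟩ : ∃ gm, (orbitMap a v).left gm = em := by
    let P := Over.mk y
    obtain ⟨w, hw⟩ := Scheme.Hom.surjective (lift a.act (snd G X)).left ((X ◁ v).left em)
    obtain ⟨r, -, hr2⟩ := Scheme.Pullback.exists_preimage_pullback (f := (lift a.act (snd G X)).left)
      (g := (X ◁ v).left) w em hw
    let Φ : G ⊗ X ⟶ X ⊗ X := lift a.act (snd G X)
    let R : Over S := Over.mk (pullback.snd Φ.left (X ◁ v).left ≫ (X ⊗ P).hom)
    let rG : R ⟶ G ⊗ X := Over.homMk (pullback.fst Φ.left (X ◁ v).left) (by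
      change _ = pullback.snd Φ.left (X ◁ v).left ≫ (X ⊗ P).hom
      rw [← Over.w Φ, pullback.condition_assoc, Over.w (X ◁ v)])
    let rX : R ⟶ X ⊗ P := Over.homMk (pullback.snd Φ.left (X ◁ v).left) rfl
    have e : rG ≫ Φ = rX ≫ (X ◁ v) := Over.OverMorphism.ext pullback.condition
    have e1 := congrArg (· ≫ fst X X) e
    have e2 := congrArg (· ≫ snd X X) e
    simp only [Φ, Category.assoc, lift_fst, lift_snd, whiskerLeft_fst, whiskerLeft_snd] at e1 e2
    have e3 : lift (rG ≫ fst G X) (rX ≫ snd X P) ≫ orbitMap a v = rX := by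
      apply CartesianMonoidalCategory.hom_ext
      · simp only [orbitMap, Category.assoc, lift_fst, lift_whiskerLeft_assoc]
        rw [← e2, ← e1, ← comp_lift_assoc, lift_fst_snd, Category.id_comp]
      · simp [orbitMap]
    refine ⟨(lift (rG ≫ fst G X) (rX ≫ snd X P)).left r, ?_⟩
    rw [← Scheme.Hom.comp_apply, ← Over.comp_left, e3]
    exact hr2
  obtain ⟨ξ', hξ'gm, hξ'⟩ := exists_isMaxPt gm
  have hemeq : (orbitMap a v).left ξ' = em := by
    have h1 : (orbitMap a v).left ξ' ⤳ em := hgm ▸ hξ'gm.map (orbitMap a v).left.continuous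
    exact (h1.antisymm (hem _ h1)).eq
  obtain ⟨c₀, hc₀, hc₀c⟩ := nonempty_inter_closedPoints (X := ↥(G ⊗ Over.mk y).left) (Z := closure {ξ'})
    ⟨ξ', subset_closure rfl⟩ isClosed_closure.isLocallyClosed
  obtain ⟨b, rfl⟩ := exists_ratImage (G := G) y c₀ hc₀c
  have hξ'b : ξ' ⤳ ratImage y b := specializes_iff_mem_closure.2 hc₀
  -- the maximal point is fixed by translations of the component of the unit
  have hfix : ∀ c : Over.mk y ⟶ G, ξ ⤳ ratImage y c → (transX a c).left em = em := by
    intro c hc
    haveI := isIso_transR b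
    haveI := isIso_transL c
    have h1 : (transR b).left ξ ⤳ ratImage y b := by
      have := hξe.map (transR b).left.continuous
      rwa [← Scheme.Hom.comp_apply, ← Over.comp_left, lift_transR, _root_.one_mul] at this
    have hRξ : (transR b).left ξ = ξ' :=
      eq_of_isMaxPt_of_specializes y (hξ.isoImage _) hξ' h1 hξ'b
    have h2 : (transR b).left ξ ⤳ ratImage y (c * b) := by
      have := hc.map (transR b).left.continuous
      rwa [← Scheme.Hom.comp_apply, ← Over.comp_left, lift_transR] at this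
    have h3 : (transL c).left ξ' ⤳ ratImage y (c * b) := by
      have := hξ'b.map (transL c).left.continuous
      rwa [← Scheme.Hom.comp_apply, ← Over.comp_left, lift_transL] at this
    have hLξ : (transL c).left ξ' = ξ' :=
      (eq_of_isMaxPt_of_specializes y (hξ'.isoImage _) (hξ.isoImage _) h3 h2).trans hRξ
    rw [← hemeq, ← Scheme.Hom.comp_apply, ← Over.comp_left, ← transL_orbitMap, Over.comp_left,
      Scheme.Hom.comp_apply, hLξ]
  -- so its closure contains the orbit of the component
  have hclosed : closure {ξ} ∩ closedPoints ↥(G ⊗ Over.mk y).left ⊆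
      (orbitMap a v).left ⁻¹' closure {em} := by
    rintro p ⟨hp1, hp2⟩
    obtain ⟨c, rfl⟩ := exists_ratImage (G := G) y p hp2
    have hc : ξ ⤳ ratImage y c := specializes_iff_mem_closure.2 hp1
    have h := hemv.map (transX a c).left.continuous
    rw [hfix c hc, ← Scheme.Hom.comp_apply, ← Over.comp_left, lift_transX] at h
    exact h.mem_closure
  have hξem : em ⤳ (orbitMap a v).left ξ := by
    rw [specializes_iff_mem_closure]
    have h1 : closure (closure {ξ} ∩ closedPoints ↥(G ⊗ Over.mk y).left) = closure {ξ} :=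
      closure_inter_closedPoints isClosed_closure
    have h2 := closure_minimal hclosed
      (isClosed_closure.preimage (orbitMap a v).left.continuous)
    rw [h1] at h2
    exact h2 (subset_closure rfl)
  exact ((hξem.antisymm (isMaxPt_orbit y a v hξ _ hξem))).eq

/-- Generizations of a point of a transitive action over an algebraically closed field are
directed. -/
theorem dirGen_action_point [Surjective (lift a.act (snd G X)).left] (v : Over.mk y ⟶ X) :
    DirGen ((lift v (𝟙 (Over.mk y))).left (IsLocalRing.closedPoint Ω)) := by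
  intro p q hp hq
  obtain ⟨ξ, hξe, hξ⟩ := exists_isMaxPt (ratImage (G := G) y 1)
  obtain ⟨p', hp', hp'm⟩ := exists_isMaxPt p
  obtain ⟨q', hq', hq'm⟩ := exists_isMaxPt q
  rw [eq_orbit_of_isMaxPt a y v hξ hξe hp'm (hp'.trans hp)] at hp'
  rw [eq_orbit_of_isMaxPt a y v hξ hξe hq'm (hq'.trans hq)] at hq'
  exact ⟨_, hp', hq'⟩

end point

end Groth.Agent.H19Grp
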