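import Mathlib

/-!
# Coefficient ideals in projective algebras, and jointly faithfully flat families
-/

set_option autoImplicit false
set_option linter.style.haveILetI false

universe u v

open TensorProduct

namespace Groth.Agent.H19Grp

variable {A B : Type u} [CommRing A] [CommRing B] [Algebra A B]

/-- The ideal of coefficients of a set of elements of an algebra. -/
def coeffIdeal (A : Type u) [CommRing A] [Algebra A B] (s : Set B) : Ideal A :=
  Ideal.span {a | ∃ x ∈ s, ∃ l : B →ₗ[A] A, l x = a}

lemma mem_map_coeffIdeal [Module.Projective A B] {s : Set B} {x : B} (hx : x ∈ s) :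
    x ∈ (coeffIdeal A s).map (algebraMap A B) := by
  obtain ⟨c, hc⟩ := (Module.projective_def'.mp (inferInstance : Module.Projective A B))
  have h : Finsupp.linearCombination A (id : B → B) (c x) = x := LinearMap.congr_fun hc x
  rw [← h, Finsupp.linearCombination_apply]
  refine Ideal.sum_mem _ fun b _ => ?_
  dsimp only [id]
  rw [Algebra.smul_def]
  exact Ideal.mul_mem_right _ _ (Ideal.mem_map_of_mem _
    (Ideal.subset_span ⟨x, hx, (Finsupp.lapply b).comp c, rfl⟩))

lemma coeffIdeal_le_iff {s : Set B} (C : Type u) [CommRing C] [Algebra A C] [Module.Projective A B] :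
    coeffIdeal A s ≤ RingHom.ker (algebraMap A C) ↔ ∀ x ∈ s, (x ⊗ₜ[A] (1 : C)) = 0 := by
  constructor
  · intro h x hx
    have h1 := Ideal.map_mono (f := algebraMap A B) h (mem_map_coeffIdeal hx)
    refine (Ideal.map_le_iff_le_comap.mpr ?_ h1 :
      x ∈ RingHom.ker (Algebra.TensorProduct.includeLeft : B →ₐ[A] B ⊗[A] C))
    intro a ha
    show (algebraMap A B a) ⊗ₜ[A] (1 : C) = 0
    rw [Algebra.algebraMap_eq_smul_one, TensorProduct.smul_tmul, ← Algebra.algebraMap_eq_smul_one,
      RingHom.mem_ker.mp ha, tmul_zero]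
  · intro h
    rw [coeffIdeal, Ideal.span_le]
    rintro _ ⟨x, hx, l, rfl⟩
    have h2 := congrArg ((TensorProduct.lid A C).toLinearMap ∘ₗ l.rTensor C) (h x hx)
    simpa [Algebra.smul_def, RingHom.mem_ker] using h2

lemma coeffIdeal_span [Module.Projective A B] (s : Set B) :
    coeffIdeal A (Ideal.span s : Set B) = coeffIdeal A s := by
  refine le_antisymm ?_ (Ideal.span_mono fun a ⟨x, hx, h⟩ => ⟨x, Ideal.subset_span hx, h⟩)
  rw [coeffIdeal, Ideal.span_le]
  rintro _ ⟨x, hx, l, rfl⟩
  have h1 : x ∈ (coeffIdeal A s).map (algebraMap A B) :=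
    Ideal.span_le.mpr (fun y hy => mem_map_coeffIdeal hy) hx
  rw [← Submodule.restrictScalars_mem A, ← Ideal.smul_top_eq_map] at h1
  refine Submodule.smul_induction_on (p := fun y => l y ∈ coeffIdeal A s) h1 ?_ ?_
  · intro a ha b _
    rw [map_smul, smul_eq_mul]
    exact Ideal.mul_mem_right _ _ ha
  · intro y z hy hz
    rw [map_add]; exact add_mem hy hz

/-- The coefficient ideal of finitely many elements of a projective algebra is finitely generated. -/
lemma fg_coeffIdeal [Module.Projective A B] {s : Set B} (hs : s.Finite) : (coeffIdeal A s).FG := by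
  obtain ⟨c, hc⟩ := (Module.projective_def'.mp (inferInstance : Module.Projective A B))
  classical
  have e : coeffIdeal A s = Ideal.span (⋃ x ∈ s, (c x).frange : Set A) := by
    refine le_antisymm ?_ ?_
    · rw [coeffIdeal, Ideal.span_le]
      rintro _ ⟨x, hx, l, rfl⟩
      have h : Finsupp.linearCombination A (id : B → B) (c x) = x := LinearMap.congr_fun hc x
      have e' : l x = l (Finsupp.linearCombination A (id : B → B) (c x)) := congrArg l h.symm
      rw [SetLike.mem_coe, e']
      rw [Finsupp.linearCombination_apply, map_finsuppSum]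
      refine Ideal.sum_mem _ fun b hb => ?_
      dsimp only
      rw [map_smul, smul_eq_mul]
      refine Ideal.mul_mem_right _ _ (Ideal.subset_span (Set.mem_biUnion hx ?_))
      exact Finsupp.mem_frange.mpr ⟨Finsupp.mem_support_iff.mp hb, b, rfl⟩
    · rw [Ideal.span_le]
      intro a ha
      obtain ⟨x, hx, ha⟩ := Set.mem_iUnion₂.mp ha
      obtain ⟨-, b, hb⟩ := Finsupp.mem_frange.mp ha
      exact Ideal.subset_span ⟨x, hx, (Finsupp.lapply b).comp c, hb⟩
  rw [e]
  exact Submodule.fg_span (hs.biUnion fun x _ => Finset.finite_toSet _)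

section Family

variable {ι : Type} [Finite ι] (A' : ι → Type u) [∀ i, CommRing (A' i)] [∀ i, Algebra A (A' i)]
  [∀ i, Module.Flat A (A' i)]
  (hsurj : ∀ p : PrimeSpectrum A, ∃ i, ∃ q : PrimeSpectrum (A' i), q.comap (algebraMap A (A' i)) = p)

include hsurj

lemma faithfullyFlat_pi : Module.FaithfullyFlat A (∀ i, A' i) := by
  classical
  haveI := Fintype.ofFinite ι
  haveI : Module.Flat A (∀ i, A' i) := Module.Flat.of_linearEquiv DFinsupp.linearEquivFunOnFintype.symm
  refine Module.FaithfullyFlat.of_comap_surjective fun p => ?_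
  obtain ⟨i, q, hq⟩ := hsurj p
  exact ⟨q.comap (Pi.evalRingHom A' i), by rw [← PrimeSpectrum.comap_comp_apply]; exact hq⟩

/-- Along a jointly surjective flat family, modules embed. -/
lemma eq_zero_of_forall_tmul {M : Type u} [AddCommGroup M] [Module A M] (m : M)
    (h : ∀ i, (1 : A' i) ⊗ₜ[A] m = 0) : m = 0 := by
  classical
  haveI := Fintype.ofFinite ι
  haveI := faithfullyFlat_pi A' hsurj
  apply Module.FaithfullyFlat.tensorProduct_mk_injective (A := A) (B := ∀ i, A' i) M
  rw [map_zero, TensorProduct.mk_apply]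
  refine (TensorProduct.piLeft (R := A) (M := A') (N := M)).injective ?_
  ext i
  simpa using h i

lemma le_of_forall_map_le {I J : Ideal A}
    (h : ∀ i, I.map (algebraMap A (A' i)) ≤ J.map (algebraMap A (A' i))) : I ≤ J := by
  intro x hx
  rw [← Ideal.Quotient.eq_zero_iff_mem]
  refine eq_zero_of_forall_tmul A' hsurj _ fun i => ?_
  have h1 : algebraMap A (A' i) x ∈ J.map (algebraMap A (A' i)) := h i (Ideal.mem_map_of_mem _ hx)
  have h3 := congrArg (Algebra.TensorProduct.quotIdealMapEquivTensorQuot (A' i) J)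
    (Ideal.Quotient.eq_zero_iff_mem.mpr h1)
  rw [map_zero, Algebra.TensorProduct.quotIdealMapEquivTensorQuot_mk] at h3
  rw [← h3, Algebra.algebraMap_eq_smul_one, TensorProduct.smul_tmul]
  simp [Algebra.smul_def, Ideal.Quotient.algebraMap_eq]

lemma fg_of_forall_map {I : Ideal A} (h : ∀ i, (I.map (algebraMap A (A' i))).FG) : I.FG := by
  classical
  haveI := Fintype.ofFinite ι
  have : ∀ i, ∃ s : Finset A, ↑s ⊆ (I : Set A) ∧
      Ideal.span ((algebraMap A (A' i)) '' (s : Set A)) = I.map (algebraMap A (A' i)) := by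
    intro i
    obtain ⟨t, hts, ht⟩ := (Submodule.fg_span_iff_fg_span_finset_subset _).mp (h i)
    obtain ⟨u, hu, rfl⟩ := Finset.subset_set_image_iff.mp hts
    refine ⟨u, hu, ?_⟩
    rw [Finset.coe_image] at ht
    exact ht.symm
  choose s hs hs' using this
  refine ⟨Finset.univ.biUnion s, le_antisymm ?_ ?_⟩
  · rw [Submodule.span_le]
    intro a ha
    obtain ⟨i, -, hi⟩ := Finset.mem_biUnion.mp ha
    exact hs i hi
  · refine le_of_forall_map_le A' hsurj fun i => ?_
    rw [← hs' i, Ideal.span_le, Set.image_subset_iff]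
    intro a ha
    exact Ideal.mem_map_of_mem _ (Submodule.subset_span (Finset.mem_biUnion.mpr ⟨i, Finset.mem_univ i, ha⟩))

end Family

end Groth.Agent.H19Grp
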