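import Groth.Agent.H19Grp.PointTransfer
import Groth.Agent.H8Props.FibreCriterion
import Groth.Agent.H13Desc.Flat
import Groth.Agent.S4656

/-!
# Pointwise predicates which descend
-/

set_option autoImplicit false
set_option linter.style.haveILetI false
set_option backward.isDefEq.respectTransparency false

universe u

open CategoryTheory CategoryTheory.Limits AlgebraicGeometry TopologicalSpace

namespace Groth.Agent.H19Grp

/-- Flatness at the point. -/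
def FlatPt : PtPred.{u} := fun _ _ f x => (f.stalkMap x).hom.Flat

theorem ptBC_flatPt : PtBC FlatPt.{u} :=
  fun _ _ _ _ _ _ _ _ h x' hx => H8Props.FibreCriterion.flat_stalkMap_baseChange h x' hx

theorem flat_congr {X Y : Scheme.{u}} {f g : X ⟶ Y} (e : f = g) {x : X} (h : (f.stalkMap x).hom.Flat) :
    (g.stalkMap x).hom.Flat := by
  subst e
  exact h

theorem ptDesc_flatPt : PtDesc FlatPt.{u} @Flat := by
  intro X' X Y' Y g' f' f g h hg x' hx
  haveI := hg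
  haveI : Flat g' := MorphismProperty.of_isPullback h.flip hg
  exact (S4656.result g' f x' (Flat.stalkMap _ _)).1
    (flat_congr h.w.symm ((S4656.result f' g x' hx).2 (Flat.stalkMap _ _)))

/-- The restriction of a morphism to an open onto its open image. -/
theorem exists_image_open {X' X : Scheme.{u}} (g : X' ⟶ X) (hg : IsOpenMap g) (U' : X'.Opens) :
    ∃ (U : X.Opens) (p : U'.toScheme ⟶ U.toScheme), (U : Set X) = g '' (U' : Set X') ∧
      Surjective p ∧ p ≫ U.ι = U'.ι ≫ g ∧ ∀ P : MorphismProperty Scheme.{u}, [P.IsStableUnderBaseChange] →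
        P (U'.ι ≫ g) → P p := by
  let U : X.Opens := ⟨g '' (U' : Set X'), hg _ U'.2⟩
  let p : U'.toScheme ⟶ U.toScheme := IsOpenImmersion.lift U.ι (U'.ι ≫ g) (by
    rintro _ ⟨x, rfl⟩
    exact U.range_ι.ge ⟨_, U'.range_ι.le ⟨x, rfl⟩, rfl⟩)
  have hp : p ≫ U.ι = U'.ι ≫ g := IsOpenImmersion.lift_fac _ _ _
  refine ⟨U, p, rfl, ⟨fun x => ?_⟩, hp, fun P _ hP => ?_⟩
  · obtain ⟨x', hx', he⟩ := U.range_ι.le ⟨x, rfl⟩
    obtain ⟨w, rfl⟩ := U'.range_ι.ge hx'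
    exact ⟨w, U.ι.isOpenEmbedding.injective (by rwa [← Scheme.Hom.comp_apply, hp, Scheme.Hom.comp_apply])⟩
  · rw [← hp] at hP
    exact MorphismProperty.of_postcomp (W' := MorphismProperty.monomorphisms Scheme.{u}) P p U.ι
      (MorphismProperty.monomorphisms.infer_property _) hP

theorem ptDesc_universallyOpen : PtDesc (OnNhd @UniversallyOpen.{u}) @UniversallyOpen := by
  rintro X' X Y' Y g' f' f g h hg x' ⟨U', hx, hU⟩
  haveI := hg
  haveI : UniversallyOpen g' := MorphismProperty.of_isPullback h.flip hg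
  haveI : UniversallyOpen (U'.ι ≫ f') := hU
  obtain ⟨U, p, hUe, hps, hp, -⟩ := exists_image_open g' g'.isOpenMap U'
  haveI := hps
  haveI : UniversallyOpen (p ≫ U.ι ≫ f) := by
    rw [reassoc_of% hp, h.w, ← Category.assoc]
    infer_instance
  exact ⟨U, hUe.ge ⟨x', hx, rfl⟩, H7Lim.universallyOpen_of_comp_surjective p (U.ι ≫ f)⟩

theorem onNhd_flatLFP_desc {X' X Y' Y : Scheme.{u}} {g' : X' ⟶ X} {f' : X' ⟶ Y'} {f : X ⟶ Y} {g : Y' ⟶ Y}
    (h : IsPullback g' f' f g) [Flat g] [LocallyOfFinitePresentation g] {x' : X'} (U' : X'.Opens) (hx : x' ∈ U')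
    [Flat (U'.ι ≫ f')] [LocallyOfFinitePresentation (U'.ι ≫ f')] :
    ∃ U : X.Opens, g' x' ∈ U ∧ Flat (U.ι ≫ f) ∧ LocallyOfFinitePresentation (U.ι ≫ f) := by
  haveI : Flat g' := MorphismProperty.of_isPullback h.flip ‹_›
  haveI : LocallyOfFinitePresentation g' := MorphismProperty.of_isPullback h.flip ‹_›
  obtain ⟨U, p, hUe, hps, hp, hP⟩ := exists_image_open g' g'.isOpenMap U'
  haveI := hps
  haveI : Flat p := hP @Flat inferInstance
  haveI : LocallyOfFinitePresentation p := hP @LocallyOfFinitePresentation inferInstance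
  have e : p ≫ U.ι ≫ f = (U'.ι ≫ f') ≫ g := by rw [reassoc_of% hp, h.w, Category.assoc]
  haveI : Flat (p ≫ U.ι ≫ f) := by rw [e]; infer_instance
  haveI : LocallyOfFinitePresentation (p ≫ U.ι ≫ f) := by rw [e]; infer_instance
  haveI : Flat (𝟙 U'.toScheme ≫ p) := by rw [Category.id_comp]; infer_instance
  haveI : Surjective (𝟙 U'.toScheme ≫ p) := by rw [Category.id_comp]; infer_instance
  exact ⟨U, hUe.ge ⟨x', hx, rfl⟩, H13Desc.flat_of_refinement p (U.ι ≫ f) (𝟙 _),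
    H13Flat.locallyOfFinitePresentation_of_fppf_covering (U.ι ≫ f) fun x =>
      ⟨_, p, inferInstance, inferInstance, p.surjective x, inferInstance⟩⟩

theorem ptDesc_flatLFP : PtDesc (OnNhd (@Flat.{u} ⊓ @LocallyOfFinitePresentation))
    (@Flat ⊓ @LocallyOfFinitePresentation) := by
  rintro X' X Y' Y g' f' f g h ⟨hg₁, hg₂⟩ x' ⟨U', hx, hU₁, hU₂⟩
  haveI := hg₁; haveI := hg₂; haveI := hU₁; haveI := hU₂
  obtain ⟨U, h1, h2, h3⟩ := onNhd_flatLFP_desc h U' hx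
  exact ⟨U, h1, h2, h3⟩

theorem ptDesc_smooth : PtDesc (OnNhd @Smooth.{u}) (@Flat ⊓ @LocallyOfFinitePresentation) := by
  rintro X' X Y' Y g' f' f g h ⟨hg₁, hg₂⟩ x' ⟨U', hx, hU⟩
  haveI := hg₁; haveI := hg₂
  haveI : Smooth (U'.ι ≫ f') := hU
  obtain ⟨U, hgx, -, hfp⟩ := onNhd_flatLFP_desc h U' hx
  haveI := hfp
  let W : X'.Opens := g' ⁻¹ᵁ U
  have h2 : IsPullback (g' ∣_ U) (W.ι ≫ f') (U.ι ≫ f) g := (isPullback_morphismRestrict g' U).paste_vert h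
  haveI : LocallyOfFinitePresentation (W.ι ≫ f') := MorphismProperty.of_isPullback h2 hfp
  let w : W.toScheme := ⟨x', hgx⟩
  have hw : w ∈ (W.ι ≫ f').smoothLocus := by
    haveI : Smooth ((W.ι ⁻¹ᵁ U').ι ≫ W.ι ≫ f') := by
      rw [show (W.ι ⁻¹ᵁ U').ι ≫ W.ι ≫ f' = (W.ι ∣_ U') ≫ U'.ι ≫ f' by rw [morphismRestrict_ι_assoc]]
      infer_instance
    exact H17.LocusBC.subset_smoothLocus_of_smooth _ (W.ι ⁻¹ᵁ U') (show w ∈ W.ι ⁻¹ᵁ U' from hx)
  have h3 := H17.LocusBC.mem_smoothLocus_of_flat_baseChange h2 w hw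
  obtain ⟨V, hV, hVs⟩ := (H17.LocusBC.mem_smoothLocus_iff_exists _ _).1 h3
  haveI := hVs
  refine ⟨U.ι ''ᵁ V, ⟨_, hV, morphismRestrict_base_coe g' U w⟩, ?_⟩
  rw [show (U.ι ''ᵁ V).ι ≫ f = (U.ι.isoImage V).inv ≫ V.ι ≫ U.ι ≫ f by
    rw [Scheme.Hom.isoImage_inv_ι_assoc]]
  infer_instance

theorem ptDesc_etale : PtDesc (OnNhd @Etale.{u}) (@Flat ⊓ @LocallyOfFinitePresentation) := by
  rintro X' X Y' Y g' f' f g h hg x' ⟨U', hx, hU⟩
  haveI : Etale (U'.ι ≫ f') := hU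
  obtain ⟨U, hgx, hUs⟩ := ptDesc_smooth g' f' f g h hg x' ⟨U', hx, inferInstanceAs (Smooth (U'.ι ≫ f'))⟩
  haveI : Smooth (U.ι ≫ f) := hUs
  let W : X'.Opens := g' ⁻¹ᵁ U
  have h2 : IsPullback (g' ∣_ U) (W.ι ≫ f') (U.ι ≫ f) g := (isPullback_morphismRestrict g' U).paste_vert h
  let w : W.toScheme := ⟨x', hgx⟩
  haveI : FormallyUnramified ((W.ι ⁻¹ᵁ U').ι ≫ W.ι ≫ f') := by
    rw [show (W.ι ⁻¹ᵁ U').ι ≫ W.ι ≫ f' = (W.ι ∣_ U') ≫ U'.ι ≫ f' by rw [morphismRestrict_ι_assoc]]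
    infer_instance
  obtain ⟨V, hV, hVu⟩ :=
    H17.LocusBC.exists_formallyUnramified_of_baseChange h2 w (W.ι ⁻¹ᵁ U') (show w ∈ W.ι ⁻¹ᵁ U' from hx)
  haveI := hVu
  haveI : Etale (V.ι ≫ U.ι ≫ f) := Etale.of_formallyUnramified_of_flat _
  refine ⟨U.ι ''ᵁ V, ⟨_, hV, morphismRestrict_base_coe g' U w⟩, ?_⟩
  rw [show (U.ι ''ᵁ V).ι ≫ f = (U.ι.isoImage V).inv ≫ V.ι ≫ U.ι ≫ f by
    rw [Scheme.Hom.isoImage_inv_ι_assoc]]
  infer_instance

end Groth.Agent.H19Grp
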