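import Groth.Agent.H19Grp.PointPreds
import Groth.Agent.H13AlgSp.FibreCond

/-!
# Quasi-finiteness and unramifiedness at points descend
-/

set_option autoImplicit false
set_option linter.style.haveILetI false
set_option backward.isDefEq.respectTransparency false

universe u

open CategoryTheory CategoryTheory.Limits AlgebraicGeometry TopologicalSpace

namespace Groth.Agent.H19Grp

/-- Quasi-finiteness at a point descends along any base change. -/
theorem quasiFiniteAt_desc {X' X Y' Y : Scheme.{u}} {g' : X' ⟶ X} {f' : X' ⟶ Y'} {f : X ⟶ Y} {g : Y' ⟶ Y}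
    (h : IsPullback g' f' f g) [LocallyOfFiniteType f] {x' : X'} (hx : f'.QuasiFiniteAt x') :
    f.QuasiFiniteAt (g' x') := by
  haveI : LocallyOfFiniteType f' := MorphismProperty.of_isPullback h ‹_›
  have hq := (Scheme.Hom.quasiFiniteAt_iff_isOpen_singleton_asFiber).1 hx
  have h1 : IsPullback (f'.fiberι (f' x') ≫ g') (f'.fiberToSpecResidueField (f' x')) f
      (Y'.fromSpecResidueField (f' x') ≫ g) :=
    (IsPullback.of_hasPullback f' (Y'.fromSpecResidueField (f' x'))).paste_horiz h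
  have h2 := H13AlgSp.quasiFiniteAt_of_isolated h1 (f'.asFiber x') hq
  rwa [Scheme.Hom.comp_apply, Scheme.Hom.fiberι_asFiber] at h2

theorem onNhd_lfp_desc {X' X Y' Y : Scheme.{u}} {g' : X' ⟶ X} {f' : X' ⟶ Y'} {f : X ⟶ Y} {g : Y' ⟶ Y}
    (h : IsPullback g' f' f g) [Flat g] [LocallyOfFinitePresentation g] {x' : X'} (U' : X'.Opens) (hx : x' ∈ U')
    [LocallyOfFinitePresentation (U'.ι ≫ f')] :
    ∃ U : X.Opens, g' x' ∈ U ∧ LocallyOfFinitePresentation (U.ι ≫ f) := by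
  haveI : Flat g' := MorphismProperty.of_isPullback h.flip ‹_›
  haveI : LocallyOfFinitePresentation g' := MorphismProperty.of_isPullback h.flip ‹_›
  obtain ⟨U, p, hUe, hps, hp, hP⟩ := exists_image_open g' g'.isOpenMap U'
  haveI := hps
  haveI : Flat p := hP @Flat inferInstance
  haveI : LocallyOfFinitePresentation p := hP @LocallyOfFinitePresentation inferInstance
  have e : p ≫ U.ι ≫ f = (U'.ι ≫ f') ≫ g := by rw [reassoc_of% hp, h.w, Category.assoc]
  haveI : LocallyOfFinitePresentation (p ≫ U.ι ≫ f) := by rw [e]; infer_instance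
  exact ⟨U, hUe.ge ⟨x', hx, rfl⟩,
    H13Flat.locallyOfFinitePresentation_of_fppf_covering (U.ι ≫ f) fun x =>
      ⟨_, p, inferInstance, inferInstance, p.surjective x, inferInstance⟩⟩

theorem ptDesc_unramified :
    PtDesc (OnNhd (@FormallyUnramified.{u} ⊓ @LocallyOfFinitePresentation))
      (@Flat ⊓ @LocallyOfFinitePresentation) := by
  rintro X' X Y' Y g' f' f g h ⟨hg₁, hg₂⟩ x' ⟨U', hx, hU₁, hU₂⟩
  haveI := hg₁; haveI := hg₂; haveI := hU₁; haveI := hU₂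
  obtain ⟨U, hgx, hfp⟩ := onNhd_lfp_desc h U' hx
  haveI := hfp
  let W : X'.Opens := g' ⁻¹ᵁ U
  have h2 : IsPullback (g' ∣_ U) (W.ι ≫ f') (U.ι ≫ f) g := (isPullback_morphismRestrict g' U).paste_vert h
  let w : W.toScheme := ⟨x', hgx⟩
  haveI : FormallyUnramified ((W.ι ⁻¹ᵁ U').ι ≫ W.ι ≫ f') := by
    rw [show (W.ι ⁻¹ᵁ U').ι ≫ W.ι ≫ f' = (W.ι ∣_ U') ≫ U'.ι ≫ f' by rw [morphismRestrict_ι_assoc]]
    exact MorphismProperty.comp_mem @FormallyUnramified _ _ inferInstance hU₁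
  obtain ⟨V, hV, hVu⟩ :=
    H17.LocusBC.exists_formallyUnramified_of_baseChange h2 w (W.ι ⁻¹ᵁ U') (show w ∈ W.ι ⁻¹ᵁ U' from hx)
  haveI := hVu
  refine ⟨U.ι ''ᵁ V, ⟨_, hV, morphismRestrict_base_coe g' U w⟩, ?_, ?_⟩
  all_goals
    rw [show (U.ι ''ᵁ V).ι ≫ f = (U.ι.isoImage V).inv ≫ V.ι ≫ U.ι ≫ f by
      rw [Scheme.Hom.isoImage_inv_ι_assoc]]
  · exact (MorphismProperty.cancel_left_of_respectsIso @FormallyUnramified _ _).2 hVu
  · infer_instance

/-- Quasi-finiteness at the point of a morphism of finite type near it. -/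
def QFPt : PtPred.{u} := fun X _ f x => ∃ U : X.Opens, x ∈ U ∧ LocallyOfFiniteType (U.ι ≫ f) ∧ LocallyQuasiFinite (U.ι ≫ f)

theorem ptBC_qfPt : PtBC QFPt.{u} := by
  rintro X' X Y' Y g' f' f g h x' ⟨U, hxU, hU₁, hU₂⟩
  exact ⟨g' ⁻¹ᵁ U, hxU, MorphismProperty.of_isPullback ((isPullback_morphismRestrict g' U).paste_vert h) hU₁,
    MorphismProperty.of_isPullback ((isPullback_morphismRestrict g' U).paste_vert h) hU₂⟩

theorem quasiFiniteAt_of_open {X Y : Scheme.{u}} (f : X ⟶ Y) (U : X.Opens) [LocallyQuasiFinite (U.ι ≫ f)]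
    (z : U.toScheme) : f.QuasiFiniteAt (U.ι z) :=
  (Scheme.Hom.quasiFiniteAt_comp_iff_of_isOpenImmersion (f := U.ι) (g := f) (x := z)).1
    ((U.ι ≫ f).quasiFiniteAt z)

theorem qfPt_of_quasiFiniteAt {X Y : Scheme.{u}} (f : X ⟶ Y) [LocallyOfFiniteType f] (x : X)
    (h : f.QuasiFiniteAt x) : QFPt f x := by
  refine ⟨f.quasiFiniteLocus, h, ?_, ?_⟩
  · infer_instance
  · infer_instance

theorem ptDesc_qfPt : PtDesc QFPt.{u} (@Flat ⊓ @LocallyOfFinitePresentation) := by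
  rintro X' X Y' Y g' f' f g h ⟨hg₁, hg₂⟩ x' ⟨U', hx, hU₁, hU₂⟩
  haveI := hg₁; haveI := hg₂; haveI := hU₁; haveI := hU₂
  haveI : Flat g' := MorphismProperty.of_isPullback h.flip hg₁
  haveI : LocallyOfFinitePresentation g' := MorphismProperty.of_isPullback h.flip hg₂
  obtain ⟨U, p, hUe, hps, hp, hP⟩ := exists_image_open g' g'.isOpenMap U'
  haveI := hps
  haveI : Flat p := hP @Flat inferInstance
  haveI : LocallyOfFinitePresentation p := hP @LocallyOfFinitePresentation inferInstance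
  haveI : LocallyOfFiniteType (p ≫ U.ι ≫ f) := by
    rw [reassoc_of% hp, h.w, ← Category.assoc]; infer_instance
  haveI : LocallyOfFiniteType (U.ι ≫ f) :=
    H13Flat.locallyOfFiniteType_of_fppf_covering (U.ι ≫ f) fun x =>
      ⟨_, p, inferInstance, inferInstance, p.surjective x, inferInstance⟩
  have h2 : IsPullback (g' ∣_ U) ((g' ⁻¹ᵁ U).ι ≫ f') (U.ι ≫ f) g :=
    (isPullback_morphismRestrict g' U).paste_vert h
  have hgx : g' x' ∈ U := hUe.ge ⟨x', hx, rfl⟩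
  let w : (g' ⁻¹ᵁ U).toScheme := ⟨x', hgx⟩
  have hx' : f'.QuasiFiniteAt x' := quasiFiniteAt_of_open f' U' ⟨x', hx⟩
  have hw : ((g' ⁻¹ᵁ U).ι ≫ f').QuasiFiniteAt w :=
    (Scheme.Hom.quasiFiniteAt_comp_iff_of_isOpenImmersion (f := (g' ⁻¹ᵁ U).ι) (g := f') (x := w)).2 hx'
  obtain ⟨V, hV, hV₁, hV₂⟩ := qfPt_of_quasiFiniteAt (U.ι ≫ f) _ (quasiFiniteAt_desc h2 hw)
  haveI := hV₁; haveI := hV₂
  refine ⟨U.ι ''ᵁ V, ⟨_, hV, morphismRestrict_base_coe g' U w⟩, ?_, ?_⟩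
  all_goals
    rw [show (U.ι ''ᵁ V).ι ≫ f = (U.ι.isoImage V).inv ≫ V.ι ≫ U.ι ≫ f by
      rw [Scheme.Hom.isoImage_inv_ι_assoc]]
    infer_instance

end Groth.Agent.H19Grp
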