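import Groth.Agent.H19Grp.OrbitUnique
import Groth.Agent.H17.LocusBC
import Groth.Agent.H13Flat.Scheme
import Groth.Agent.H7Lim.OpenMap

/-!
# Properties of a homomorphism at a point move along translations

A predicate `Q f x` stable under base change and descending along base changes by `R` is
transferred from a point `x` to every translate of `x` by a point of `G` in a scheme `T` with
`R T.hom`.
-/

set_option autoImplicit false
set_option linter.style.haveILetI false
set_option backward.isDefEq.respectTransparency false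

universe u

open CategoryTheory CategoryTheory.Limits MonoidalCategory CartesianMonoidalCategory MonObj GrpObj
  AlgebraicGeometry TopologicalSpace

namespace Groth.Agent.H19Grp

/-- A predicate on a point of the source of a morphism. -/
abbrev PtPred : Type (u + 1) := ∀ ⦃X Y : Scheme.{u}⦄, (X ⟶ Y) → X → Prop

/-- Stability of a pointwise predicate under base change. -/
def PtBC (Q : PtPred.{u}) : Prop :=
  ∀ ⦃X' X Y' Y : Scheme.{u}⦄ (g' : X' ⟶ X) (f' : X' ⟶ Y') (f : X ⟶ Y) (g : Y' ⟶ Y),
    IsPullback g' f' f g → ∀ x', Q f (g' x') → Q f' x'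

/-- Descent of a pointwise predicate along base changes in `R`. -/
def PtDesc (Q : PtPred.{u}) (R : MorphismProperty Scheme.{u}) : Prop :=
  ∀ ⦃X' X Y' Y : Scheme.{u}⦄ (g' : X' ⟶ X) (f' : X' ⟶ Y') (f : X ⟶ Y) (g : Y' ⟶ Y),
    IsPullback g' f' f g → R g → ∀ x', Q f' x' → Q f (g' x')

/-- `P` holds on a neighbourhood of the point. -/
def OnNhd (P : MorphismProperty Scheme.{u}) : PtPred.{u} :=
  fun X _ f x => ∃ U : X.Opens, x ∈ U ∧ P (U.ι ≫ f)

theorem ptBC_onNhd (P : MorphismProperty Scheme.{u}) [P.IsStableUnderBaseChange] : PtBC (OnNhd P) := by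
  rintro X' X Y' Y g' f' f g h x' ⟨U, hxU, hU⟩
  exact ⟨g' ⁻¹ᵁ U, hxU, MorphismProperty.of_isPullback ((isPullback_morphismRestrict g' U).paste_vert h) hU⟩

theorem setOf_onNhd {P : MorphismProperty Scheme.{u}} {X Y : Scheme.{u}} (f : X ⟶ Y) (V : X.Opens)
    (hV : P (V.ι ≫ f)) (hmax : ∀ W : X.Opens, P (W.ι ≫ f) → W ≤ V) :
    {x | OnNhd P f x} = (V : Set X) :=
  Set.ext fun _ => ⟨fun ⟨_, hxU, hU⟩ => hmax _ hU hxU, fun hx => ⟨V, hx, hV⟩⟩

section transfer

variable {S : Scheme.{u}} {G H : Over S} [GrpObj G] [GrpObj H] (f : G ⟶ H) [IsMonHom f]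
  {Q : PtPred.{u}} {R : MorphismProperty Scheme.{u}} [R.IsStableUnderBaseChange]

/-- Transfer along the translation by a point of a scheme over which the predicate descends. -/
theorem transfer (hbc : PtBC Q) (hdesc : PtDesc Q R) {T : Over S} (gp : T ⟶ G) (hT : R T.hom)
    (w : (G ⊗ T).left) (hx : Q f.left ((fst G T).left w)) :
    Q f.left ((fst G T * (snd G T ≫ gp)).left w) := by
  have sq : IsPullback (fst G T).left (f ▷ T).left f.left (fst H T).left := by
    refine IsPullback.of_bot (v₂₁ := (snd H T).left) (v₂₂ := H.hom) (h₃₁ := T.hom) ?_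
      (congrArg Over.Hom.left (whiskerRight_fst f T).symm) (IsPullback.of_hasPullback H.hom T.hom)
    rw [← Over.comp_left, whiskerRight_snd, Over.w f]
    exact IsPullback.of_hasPullback G.hom T.hom
  haveI := isIso_transR (G := G) gp
  haveI := isIso_transR (G := H) (gp ≫ f)
  have hcomm : transR gp ≫ (f ▷ T) = (f ▷ T) ≫ transR (gp ≫ f) := by
    apply CartesianMonoidalCategory.hom_ext
    · simp [transR, MonObj.mul_comp, MonObj.comp_mul]
    · simp [transR]
  have hcl : (transR gp).left ≫ (f ▷ T).left = (f ▷ T).left ≫ (transR (gp ≫ f)).left :=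
    congrArg Over.Hom.left hcomm
  have sq2 : IsPullback (inv (transR gp).left) (f ▷ T).left (f ▷ T).left (inv (transR (gp ≫ f)).left) := by
    refine IsPullback.of_horiz_isIso ⟨?_⟩
    rw [IsIso.inv_comp_eq, ← Category.assoc, hcl, Category.assoc, IsIso.hom_inv_id, Category.comp_id]
  have h1 : Q (f ▷ T).left w := hbc _ _ _ _ sq w hx
  have h2 : Q (f ▷ T).left ((transR gp).left w) := by
    refine hbc _ _ _ _ sq2 _ ?_
    rwa [← Scheme.Hom.comp_apply, IsIso.hom_inv_id]
  have h3 := hdesc _ _ _ _ sq (R.pullback_fst H.hom T.hom hT) _ h2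
  rwa [← Scheme.Hom.comp_apply, ← Over.comp_left, lift_fst] at h3

/-- A point of a fibre product with an open. -/
theorem exists_point_over_open {G : Over S} (O : G.left.Opens) (z : (G ⊗ G).left) (hz : (snd G G).left z ∈ O) :
    ∃ w : (G ⊗ Over.mk (O.ι ≫ G.hom)).left,
      (G ◁ (Over.homMk O.ι rfl : Over.mk (O.ι ≫ G.hom) ⟶ G)).left w = z := by
  let T : Over S := Over.mk (O.ι ≫ G.hom)
  let j : T ⟶ G := Over.homMk O.ι rfl
  have hsq : IsPullback (G ◁ j).left (snd G T).left (snd G G).left j.left := by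
    refine IsPullback.of_right (h₁₂ := (fst G G).left) (v₁₃ := G.hom) (h₂₂ := G.hom) ?_
      (congrArg Over.Hom.left (whiskerLeft_snd G j)) (IsPullback.of_hasPullback G.hom G.hom)
    rw [← Over.comp_left, whiskerLeft_fst, Over.w j]
    exact IsPullback.of_hasPullback G.hom T.hom
  obtain ⟨o, ho⟩ := O.range_ι.ge hz
  obtain ⟨w, hw, -⟩ := Scheme.exists_preimage_of_isPullback hsq z o ho.symm
  exact ⟨w, hw⟩

/-- The locus of a predicate is stable under translation by the points of an open over which it descends. -/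
theorem mul_mem_locus (hbc : PtBC Q) (hdesc : PtDesc Q R) (O : G.left.Opens) (hO : R (O.ι ≫ G.hom))
    (z : (G ⊗ G).left) (hz : (snd G G).left z ∈ O) (hx : Q f.left ((fst G G).left z)) :
    Q f.left (μ[G].left z) ∧ Q f.left ((fst G G * (snd G G)⁻¹).left z) := by
  obtain ⟨w, rfl⟩ := exists_point_over_open O z hz
  let T : Over S := Over.mk (O.ι ≫ G.hom)
  let j : T ⟶ G := Over.homMk O.ι rfl
  have hx' : Q f.left ((fst G T).left w) := by
    rwa [← Scheme.Hom.comp_apply, ← Over.comp_left, whiskerLeft_fst] at hx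
  refine ⟨?_, ?_⟩
  · have h := transfer f hbc hdesc j hO w hx'
    have e : (G ◁ j) ≫ μ[G] = fst G T * (snd G T ≫ j) := by
      rw [Hom.mul_def]; congr 1
    rw [← Scheme.Hom.comp_apply, ← Over.comp_left]
    exact e.symm ▸ h
  · have h := transfer f hbc hdesc j⁻¹ hO w hx'
    have e : (G ◁ j) ≫ (fst G G * (snd G G)⁻¹) = fst G T * (snd G T ≫ j⁻¹) := by
      simp [MonObj.comp_mul, GrpObj.comp_inv]
    rw [← Scheme.Hom.comp_apply, ← Over.comp_left]
    exact e.symm ▸ h

/-- The locus of a predicate, if it lies in an open over which the predicate descends, is an open subgroup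
over its image, which is the preimage of the locus by the unit section. -/
theorem locus_isSubgroup (hbc : PtBC Q) (hdesc : PtDesc Q R) (V O : G.left.Opens)
    (hV : {x | Q f.left x} = (V : Set G.left)) (hVO : V ≤ O) (hO : R (O.ι ≫ G.hom)) :
    IsOpen (G.hom.base '' (V : Set G.left)) ∧
    (∀ g ∈ V, ∀ p : ↥(𝟙_ (Over S)).left, (𝟙_ (Over S)).hom.base p = G.hom.base g → η[G].left.base p ∈ V) ∧
    (∀ g ∈ V, ι[G].left.base g ∈ V) ∧
    (∀ z : ↥(G ⊗ G).left, (fst G G).left.base z ∈ V → (snd G G).left.base z ∈ V → μ[G].left.base z ∈ V) := by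
  have hQ : ∀ x, Q f.left x ↔ x ∈ V := fun x => Set.ext_iff.1 hV x
  have hunit : ∀ g ∈ V, η[G].left (G.hom g) ∈ V := by
    intro g hg
    let d : G ⟶ G ⊗ G := lift (𝟙 G) (𝟙 G)
    have h1 : d ≫ (fst G G * (snd G G)⁻¹) = toUnit G ≫ η[G] := by
      simp [d, MonObj.comp_mul, GrpObj.comp_inv, Hom.one_def]
    have h := (mul_mem_locus f hbc hdesc O hO (d.left g) (by
      rw [← Scheme.Hom.comp_apply, ← Over.comp_left, lift_snd]; exact hVO hg) (by
      rw [← Scheme.Hom.comp_apply, ← Over.comp_left, lift_fst]; exact (hQ g).2 hg)).2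
    rw [← Scheme.Hom.comp_apply, ← Over.comp_left, h1, hQ, Over.comp_left, Scheme.Hom.comp_apply] at h
    exact h
  refine ⟨?_, fun g hg p hp => ?_, fun g hg => ?_, fun z h1 h2 => ?_⟩
  · have e : G.hom.base '' (V : Set G.left) = η[G].left ⁻¹' (V : Set G.left) := by
      ext s
      refine ⟨?_, fun hs => ⟨_, hs, ?_⟩⟩
      · rintro ⟨g, hg, rfl⟩; exact hunit g hg
      · exact (congrArg (fun m : (𝟙_ (Over S)).left ⟶ S => m s) (Over.w η[G])).trans rfl
    rw [e]
    exact V.2.preimage η[G].left.continuous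
  · exact (show p = G.hom g from hp) ▸ hunit g hg
  · let d : G ⟶ G ⊗ G := lift (toUnit G ≫ η[G]) (𝟙 G)
    have h1 : d ≫ (fst G G * (snd G G)⁻¹) = ι[G] := by
      simp [d, MonObj.comp_mul, GrpObj.comp_inv]
      rw [← Hom.one_def, _root_.one_mul, Hom.inv_def, Category.id_comp]
    have h := (mul_mem_locus f hbc hdesc O hO (d.left g) (by
      rw [← Scheme.Hom.comp_apply, ← Over.comp_left, lift_snd]; exact hVO hg) (by
      rw [← Scheme.Hom.comp_apply, ← Over.comp_left, lift_fst, hQ, Over.comp_left, Scheme.Hom.comp_apply]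
      exact hunit g hg)).2
    rwa [← Scheme.Hom.comp_apply, ← Over.comp_left, h1, hQ] at h
  · exact (hQ _).1 (mul_mem_locus f hbc hdesc O hO z (hVO h2) ((hQ _).2 h1)).1

/-- Over a base over which the predicate descends along the group, it is constant on fibres. -/
theorem of_mem_fibre (hbc : PtBC Q) (hdesc : PtDesc Q R) (hG : R G.hom) {x y : G.left}
    (h : G.hom x = G.hom y) (hx : Q f.left x) : Q f.left y := by
  obtain ⟨z, hz1, hz2⟩ := Scheme.Pullback.exists_preimage_pullback (f := G.hom) (g := G.hom) x y h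
  let σ : G ⊗ G ⟶ G ⊗ G := lift (fst G G) ((fst G G)⁻¹ * snd G G)
  have h1 : σ ≫ (fst G G * (snd G G ≫ 𝟙 G)) = snd G G := by simp [σ, MonObj.comp_mul]
  have h2 := transfer f hbc hdesc (𝟙 G) hG (σ.left z) (by
    rw [← Scheme.Hom.comp_apply, ← Over.comp_left, lift_fst]
    exact (show (fst G G).left z = x from hz1) ▸ hx)
  rw [← Scheme.Hom.comp_apply, ← Over.comp_left, h1] at h2
  exact (show (snd G G).left z = y from hz2) ▸ h2

end transfer

end Groth.Agent.H19Grp
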