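import Groth.Agent.H19Grp.SubgrpClosed

/-!
# Products of open subsets in groupoids over a field
-/

set_option autoImplicit false
set_option linter.style.haveILetI false
set_option backward.isDefEq.respectTransparency false

universe u

open CategoryTheory Limits AlgebraicGeometry

namespace Groth.Agent.H19Grp

variable {S : Scheme.{u}} (G : Grpd.GroupoidScheme S) {k : Type u} [Field k]
  (eU : G.U ≅ Spec (CommRingCat.of k))

include eU in
/-- Composing with an arrow of the identity component does not change the component. -/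
theorem zeta_c (w : ↥(pullback G.s G.t))
    (h : pullback.snd G.s G.t w ∈ irreducibleComponent (ePt G eU)) :
    zeta (G.c w) = zeta (pullback.fst G.s G.t w) := by
  have hd := dirGen G eU
  apply eq_zeta_of_specializes hd
  rw [specializes_iff_forall_open]
  intro O hO hmem
  let W : G.R.Opens := ⟨O, hO⟩
  let W' : G.R.Opens := ⟨sat (W : Set G.R), isOpen_sat G eU W⟩
  have : G.c w ∈ sat (W' : Set G.R) := by
    rw [sat_eq_image G eU W' ⊤ trivial]
    exact ⟨w, ⟨hmem, h, trivial⟩, rfl⟩
  change zeta (zeta (G.c w)) ∈ O at this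
  rwa [zeta_zeta hd] at this

include eU in
/-- A point lies in the product of two dense open subsets. -/
theorem image_c_dense (U V : G.R.Opens) (hU : Dense (U : Set G.R)) (hV : Dense (V : Set G.R)) :
    G.c '' (pullback.fst G.s G.t ⁻¹' (U : Set G.R) ∩ pullback.snd G.s G.t ⁻¹' (V : Set G.R)) =
      Set.univ := by
  haveI := isIntegral_U G eU
  haveI := subsingleton_U G eU
  refine Set.eq_univ_of_forall fun y => ?_
  let γ := G.R.fromSpecResidueField y
  let q := pullback.fst G.t (γ ≫ G.s)
  let l := pullback.snd G.t (γ ≫ G.s)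
  have hq : (l ≫ γ) ≫ G.s = q ≫ G.t := (Category.assoc _ _ _).trans pullback.condition.symm
  let a := mulR G (l ≫ γ) q hq
  haveI : UniversallyOpen a := universallyOpen_translate G γ
  haveI : UniversallyOpen (invR G q) := by
    haveI := isIso_i G
    show UniversallyOpen (q ≫ G.i)
    infer_instance
  let eL : Spec (G.R.residueField y) ⟶ pullback G.t (γ ≫ G.s) :=
    pullback.lift ((γ ≫ G.s) ≫ G.e) (𝟙 _) (by simp [G.e_t])
  haveI : Nonempty ↥(pullback G.t (γ ≫ G.s)) := ⟨eL (IsLocalRing.closedPoint _)⟩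
  obtain ⟨z, hzU, hzV⟩ := ((hU.preimage a.isOpenMap).inter_of_isOpen_left
    (hV.preimage (invR G q).isOpenMap) (U.2.preimage a.continuous)).nonempty
  have hab : a ≫ G.s = invR G q ≫ G.t := (mulR_s G _ _ _).trans (invR_t G q).symm
  have hfin : pullback.lift a (invR G q) hab ≫ G.c = l ≫ γ := mulR_invR_right G (l ≫ γ) q hq
  refine ⟨pullback.lift a (invR G q) hab z, ⟨?_, ?_⟩, ?_⟩
  · show pullback.fst G.s G.t _ ∈ U
    rwa [← Scheme.Hom.comp_apply, pullback.lift_fst]
  · show pullback.snd G.s G.t _ ∈ V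
    rwa [← Scheme.Hom.comp_apply, pullback.lift_snd]
  · rw [← Scheme.Hom.comp_apply, hfin, Scheme.Hom.comp_apply]
    exact Scheme.fromSpecResidueField_apply _ _

include eU in
/-- A nonempty open subset of the identity component generates it: every point is x ∘ y⁻¹. -/
theorem exists_div_mem (U : G.R.Opens) (hne : (U : Set G.R).Nonempty)
    (hU : (U : Set G.R) ⊆ irreducibleComponent (ePt G eU)) (y : G.R)
    (hy : y ∈ irreducibleComponent (ePt G eU)) :
    ∃ w, pullback.fst G.s G.t w ∈ U ∧ G.i (pullback.snd G.s G.t w) ∈ U ∧ G.c w = y := by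
  haveI := isIntegral_U G eU
  haveI := subsingleton_U G eU
  have hd := dirGen G eU
  let γ := G.R.fromSpecResidueField y
  let q := pullback.fst G.t (γ ≫ G.s)
  let l := pullback.snd G.t (γ ≫ G.s)
  have hq : (l ≫ γ) ≫ G.s = q ≫ G.t := (Category.assoc _ _ _).trans pullback.condition.symm
  let a := mulR G (l ≫ γ) q hq
  haveI : UniversallyOpen a := universallyOpen_translate G γ
  haveI : Surjective a := surjective_translate G γ
  haveI : Surjective (γ ≫ G.s) :=
    ⟨fun u => ⟨IsLocalRing.closedPoint _, Subsingleton.elim _ _⟩⟩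
  haveI : Surjective q := inferInstance
  let C : TopologicalSpace.Closeds G.R :=
    ⟨irreducibleComponent (ePt G eU), isClosed_irreducibleComponent⟩
  let j := (Scheme.IdealSheafData.vanishingIdeal C).subschemeι
  have hjr : Set.range j = irreducibleComponent (ePt G eU) :=
    H17.range_vanishingIdeal_subschemeι C
  haveI := geometricallyIrreducible_t G eU _ j hjr
  haveI : GeometricallyIrreducible (j ≫ G.t) := by
    rw [show j ≫ G.t = (j ≫ G.t ≫ eU.hom) ≫ eU.inv by simp]
    exact (MorphismProperty.cancel_right_of_respectsIso (P := @GeometricallyIrreducible) _ _).mpr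
      inferInstance
  let m : pullback (j ≫ G.t) (γ ≫ G.s) ⟶ pullback G.t (γ ≫ G.s) :=
    pullback.map _ _ _ _ j (𝟙 _) (𝟙 _) (by simp) (by simp)
  have hm : Set.range m = q ⁻¹' irreducibleComponent (ePt G eU) := by
    rw [Scheme.Pullback.range_map, hjr]
    simp [q]
  have hirr : IsIrreducible (q ⁻¹' irreducibleComponent (ePt G eU)) := by
    rw [← hm, ← Set.image_univ]
    exact (IrreducibleSpace.isIrreducible_univ _).image _ m.continuous.continuousOn
  have hlγ : ∀ z, (l ≫ γ) z = y := fun z => by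
    rw [Scheme.Hom.comp_apply]; exact Scheme.fromSpecResidueField_apply _ _
  have haq : ∀ z, q z ∈ irreducibleComponent (ePt G eU) ↔
      a z ∈ irreducibleComponent (ePt G eU) := by
    intro z
    rw [mem_irreducibleComponent_iff_zeta hd] at hy
    constructor
    · intro h
      rw [mem_irreducibleComponent_iff_zeta hd]
      show zeta ((pullback.lift (l ≫ γ) q hq ≫ G.c) z) = _
      rw [Scheme.Hom.comp_apply, zeta_c G eU _ (by rwa [← Scheme.Hom.comp_apply, pullback.lift_snd]),
        ← Scheme.Hom.comp_apply, pullback.lift_fst, hlγ, hy]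
    · intro h
      have hab : invR G (l ≫ γ) ≫ G.s = a ≫ G.t := (invR_s G _).trans (mulR_t G _ _ _).symm
      have := invR_mulR_cancel G (l ≫ γ) q hq
      rw [mem_irreducibleComponent_iff_zeta hd, ← this]
      show zeta ((pullback.lift (invR G (l ≫ γ)) a hab ≫ G.c) z) = _
      rw [Scheme.Hom.comp_apply, zeta_c G eU _ (by rwa [← Scheme.Hom.comp_apply, pullback.lift_snd]),
        ← Scheme.Hom.comp_apply, pullback.lift_fst, invR, Scheme.Hom.comp_apply, hlγ,
        ← zeta_i G eU, hy, i_zeta_ePt]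
  obtain ⟨u, hu⟩ := hne
  obtain ⟨z₁, hz₁⟩ := a.surjective u
  obtain ⟨z₂, hz₂⟩ := q.surjective u
  obtain ⟨z, -, hza, hzq⟩ := hirr.2 _ _ (U.2.preimage a.continuous) (U.2.preimage q.continuous)
    ⟨z₁, (haq z₁).mpr (hz₁ ▸ hU hu), by rw [Set.mem_preimage, hz₁]; exact hu⟩
    ⟨z₂, by rw [Set.mem_preimage, hz₂]; exact hU hu, by rw [Set.mem_preimage, hz₂]; exact hu⟩
  have hab : a ≫ G.s = invR G q ≫ G.t := (mulR_s G _ _ _).trans (invR_t G q).symm
  have hfin : pullback.lift a (invR G q) hab ≫ G.c = l ≫ γ := mulR_invR_right G (l ≫ γ) q hq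
  refine ⟨pullback.lift a (invR G q) hab z, ?_, ?_, ?_⟩
  · rwa [← Scheme.Hom.comp_apply, pullback.lift_fst]
  · rw [← Scheme.Hom.comp_apply, ← Scheme.Hom.comp_apply, pullback.lift_snd_assoc]
    show (invR G (invR G q)) z ∈ U
    rwa [invR_invR]
  · rw [← Scheme.Hom.comp_apply, hfin, hlγ]

include eU in
/-- The unit has a clopen neighbourhood covered by countably many affine opens. -/
theorem exists_clopen_countable_affine :
    ∃ U : G.R.Opens, IsClosed (U : Set G.R) ∧ ePt G eU ∈ U ∧ ∃ V : ℕ → G.R.Opens,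
      (∀ n, IsAffineOpen (V n)) ∧ (U : Set G.R) = ⋃ n, (V n : Set G.R) := by
  obtain ⟨_, ⟨(W : G.R.Opens), (hW : IsAffineOpen W), rfl⟩, hxW, -⟩ :=
    G.R.isBasis_affineOpens.exists_subset_of_mem_open (Set.mem_univ (zeta (ePt G eU))) isOpen_univ
  let U : G.R.Opens := ⟨sat (W : Set G.R), isOpen_sat G eU W⟩
  have hc : IsCompact (U : Set G.R) := isCompact_sat G eU W hW.isCompact
  refine ⟨U, (isClopen_sat G eU W hW.isCompact).1, hxW, ?_⟩
  obtain ⟨Us, hsub, hfin, hUs⟩ :=
    G.R.isBasis_affineOpens.exists_finite_of_isCompact (U := U) hc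
  classical
  let L := hfin.toFinset.toList
  have hmem : ∀ V, V ∈ L ↔ V ∈ Us := fun V => by simp [L]
  refine ⟨fun n => L.getD n ⊥, fun n => ?_, ?_⟩
  · show IsAffineOpen (L.getD n ⊥)
    by_cases hn : n < L.length
    · rw [List.getD_eq_getElem _ _ hn]
      exact hsub ((hmem _).mp (List.getElem_mem hn))
    · rw [List.getD_eq_default _ _ (Nat.le_of_not_lt hn)]
      exact isAffineOpen_bot _
  · rw [hUs]
    ext z
    simp only [TopologicalSpace.Opens.coe_sSup, Set.mem_iUnion, SetLike.mem_coe]
    constructor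
    · rintro ⟨V, hV, hz⟩
      obtain ⟨n, hn, rfl⟩ := List.getElem_of_mem ((hmem V).mpr hV)
      exact ⟨n, by rw [List.getD_eq_getElem _ _ hn]; exact hz⟩
    · rintro ⟨n, hz⟩
      by_cases hn : n < L.length
      · rw [List.getD_eq_getElem _ _ hn] at hz
        exact ⟨_, (hmem _).mp (List.getElem_mem hn), hz⟩
      · rw [List.getD_eq_default _ _ (Nat.le_of_not_lt hn)] at hz
        exact absurd hz (by simp)

end Groth.Agent.H19Grp
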