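import Groth.Prelude.Def_CGrpSh
import Mathlib

/-!
# Descending morphisms along locally surjective maps of points
-/

set_option autoImplicit false
set_option linter.style.haveILetI false

universe u

open CategoryTheory CategoryTheory.Limits MonoidalCategory CartesianMonoidalCategory MonObj
  AlgebraicGeometry Opposite

namespace Groth.Agent.H19Grp

variable {S : Scheme.{u}}

/-- The fppf topology on schemes over `S`. -/
noncomputable abbrev fppfJ (S : Scheme.{u}) : GrothendieckTopology (Over S) :=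
  QuotSh.J Scheme.fppfPrecoverage S

/-- Two morphisms agreeing on a covering sieve are equal. -/
theorem hom_ext_of_cover {T Y : Over S} {R : Sieve T} (hR : R ∈ fppfJ S T) {f g : T ⟶ Y}
    (h : ∀ ⦃T' : Over S⦄ (t : T' ⟶ T), R t → t ≫ f = t ≫ g) : f = g :=
  ((GrothendieckTopology.Subcanonical.isSheaf_of_isRepresentable (J := fppfJ S) (yoneda.obj Y)).isSeparated R hR).ext h

/-- A function on the locally liftable points descends. -/
theorem exists_unique_factor {A B Y : Over S} (q : A ⟶ B)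
    (hq : ∀ {T : Over S} (b : T ⟶ B), ∃ R ∈ fppfJ S T, ∀ ⦃T' : Over S⦄ (t : T' ⟶ T), R t → ∃ a, a ≫ q = t ≫ b)
    (ψ : A ⟶ Y) (hψ : ∀ {T : Over S} (a a' : T ⟶ A), a ≫ q = a' ≫ q → a ≫ ψ = a' ≫ ψ) :
    ∃! ψ' : B ⟶ Y, q ≫ ψ' = ψ := by
  obtain ⟨R, hR, hRl⟩ := hq (𝟙 B)
  choose a ha using hRl
  let x : Presieve.FamilyOfElements (yoneda.obj Y) R.arrows := fun T' t ht => a t ht ≫ ψ
  have hx : x.Compatible := by
    intro Y₁ Y₂ Z g₁ g₂ f₁ f₂ h₁ h₂ e
    show g₁ ≫ a f₁ h₁ ≫ ψ = g₂ ≫ a f₂ h₂ ≫ ψ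
    rw [← Category.assoc, ← Category.assoc]
    refine hψ _ _ ?_
    rw [Category.assoc, Category.assoc, ha, ha, reassoc_of% e]
  have hsh := GrothendieckTopology.Subcanonical.isSheaf_of_isRepresentable (J := fppfJ S) (yoneda.obj Y) R hR
  refine ⟨hsh.amalgamate x hx, ?_, fun m hm => ?_⟩
  · show q ≫ hsh.amalgamate x hx = ψ
    refine hom_ext_of_cover ((fppfJ S).pullback_stable q hR) fun T' t ht => ?_
    have h : (t ≫ q) ≫ hsh.amalgamate x hx = a (t ≫ q) ht ≫ ψ := hsh.valid_glue hx (t ≫ q) ht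
    rw [← Category.assoc, h]
    refine hψ _ _ ?_
    exact (ha (t ≫ q) ht).trans (Category.comp_id _)
  · refine hom_ext_of_cover hR fun T' t ht => ?_
    rw [show t ≫ hsh.amalgamate x hx = a t ht ≫ ψ from hsh.valid_glue hx t ht, ← hm, ← Category.assoc, ha,
      Category.comp_id]

section CGrp

variable {G H L : Over S} [GrpObj G] [IsCommMonObj G] [GrpObj H] [IsCommMonObj H] [GrpObj L] [IsCommMonObj L]

/-- Points lift locally along an epimorphism of sheaves of points. -/
theorem exists_local_lift_pt (π : G ⟶ H) [IsMonHom π] (hπ : Epi (CGrpSh.ptsMap Scheme.fppfPrecoverage π))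
    {T : Over S} (b : T ⟶ H) :
    ∃ R ∈ fppfJ S T, ∀ ⦃T' : Over S⦄ (t : T' ⟶ T), R t → ∃ a, a ≫ π = t ≫ b := by
  haveI hls : Sheaf.IsLocallySurjective (CGrpSh.ptsMap Scheme.fppfPrecoverage π) :=
    (CategoryTheory.Sheaf.isLocallySurjective_iff_epi' (A := AddCommGrpCat.{u + 1}) _).2 hπ
  let P := (CGrpSh.ptsMap Scheme.fppfPrecoverage π).hom
  refine ⟨Presheaf.imageSieve P (U := T) (ULift.up (Additive.ofMul b)), hls.imageSieve_mem _, ?_⟩
  rintro T' t ⟨z, hz⟩
  exact ⟨z.down.toMul, congrArg (fun z => z.down.toMul) hz⟩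

/-- Points killed by the second map of an exact sequence come locally from the first group. -/
theorem exists_local_lift_of_exact (j : G ⟶ H) (π : H ⟶ L) [IsMonHom j] [IsMonHom π] (w : j ≫ π = 1)
    (hex : (CGrpSh.seq Scheme.fppfPrecoverage j π w).Exact) {T : Over S} (b : T ⟶ H) (hb : b ≫ π = 1) :
    ∃ R ∈ fppfJ S T, ∀ ⦃T' : Over S⦄ (t : T' ⟶ T), R t → ∃ a, a ≫ j = t ≫ b := by
  let C := CGrpSh.seq Scheme.fppfPrecoverage j π w
  let K := ShortComplex.mk C.iCycles C.g C.iCycles_g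
  have hK : K.Exact := ShortComplex.exact_of_f_is_kernel K C.cyclesIsKernel
  let E := sheafToPresheaf (fppfJ S) AddCommGrpCat.{u + 1} ⋙ (evaluation _ AddCommGrpCat.{u + 1}).obj (op T)
  haveI : E.Additive := { map_add := rfl }
  haveI : Mono K.f := inferInstanceAs (Mono C.iCycles)
  have h := ShortComplex.Exact.map_of_mono_of_preservesKernel hK E inferInstance inferInstance
  obtain ⟨c, hc⟩ : ∃ c : C.cycles.obj.obj (op T), C.iCycles.hom.app (op T) c = ULift.up (Additive.ofMul b) :=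
    (ShortComplex.ab_exact_iff _).1 h (ULift.up (Additive.ofMul b) : (C.X₂).obj.obj (op T))
    (by
      apply ULift.ext
      show Additive.ofMul (b ≫ π) = 0
      rw [hb]; rfl)
  haveI : Epi C.toCycles := hex.epi_toCycles
  haveI hls : Sheaf.IsLocallySurjective C.toCycles :=
    (CategoryTheory.Sheaf.isLocallySurjective_iff_epi' (A := AddCommGrpCat.{u + 1}) _).2 inferInstance
  refine ⟨Presheaf.imageSieve C.toCycles.hom (U := T) c, hls.imageSieve_mem _, ?_⟩
  rintro T' t ⟨z, hz⟩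
  refine ⟨z.down.toMul, ?_⟩
  have h2 : C.iCycles.hom.app (op T') (C.toCycles.hom.app (op T') z) = C.f.hom.app (op T') z := by
    rw [← ConcreteCategory.comp_apply, ← NatTrans.comp_app, ← ObjectProperty.FullSubcategory.comp_hom, ShortComplex.toCycles_i]
  rw [hz, NatTrans.naturality_apply] at h2
  rw [hc] at h2
  exact (congrArg (fun z => z.down.toMul) h2).symm

end CGrp

end Groth.Agent.H19Grp
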