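import Mathlib
import Groth.Agent.H19Grp.AffinePoints
import Groth.Agent.H19Grp.OrderKills

/-! A finite locally free group scheme over a reduced base is killed by its order. -/

set_option autoImplicit false
set_option linter.style.haveILetI false
set_option backward.isDefEq.respectTransparency false

universe u

open CategoryTheory CategoryTheory.Limits MonoidalCategory CartesianMonoidalCategory MonObj AlgebraicGeometry
open scoped TensorProduct

namespace Groth.Agent.H19Grp.ReducedOrder

attribute [-instance] instCommGrpObjSpecAsOverSpec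
attribute [-instance] isCommMonObj_spec_asOver_spec

section Ring

open WithConv

variable (R : Type u) [CommRing R] (A : Type u) [CommRing A] [HopfAlgebra R A]

/-- Post-composition on points. -/
def postR {T T' : Type*} [CommRing T] [Algebra R T] [CommRing T'] [Algebra R T'] (h : T →ₐ[R] T') :
    WithConv (A →ₐ[R] T) →* WithConv (A →ₐ[R] T') where
  toFun f := toConv (h.comp f.ofConv)
  map_one' := WithConv.ofConv_injective (AlgHom.ext fun a => h.commutes _)
  map_mul' f g := WithConv.ofConv_injective (AlgHom.comp_convMul_distrib h f g)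

set_option synthInstance.maxHeartbeats 200000 in
/-- Restriction of points of a base change. -/
noncomputable def restrictR (K : Type u) [CommRing K] [Algebra R K] {T : Type*} [CommRing T] [Algebra K T]
    [Algebra R T] [IsScalarTower R K T] :
    WithConv ((K ⊗[R] A) →ₐ[K] T) →* WithConv (A →ₐ[R] T) where
  toFun F := toConv ((F.ofConv.restrictScalars R).comp Algebra.TensorProduct.includeRight)
  map_one' := WithConv.ofConv_injective (AlgHom.ext fun a => by
    show algebraMap K T (Coalgebra.counit (R := K) ((1 : K) ⊗ₜ[R] a)) = algebraMap R T (Coalgebra.counit (R := R) a)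
    rw [TensorProduct.counit_tmul, CommSemiring.counit_apply, ← Algebra.algebraMap_eq_smul_one,
      ← IsScalarTower.algebraMap_apply])
  map_mul' F G := WithConv.ofConv_injective (AlgHom.ext fun a => by
    show (F * G).ofConv ((1 : K) ⊗ₜ[R] a) = _
    erw [AlgHom.convMul_apply, AlgHom.convMul_apply]
    rw [TensorProduct.comul_tmul, CommSemiring.comul_apply]
    generalize CoalgebraStruct.comul (R := R) a = z
    induction z using TensorProduct.induction_on with
    | zero => simp
    | tmul u w => simp
    | add u w hu hw => simp only [TensorProduct.tmul_add, map_add, hu, hw])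

theorem eq_of_forall_fiber {A : Type u} [CommRing A] [Algebra R A] [IsReduced R] [Module.Projective R A]
    (a b : A) (h : ∀ p : PrimeSpectrum R,
      (1 : p.asIdeal.ResidueField) ⊗ₜ[R] a = (1 : p.asIdeal.ResidueField) ⊗ₜ[R] b) : a = b := by
  refine sub_eq_zero.1 ((Module.forall_dual_apply_eq_zero_iff R _).1 fun φ => ?_)
  refine IsReduced.eq_zero _ (mem_nilradical.1 ?_)
  rw [nilradical_eq_sInf, Ideal.mem_sInf]
  intro q hq
  haveI : q.IsPrime := hq
  have := congrArg (fun z => TensorProduct.rid R _ (LinearMap.lTensor q.ResidueField φ z)) (h ⟨q, hq⟩)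
  simp only [LinearMap.lTensor_tmul, TensorProduct.rid_tmul] at this
  rw [← sub_eq_zero, ← sub_smul, ← map_sub, ← Algebra.algebraMap_eq_smul_one,
    Ideal.algebraMap_residueField_eq_zero] at this
  exact this

/-- A finite projective Hopf algebra of constant rank `r` over a reduced ring is killed by `r`. -/
theorem convPow_id_eq_one [IsReduced R] [Module.Finite R A] [Module.Projective R A] (r : ℕ)
    (hr : ∀ p : PrimeSpectrum R, Module.rankAtStalk A p = r) :
    (toConv (AlgHom.id R A)) ^ r = 1 := by
  refine WithConv.ofConv_injective (AlgHom.ext fun a => eq_of_forall_fiber R _ _ fun p => ?_)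
  let K := p.asIdeal.ResidueField
  have hf : Module.finrank K (K ⊗[R] A) = r := (Ideal.finrank_fiber_eq_rankAtStalk p.asIdeal).trans (hr p)
  have h := congrArg (restrictR R A K) (OrderKills.pow_finrank_eq_one (k := K) (A := K ⊗[R] A))
  rw [map_pow, map_one, hf] at h
  have h1 : restrictR R A K (toConv (AlgHom.id K (K ⊗[R] A))) =
      postR R A (Algebra.TensorProduct.includeRight : A →ₐ[R] K ⊗[R] A) (toConv (AlgHom.id R A)) := rfl
  rw [h1, ← map_pow, ← map_one (postR R A (Algebra.TensorProduct.includeRight : A →ₐ[R] K ⊗[R] A))] at h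
  exact congrArg (fun f : WithConv (A →ₐ[R] K ⊗[R] A) => f.ofConv a) h

end Ring

set_option maxHeartbeats 1000000 in
set_option synthInstance.maxHeartbeats 400000 in
theorem id_pow_eq_one_of_isAffine {R : Type u} [CommRing R] [hSR : IsReduced (Spec (CommRingCat.of R))]
    (G : Over (Spec (CommRingCat.of R))) [GrpObj G]
    [IsFinite G.hom] [Flat G.hom] [LocallyOfFinitePresentation G.hom]
    (r : ℕ) (hr : ∀ s, G.hom.finrank s = r) : (𝟙 G : G ⟶ G) ^ r = 1 := by
  haveI : _root_.IsReduced R := (affine_isReduced_iff (CommRingCat.of R)).1 hSR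
  letI : G.left.Over (Spec (CommRingCat.of R)) := ⟨G.hom⟩
  letI : GrpObj (G.left.asOver (Spec (CommRingCat.of R))) := ‹GrpObj G›
  haveI : IsAffine G.left := isAffine_of_isAffineHom G.hom
  letI hH := AffinePoints.hopfOf (CommRingCat.of R) G.left
  letI : Algebra R Γ(G.left, ⊤) := hH.toBialgebra.toAlgebra
  letI : HopfAlgebra R Γ(G.left, ⊤) := hH
  let A := Γ(G.left, ⊤)
  let SA : Over (Spec (CommRingCat.of R)) := (Spec (CommRingCat.of A)).asOver (Spec (CommRingCat.of R))
  let φ : G ⟶ SA := G.left.isoSpec.hom.asOver (Spec (CommRingCat.of R))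
  let ψ : SA ⟶ G := G.left.isoSpec.inv.asOver (Spec (CommRingCat.of R))
  haveI : IsMonHom φ := AffinePoints.isMonHom_isoSpec _ _
  have hψφ : ψ ≫ φ = 𝟙 SA := Over.OverMorphism.ext G.left.isoSpec.inv_hom_id
  have hφψ : φ ≫ ψ = 𝟙 G := Over.OverMorphism.ext G.left.isoSpec.hom_inv_id
  have hw : G.left.isoSpec.hom ≫ Spec.map (CommRingCat.ofHom (algebraMap R A)) = G.hom :=
    Over.w (G.left.isoSpec.hom.asOver (Spec (CommRingCat.of R)))
  haveI : IsFinite (Spec.map (CommRingCat.ofHom (algebraMap R A))) := by
    rw [← MorphismProperty.cancel_left_of_respectsIso @IsFinite G.left.isoSpec.hom, hw]; infer_instance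
  haveI : Flat (Spec.map (CommRingCat.ofHom (algebraMap R A))) := by
    rw [← MorphismProperty.cancel_left_of_respectsIso @Flat G.left.isoSpec.hom, hw]; infer_instance
  haveI : LocallyOfFinitePresentation (Spec.map (CommRingCat.ofHom (algebraMap R A))) := by
    rw [← MorphismProperty.cancel_left_of_respectsIso @LocallyOfFinitePresentation G.left.isoSpec.hom, hw]
    infer_instance
  haveI : Module.Finite R A := RingHom.finite_algebraMap.1 ((IsFinite.SpecMap_iff _).1 ‹_›)
  haveI : Module.Flat R A := RingHom.flat_algebraMap_iff.1 (Flat.SpecMap_iff.1 ‹_›)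
  haveI : Algebra.FinitePresentation R A := RingHom.finitePresentation_algebraMap.1
    ((HasRingHomProperty.Spec_iff (P := @LocallyOfFinitePresentation)).1 ‹_›)
  haveI : Module.FinitePresentation R A := Module.FinitePresentation.of_finite_of_finitePresentation R A
  haveI : Module.Projective R A := Module.Flat.projective_of_finitePresentation
  have hrk : ∀ p : PrimeSpectrum R, Module.rankAtStalk A p = r := fun p => by
    rw [← Scheme.Hom.finrank_SpecMap_algebraMap, ← Scheme.Hom.finrank_comp_left_of_isIso G.left.isoSpec.hom,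
      hw]
    exact hr p
  haveI : IsMonHom ψ := by
    refine @IsMonHom.mk _ _ _ _ _ _ _ _ ?_ ?_
    · have h := IsMonHom.one_hom φ
      rw [← h, Category.assoc, hφψ, Category.comp_id]
    · have h := IsMonHom.mul_hom φ
      have h2 : μ[SA] = (ψ ⊗ₘ ψ) ≫ μ[G] ≫ φ := by
        rw [h, ← Category.assoc, tensorHom_comp_tensorHom, hψφ, id_tensorHom_id, Category.id_comp]
      rw [h2, Category.assoc, Category.assoc, hφψ, Category.comp_id]
  have key := congrArg (Spec.mapMulEquiv (R := R) (S := A) (T := A)) (convPow_id_eq_one R A r hrk)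
  rw [map_pow, map_one] at key
  have hid : Spec.mapMulEquiv (R := R) (WithConv.toConv (AlgHom.id R A)) = 𝟙 SA := by
    ext1
    exact Spec.map_id _
  rw [hid] at key
  calc (𝟙 G : G ⟶ G) ^ r = (φ ≫ 𝟙 SA ≫ ψ) ^ r := by rw [Category.id_comp, hφψ]
    _ = φ ≫ ((((𝟙 SA : SA ⟶ SA)) ^ r : SA ⟶ SA) ≫ ψ) := by rw [MonObj.pow_comp, MonObj.comp_pow]
    _ = 1 := by rw [key, MonObj.one_comp, MonObj.comp_one]

/-- A finite locally free group scheme of rank `r` over a reduced base is killed by `r`. -/
theorem id_pow_eq_one {S : Scheme.{u}} [IsReduced S] (G : Over S) [GrpObj G] 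
    [IsFinite G.hom] [Flat G.hom] [LocallyOfFinitePresentation G.hom]
    (r : ℕ) (hr : ∀ s : S, Scheme.Hom.finrank G.hom s = r) : (𝟙 G : G ⟶ G) ^ r = 1 := by
  refine Over.OverMorphism.ext (Scheme.Cover.hom_ext (S.affineCover.pullback₁ G.hom) _ _ fun i => ?_)
  let F := Over.pullback (S.affineCover.f i)
  letI : GrpObj (F.obj G) := Functor.grpObjObj
  haveI : IsFinite (F.obj G).hom := inferInstanceAs (IsFinite (pullback.snd G.hom (S.affineCover.f i)))
  haveI : Flat (F.obj G).hom := inferInstanceAs (Flat (pullback.snd G.hom (S.affineCover.f i)))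
  haveI : LocallyOfFinitePresentation (F.obj G).hom :=
    inferInstanceAs (LocallyOfFinitePresentation (pullback.snd G.hom (S.affineCover.f i)))
  haveI hred : IsReduced (S.affineCover.X i) := isReduced_of_isOpenImmersion (S.affineCover.f i)
  have h := id_pow_eq_one_of_isAffine (hSR := hred) (F.obj G) r fun x => by
    show (pullback.snd G.hom (S.affineCover.f i)).finrank x = r
    rw [Scheme.Hom.finrank_pullback_snd]; exact hr _
  have h' : F.map ((𝟙 G : G ⟶ G) ^ r) = F.map (1 : G ⟶ G) := by
    have e := map_pow (Functor.homMonoidHom F (X := G) (M := G)) (𝟙 G) r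
    refine e.trans ?_
    rw [Functor.map_one]
    show (F.map (𝟙 G)) ^ r = 1
    rw [F.map_id]
    exact h
  have hp : ∀ u : G ⟶ G, (F.map u).left ≫ pullback.fst G.hom (S.affineCover.f i) =
      pullback.fst G.hom (S.affineCover.f i) ≫ u.left := fun u => by
    simp [F]
  show pullback.fst G.hom (S.affineCover.f i) ≫ _ = pullback.fst G.hom (S.affineCover.f i) ≫ _
  rw [← hp, ← hp, h']

end Groth.Agent.H19Grp.ReducedOrder
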