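import Groth.Prelude.Def_ChGrp
import Groth.Agent.H18Torsor.Glue
import Groth.Agent.H14Quot.Etale
import Mathlib.AlgebraicGeometry.Sites.Proetale
import Mathlib.CategoryTheory.Sites.Precoverage

/-!
Reductions of the structure group of a torsor: pseudo-torsors over a quotient.
-/

set_option autoImplicit false
set_option linter.style.haveILetI false
set_option backward.isDefEq.respectTransparency false

universe u

open CategoryTheory MonoidalCategory CartesianMonoidalCategory MonObj AlgebraicGeometry Limits

namespace Groth.Agent.H19Grp.Reduction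

variable {S : Scheme.{u}} {G H F Q E : Over S} [GrpObj G] [GrpObj H] {i : G ⟶ H} [IsMonHom i]
  {aF : AlgGrp.Action H F} {π : F ⟶ Q}

theorem existsUnique_smul_of_isPullback (hsq : IsPullback (aF.restrict i).act (snd G F) π π) {W : Over S}
    (x y : W ⟶ F) (h : x ≫ π = y ≫ π) : ∃! g : W ⟶ G, H18Torsor.smul (aF.restrict i) g x = y := by
  refine ⟨hsq.lift y x h.symm ≫ fst G F, ?_, fun g hg => ?_⟩
  · have e : lift (hsq.lift y x h.symm ≫ fst G F) x = hsq.lift y x h.symm := by
      apply CartesianMonoidalCategory.hom_ext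
      · simp
      · rw [lift_snd, hsq.lift_snd]
    show lift _ x ≫ _ = y
    rw [e, hsq.lift_fst]
  · have e : lift g x = hsq.lift y x h.symm := by
      apply hsq.hom_ext
      · rw [hsq.lift_fst]; exact hg
      · rw [hsq.lift_snd, lift_snd]
    rw [← e, lift_fst]

theorem smul_comp_eq (hsq : IsPullback (aF.restrict i).act (snd G F) π π) {W : Over S} (g : W ⟶ G) (x : W ⟶ F) :
    H18Torsor.smul (aF.restrict i) g x ≫ π = x ≫ π := by
  rw [H18Torsor.smul, Category.assoc, hsq.w, lift_snd_assoc]

theorem smul_map {X Y : Over S} {a : AlgGrp.Action G X} {b : AlgGrp.Action G Y} {φ : X ⟶ Y}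
    (hφ : AlgGrp.Action.IsEquivariant a b φ) {W : Over S} (g : W ⟶ G) (x : W ⟶ X) :
    H18Torsor.smul a g x ≫ φ = H18Torsor.smul b g (x ≫ φ) := by
  simp only [H18Torsor.smul, Category.assoc]
  rw [hφ, lift_whiskerLeft_assoc]

end Groth.Agent.H19Grp.Reduction
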