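import Groth.Agent.H13Flat.Algebra
import Mathlib

/-!
# Vanishing of sections near a fibre with only constant functions

`B → C` is the start of a Čech complex of flat algebras over a local ring and `ε` the evaluation at
a section. An element killed by both, when nothing else over the residue field is, vanishes at the
points of the closed fibre.
-/

set_option autoImplicit false
set_option linter.style.haveILetI false

universe u

open TensorProduct IsLocalRing

namespace Groth.Agent.H19Grp

section noetherian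

variable {L : Type u} [CommRing L] [IsLocalRing L] {B C : Type u} [CommRing B] [Algebra L B]
  [Module.Flat L B] [AddCommGroup C] [Module L C] [Module.Flat L C] (d : B →ₗ[L] C) (ε : B →ₗ[L] L)
  (hk : ∀ y : (L ⧸ maximalIdeal L) ⊗[L] B, d.lTensor _ y = 0 → ε.lTensor _ y = 0 → y = 0)

include hk in
/-- One step: from `m ^ n B` to `m ^ (n + 1) B`. -/
theorem mem_map_pow_succ {n : ℕ} {f : B} (hd : d f = 0) (hε : ε f = 0)
    (hf : f ∈ (maximalIdeal L ^ n).map (algebraMap L B)) :
    f ∈ (maximalIdeal L ^ (n + 1)).map (algebraMap L B) := by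
  set m := maximalIdeal L
  let N := ↥(m ^ n)
  let incl : N →ₗ[L] L := Submodule.subtype (m ^ n)
  let μB : N ⊗[L] B →ₗ[L] B := (TensorProduct.lid L B).toLinearMap ∘ₗ incl.rTensor B
  have hμ : ∀ (a : N) (b : B), μB (a ⊗ₜ b) = (a : L) • b := fun a b => by
    simp [μB, incl]; rfl
  have hmul : ∀ (b : B) (w : N ⊗[L] B), μB ((LinearMap.mulLeft L b).lTensor N w) = b • μB w := by
    intro b w
    induction w using TensorProduct.induction_on with
    | zero => simp
    | tmul a c => simp [hμ, Algebra.mul_smul_comm, smul_eq_mul]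
    | add p q hp hq => simp only [map_add, hp, hq, smul_add]
  have hμC : ∀ z, TensorProduct.lid L C (incl.rTensor C (d.lTensor N z)) = d (μB z) := by
    intro z
    induction z using TensorProduct.induction_on with
    | zero => simp
    | tmul a b => simp [hμ, incl]; rfl
    | add p q hp hq => simp only [map_add, hp, hq]
  have hμL : ∀ z, ((TensorProduct.rid L N (ε.lTensor N z) : N) : L) = ε (μB z) := by
    intro z
    induction z using TensorProduct.induction_on with
    | zero => simp
    | tmul a b => simp [hμ]; exact mul_comm _ _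
    | add p q hp hq => rw [map_add, map_add, map_add, map_add, ← hp, ← hq]; rfl
  obtain ⟨z, rfl⟩ : f ∈ LinearMap.range μB := by
    have hle : ((m ^ n).map (algebraMap L B)).restrictScalars L ≤ LinearMap.range μB := by
      intro x hx
      rw [Submodule.restrictScalars_mem] at hx
      refine Submodule.span_induction ?_ (zero_mem _) (fun _ _ _ _ => add_mem) ?_ hx
      · rintro _ ⟨a, ha, rfl⟩
        exact ⟨⟨a, ha⟩ ⊗ₜ 1, by rw [hμ, Algebra.algebraMap_eq_smul_one]⟩
      · rintro b _ _ ⟨w, rfl⟩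
        exact ⟨(LinearMap.mulLeft L b).lTensor N w, hmul b w⟩
    exact hle hf
  have hdz : d.lTensor N z = 0 := by
    refine Module.Flat.rTensor_preserves_injective_linearMap (M := C) incl Subtype.val_injective ?_
    refine (TensorProduct.lid L C).injective ?_
    rw [map_zero, map_zero, hμC, hd]
  have hεz : ε.lTensor N z = 0 := by
    refine (TensorProduct.rid L N).injective (Subtype.val_injective ?_)
    rw [map_zero, Submodule.coe_zero, hμL, hε]
  let mN : Submodule L N := m • ⊤
  haveI : m.IsMaximal := maximalIdeal.isMaximal L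
  letI : Field (L ⧸ m) := Ideal.Quotient.field m
  have hz : mN.mkQ.rTensor B z = 0 := by
    let bV := Module.Free.chooseBasis (L ⧸ m) (N ⧸ mN)
    let e : (N ⧸ mN) ⊗[L] B ≃ₗ[L] _ :=
      (TensorProduct.congr (bV.repr.restrictScalars L) (LinearEquiv.refl L B)).trans
        (TensorProduct.finsuppLeft L L (L ⧸ m) B _)
    refine e.injective (Finsupp.ext fun i => ?_)
    rw [map_zero, Finsupp.zero_apply]
    let φ : N →ₗ[L] (L ⧸ m) := (bV.coord i).restrictScalars L ∘ₗ mN.mkQ
    have hcoord : ∀ z, e (mN.mkQ.rTensor B z) i = φ.rTensor B z := by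
      intro z
      induction z using TensorProduct.induction_on with
      | zero => simp
      | tmul a b => simp [e, φ, TensorProduct.finsuppLeft_apply_tmul_apply]
      | add p q hp hq => simp only [map_add, Finsupp.add_apply, hp, hq]
    rw [hcoord]
    refine hk _ ?_ ?_
    · rw [← LinearMap.comp_apply, LinearMap.lTensor_comp_rTensor, ← LinearMap.rTensor_comp_lTensor,
        LinearMap.comp_apply, hdz, map_zero]
    · rw [← LinearMap.comp_apply, LinearMap.lTensor_comp_rTensor, ← LinearMap.rTensor_comp_lTensor,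
        LinearMap.comp_apply, hεz, map_zero]
  obtain ⟨w, rfl⟩ := (rTensor_exact B (LinearMap.exact_subtype_mkQ mN) mN.mkQ_surjective z).1 hz
  suffices ∀ (x : mN) (b : B), μB (mN.subtype.rTensor B (x ⊗ₜ b)) ∈ (m ^ (n + 1)).map (algebraMap L B) by
    clear hd hε hdz hεz hz hf
    induction w using TensorProduct.induction_on with
    | zero => simp
    | tmul x b => exact this x b
    | add p q hp hq => simp only [map_add]; exact add_mem hp hq
  intro x b
  rw [LinearMap.rTensor_tmul, hμ, Algebra.smul_def]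
  refine Ideal.mul_mem_right _ _ (Ideal.mem_map_of_mem _ ?_)
  refine Submodule.smul_induction_on (p := fun y : N => (y : L) ∈ m ^ (n + 1)) x.2 (fun r hr a _ => ?_) (fun p q hp hq => ?_)
  · rw [pow_succ']
    exact Ideal.mul_mem_mul hr a.2
  · exact add_mem hp hq

include hk in
theorem exists_mul_eq_zero_of_isNoetherianRing [IsNoetherianRing B] {f : B} (hd : d f = 0) (hε : ε f = 0)
    (Q : Ideal B) [Q.IsPrime] (hQ : (maximalIdeal L).map (algebraMap L B) ≤ Q) : ∃ s ∉ Q, s * f = 0 := by
  have hall : ∀ n, f ∈ (maximalIdeal L ^ n).map (algebraMap L B) := by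
    intro n
    induction n with
    | zero => simp [Ideal.map_top]
    | succ n ih => exact mem_map_pow_succ d ε hk hd hε ih
  let S := Localization.AtPrime Q
  haveI : IsNoetherianRing S := IsLocalization.isNoetherianRing Q.primeCompl S inferInstance
  have h0 : algebraMap B S f = 0 := by
    rw [← Ideal.mem_bot, ← Ideal.iInf_pow_eq_bot_of_isLocalRing (maximalIdeal S) (maximalIdeal.isMaximal S).ne_top,
      Ideal.mem_iInf]
    intro n
    rw [← Localization.AtPrime.map_eq_maximalIdeal, ← Ideal.map_pow]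
    refine Ideal.mem_map_of_mem _ (Ideal.pow_right_mono hQ n ?_)
    rw [← Ideal.map_pow]
    exact hall n
  obtain ⟨s, hs⟩ := (IsLocalization.map_eq_zero_iff Q.primeCompl S f).1 h0
  exact ⟨s.1, s.2, hs⟩

end noetherian

section model

variable {R : Type u} [CommRing R] [IsLocalRing R] {B C : Type u} [CommRing B] [Algebra R B]
  [CommRing C] [Algebra R C] (r₁ r₂ : B →ₐ[R] C) (ε : B →ₐ[R] R)
  (hk : ∀ y : ResidueField R ⊗[R] B, r₁.toLinearMap.lTensor (ResidueField R) y = r₂.toLinearMap.lTensor (ResidueField R) y →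
    ε.toLinearMap.lTensor (ResidueField R) y = 0 → y = 0)

include hk in
/-- The case of a model over a Noetherian local ring. -/
theorem exists_mul_eq_zero_of_local {L : Type u} [CommRing L] [IsLocalRing L] [Algebra L R]
    [IsLocalHom (algebraMap L R)] [Algebra L B] [IsScalarTower L R B] [Algebra L C] [IsScalarTower L R C]
    {BL CL : Type u} [CommRing BL] [Algebra L BL] [Module.Flat L BL] [IsNoetherianRing BL]
    [CommRing CL] [Algebra L CL] [Module.Flat L CL]
    (ιB : BL →ₐ[L] B) (hB : IsBaseChange R ιB.toLinearMap) (ιC : CL →ₐ[L] C) (hC : IsBaseChange R ιC.toLinearMap)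
    (d : BL →ₗ[L] CL) (hd : ∀ x, ιC (d x) = r₁ (ιB x) - r₂ (ιB x))
    (εL : BL →ₗ[L] L) (hεL : ∀ x, algebraMap L R (εL x) = ε (ιB x))
    {f : BL} (hdf : d f = 0) (hεf : εL f = 0) (Q : Ideal B) [Q.IsPrime]
    (hQ : (maximalIdeal R).map (algebraMap R B) ≤ Q) : ∃ s ∉ Q, s * ιB f = 0 := by
  have hmax : ∀ x ∈ maximalIdeal L, algebraMap L R x ∈ maximalIdeal R := fun x hx =>
    map_nonunit (algebraMap L R) x hx
  haveI : (maximalIdeal L).IsMaximal := maximalIdeal.isMaximal L
  letI : Field (L ⧸ maximalIdeal L) := Ideal.Quotient.field _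
  let j : (L ⧸ maximalIdeal L) →ₐ[L] ResidueField R := Ideal.Quotient.liftₐ (maximalIdeal L)
    (Algebra.ofId L (ResidueField R)) fun x hx => by
      rw [Algebra.ofId_apply, IsScalarTower.algebraMap_apply L R (ResidueField R),
        IsLocalRing.ResidueField.algebraMap_eq, IsLocalRing.residue_eq_zero_iff]
      exact hmax x hx
  have hj : Function.Injective j.toLinearMap := RingHom.injective j.toRingHom
  have hBk : IsBaseChange (ResidueField R)
      (((TensorProduct.mk R (ResidueField R) B 1).restrictScalars L).comp ιB.toLinearMap) :=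
    hB.comp (TensorProduct.isBaseChange R B (ResidueField R))
  have hCk : IsBaseChange (ResidueField R)
      (((TensorProduct.mk R (ResidueField R) C 1).restrictScalars L).comp ιC.toLinearMap) :=
    hC.comp (TensorProduct.isBaseChange R C (ResidueField R))
  let ψ : (L ⧸ maximalIdeal L) ⊗[L] BL →ₗ[L] ResidueField R ⊗[R] B :=
    (hBk.equiv.toLinearMap.restrictScalars L) ∘ₗ j.toLinearMap.rTensor BL
  let φ : (L ⧸ maximalIdeal L) ⊗[L] CL →ₗ[L] ResidueField R ⊗[R] C :=
    (hCk.equiv.toLinearMap.restrictScalars L) ∘ₗ j.toLinearMap.rTensor CL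
  have hψ : ∀ c b, ψ (c ⊗ₜ b) = j c ⊗ₜ ιB b := fun c b => by
    simp [ψ, IsBaseChange.equiv_tmul, TensorProduct.smul_tmul']
  have hφ : ∀ c b, φ (c ⊗ₜ b) = j c ⊗ₜ ιC b := fun c b => by
    simp [φ, IsBaseChange.equiv_tmul, TensorProduct.smul_tmul']
  have hψinj : Function.Injective ψ :=
    hBk.equiv.injective.comp (Module.Flat.rTensor_preserves_injective_linearMap _ hj)
  have hkL : ∀ y, d.lTensor (L ⧸ maximalIdeal L) y = 0 → εL.lTensor (L ⧸ maximalIdeal L) y = 0 → y = 0 := by
    intro y h1 h2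
    refine hψinj ?_
    rw [map_zero]
    refine hk _ ?_ ?_
    · have : ∀ y, φ (d.lTensor _ y) =
          r₁.toLinearMap.lTensor (ResidueField R) (ψ y) - r₂.toLinearMap.lTensor (ResidueField R) (ψ y) := by
        intro y
        induction y using TensorProduct.induction_on with
        | zero => simp
        | tmul c b => simp [hψ, hφ, hd, TensorProduct.tmul_sub]
        | add p q hp hq => simp only [map_add, hp, hq]; abel
      rw [← sub_eq_zero, ← this, h1, map_zero]
    · have : ∀ y, TensorProduct.rid R (ResidueField R) (ε.toLinearMap.lTensor _ (ψ y)) =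
          j (TensorProduct.rid L _ (εL.lTensor _ y)) := by
        intro y
        induction y using TensorProduct.induction_on with
        | zero => simp
        | tmul c b => simp [hψ, ← hεL, map_smul, algebraMap_smul]
        | add p q hp hq => simp only [map_add, hp, hq]
      refine (TensorProduct.rid R (ResidueField R)).injective ?_
      rw [this, h2, map_zero, map_zero, map_zero]
  obtain ⟨s, hs, hs0⟩ := exists_mul_eq_zero_of_isNoetherianRing d εL hkL hdf hεf (Q.comap ιB) (by
    rw [Ideal.map_le_iff_le_comap]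
    intro x hx
    simp only [Ideal.mem_comap, AlgHom.commutes]
    rw [IsScalarTower.algebraMap_apply L R B]
    exact hQ (Ideal.mem_map_of_mem _ (hmax x hx)))
  exact ⟨ιB s, hs, by rw [← map_mul, hs0, map_zero]⟩

include hk in
/-- The case of a model over a Noetherian ring. -/
theorem exists_mul_eq_zero_of_model {A : Type u} [CommRing A] [IsNoetherianRing A] [Algebra A R]
    [Algebra A B] [IsScalarTower A R B] [Algebra A C] [IsScalarTower A R C] {BA CA : Type u}
    [CommRing BA] [Algebra A BA] [Algebra.FiniteType A BA] [Module.Flat A BA]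
    [CommRing CA] [Algebra A CA] [Module.Flat A CA]
    (ιB : BA →ₐ[A] B) (hB : IsBaseChange R ιB.toLinearMap) (ιC : CA →ₐ[A] C) (hC : IsBaseChange R ιC.toLinearMap)
    (r₁A r₂A : BA →ₐ[A] CA) (h₁ : ∀ x, ιC (r₁A x) = r₁ (ιB x)) (h₂ : ∀ x, ιC (r₂A x) = r₂ (ιB x))
    (εA : BA →ₐ[A] A) (hεA : ∀ x, algebraMap A R (εA x) = ε (ιB x)) {f : B} {fA : BA} (hfA : ιB fA = f)
    (hdf : r₁A fA = r₂A fA) (hεf : εA fA = 0) (Q : Ideal B) [Q.IsPrime]
    (hQ : (maximalIdeal R).map (algebraMap R B) ≤ Q) : ∃ s ∉ Q, s * f = 0 := by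
  let p : Ideal A := (maximalIdeal R).comap (algebraMap A R)
  haveI : p.IsPrime := Ideal.IsPrime.comap _
  let L := Localization.AtPrime p
  let g : L →ₐ[A] R := IsLocalization.liftAlgHom (M := p.primeCompl) (f := Algebra.ofId A R)
    fun y => IsLocalRing.notMem_maximalIdeal.1 y.2
  letI : Algebra L R := g.toRingHom.toAlgebra
  haveI : IsScalarTower A L R := .of_algebraMap_eq fun a => (g.commutes a).symm
  letI : Algebra L B := ((algebraMap R B).comp (algebraMap L R)).toAlgebra
  letI : Algebra L C := ((algebraMap R C).comp (algebraMap L R)).toAlgebra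
  haveI : IsScalarTower L R B := .of_algebraMap_eq fun _ => rfl
  haveI : IsScalarTower L R C := .of_algebraMap_eq fun _ => rfl
  haveI : IsScalarTower A L B := .of_algebraMap_eq fun a => by
    rw [IsScalarTower.algebraMap_apply A R B, IsScalarTower.algebraMap_apply A L R]; rfl
  haveI : IsScalarTower A L C := .of_algebraMap_eq fun a => by
    rw [IsScalarTower.algebraMap_apply A R C, IsScalarTower.algebraMap_apply A L R]; rfl
  haveI : IsLocalHom (algebraMap L R) := by
    refine ⟨fun x hx => ?_⟩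
    obtain ⟨a, s, rfl⟩ := IsLocalization.exists_mk'_eq p.primeCompl x
    refine (IsLocalization.AtPrime.isUnit_mk'_iff L p a s).2 fun ha => ?_
    have h1 := congrArg g (IsLocalization.mk'_spec L a s)
    rw [map_mul, g.commutes, g.commutes] at h1
    exact ha (h1 ▸ hx.mul (IsLocalRing.notMem_maximalIdeal.1 s.2))
  haveI : IsNoetherianRing (L ⊗[A] BA) := Algebra.FiniteType.isNoetherianRing L _
  let θB : L ⊗[A] BA →ₐ[L] B := Algebra.TensorProduct.lift (Algebra.ofId L B) ιB fun _ _ => Commute.all _ _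
  let θC : L ⊗[A] CA →ₐ[L] C := Algebra.TensorProduct.lift (Algebra.ofId L C) ιC fun _ _ => Commute.all _ _
  have hθB : IsBaseChange R θB.toLinearMap := by
    refine IsBaseChange.of_comp (TensorProduct.isBaseChange A BA L) ?_
    convert hB using 1
    exact LinearMap.ext fun b => by simp [θB]
  have hθC : IsBaseChange R θC.toLinearMap := by
    refine IsBaseChange.of_comp (TensorProduct.isBaseChange A CA L) ?_
    convert hC using 1
    exact LinearMap.ext fun b => by simp [θC]
  let d : L ⊗[A] BA →ₗ[L] L ⊗[A] CA := r₁A.toLinearMap.baseChange L - r₂A.toLinearMap.baseChange L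
  let εL : L ⊗[A] BA →ₗ[L] L :=
    (AlgebraTensorModule.rid A L L).toLinearMap ∘ₗ εA.toLinearMap.baseChange L
  obtain ⟨s, hs, hs0⟩ := exists_mul_eq_zero_of_local r₁ r₂ ε hk θB hθB θC hθC d (fun x => by
      induction x using TensorProduct.induction_on with
      | zero => simp
      | tmul l b => simp [d, θB, θC, h₁, h₂, IsScalarTower.algebraMap_apply L R B,
          IsScalarTower.algebraMap_apply L R C, mul_sub]
      | add p q hp hq => simp only [map_add, hp, hq]; abel) εL (fun x => by
      induction x using TensorProduct.induction_on with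
      | zero => simp
      | tmul l b =>
        simp [εL, θB, Algebra.smul_def, IsScalarTower.algebraMap_apply L R B,
          ← IsScalarTower.algebraMap_apply A L R, hεA, mul_comm]
      | add p q hp hq => simp only [map_add, hp, hq]) (f := 1 ⊗ₜ fA)
    (by simp [d, hdf]) (by simp [εL, hεf]) Q hQ
  exact ⟨s, hs, by simpa [θB, hfA] using hs0⟩

end model

section descent

variable {R : Type u} [CommRing R]

/-- The map from the model of an algebra over a subalgebra of the base. -/
theorem exists_stage_map {B : Type u} [CommRing B] [Algebra R B] (R₀ : Subalgebra ℤ R) {B₀ : Type u}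
    [CommRing B₀] [Algebra R₀ B₀] [Module.Flat R₀ B₀] [Algebra.FiniteType R₀ B₀]
    (e : R ⊗[R₀] B₀ ≃ₐ[R] B) (A : Subalgebra ℤ R) (hA : R₀ ≤ A) :
    ∃ (BA : Type u) (_ : CommRing BA) (_ : Algebra A BA) (ι : BA →ₐ[A] B),
      Algebra.FiniteType A BA ∧ Module.Flat A BA ∧ Function.Injective ι ∧
      IsBaseChange R ι.toLinearMap ∧ (∀ (a : A) (b : B₀), e ((a : R) ⊗ₜ b) ∈ ι.range) ∧
      ∀ (D : Subalgebra A B), (∀ b : B₀, e (1 ⊗ₜ b) ∈ D) → ι.range ≤ D := by
  letI : Algebra R₀ A := (Subalgebra.inclusion hA).toRingHom.toAlgebra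
  haveI : IsScalarTower R₀ A R := .of_algebraMap_eq fun _ => rfl
  haveI : IsScalarTower R₀ A B := .of_algebraMap_eq fun _ => rfl
  let j : A ⊗[R₀] B₀ →ₐ[A] R ⊗[R₀] B₀ := Algebra.TensorProduct.map (Algebra.ofId A R) (AlgHom.id R₀ B₀)
  let ι : A ⊗[R₀] B₀ →ₐ[A] B := (e.restrictScalars A).toAlgHom.comp j
  refine ⟨A ⊗[R₀] B₀, inferInstance, inferInstance, ι, inferInstance, inferInstance, ?_, ?_, ?_, ?_⟩
  · refine e.injective.comp ?_
    have h := Module.Flat.rTensor_preserves_injective_linearMap (M := B₀)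
      ((Algebra.ofId A R).toLinearMap.restrictScalars R₀) Subtype.val_injective
    intro x y hxy
    refine h ?_
    have hj : ∀ z, ((Algebra.ofId A R).toLinearMap.restrictScalars R₀).rTensor B₀ z = j z := by
      intro z
      induction z using TensorProduct.induction_on with
      | zero => simp
      | tmul a b => simp [j]; rfl
      | add p q hp hq => simp only [map_add, hp, hq]
    rw [hj, hj]
    exact hxy
  · refine IsBaseChange.of_comp (TensorProduct.isBaseChange R₀ B₀ A) ?_
    have h := (TensorProduct.isBaseChange R₀ B₀ R).comp (IsBaseChange.ofEquiv e.toLinearEquiv)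
    convert h using 1
    exact LinearMap.ext fun b => rfl
  · intro a b
    exact ⟨a ⊗ₜ b, by simp [ι, j]; rfl⟩
  · rintro D hD _ ⟨x, rfl⟩
    induction x using TensorProduct.induction_on with
    | zero => exact (map_zero ι).symm ▸ zero_mem D
    | add p q hp hq => exact (map_add ι p q).symm ▸ add_mem hp hq
    | tmul a b =>
      have : ι (a ⊗ₜ b) = a • e (1 ⊗ₜ b) := by
        simp only [ι, j, AlgHom.comp_apply, Algebra.TensorProduct.map_tmul, AlgHom.id_apply,
          Algebra.ofId_apply]
        change e ((a : R) ⊗ₜ b) = (a : R) • e (1 ⊗ₜ b)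
        rw [← map_smul, TensorProduct.smul_tmul', smul_eq_mul, mul_one]
      exact this.symm ▸ D.smul_mem (hD b) a

/-- Every element comes from the model over all large enough subalgebras. -/
theorem exists_finset_coeff {B₀ : Type u} (R₀ : Subalgebra ℤ R) [CommRing B₀] [Algebra R₀ B₀]
    {B : Type u} [CommRing B] [Algebra R B] (e : R ⊗[R₀] B₀ ≃ₐ[R] B) (b : B) :
    ∃ T : Finset R, ∀ (A : Subalgebra ℤ R) (D : AddSubmonoid B), (↑T ⊆ (A : Set R)) →
      (∀ (a : A) (c : B₀), e ((a : R) ⊗ₜ c) ∈ D) → b ∈ D := by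
  classical
  obtain ⟨x, rfl⟩ := e.surjective b
  induction x using TensorProduct.induction_on with
  | zero => exact ⟨∅, fun A D _ _ => (map_zero e).symm ▸ zero_mem D⟩
  | tmul a c => exact ⟨{a}, fun A D hA hD => hD ⟨a, hA (Finset.mem_singleton_self a)⟩ c⟩
  | add p q hp hq =>
    obtain ⟨T, hT⟩ := hp
    obtain ⟨U, hU⟩ := hq
    exact ⟨T ∪ U, fun A D hA hD => (map_add e p q).symm ▸
      add_mem (hT A D (fun r hr => hA (Finset.mem_union_left _ hr)) hD)
        (hU A D (fun r hr => hA (Finset.mem_union_right _ hr)) hD)⟩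

variable [IsLocalRing R]

/-- Sections killed by `r₁ - r₂` and by `ε` vanish at the points over the closed point. -/
theorem exists_mul_eq_zero {B C : Type u} [CommRing B] [Algebra R B] [Algebra.FinitePresentation R B]
    [Module.Flat R B] [CommRing C] [Algebra R C] [Algebra.FinitePresentation R C] [Module.Flat R C]
    (r₁ r₂ : B →ₐ[R] C) (ε : B →ₐ[R] R)
    (hk : ∀ y : ResidueField R ⊗[R] B, r₁.toLinearMap.lTensor (ResidueField R) y = r₂.toLinearMap.lTensor (ResidueField R) y →
      ε.toLinearMap.lTensor (ResidueField R) y = 0 → y = 0)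
    {f : B} (hf : r₁ f = r₂ f) (hε : ε f = 0) (Q : Ideal B) [Q.IsPrime]
    (hQ : (maximalIdeal R).map (algebraMap R B) ≤ Q) : ∃ s ∉ Q, s * f = 0 := by
  classical
  obtain ⟨RB, hRB, B₀, _, _, _, _, ⟨eB⟩⟩ := H13Flat.exists_flat_stage R B
  obtain ⟨RC, hRC, C₀, _, _, _, _, ⟨eC⟩⟩ := H13Flat.exists_flat_stage R C
  haveI : Algebra.FiniteType RB B₀ := inferInstance
  obtain ⟨gens, hgens⟩ := Algebra.FiniteType.out (R := RB) (A := B₀)
  obtain ⟨SB, hSB⟩ := hRB
  obtain ⟨SC, hSC⟩ := hRC
  obtain ⟨Tf, hTf⟩ := exists_finset_coeff RB eB f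
  choose T₁ hT₁ using fun b : B₀ => exists_finset_coeff RC eC (r₁ (eB (1 ⊗ₜ b)))
  choose T₂ hT₂ using fun b : B₀ => exists_finset_coeff RC eC (r₂ (eB (1 ⊗ₜ b)))
  let S : Finset R := SB ∪ SC ∪ Tf ∪ gens.biUnion T₁ ∪ gens.biUnion T₂ ∪ gens.image fun b => ε (eB (1 ⊗ₜ b))
  let A := Algebra.adjoin ℤ (S : Set R)
  have hSA : (S : Set R) ⊆ A := Algebra.subset_adjoin
  have hRBA : RB ≤ A := hSB ▸ Algebra.adjoin_le fun x hx => hSA (by simp [S, Finset.mem_coe.1 hx])
  have hRCA : RC ≤ A := hSC ▸ Algebra.adjoin_le fun x hx => hSA (by simp [S, Finset.mem_coe.1 hx])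
  haveI : Algebra.FiniteType ℤ A := A.fg_iff_finiteType.1 (Subalgebra.fg_adjoin_finset S)
  haveI : IsNoetherianRing A := Algebra.FiniteType.isNoetherianRing ℤ A
  obtain ⟨BA, _, _, ιB, _, _, hιB, hbcB, hmemB, hleB⟩ := exists_stage_map RB eB A hRBA
  obtain ⟨CA, _, _, ιC, _, _, hιC, hbcC, hmemC, -⟩ := exists_stage_map RC eC A hRCA
  obtain ⟨fA, hfA⟩ : f ∈ ιB.range := hTf A ιB.range.toSubsemiring.toAddSubmonoid
    (fun x hx => hSA (by simp [S, Finset.mem_coe.1 hx])) hmemB
  -- the morphisms of models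
  have hgen : ∀ D : Subalgebra A B, (∀ b ∈ gens, eB (1 ⊗ₜ b) ∈ D) → ιB.range ≤ D := by
    intro D hD
    refine hleB D fun b => ?_
    have hb : b ∈ Algebra.adjoin RB (gens : Set B₀) := hgens ▸ Algebra.mem_top
    induction hb using Algebra.adjoin_induction with
    | mem x hx => exact hD x hx
    | algebraMap r =>
      rw [Algebra.algebraMap_eq_smul_one, ← TensorProduct.smul_tmul]
      have h1 : ((r • (1 : R)) ⊗ₜ (1 : B₀)) = algebraMap R (R ⊗[RB] B₀) (r : R) := by
        rw [Algebra.smul_def, mul_one]; rfl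
      rw [h1, AlgEquiv.commutes]
      exact D.algebraMap_mem ⟨r, hRBA r.2⟩
    | add x y _ _ hx hy => rw [TensorProduct.tmul_add, map_add]; exact add_mem hx hy
    | mul x y _ _ hx hy =>
      rw [show (1 : R) ⊗ₜ[RB] (x * y) = (1 ⊗ₜ x) * (1 ⊗ₜ y) by
        rw [Algebra.TensorProduct.tmul_mul_tmul, mul_one], map_mul]
      exact mul_mem hx hy
  have hr : ∀ (r : B →ₐ[R] C), (∀ b ∈ gens, r (eB (1 ⊗ₜ b)) ∈ ιC.range) →
      ∃ rA : BA →ₐ[A] CA, ∀ x, ιC (rA x) = r (ιB x) := by
    intro r h
    have hmem : ∀ x, r (ιB x) ∈ ιC.range := fun x =>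
      hgen (ιC.range.comap (r.restrictScalars A)) h ⟨x, rfl⟩
    let e := AlgEquiv.ofInjective ιC hιC
    refine ⟨e.symm.toAlgHom.comp (((r.restrictScalars A).comp ιB).codRestrict ιC.range hmem), fun x => ?_⟩
    exact congrArg Subtype.val (e.apply_symm_apply ⟨r (ιB x), hmem x⟩)
  obtain ⟨r₁A, hr₁A⟩ := hr r₁ fun b hb => hT₁ b A ιC.range.toSubsemiring.toAddSubmonoid
    (fun x hx => hSA (by
      simp only [S, Finset.coe_union, Set.mem_union, Finset.coe_biUnion, Set.mem_iUnion]
      exact Or.inl (Or.inl (Or.inr ⟨b, hb, hx⟩)))) hmemC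
  obtain ⟨r₂A, hr₂A⟩ := hr r₂ fun b hb => hT₂ b A ιC.range.toSubsemiring.toAddSubmonoid
    (fun x hx => hSA (by
      simp only [S, Finset.coe_union, Set.mem_union, Finset.coe_biUnion, Set.mem_iUnion]
      exact Or.inl (Or.inr ⟨b, hb, hx⟩))) hmemC
  obtain ⟨εA, hεA⟩ : ∃ εA : BA →ₐ[A] A, ∀ x, (εA x : R) = ε (ιB x) := by
    have hmem : ∀ x, ε (ιB x) ∈ (Algebra.ofId A R).range := fun x =>
      hgen ((Algebra.ofId A R).range.comap (ε.restrictScalars A))
        (fun b hb => ⟨⟨_, hSA (by
          simp only [S, Finset.coe_union, Set.mem_union, Finset.coe_image, Set.mem_image]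
          exact Or.inr ⟨b, hb, rfl⟩)⟩, rfl⟩) ⟨x, rfl⟩
    let e := AlgEquiv.ofInjective (Algebra.ofId A R) Subtype.val_injective
    exact ⟨e.symm.toAlgHom.comp (((ε.restrictScalars A).comp ιB).codRestrict _ hmem), fun x =>
      congrArg Subtype.val (e.apply_symm_apply ⟨ε (ιB x), hmem x⟩)⟩
  have hfA' : r₁A fA = r₂A fA := hιC (by rw [hr₁A, hr₂A]; exact hfA.symm ▸ hf)
  have hεfA : εA fA = 0 := Subtype.val_injective (by rw [hεA]; exact hfA.symm ▸ hε)
  exact exists_mul_eq_zero_of_model r₁ r₂ ε hk ιB hbcB ιC hbcC r₁A r₂A hr₁A hr₂A εA hεA hfA hfA' hεfA Q hQ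

end descent

end Groth.Agent.H19Grp
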