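import Mathlib

/-!
# Endomorphisms congruent to the identity modulo a square-zero ideal
-/

set_option autoImplicit false
universe u v

namespace Groth.Agent.H19Grp

theorem bijective_of_sub_mem {R : Type u} {A : Type v} [CommRing R] [CommRing A] (ρ : R →+* A)
    (J : Ideal R) (hJ : J * J = ⊥) (σ : A →+* A) (hρ : σ.comp ρ = ρ)
    (hσ : ∀ a, σ a - a ∈ J.map ρ) : Function.Bijective σ := by
  have hI : J.map ρ * J.map ρ = ⊥ := by rw [← Ideal.map_mul, hJ, Ideal.map_bot]
  have hfix : ∀ x ∈ J.map ρ, σ x = x := by
    intro x hx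
    rw [Ideal.map] at hx
    induction hx using Submodule.span_induction with
    | mem y hy => obtain ⟨r, -, rfl⟩ := hy; exact RingHom.congr_fun hρ r
    | zero => simp
    | add y z _ _ hy hz => rw [map_add, hy, hz]
    | smul a y hy' hy =>
      have h0 : (σ a - a) * y = 0 := by
        rw [← Ideal.mem_bot, ← hI]
        exact Ideal.mul_mem_mul (hσ a) hy'
      rw [smul_eq_mul, map_mul, hy]
      rw [sub_mul, sub_eq_zero] at h0
      exact h0
  constructor
  · rw [injective_iff_map_eq_zero]
    intro a ha
    have hm : a ∈ J.map ρ := by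
      have := hσ a
      rwa [ha, zero_sub, neg_mem_iff] at this
    rw [← hfix a hm, ha]
  · intro b
    refine ⟨b - (σ b - b), ?_⟩
    rw [map_sub, hfix _ (hσ b), sub_sub_cancel]

end Groth.Agent.H19Grp
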