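import Mathlib
import Groth.Prelude.Def_Red

/-! The kernel of reduction modulo a square zero ideal of a group scheme is commutative. -/

set_option autoImplicit false
set_option linter.style.haveILetI false
set_option backward.isDefEq.respectTransparency false

universe u

open CategoryTheory CategoryTheory.Limits MonoidalCategory CartesianMonoidalCategory MonObj GrpObj
  AlgebraicGeometry

namespace Groth.Agent.H19Grp.SquareZeroComm

variable {B : Type u} [CommRing B] (I : Ideal B)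

/-- Pairs congruent modulo `I`. -/
def pairs : Subring (B × B) where
  carrier := {b | b.2 - b.1 ∈ I}
  mul_mem' {a b} ha hb := by
    show a.2 * b.2 - a.1 * b.1 ∈ I
    rw [show a.2 * b.2 - a.1 * b.1 = (a.2 - a.1) * b.2 + a.1 * (b.2 - b.1) by ring]
    exact add_mem (I.mul_mem_right _ ha) (I.mul_mem_left _ hb)
  one_mem' := by simp
  add_mem' {a b} ha hb := by
    show a.2 + b.2 - (a.1 + b.1) ∈ I
    rw [show a.2 + b.2 - (a.1 + b.1) = (a.2 - a.1) + (b.2 - b.1) by ring]
    exact add_mem ha hb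
  zero_mem' := by simp
  neg_mem' {a} ha := by
    show -a.2 - -a.1 ∈ I
    rw [show -a.2 - -a.1 = -(a.2 - a.1) by ring]
    exact neg_mem ha

/-- Triples congruent modulo `I`. -/
def triples : Subring (B × B × B) where
  carrier := {b | b.2.1 - b.1 ∈ I ∧ b.2.2 - b.1 ∈ I}
  mul_mem' {a b} ha hb := by
    constructor
    · exact (pairs I).mul_mem (x := (a.1, a.2.1)) (y := (b.1, b.2.1)) ha.1 hb.1
    · exact (pairs I).mul_mem (x := (a.1, a.2.2)) (y := (b.1, b.2.2)) ha.2 hb.2
  one_mem' := by simp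
  add_mem' {a b} ha hb := by
    constructor
    · exact (pairs I).add_mem (x := (a.1, a.2.1)) (y := (b.1, b.2.1)) ha.1 hb.1
    · exact (pairs I).add_mem (x := (a.1, a.2.2)) (y := (b.1, b.2.2)) ha.2 hb.2
  zero_mem' := by simp
  neg_mem' {a} ha := by
    constructor
    · exact (pairs I).neg_mem (x := (a.1, a.2.1)) ha.1
    · exact (pairs I).neg_mem (x := (a.1, a.2.2)) ha.2

/-- first slot -/
def p0 : triples I →+* B := (RingHom.fst B (B × B)).comp (triples I).subtype
/-- second slot -/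
def p1 : triples I →+* B := ((RingHom.fst B B).comp (RingHom.snd B (B × B))).comp (triples I).subtype
/-- third slot -/
def p2 : triples I →+* B := ((RingHom.snd B B).comp (RingHom.snd B (B × B))).comp (triples I).subtype

/-- `(b₀, b₁) ↦ (b₀, b₁, b₀)` -/
def q1 : pairs I →+* triples I where
  toFun b := ⟨(b.1.1, b.1.2, b.1.1), b.2, by simp⟩
  map_one' := rfl
  map_mul' _ _ := rfl
  map_zero' := rfl
  map_add' _ _ := rfl

/-- `(b₀, b₂) ↦ (b₀, b₀, b₂)` -/
def q2 : pairs I →+* triples I where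
  toFun b := ⟨(b.1.1, b.1.1, b.1.2), by simp, b.2⟩
  map_one' := rfl
  map_mul' _ _ := rfl
  map_zero' := rfl
  map_add' _ _ := rfl

/-- `(b₀, b₁, b₂) ↦ b₁ + b₂ - b₀` -/
def σ (hI : I * I = ⊥) : triples I →+* B where
  toFun b := b.1.2.1 + b.1.2.2 - b.1.1
  map_one' := by simp
  map_zero' := by simp
  map_add' a b := by simp; ring
  map_mul' a b := by
    have h : ∀ x ∈ I, ∀ y ∈ I, x * y = 0 := fun x hx y hy => by
      rw [← Ideal.mem_bot, ← hI]; exact Ideal.mul_mem_mul hx hy
    have h1 := h _ a.2.1 _ b.2.2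
    have h2 := h _ a.2.2 _ b.2.1
    simp only [Subring.coe_mul, Prod.fst_mul, Prod.snd_mul]
    linear_combination (-1 : B) * h1 + (-1 : B) * h2

theorem p0_q1_surjective (hI : I * I = ⊥) : Function.Surjective (PrimeSpectrum.comap (p0 I)) := by
  intro P
  have hk : RingHom.ker (p0 I) ≤ P.asIdeal := by
    intro x hx
    have : x ^ 2 = 0 := by
      have h : ∀ x ∈ I, ∀ y ∈ I, x * y = 0 := fun x hx y hy => by
        rw [← Ideal.mem_bot, ← hI]; exact Ideal.mul_mem_mul hx hy
      have hx0 : x.1.1 = 0 := hx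
      have h1 : x.1.2.1 ∈ I := by simpa [hx0] using x.2.1
      have h2 : x.1.2.2 ∈ I := by simpa [hx0] using x.2.2
      refine Subtype.ext ?_
      rw [pow_two, Subring.coe_mul]
      exact Prod.ext (by simp [hx0]) (Prod.ext (h _ h1 _ h1) (h _ h2 _ h2))
    exact P.isPrime.mem_of_pow_mem 2 (this ▸ zero_mem _)
  have hs : Function.Surjective (p0 I) := fun b => ⟨⟨(b, b, b), by simp [triples]⟩, rfl⟩
  have : P ∈ PrimeSpectrum.zeroLocus (RingHom.ker (p0 I) : Set (triples I)) := hk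
  rw [← range_comap_of_surjective _ _ hs] at this
  exact this

variable {R : CommRingCat.{u}} {X : Over (Spec R)} [GrpObj X]

theorem comm_of_affine (β : R ⟶ CommRingCat.of B) (hI : I * I = ⊥)
    (g g' : Over.mk (Spec.map β) ⟶ X) (U : X.left.Opens) (hU : IsAffineOpen U)
    (hone : ∀ y, (1 : Over.mk (Spec.map β) ⟶ X).left y ∈ U)
    (hg : ∀ y, g.left y ∈ U) (hg' : ∀ y, g'.left y ∈ U)
    (hred : Spec.map (CommRingCat.ofHom (Ideal.Quotient.mk I)) ≫ g.left =
      Spec.map (CommRingCat.ofHom (Ideal.Quotient.mk I)) ≫ (1 : Over.mk (Spec.map β) ⟶ X).left)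
    (hred' : Spec.map (CommRingCat.ofHom (Ideal.Quotient.mk I)) ≫ g'.left =
      Spec.map (CommRingCat.ofHom (Ideal.Quotient.mk I)) ≫ (1 : Over.mk (Spec.map β) ⟶ X).left) :
    g * g' = g' * g := by
  let A := Γ(X.left, U)
  -- morphisms into `U` are ring maps
  have hlift : ∀ {Q : CommRingCat.{u}} (f : Spec Q ⟶ X.left), (∀ y, f y ∈ U) →
      ∃ a : A ⟶ Q, Spec.map a ≫ hU.fromSpec = f := by
    intro Q f hf
    have hr : Set.range f ⊆ Set.range hU.fromSpec := by
      rw [hU.range_fromSpec]; rintro _ ⟨y, rfl⟩; exact hf y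
    obtain ⟨a, ha⟩ := Spec.map_surjective (IsOpenImmersion.lift hU.fromSpec f hr)
    exact ⟨a, by rw [ha, IsOpenImmersion.lift_fac]⟩
  obtain ⟨a1, ha1⟩ := hlift (Q := CommRingCat.of B) (1 : Over.mk (Spec.map β) ⟶ X).left hone
  let dia : R ⟶ CommRingCat.of (triples I) :=
    CommRingCat.ofHom ((RingHom.prod β.hom (RingHom.prod β.hom β.hom)).codRestrict (triples I)
      fun r => by simp [triples])
  let T : Over (Spec R) := Over.mk (Spec.map dia)
  let π (p : triples I →+* B) (hp : ∀ r, p (dia.hom r) = β.hom r) : Over.mk (Spec.map β) ⟶ T :=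
    Over.homMk (Spec.map (CommRingCat.ofHom p)) (by
      show Spec.map _ ≫ Spec.map dia = Spec.map β
      rw [← Spec.map_comp]
      congr 1
      ext r
      exact hp r)
  let π0 := π (p0 I) fun _ => rfl
  let π1 := π (p1 I) fun _ => rfl
  let π2 := π (p2 I) fun _ => rfl
  let πs := π (σ I hI) fun r => by show β.hom r + β.hom r - β.hom r = β.hom r; ring
  -- an element with components `1` and `g`
  have hex : ∀ (g : Over.mk (Spec.map β) ⟶ X) (_ : ∀ y, g.left y ∈ U)
      (_ : Spec.map (CommRingCat.ofHom (Ideal.Quotient.mk I)) ≫ g.left =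
        Spec.map (CommRingCat.ofHom (Ideal.Quotient.mk I)) ≫ (1 : Over.mk (Spec.map β) ⟶ X).left)
      (q : pairs I →+* triples I), ∀ (_ : ∀ r, q ⟨(β.hom r, β.hom r), by simp [pairs]⟩ = dia.hom r),
      ∃ h : T ⟶ X, ∀ (p : triples I →+* B) (hp : ∀ r, p (dia.hom r) = β.hom r),
        ((∀ b, p (q b) = b.1.1) → π p hp ≫ h = 1) ∧ ((∀ b, p (q b) = b.1.2) → π p hp ≫ h = g) := by
    intro g hg hred q hq
    obtain ⟨a, ha⟩ := hlift (Q := CommRingCat.of B) g.left hg
    have hmem : ∀ x, (a1.hom x, a.hom x) ∈ pairs I := by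
      intro x
      show a.hom x - a1.hom x ∈ I
      rw [← ha, ← ha1, ← Category.assoc, ← Category.assoc, cancel_mono, ← Spec.map_comp,
        ← Spec.map_comp] at hred
      rw [← Ideal.Quotient.eq]
      exact ConcreteCategory.congr_hom (Spec.map_injective hred) x
    let c : A →+* pairs I := (RingHom.prod a1.hom a.hom).codRestrict (pairs I) hmem
    let ψ : R ⟶ A := Spec.preimage (hU.fromSpec ≫ X.hom)
    have hψ : ∀ (f : Over.mk (Spec.map β) ⟶ X) (b : A ⟶ CommRingCat.of B),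
        Spec.map b ≫ hU.fromSpec = f.left → ψ ≫ b = β := by
      intro f b hb
      apply Spec.map_injective
      rw [Spec.map_comp, Spec.map_preimage, ← Category.assoc, hb]
      exact Over.w f
    have hw : Spec.map (CommRingCat.ofHom (q.comp c)) ≫ hU.fromSpec ≫ X.hom = Spec.map dia := by
      rw [← Spec.map_preimage (hU.fromSpec ≫ X.hom), ← Spec.map_comp]
      congr 1
      refine CommRingCat.hom_ext (RingHom.ext fun r => ?_)
      show q (c (ψ.hom r)) = dia.hom r
      rw [← hq r]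
      congr 1
      exact Subtype.ext (Prod.ext (ConcreteCategory.congr_hom (hψ _ a1 ha1) r)
        (ConcreteCategory.congr_hom (hψ g a ha) r))
    refine ⟨Over.homMk (Spec.map (CommRingCat.ofHom (q.comp c)) ≫ hU.fromSpec)
      ((Category.assoc _ _ _).trans hw), fun p hp => ⟨fun h => ?_, fun h => ?_⟩⟩
    all_goals
      refine Over.OverMorphism.ext ?_
      show Spec.map (CommRingCat.ofHom p) ≫ Spec.map _ ≫ hU.fromSpec = _
      rw [← Category.assoc, ← Spec.map_comp]
    · rw [← ha1]; congr 2; ext x; exact h _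
    · rw [← ha]; congr 2; ext x; exact h _
  obtain ⟨h1, hh1⟩ := hex g hg hred (q1 I) fun _ => rfl
  obtain ⟨h2, hh2⟩ := hex g' hg' hred' (q2 I) fun _ => rfl
  have e0 : π0 ≫ h1 = 1 := (hh1 (p0 I) fun _ => rfl).1 fun _ => rfl
  have e1 : π1 ≫ h1 = g := (hh1 (p1 I) fun _ => rfl).2 fun _ => rfl
  have e2 : π2 ≫ h1 = 1 := (hh1 (p2 I) fun _ => rfl).1 fun _ => rfl
  have f0 : π0 ≫ h2 = 1 := (hh2 (p0 I) fun _ => rfl).1 fun _ => rfl
  have f1 : π1 ≫ h2 = 1 := (hh2 (p1 I) fun _ => rfl).1 fun _ => rfl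
  have f2 : π2 ≫ h2 = g' := (hh2 (p2 I) fun _ => rfl).2 fun _ => rfl
  have hσ : ∀ r, σ I hI (dia.hom r) = β.hom r := fun r => by show β.hom r + β.hom r - β.hom r = β.hom r; ring
  have es : πs ≫ h1 = g := (hh1 (σ I hI) hσ).2 fun b => by
    show b.1.2 + b.1.1 - b.1.1 = b.1.2; ring
  have fs : πs ≫ h2 = g' := (hh2 (σ I hI) hσ).2 fun b => by
    show b.1.1 + b.1.2 - b.1.1 = b.1.2; ring
  suffices h1 * h2 = h2 * h1 by
    have := congrArg (πs ≫ ·) this
    simpa only [MonObj.comp_mul, es, fs] using this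
  have hz : ∀ z : T ⟶ X, π0 ≫ z = 1 → ∀ y : Spec (CommRingCat.of (triples I)), z.left y ∈ U := by
    intro z hz y
    obtain ⟨y', rfl⟩ := p0_q1_surjective I hI y
    have := hone y'
    rw [← hz, Over.comp_left, Scheme.Hom.comp_apply] at this
    exact this
  obtain ⟨c1, hc1⟩ := hlift (Q := CommRingCat.of (triples I)) (h1 * h2).left
    (hz _ (by rw [MonObj.comp_mul, e0, f0, _root_.one_mul]))
  obtain ⟨c2, hc2⟩ := hlift (Q := CommRingCat.of (triples I)) (h2 * h1).left
    (hz _ (by rw [MonObj.comp_mul, e0, f0, _root_.one_mul]))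
  have key : ∀ (p : triples I →+* B) (hp : ∀ r, p (dia.hom r) = β.hom r),
      π p hp ≫ (h1 * h2) = π p hp ≫ (h2 * h1) → ∀ x, p (c1.hom x) = p (c2.hom x) := by
    intro p hp e x
    have e' : Spec.map (CommRingCat.ofHom p) ≫ Spec.map c1 ≫ hU.fromSpec =
        Spec.map (CommRingCat.ofHom p) ≫ Spec.map c2 ≫ hU.fromSpec := by
      rw [hc1, hc2]; exact congrArg (·.left) e
    rw [← Category.assoc, ← Category.assoc, cancel_mono, ← Spec.map_comp, ← Spec.map_comp] at e'
    exact ConcreteCategory.congr_hom (Spec.map_injective e') x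
  have k0 := key _ (fun _ => rfl) (show π0 ≫ _ = π0 ≫ _ by rw [MonObj.comp_mul, MonObj.comp_mul, e0, f0])
  have k1 := key _ (fun _ => rfl) (show π1 ≫ _ = π1 ≫ _ by
    rw [MonObj.comp_mul, MonObj.comp_mul, e1, f1, _root_.one_mul, _root_.mul_one])
  have k2 := key _ (fun _ => rfl) (show π2 ≫ _ = π2 ≫ _ by
    rw [MonObj.comp_mul, MonObj.comp_mul, e2, f2, _root_.one_mul, _root_.mul_one])
  have hc : c1 = c2 := by
    refine CommRingCat.hom_ext (RingHom.ext fun x => ?_)
    exact Subtype.ext (Prod.ext (k0 x) (Prod.ext (k1 x) (k2 x)))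
  refine Over.OverMorphism.ext ?_
  rw [← hc1, ← hc2, hc]

omit [GrpObj X] in
theorem mul_eq_of_locally {Y : Over (Spec R)} (a b : Y ⟶ X)
    (h : ∀ y : Y.left, ∃ V : Y.left.Opens, y ∈ V ∧ V.ι ≫ a.left = V.ι ≫ b.left) : a = b := by
  choose V hy hV using h
  have htop : iSup V = ⊤ := top_le_iff.1 fun y _ => TopologicalSpace.Opens.mem_iSup.2 ⟨y, hy y⟩
  exact Over.OverMorphism.ext ((Scheme.openCoverOfIsOpenCover Y.left V htop).hom_ext _ _ hV)

theorem comm {R₀ : Type u} [CommRing R₀] (J : Ideal R₀) (hJ : J * J = ⊥)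
    (X : Over (Spec (CommRingCat.of R₀))) [GrpObj X] (Y : Over (Spec (CommRingCat.of R₀))) (g g' : Y ⟶ X)
    (hg : (Over.pullback (Spec.map (CommRingCat.ofHom (Ideal.Quotient.mk J)))).map g = 1)
    (hg' : (Over.pullback (Spec.map (CommRingCat.ofHom (Ideal.Quotient.mk J)))).map g' = 1) :
    g * g' = g' * g := by
  let i := Spec.map (CommRingCat.ofHom (Ideal.Quotient.mk J))
  let F := Over.pullback i
  haveI : IsClosedImmersion i := IsClosedImmersion.spec_of_surjective _ Ideal.Quotient.mk_surjective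
  haveI : Surjective i := ⟨fun P => by
    have hP : P ∈ PrimeSpectrum.zeroLocus (RingHom.ker (Ideal.Quotient.mk J) : Set R₀) := by
      intro x hx
      rw [SetLike.mem_coe, Ideal.mk_ker] at hx
      refine P.isPrime.mem_of_pow_mem 2 ?_
      rw [pow_two, show x * x = 0 by rw [← Ideal.mem_bot, ← hJ]; exact Ideal.mul_mem_mul hx hx]
      exact zero_mem _
    rw [← range_comap_of_surjective _ _ Ideal.Quotient.mk_surjective] at hP
    exact hP⟩
  have hone : ∀ u : Y ⟶ X, F.map u = 1 →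
      pullback.fst Y.hom i ≫ u.left = pullback.fst Y.hom i ≫ (1 : Y ⟶ X).left := by
    intro u hu
    have hp : ∀ v : Y ⟶ X, (F.map v).left ≫ pullback.fst X.hom i = pullback.fst Y.hom i ≫ v.left :=
      fun v => by simp [F]
    rw [← hp, ← hp, Functor.map_one, hu]
  have hg₀ := hone g hg
  have hg₀' := hone g' hg'
  have hpt : ∀ u : Y ⟶ X, pullback.fst Y.hom i ≫ u.left = pullback.fst Y.hom i ≫ (1 : Y ⟶ X).left →
      ∀ y, u.left y = (1 : Y ⟶ X).left y := by
    intro u hu y
    obtain ⟨y', rfl⟩ := (pullback.fst Y.hom i).surjective y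
    rw [← Scheme.Hom.comp_apply, hu, Scheme.Hom.comp_apply]
  refine mul_eq_of_locally _ _ fun y => ?_
  obtain ⟨_, ⟨(U : X.left.Opens), hU, rfl⟩, hyU, -⟩ := X.left.isBasis_affineOpens.exists_subset_of_mem_open
    (Set.mem_univ ((1 : Y ⟶ X).left y)) isOpen_univ
  obtain ⟨_, ⟨(V : Y.left.Opens), hV, rfl⟩, hyV, hVU⟩ := Y.left.isBasis_affineOpens.exists_subset_of_mem_open
    (show y ∈ (1 : Y ⟶ X).left ⁻¹ᵁ U from hyU) ((1 : Y ⟶ X).left ⁻¹ᵁ U).2
  refine ⟨V, hyV, ?_⟩
  let B := Γ(Y.left, V)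
  let β : CommRingCat.of R₀ ⟶ CommRingCat.of B := Spec.preimage (hV.fromSpec ≫ Y.hom)
  let v : Over.mk (Spec.map β) ⟶ Y := Over.homMk hV.fromSpec (by
    show hV.fromSpec ≫ Y.hom = Spec.map β
    rw [Spec.map_preimage])
  let I : Ideal B := J.map β.hom
  have hI : I * I = ⊥ := by rw [← Ideal.map_mul, hJ, Ideal.map_bot]
  have hmem : ∀ u : Y ⟶ X, (∀ y, u.left y = (1 : Y ⟶ X).left y) → ∀ z, (v ≫ u).left z ∈ U := by
    intro u hu z
    rw [Over.comp_left, Scheme.Hom.comp_apply, hu]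
    exact hVU (hV.range_fromSpec.subset ⟨z, rfl⟩)
  have hred : ∀ u : Y ⟶ X, pullback.fst Y.hom i ≫ u.left = pullback.fst Y.hom i ≫ (1 : Y ⟶ X).left →
      Spec.map (CommRingCat.ofHom (Ideal.Quotient.mk I)) ≫ (v ≫ u).left =
        Spec.map (CommRingCat.ofHom (Ideal.Quotient.mk I)) ≫ (1 : Over.mk (Spec.map β) ⟶ X).left := by
    intro u hu
    let l : Spec (CommRingCat.of (B ⧸ I)) ⟶ pullback Y.hom i :=
      pullback.lift (Spec.map (CommRingCat.ofHom (Ideal.Quotient.mk I)) ≫ hV.fromSpec)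
        (Spec.map (CommRingCat.ofHom (Ideal.quotientMap I β.hom Ideal.le_comap_map))) (by
          rw [Category.assoc, ← Spec.map_preimage (hV.fromSpec ≫ Y.hom), ← Spec.map_comp, ← Spec.map_comp]
          congr 1)
    rw [← MonObj.comp_one v, Over.comp_left, Over.comp_left, ← Category.assoc, ← Category.assoc,
      show Spec.map (CommRingCat.ofHom (Ideal.Quotient.mk I)) ≫ v.left = l ≫ pullback.fst Y.hom i from
        (pullback.lift_fst _ _ _).symm, Category.assoc, Category.assoc, hu]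
  have key := comm_of_affine (B := B) I β hI (v ≫ g) (v ≫ g') U hU
    (fun z => by rw [← MonObj.comp_one v]; exact hmem 1 (fun _ => rfl) z)
    (hmem g (hpt g hg₀)) (hmem g' (hpt g' hg₀')) (hred g hg₀) (hred g' hg₀')
  rw [← MonObj.comp_mul, ← MonObj.comp_mul] at key
  have := congrArg (·.left) key
  simp only [Over.comp_left] at this
  rw [← hV.isoSpec_hom_fromSpec, Category.assoc, Category.assoc]
  exact congrArg (hV.isoSpec.hom ≫ ·) this

end Groth.Agent.H19Grp.SquareZeroComm
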