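import Groth.Agent.H19Grp.TangentTrivial
import Groth.Agent.H19Grp.Diagonal
import Mathlib

/-!
# Tangent vectors at the unit of a group scheme: scaling is the power map
-/

set_option autoImplicit false
set_option linter.style.haveILetI false
set_option backward.isDefEq.respectTransparency false

universe u

open CategoryTheory CategoryTheory.Limits MonoidalCategory CartesianMonoidalCategory MonObj GrpObj
  AlgebraicGeometry

namespace Groth.Agent.H19Grp.TangentPow

variable {K : Type u} [Field K]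

/-- The ring K ⊕ M. -/
noncomputable abbrev sqzRing (K : Type u) [Field K] (M : Type u) [AddCommGroup M] [Module K M]
    [Module Kᵐᵒᵖ M] [IsCentralScalar K M] : CommRingCat.{u} :=
  CommRingCat.of (TrivSqZeroExt K M)

/-- The scheme Spec (K ⊕ M) over K. -/
noncomputable abbrev sqz (K : Type u) [Field K] (M : Type u) [AddCommGroup M] [Module K M]
    [Module Kᵐᵒᵖ M] [IsCentralScalar K M] : Over (Spec (CommRingCat.of K)) :=
  Over.mk (Spec.map (CommRingCat.ofHom (TrivSqZeroExt.inlHom K M) : CommRingCat.of K ⟶ sqzRing K M))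

variable {M N L : Type u} [AddCommGroup M] [Module K M] [Module Kᵐᵒᵖ M] [IsCentralScalar K M]
  [AddCommGroup N] [Module K N] [Module Kᵐᵒᵖ N] [IsCentralScalar K N]
  [AddCommGroup L] [Module K L] [Module Kᵐᵒᵖ L] [IsCentralScalar K L]

/-- Functoriality of K ⊕ M. -/
noncomputable def ringMap (l : M →ₗ[K] N) : sqzRing K M ⟶ sqzRing K N :=
  CommRingCat.ofHom (TrivSqZeroExt.map l).toRingHom

/-- Functoriality of Spec (K ⊕ M). -/
noncomputable def sqzMap (l : M →ₗ[K] N) : sqz K N ⟶ sqz K M :=
  Over.homMk (Spec.map (ringMap l)) (by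
    show Spec.map (ringMap l) ≫ Spec.map _ = Spec.map _
    rw [← Spec.map_comp]
    congr 1
    ext c : 2
    exact TrivSqZeroExt.map_inl l c)

lemma sqzMap_comp (l : M →ₗ[K] N) (m : N →ₗ[K] L) :
    sqzMap m ≫ sqzMap l = sqzMap (m.comp l) := by
  ext1
  show Spec.map (ringMap m) ≫ Spec.map (ringMap l) = Spec.map (ringMap (m.comp l))
  rw [← Spec.map_comp]
  congr 1
  ext x : 2
  refine TrivSqZeroExt.ext ?_ ?_
  · simp [ringMap]
  · simp [ringMap]

lemma sqzMap_id : sqzMap (LinearMap.id : M →ₗ[K] M) = 𝟙 _ := by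
  ext1
  show Spec.map (ringMap (LinearMap.id : M →ₗ[K] M)) = 𝟙 _
  rw [← Spec.map_id]
  congr 1
  ext x : 2
  refine TrivSqZeroExt.ext ?_ ?_
  · simp [ringMap]
  · simp [ringMap]

variable (K M) in
/-- The closed point. -/
noncomputable def red : 𝟙_ (Over (Spec (CommRingCat.of K))) ⟶ sqz K M :=
  Over.homMk (Spec.map (CommRingCat.ofHom (TrivSqZeroExt.fstHom K K M).toRingHom :
      sqzRing K M ⟶ CommRingCat.of K)) (by
    show Spec.map _ ≫ Spec.map _ = _
    rw [← Spec.map_comp, Over.tensorUnit_hom, ← Spec.map_id]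
    congr 1)

lemma red_sqzMap (l : M →ₗ[K] N) : red K N ≫ sqzMap l = red K M := by
  ext1
  show Spec.map _ ≫ Spec.map _ = Spec.map _
  rw [← Spec.map_comp]
  congr 1
  ext x : 2
  simp [ringMap]

lemma sqzMap_zero : sqzMap (0 : M →ₗ[K] N) = toUnit (sqz K N) ≫ red K M := by
  ext1
  show Spec.map (ringMap (0 : M →ₗ[K] N)) =
    Spec.map (CommRingCat.ofHom (TrivSqZeroExt.inlHom K N)) ≫
      Spec.map (CommRingCat.ofHom (TrivSqZeroExt.fstHom K K M).toRingHom)
  rw [← Spec.map_comp]
  congr 1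
  ext x : 2
  refine TrivSqZeroExt.ext ?_ ?_
  · simp [ringMap]
  · simp [ringMap]

/-- Two points over K ⊕ M agree if their images under jointly injective maps agree. -/
theorem ext_of_jointly_injective {X : Over (Spec (CommRingCat.of K))}
    (y y' : sqz K M ⟶ X) (hred : red K M ≫ y = red K M ≫ y') {J : Type} (π : J → (M →ₗ[K] N))
    (hπ : ∀ m, (∀ i, π i m = 0) → m = 0) (i₀ : J)
    (h : ∀ i, sqzMap (π i) ≫ y = sqzMap (π i) ≫ y') : y = y' := by
  haveI : IsLocalRing (TrivSqZeroExt K M) := IsLocalRing.of_isUnit_or_isUnit_one_sub_self fun z => by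
    simpa [TrivSqZeroExt.isUnit_iff_isUnit_fst] using
      IsLocalRing.isUnit_or_isUnit_one_sub_self (TrivSqZeroExt.fst z)
  haveI : IsLocalRing (sqzRing K M) := ‹IsLocalRing (TrivSqZeroExt K M)›
  let r : sqzRing K M ⟶ CommRingCat.of K := CommRingCat.ofHom (TrivSqZeroExt.fstHom K K M).toRingHom
  haveI : IsLocalHom r.hom := ⟨fun z hz => TrivSqZeroExt.isUnit_iff_isUnit_fst.mpr hz⟩
  have hcp : Spec.map r (IsLocalRing.closedPoint (CommRingCat.of K)) =
      IsLocalRing.closedPoint (sqzRing K M) := Spec_closedPoint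
  have hpt : y'.left (IsLocalRing.closedPoint (sqzRing K M)) =
      y.left (IsLocalRing.closedPoint (sqzRing K M)) := by
    rw [← hcp]
    exact (congrArg (fun φ => φ.left (IsLocalRing.closedPoint K)) hred).symm
  obtain ⟨φ, hφ⟩ := exists_hom_of_closedPoint_eq y.left rfl
  obtain ⟨φ', hφ'⟩ := exists_hom_of_closedPoint_eq y'.left hpt
  have hi : ∀ i, φ ≫ ringMap (π i) = φ' ≫ ringMap (π i) := by
    intro i
    apply Spec.map_injective
    rw [← cancel_mono (X.left.fromSpecStalk _), Spec.map_comp, Spec.map_comp, Category.assoc,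
      Category.assoc]
    exact ((congrArg (Spec.map (ringMap (π i)) ≫ ·) hφ).symm.trans (congrArg (·.left) (h i))).trans
      (congrArg (Spec.map (ringMap (π i)) ≫ ·) hφ')
  have : φ = φ' := by
    ext a : 2
    refine TrivSqZeroExt.ext ?_ (sub_eq_zero.mp (hπ _ fun i => ?_))
    · have := congrArg TrivSqZeroExt.fst (ConcreteCategory.congr_hom (hi i₀) a)
      simpa [ringMap] using this
    · have := congrArg TrivSqZeroExt.snd (ConcreteCategory.congr_hom (hi i) a)
      rw [map_sub, sub_eq_zero]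
      simpa [ringMap] using this
  ext1
  rw [hφ, hφ', this]
  rfl

variable {G : Over (Spec (CommRingCat.of K))} [GrpObj G]

lemma sqzMap_zero_comp {x : sqz K M ⟶ G} (hx : red K M ≫ x = 1) :
    sqzMap (0 : M →ₗ[K] N) ≫ x = 1 := by
  rw [sqzMap_zero, Category.assoc, hx, MonObj.comp_one]

variable (K) in
/-- Scaling of ε. -/
noncomputable def scale (c : K) : sqz K K ⟶ sqz K K := sqzMap (c • LinearMap.id : K →ₗ[K] K)

lemma scale_add {x : sqz K K ⟶ G} (hx : red K K ≫ x = 1) (a b : K) :
    scale K (a + b) ≫ x = (scale K a ≫ x) * (scale K b ≫ x) := by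
  let i₁ : K →ₗ[K] K × K := LinearMap.inl K K K ∘ₗ (a • LinearMap.id)
  let i₂ : K →ₗ[K] K × K := LinearMap.inr K K K ∘ₗ (b • LinearMap.id)
  let d : K →ₗ[K] K × K := LinearMap.prod (a • LinearMap.id) (b • LinearMap.id)
  have hy : sqzMap d ≫ x = (sqzMap i₁ ≫ x) * (sqzMap i₂ ≫ x) := by
    refine ext_of_jointly_injective _ _ ?_
      (fun t : Bool => if t then LinearMap.fst K K K else LinearMap.snd K K K) ?_ true ?_
    · rw [← Category.assoc, red_sqzMap, hx, MonObj.comp_mul, ← Category.assoc, ← Category.assoc,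
        red_sqzMap, red_sqzMap, hx, _root_.mul_one]
    · intro m hm
      exact Prod.ext (by simpa using hm true) (by simpa using hm false)
    · intro t
      rw [MonObj.comp_mul, ← Category.assoc, ← Category.assoc, ← Category.assoc, sqzMap_comp,
        sqzMap_comp, sqzMap_comp]
      cases t
      · have e1 : LinearMap.snd K K K ∘ₗ i₁ = 0 := by ext; simp [i₁]
        have e2 : LinearMap.snd K K K ∘ₗ i₂ = b • LinearMap.id := by ext; simp [i₂]
        have e3 : LinearMap.snd K K K ∘ₗ d = b • LinearMap.id := by ext; simp [d]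
        simp only [Bool.false_eq_true, ↓reduceIte]
        rw [e1, e2, e3, sqzMap_zero_comp hx, _root_.one_mul]
      · have e1 : LinearMap.fst K K K ∘ₗ i₁ = a • LinearMap.id := by ext; simp [i₁]
        have e2 : LinearMap.fst K K K ∘ₗ i₂ = 0 := by ext; simp [i₂]
        have e3 : LinearMap.fst K K K ∘ₗ d = a • LinearMap.id := by ext; simp [d]
        simp only [↓reduceIte]
        rw [e1, e2, e3, sqzMap_zero_comp hx, _root_.mul_one]
  let σ : K × K →ₗ[K] K := LinearMap.fst K K K + LinearMap.snd K K K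
  have := congrArg (sqzMap σ ≫ ·) hy
  simp only [MonObj.comp_mul, ← Category.assoc, sqzMap_comp] at this
  have e1 : σ ∘ₗ i₁ = a • LinearMap.id := by ext; simp [σ, i₁]
  have e2 : σ ∘ₗ i₂ = b • LinearMap.id := by ext; simp [σ, i₂]
  have e3 : σ ∘ₗ d = (a + b) • LinearMap.id := by ext; simp [σ, d]
  rw [e1, e2, e3] at this
  exact this

lemma scale_zero {x : sqz K K ⟶ G} (hx : red K K ≫ x = 1) : scale K (0 : K) ≫ x = 1 := by
  rw [scale, zero_smul]; exact sqzMap_zero_comp hx

lemma scale_one (x : sqz K K ⟶ G) : scale K (1 : K) ≫ x = x := by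
  rw [scale, one_smul, sqzMap_id]; exact Category.id_comp _

lemma scale_natCast {x : sqz K K ⟶ G} (hx : red K K ≫ x = 1) (n : ℕ) :
    scale K (n : K) ≫ x = x ^ n := by
  induction n with
  | zero => rw [Nat.cast_zero, scale_zero hx, pow_zero]
  | succ n ih => rw [Nat.cast_succ, scale_add hx, ih, scale_one, pow_succ]

lemma scale_intCast {x : sqz K K ⟶ G} (hx : red K K ≫ x = 1) (n : ℤ) :
    scale K (n : K) ≫ x = x ^ n := by
  obtain ⟨m, rfl | rfl⟩ := n.eq_nat_or_neg
  · rw [Int.cast_natCast, scale_natCast hx, zpow_natCast]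
  · have h := scale_add hx (-(m : K)) (m : K)
    rw [neg_add_cancel, scale_zero hx, scale_natCast hx] at h
    rw [Int.cast_neg, Int.cast_natCast, zpow_neg, zpow_natCast]
    exact eq_inv_of_mul_eq_one_left h.symm

/-- A tangent vector at the unit killed by an invertible power is trivial. -/
theorem eq_one_of_zpow_eq_one {x : sqz K K ⟶ G} (hx : red K K ≫ x = 1) (n : ℤ) (hn : (n : K) ≠ 0)
    (h : x ^ n = 1) : x = 1 := by
  rw [← scale_intCast hx] at h
  have h2 := congrArg (scale K (n : K)⁻¹ ≫ ·) h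
  simp only [MonObj.comp_one, ← Category.assoc] at h2
  have e : scale K (n : K)⁻¹ ≫ scale K (n : K) = scale K (1 : K) := by
    rw [scale, scale, sqzMap_comp]
    show _ = sqzMap _
    congr 1
    ext
    simp [inv_mul_cancel₀ hn]
  rwa [e, scale_one] at h2

end Groth.Agent.H19Grp.TangentPow
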