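import Mathlib

/-!
# The group of units of a monoid scheme
-/

set_option autoImplicit false
set_option linter.style.haveILetI false
universe u

open CategoryTheory Limits AlgebraicGeometry MonoidalCategory CartesianMonoidalCategory MonObj

namespace Groth.Agent.H19Grp.UnitGroup

variable {S : Scheme.{u}} (M : Over S) [MonObj M]

/-- (x, y) ↦ (xy, yx). -/
noncomputable def prodMap : M ⊗ M ⟶ M ⊗ M :=
  lift (fst M M * snd M M) (snd M M * fst M M)

/-- The point (1, 1). -/
noncomputable def onePt : 𝟙_ (Over S) ⟶ M ⊗ M := lift η[M] η[M]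

/-- Pairs of mutually inverse points. -/
noncomputable abbrev units : Over S := pullback (prodMap M) (onePt M)

/-- The inclusion. -/
noncomputable abbrev unitsι : units M ⟶ M := pullback.fst (prodMap M) (onePt M) ≫ fst M M

/-- The inverse. -/
noncomputable abbrev unitsInv : units M ⟶ M := pullback.fst (prodMap M) (onePt M) ≫ snd M M

lemma mul_inv : unitsι M * unitsInv M = 1 := by
  have h := congr($(pullback.condition (f := prodMap M) (g := onePt M)) ≫ fst M M)
  simp only [prodMap, onePt, Category.assoc, lift_fst, MonObj.comp_mul] at h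
  rw [Hom.one_def, Subsingleton.elim (toUnit (units M)) (pullback.snd (prodMap M) (onePt M))]
  exact h

lemma inv_mul : unitsInv M * unitsι M = 1 := by
  have h := congr($(pullback.condition (f := prodMap M) (g := onePt M)) ≫ snd M M)
  simp only [prodMap, onePt, Category.assoc, lift_snd, MonObj.comp_mul] at h
  rw [Hom.one_def, Subsingleton.elim (toUnit (units M)) (pullback.snd (prodMap M) (onePt M))]
  exact h

instance : Mono (unitsι M) := by
  refine ⟨fun {T} g g' h => ?_⟩
  have hinv : g ≫ unitsInv M = g' ≫ unitsInv M := by
    refine left_inv_eq_right_inv (a := g ≫ unitsι M) ?_ ?_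
    · rw [← MonObj.comp_mul, inv_mul, MonObj.comp_one]
    · rw [h, ← MonObj.comp_mul, mul_inv, MonObj.comp_one]
  apply pullback.hom_ext
  · apply CartesianMonoidalCategory.hom_ext
    · simpa only [Category.assoc] using h
    · simpa only [Category.assoc] using hinv
  · exact Subsingleton.elim _ _

lemma exists_iff {T : Over S} (m : T ⟶ M) :
    (∃ g : T ⟶ units M, g ≫ unitsι M = m) ↔ IsUnit m := by
  constructor
  · rintro ⟨g, rfl⟩
    exact ⟨⟨g ≫ unitsι M, g ≫ unitsInv M, by rw [← MonObj.comp_mul, mul_inv, MonObj.comp_one],
      by rw [← MonObj.comp_mul, inv_mul, MonObj.comp_one]⟩, rfl⟩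
  · rintro ⟨u, rfl⟩
    have h : lift (u : T ⟶ M) (↑u⁻¹ : T ⟶ M) ≫ prodMap M = toUnit T ≫ onePt M := by
      apply CartesianMonoidalCategory.hom_ext
      · rw [prodMap, onePt, Category.assoc, Category.assoc, lift_fst, lift_fst, MonObj.comp_mul,
          lift_fst, lift_snd, Units.mul_inv, Hom.one_def]
      · rw [prodMap, onePt, Category.assoc, Category.assoc, lift_snd, lift_snd, MonObj.comp_mul,
          lift_fst, lift_snd, Units.inv_mul, Hom.one_def]
    exact ⟨pullback.lift _ _ h, by rw [unitsι, pullback.lift_fst_assoc, lift_fst]⟩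

lemma isPullback_left : IsPullback (pullback.fst (prodMap M) (onePt M)).left
    (pullback.snd (prodMap M) (onePt M)).left (prodMap M).left (onePt M).left :=
  (IsPullback.of_hasPullback _ _).map (Over.forget S)

instance isImmersion_onePt : IsImmersion (onePt M).left := by
  haveI : IsImmersion ((onePt M).left ≫ (M ⊗ M).hom) := by
    rw [Over.w]; exact inferInstanceAs (IsImmersion (𝟙 S))
  exact IsImmersion.of_comp (onePt M).left (M ⊗ M).hom

instance isImmersion_fst : IsImmersion (pullback.fst (prodMap M) (onePt M)).left :=
  MorphismProperty.of_isPullback (isPullback_left M).flip inferInstance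

theorem isAffine_units [IsAffine S] [IsAffine M.left] : IsAffine (units M).left := by
  haveI : IsAffine (M ⊗ M).left := by
    rw [Over.tensorObj_left]; infer_instance
  haveI : IsAffineHom (onePt M).left := by
    haveI : IsAffine (𝟙_ (Over S)).left := by rw [Over.tensorUnit_left]; infer_instance
    infer_instance
  haveI : IsAffineHom (pullback.fst (prodMap M) (onePt M)).left :=
    MorphismProperty.of_isPullback (isPullback_left M).flip inferInstance
  exact isAffine_of_isAffineHom (pullback.fst (prodMap M) (onePt M)).left

theorem finiteType_units [IsLocallyNoetherian S] [CompactSpace S] [LocallyOfFiniteType M.hom]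
    [QuasiCompact M.hom] :
    LocallyOfFiniteType (units M).hom ∧ QuasiCompact (units M).hom := by
  haveI h1 : LocallyOfFiniteType (M ⊗ M).hom := by
    rw [Over.tensorObj_hom]; infer_instance
  haveI h2 : QuasiCompact (M ⊗ M).hom := by
    rw [Over.tensorObj_hom]; infer_instance
  haveI : IsLocallyNoetherian (M ⊗ M).left := LocallyOfFiniteType.isLocallyNoetherian (M ⊗ M).hom
  haveI : CompactSpace (M ⊗ M).left := QuasiCompact.compactSpace_of_compactSpace (M ⊗ M).hom
  haveI : IsNoetherian (M ⊗ M).left := {}
  haveI : QuasiCompact (pullback.fst (prodMap M) (onePt M)).left := by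
    haveI : TopologicalSpace.NoetherianSpace (units M).left :=
      (pullback.fst (prodMap M) (onePt M)).left.isEmbedding.isInducing.noetherianSpace
    exact ⟨fun U _ _ => TopologicalSpace.NoetherianSpace.isCompact _⟩
  rw [← Over.w (pullback.fst (prodMap M) (onePt M))]
  exact ⟨inferInstanceAs (LocallyOfFiniteType (_ ≫ _)),
    inferInstanceAs (QuasiCompact ((pullback.fst (prodMap M) (onePt M)).left ≫ (M ⊗ M).hom))⟩

end Groth.Agent.H19Grp.UnitGroup
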