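import Groth.Agent.H19Grp.AbSchemeRigid
import Groth.Agent.H19Grp.AlgClosedGeom
import Groth.Agent.H8Props.FibreIsoLocus
import Groth.Agent.H17.SchDense
import Mathlib

/-!
# Proper schemes with a unital multiplication

Over an algebraically closed field, the translations of a unital multiplication on a proper integral
scheme are isomorphisms.
-/

set_option autoImplicit false
set_option linter.style.haveILetI false
set_option backward.isDefEq.respectTransparency false

universe u

open CategoryTheory CategoryTheory.Limits MonoidalCategory CartesianMonoidalCategory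
  AlgebraicGeometry TopologicalSpace

namespace Groth.Agent.H19Grp.UnitalMul

variable {k : Type u} [Field k] [IsAlgClosed k] {X : Over (Spec (CommRingCat.of k))} [IsProper X.hom]
  [GeometricallyIntegral X.hom] (e : 𝟙_ (Over (Spec (CommRingCat.of k))) ⟶ X) (m : X ⊗ X ⟶ X)
  (h₁ : lift (𝟙 X) (toUnit X ≫ e) ≫ m = 𝟙 X) (h₂ : lift (toUnit X ≫ e) (𝟙 X) ≫ m = 𝟙 X)

omit [IsAlgClosed k] [IsProper X.hom] [GeometricallyIntegral X.hom] in
theorem isPullback_slice (x : 𝟙_ (Over (Spec (CommRingCat.of k))) ⟶ X) :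
    IsPullback (lift (toUnit X ≫ x) (𝟙 X)).left X.hom (fst X X).left x.left := by
  refine IsPullback.of_right (h₁₂ := (snd X X).left) (v₁₃ := X.hom) (h₂₂ := X.hom) ?_ ?_
    (IsPullback.of_hasPullback X.hom X.hom).flip
  · rw [← Over.comp_left, lift_snd, Over.w x]
    haveI : IsIso (𝟙_ (Over (Spec (CommRingCat.of k)))).hom := inferInstanceAs (IsIso (𝟙 _))
    exact IsPullback.of_horiz_isIso ⟨rfl⟩
  · rw [← Over.comp_left, lift_fst]; rfl

omit [IsAlgClosed k] [IsProper X.hom] [GeometricallyIntegral X.hom] in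
theorem isPullback_translation (x : 𝟙_ (Over (Spec (CommRingCat.of k))) ⟶ X) :
    IsPullback (lift (toUnit X ≫ x) (𝟙 X)).left (lift (toUnit X ≫ x) (𝟙 X) ≫ m).left
      (lift (fst X X) m).left (lift (toUnit X ≫ x) (𝟙 X)).left := by
  refine IsPullback.of_bot (v₂₁ := X.hom) (v₂₂ := (fst X X).left) (h₃₁ := x.left) ?_ ?_ (isPullback_slice x)
  · rw [Over.w (lift (toUnit X ≫ x) (𝟙 X) ≫ m), ← Over.comp_left, lift_fst]
    exact isPullback_slice x
  · rw [← Over.comp_left, ← Over.comp_left]
    congr 1
    refine CartesianMonoidalCategory.hom_ext _ _ ?_ ?_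
    · simp only [Category.assoc, lift_fst]
      rw [← Category.assoc m, ← Category.assoc (lift (toUnit X ≫ x) (𝟙 X))]
      congr 1
      exact toUnit_unique _ _
    · simp

omit [GeometricallyIntegral X.hom] in
/-- A closed point where the translation is an isomorphism lies in the fibrewise isomorphism locus. -/
theorem isIso_snd_fiberι {s : X.left} (hs : IsClosed ({s} : Set X.left))
    (x : 𝟙_ (Over (Spec (CommRingCat.of k))) ⟶ X) (hx : x.left = pointOfClosedPoint X.hom s hs)
    [IsIso (lift (toUnit X ≫ x) (𝟙 X) ≫ m).left] :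
    IsIso (pullback.snd (lift (fst X X) m).left ((fst X X).left.fiberι s)) := by
  let F := (fst X X).left.fiber s
  let j : F ⟶ X.left := (fst X X).left.fiberι s ≫ (snd X X).left
  let q : Spec (X.left.residueField s) ⟶ Spec (CommRingCat.of k) :=
    Spec.map (residueFieldIsoBase X.hom s hs).inv
  have hq : q ≫ x.left = X.left.fromSpecResidueField s := by
    rw [hx]
    simp only [q, pointOfClosedPoint, ← Spec.map_comp_assoc, Iso.hom_inv_id, Spec.map_id, Category.id_comp]
  have hj : j ≫ (lift (toUnit X ≫ x) (𝟙 X)).left = (fst X X).left.fiberι s := by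
    refine pullback.hom_ext ?_ ?_
    · show (j ≫ _) ≫ (fst X X).left = (fst X X).left.fiberι s ≫ (fst X X).left
      rw [Category.assoc, ← Over.comp_left, lift_fst, (fst X X).left.fiber_fac s, Over.comp_left, ← hq]
      show j ≫ X.hom ≫ x.left = (fst X X).left.fiberToSpecResidueField s ≫ q ≫ x.left
      have : j ≫ X.hom = (fst X X).left.fiberToSpecResidueField s ≫ q := by
        rw [Category.assoc, Over.w (snd X X), ← Over.w (fst X X), ← Category.assoc,
          (fst X X).left.fiber_fac s, Category.assoc]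
        exact congrArg (_ ≫ ·) (SpecMap_residueFieldIsoBase_inv X.hom s hs).symm
      rw [reassoc_of% this]
    · show (j ≫ _) ≫ (snd X X).left = (fst X X).left.fiberι s ≫ (snd X X).left
      rw [Category.assoc, ← Over.comp_left, lift_snd]
      exact Category.comp_id _
  haveI : IsIso (pullback.snd (lift (fst X X) m).left (lift (toUnit X ≫ x) (𝟙 X)).left) := by
    rw [← (isPullback_translation m x).isoPullback_inv_snd]
    infer_instance
  have h : ∀ k', k' = j ≫ (lift (toUnit X ≫ x) (𝟙 X)).left →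
      IsIso (pullback.snd (lift (fst X X) m).left k') := by
    rintro k' rfl
    have h2 : IsIso (pullback.snd (pullback.snd (lift (fst X X) m).left (lift (toUnit X ≫ x) (𝟙 X)).left) j) :=
      MorphismProperty.pullback_snd (P := MorphismProperty.isomorphisms Scheme) _ _ ‹_›
    rw [← pullbackLeftPullbackSndIso_hom_snd] at h2
    exact IsIso.of_isIso_comp_left (pullbackLeftPullbackSndIso (lift (fst X X) m).left _ j).hom _
  exact h _ hj.symm

include h₁ h₂ in
/-- The shear map of a unital multiplication is an isomorphism. -/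
theorem isIso_shear : IsIso (lift (fst X X) m).left := by
  let σ := fun x : 𝟙_ (Over (Spec (CommRingCat.of k))) ⟶ X => lift (toUnit X ≫ x) (𝟙 X)
  let Φ := lift (fst X X) m
  have hΦ : Φ.left ≫ (fst X X).left = (fst X X).left := by rw [← Over.comp_left, lift_fst]
  haveI : IsProper (fst X X).left := MorphismProperty.pullback_fst X.hom X.hom inferInstance
  haveI : Flat X.hom := H12AlgSp.flat_to_field _
  haveI : LocallyOfFinitePresentation X.hom := inferInstance
  haveI : Flat (fst X X).left := MorphismProperty.pullback_fst X.hom X.hom inferInstance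
  haveI : LocallyOfFinitePresentation (fst X X).left := MorphismProperty.pullback_fst X.hom X.hom inferInstance
  haveI : LocallyOfFinitePresentation (Φ.left ≫ (fst X X).left) := by rw [hΦ]; infer_instance
  haveI : Flat (Φ.left ≫ (fst X X).left) := by rw [hΦ]; infer_instance
  haveI : IsProper (Φ.left ≫ (fst X X).left) := by rw [hΦ]; infer_instance
  obtain ⟨U, hU, hUiso⟩ := H8Props.FibreCriterion.exists_isIso_morphismRestrict Φ.left (fst X X).left
  haveI : LocallyOfFiniteType X.hom := inferInstance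
  haveI := LocallyOfFiniteType.jacobsonSpace X.hom
  have hL : ∀ (x : 𝟙_ (Over (Spec (CommRingCat.of k))) ⟶ X) (s : X.left) (hs : IsClosed ({s} : Set X.left)),
      x.left = pointOfClosedPoint X.hom s hs → IsIso (σ x ≫ m).left → s ∈ U := fun x s hs hx h =>
    (hU s).2 (@isIso_snd_fiberι k _ _ X _ m s hs x hx h)
  let pt : Spec (CommRingCat.of k) := IsLocalRing.closedPoint k
  have hpt : ∀ x : 𝟙_ (Over (Spec (CommRingCat.of k))) ⟶ X, ∃ hs : IsClosed ({x.left pt} : Set X.left),
      x.left = pointOfClosedPoint X.hom (x.left pt) hs := by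
    intro x
    let p := (pointEquivClosedPoint X.hom) ⟨x.left, Over.w x⟩
    exact ⟨p.2, (congrArg Subtype.val ((pointEquivClosedPoint X.hom).symm_apply_apply ⟨x.left, Over.w x⟩)).symm⟩
  have heU : e.left pt ∈ U := by
    obtain ⟨hs, he⟩ := hpt e
    refine hL e _ hs he ?_
    rw [show σ e ≫ m = 𝟙 X from h₂]
    exact inferInstanceAs (IsIso (𝟙 X.left))
  -- the graph of the inverse on the locus
  haveI : IsIntegral X.left := GeometricallyIntegral.isIntegral_of_subsingleton X.hom
  let P := (fst X X).left ⁻¹ᵁ U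
  haveI : IsIso (Φ.left ∣_ P) := hUiso
  haveI : Nonempty U.toScheme := ⟨⟨_, heU⟩⟩
  haveI : IsIntegral U.toScheme := inferInstance
  let se : U.toScheme ⟶ (X ⊗ X).left := U.ι ≫ (lift (𝟙 X) (toUnit X ≫ e)).left
  have hse : se ≫ (fst X X).left = U.ι := by
    rw [Category.assoc, ← Over.comp_left, lift_fst]; exact Category.comp_id _
  let se' : U.toScheme ⟶ P.toScheme := IsOpenImmersion.lift P.ι se (by
    rintro _ ⟨z, rfl⟩
    refine P.range_ι.ge ?_
    show (fst X X).left (se z) ∈ U
    rw [← Scheme.Hom.comp_apply, hse]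
    exact z.2)
  let γ : U.toScheme ⟶ (X ⊗ X).left := se' ≫ inv (Φ.left ∣_ P) ≫ (Φ.left ⁻¹ᵁ P).ι
  have hγ : γ ≫ Φ.left = se := by
    simp only [γ, Category.assoc, ← morphismRestrict_ι]
    rw [IsIso.inv_hom_id_assoc, IsOpenImmersion.lift_fac]
  have hγ₁ : γ ≫ (fst X X).left = U.ι := by
    rw [← hΦ, ← Category.assoc, hγ, hse]
  have hγm : γ ≫ m.left = (U.ι ≫ X.hom) ≫ e.left := by
    have : Φ.left ≫ (snd X X).left = m.left := by rw [← Over.comp_left, lift_snd]
    rw [← this, ← Category.assoc, hγ, Category.assoc, ← Over.comp_left, lift_snd, Category.assoc]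
    rfl
  haveI : QuasiCompact γ := by
    haveI : IsLocallyNoetherian X.left := LocallyOfFiniteType.isLocallyNoetherian X.hom
    haveI : CompactSpace X.left := QuasiCompact.compactSpace_of_compactSpace X.hom
    haveI : IsNoetherian X.left := {}
    haveI : IsLocallyNoetherian U.toScheme := LocallyOfFiniteType.isLocallyNoetherian U.ι
    haveI : CompactSpace U.toScheme := isCompact_iff_compactSpace.mp (NoetherianSpace.isCompact _)
    haveI : IsNoetherian U.toScheme := {}
    haveI : (X ⊗ X).left.IsSeparated := ⟨by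
      haveI : IsSeparated (X ⊗ X).hom := by
        rw [← Over.w (fst X X)]; infer_instance
      rw [← terminal.comp_from (X ⊗ X).hom]
      exact MorphismProperty.comp_mem _ _ _ inferInstance inferInstance⟩
    infer_instance
  let Γ : Over (Spec (CommRingCat.of k)) := Over.mk (γ.imageι ≫ (X ⊗ X).hom)
  let ιΓ : Γ ⟶ X ⊗ X := Over.homMk γ.imageι rfl
  haveI : IsSchemeTheoreticallyDominant γ.toImage := ⟨H17.ker_toImage γ⟩
  haveI : IsReduced γ.image := IsSchemeTheoreticallyDominant.isReduced γ.toImage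
  haveI : IrreducibleSpace ↥γ.image := by
    have h := ((IrreducibleSpace.isIrreducible_univ ↥U.toScheme).image γ.toImage
      γ.toImage.continuous.continuousOn).closure
    rw [Set.image_univ, (Scheme.Hom.denseRange γ.toImage).closure_range] at h
    exact irreducibleSpace_def _ |>.2 h
  haveI : IsIntegral Γ.left := isIntegral_of_irreducibleSpace_of_isReduced γ.image
  haveI : IsProper Γ.hom := by
    show IsProper (γ.imageι ≫ (X ⊗ X).hom)
    haveI : IsProper (X ⊗ X).hom := by rw [← Over.w (fst X X)]; infer_instance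
    infer_instance
  haveI : GeometricallyIntegral Γ.hom := by
    haveI := geometricallyIrreducible_of_irreducibleSpace Γ.hom
    haveI : GeometricallyReduced Γ.hom := H06Red.geometricallyReduced_of_perfectField Γ.hom
    exact GeometricallyIntegral.of_geometricallyReduced_of_geometricallyIrreducible _
  let g₁ : Γ ⟶ X := ιΓ ≫ fst X X
  let g₂ : Γ ⟶ X := ιΓ ≫ snd X X
  have hgm : ιΓ ≫ m = toUnit Γ ≫ e := by
    apply Over.OverMorphism.ext
    haveI : X.left.IsSeparated := ⟨by
      rw [← terminal.comp_from X.hom]; exact MorphismProperty.comp_mem _ _ _ inferInstance inferInstance⟩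
    haveI : IsReduced Γ.left := inferInstanceAs (IsReduced γ.image)
    refine ext_of_isDominant γ.toImage ?_
    show γ.toImage ≫ γ.imageι ≫ m.left = γ.toImage ≫ (γ.imageι ≫ (X ⊗ X).hom) ≫ e.left
    rw [Scheme.Hom.toImage_imageι_assoc, hγm, Category.assoc γ.imageι, Scheme.Hom.toImage_imageι_assoc,
      ← Over.w (fst X X)]
    simp only [Category.assoc]
    rw [reassoc_of% hγ₁]
  -- `L_{g₁} ∘ L_{g₂} = 1`
  have key : lift (fst Γ X ≫ g₁) (lift (fst Γ X ≫ g₂) (snd Γ X) ≫ m) ≫ m = snd Γ X := by
    obtain ⟨g, hg⟩ := H25Rig.exists_factor_of_const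
      (lift (fst Γ X ≫ g₁) (lift (fst Γ X ≫ g₂) (snd Γ X) ≫ m) ≫ m) e e (by
        have e1 : lift g₂ (toUnit Γ ≫ e) ≫ m = g₂ := by
          rw [show lift g₂ (toUnit Γ ≫ e) = g₂ ≫ lift (𝟙 X) (toUnit X ≫ e) by
            rw [comp_lift, Category.comp_id, ← Category.assoc, toUnit_unique (g₂ ≫ toUnit X) (toUnit Γ)],
            Category.assoc, h₁, Category.comp_id]
        rw [comp_lift_assoc, comp_lift_assoc, lift_fst_assoc, lift_fst_assoc, lift_snd, Category.id_comp,
          Category.id_comp, e1]
        have : lift g₁ g₂ = ιΓ := by simp only [g₁, g₂, ← comp_lift, lift_fst_snd, Category.comp_id]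
        rw [this, hgm])
    let c : 𝟙_ (Over (Spec (CommRingCat.of k))) ⟶ Γ :=
      Over.homMk (IsOpenImmersion.lift U.ι e.left (by
        rintro _ ⟨z, rfl⟩
        rw [Subsingleton.elim (α := PrimeSpectrum k) z pt]
        exact U.range_ι.ge heU) ≫ γ.toImage) (by
          show (_ ≫ γ.toImage) ≫ γ.imageι ≫ (X ⊗ X).hom = _
          rw [Category.assoc, Scheme.Hom.toImage_imageι_assoc, ← Over.w (fst X X), reassoc_of% hγ₁,
            IsOpenImmersion.lift_fac_assoc, Over.w e])
    have hc₁ : c ≫ g₁ = e := by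
      apply Over.OverMorphism.ext
      show (_ ≫ γ.toImage) ≫ γ.imageι ≫ (fst X X).left = e.left
      rw [Category.assoc, Scheme.Hom.toImage_imageι_assoc, hγ₁, IsOpenImmersion.lift_fac]
    have hc₂ : c ≫ g₂ = e := by
      obtain ⟨d, hd⟩ : ∃ d, c ≫ g₂ = d := ⟨_, rfl⟩
      rw [hd]
      have h3 : c ≫ ιΓ ≫ m = e := by
        rw [hgm, ← Category.assoc, toUnit_unique (c ≫ toUnit Γ) (𝟙 _), Category.id_comp]
      have h4 : c ≫ ιΓ = lift (c ≫ g₁) (c ≫ g₂) := by
        simp only [g₁, g₂, ← Category.assoc, ← comp_lift, lift_fst_snd, Category.comp_id]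
      rw [← Category.assoc, h4, hc₁, hd] at h3
      rw [← h3, show lift e d = d ≫ lift (toUnit X ≫ e) (𝟙 X) by
        rw [comp_lift, Category.comp_id, ← Category.assoc, toUnit_unique (d ≫ toUnit X) (𝟙 _),
          Category.id_comp], Category.assoc, h₂, Category.comp_id]
    have hg1 : g = 𝟙 X := by
      have e2 : ∀ φ : X ⟶ X, lift (toUnit X ≫ e) φ ≫ m = φ := fun φ => by
        rw [show lift (toUnit X ≫ e) φ = φ ≫ lift (toUnit X ≫ e) (𝟙 X) by
          rw [comp_lift, Category.comp_id, ← Category.assoc, toUnit_unique (φ ≫ toUnit X) (toUnit X)],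
          Category.assoc, h₂, Category.comp_id]
      have h5 := congrArg (lift (toUnit X ≫ c) (𝟙 X) ≫ ·) hg
      simp only [comp_lift_assoc, lift_fst_assoc, lift_snd, lift_snd_assoc, Category.assoc, hc₁, hc₂,
        Category.id_comp] at h5
      rw [e2, e2] at h5
      exact h5.symm
    rw [hg, hg1, Category.comp_id]
  have hright : ∀ x : 𝟙_ (Over (Spec (CommRingCat.of k))) ⟶ X, ∃ x' : 𝟙_ (Over (Spec (CommRingCat.of k))) ⟶ X,
      (σ x' ≫ m) ≫ (σ x ≫ m) = 𝟙 X := by
    intro x
    haveI : IsProper g₁.left := by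
      haveI : IsProper (g₁.left ≫ X.hom) := by rw [Over.w g₁]; infer_instance
      exact IsProper.of_comp g₁.left X.hom
    have hd : IsDominant g₁.left := by
      refine ⟨Dense.mono ?_ (U.2.dense ⟨_, heU⟩)⟩
      intro u hu
      refine ⟨γ.toImage ⟨u, hu⟩, ?_⟩
      show (γ.toImage ≫ γ.imageι ≫ (fst X X).left) ⟨u, hu⟩ = u
      rw [Scheme.Hom.toImage_imageι_assoc, hγ₁]
      rfl
    haveI : LocallyOfFiniteType Γ.hom := inferInstance
    haveI := LocallyOfFiniteType.jacobsonSpace Γ.hom
    obtain ⟨hs, hx⟩ := hpt x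
    have hne : (g₁.left ⁻¹' {x.left pt}).Nonempty := by
      have hr : Set.range g₁.left = Set.univ :=
        g₁.left.isClosedMap.isClosed_range.closure_eq.symm.trans hd.denseRange.closure_range
      exact Set.preimage_singleton_nonempty (f := g₁.left) |>.2 (hr ▸ Set.mem_univ _)
    obtain ⟨w, hw, hwc⟩ := nonempty_inter_closedPoints hne (hs.preimage g₁.left.continuous).isLocallyClosed
    let p : 𝟙_ (Over (Spec (CommRingCat.of k))) ⟶ Γ :=
      Over.homMk (pointOfClosedPoint Γ.hom w hwc) (pointOfClosedPoint_comp _ _ _)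
    have hp : p ≫ g₁ = x := by
      apply Over.OverMorphism.ext
      have h6 := (pointEquivClosedPoint X.hom).injective
        (a₁ := ⟨(p ≫ g₁).left, Over.w (p ≫ g₁)⟩) (a₂ := ⟨x.left, Over.w x⟩) (Subtype.ext ?_)
      · exact congrArg Subtype.val h6
      · show (p ≫ g₁).left pt = x.left pt
        rw [Over.comp_left, Scheme.Hom.comp_apply, show p.left pt = w from pointOfClosedPoint_apply _ _ _ _]
        exact hw
    refine ⟨p ≫ g₂, ?_⟩
    have h7 := congrArg (lift (toUnit X ≫ p) (𝟙 X) ≫ ·) key
    simp only [comp_lift_assoc, lift_fst_assoc, lift_snd, Category.assoc, hp] at h7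
    refine Eq.trans ?_ h7
    simp only [σ, comp_lift_assoc, Category.assoc, Category.comp_id]
    congr 2
    simp only [← Category.assoc]
    exact congrArg (· ≫ x) (toUnit_unique _ _)
  have hall : ∀ x, IsIso (σ x ≫ m).left := by
    intro x
    obtain ⟨x', hx'⟩ := hright x
    obtain ⟨x'', hx''⟩ := hright x'
    have heq : σ x'' ≫ m = σ x ≫ m := by
      have := congrArg (· ≫ (σ x ≫ m)) hx''
      rwa [Category.assoc, hx', Category.comp_id, Category.id_comp] at this
    haveI : IsIso (σ x ≫ m) := ⟨σ x' ≫ m, heq ▸ hx'', hx'⟩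
    exact ((Over.forget _).mapIso (asIso (σ x ≫ m))).isIso_hom
  have htop : U = ⊤ := by
    by_contra hne
    obtain ⟨y, hy, hyc⟩ := nonempty_inter_closedPoints (Z := ((U : Set X.left))ᶜ)
      (Set.nonempty_compl.2 fun h => hne (Opens.coe_eq_univ.1 h)) U.2.isClosed_compl.isLocallyClosed
    exact hy (hL (Over.homMk (pointOfClosedPoint X.hom y hyc) (pointOfClosedPoint_comp _ _ _)) y hyc rfl (hall _))
  have hP : P = ⊤ := by rw [show P = (fst X X).left ⁻¹ᵁ U from rfl, htop]; rfl
  have h := (IsZariskiLocalAtTarget.iff_of_iSup_eq_top (P := MorphismProperty.isomorphisms Scheme)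
    (f := Φ.left) (fun _ : PUnit.{1} => P) (by simp [hP])).2 fun _ => ‹IsIso (Φ.left ∣_ P)›
  exact h

end Groth.Agent.H19Grp.UnitalMul
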