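import Groth.Agent.H19Grp.UnitalMul
import Mathlib.AlgebraicGeometry.Morphisms.FlatDescent

/-!
# Unital multiplications on proper flat schemes over any base
-/

set_option autoImplicit false
set_option linter.style.haveILetI false
set_option backward.isDefEq.respectTransparency false

universe u

open CategoryTheory CategoryTheory.Limits MonoidalCategory CartesianMonoidalCategory
  AlgebraicGeometry TopologicalSpace Functor.LaxMonoidal

namespace Groth.Agent.H19Grp.UnitalMul

section pull

variable {S' S : Scheme.{u}} (i : S' ⟶ S) {X : Over S}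

local notation "F" => Over.pullback i

variable (e : 𝟙_ (Over S) ⟶ X) (m : X ⊗ X ⟶ X)

theorem toUnit_map {Z : Over S} (x : 𝟙_ (Over S) ⟶ X) :
    toUnit ((F).obj Z) ≫ ε F ≫ (F).map x = (F).map (toUnit Z ≫ x) := by
  rw [← Category.assoc, Functor.map_comp]
  congr 1
  rw [← cancel_mono (Functor.Monoidal.εIso F).inv]
  exact toUnit_unique _ _

theorem map_unit_laws (h₁ : lift (𝟙 X) (toUnit X ≫ e) ≫ m = 𝟙 X) (h₂ : lift (toUnit X ≫ e) (𝟙 X) ≫ m = 𝟙 X) :
    lift (𝟙 ((F).obj X)) (toUnit ((F).obj X) ≫ ε F ≫ (F).map e) ≫ μ F X X ≫ (F).map m = 𝟙 _ ∧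
    lift (toUnit ((F).obj X) ≫ ε F ≫ (F).map e) (𝟙 ((F).obj X)) ≫ μ F X X ≫ (F).map m = 𝟙 _ := by
  constructor <;>
    rw [toUnit_map, ← (F).map_id, ← Category.assoc, Functor.Monoidal.lift_μ, ← Functor.map_comp]
  · rw [h₁]
  · rw [h₂]

theorem map_shear : μ F X X ≫ (F).map (lift (fst X X) m) =
    lift (fst ((F).obj X) ((F).obj X)) (μ F X X ≫ (F).map m) ≫ μ F X X := by
  rw [← Functor.Monoidal.lift_μ, ← Category.assoc, comp_lift, Functor.Monoidal.μ_fst]

end pull

variable {k : Type u} [Field k] {X : Over (Spec (CommRingCat.of k))} [IsProper X.hom]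
  [GeometricallyIntegral X.hom] (e : 𝟙_ (Over (Spec (CommRingCat.of k))) ⟶ X) (m : X ⊗ X ⟶ X)
  (h₁ : lift (𝟙 X) (toUnit X ≫ e) ≫ m = 𝟙 X) (h₂ : lift (toUnit X ≫ e) (𝟙 X) ≫ m = 𝟙 X)

include h₁ h₂ in
theorem isIso_shear_field : IsIso (lift (fst X X) m).left := by
  let i : Spec (CommRingCat.of (AlgebraicClosure k)) ⟶ Spec (CommRingCat.of k) :=
    Spec.map (CommRingCat.ofHom (algebraMap k (AlgebraicClosure k)))
  let F := Over.pullback i
  haveI : IsProper (F.obj X).hom := MorphismProperty.pullback_snd X.hom i inferInstance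
  haveI : GeometricallyIntegral (F.obj X).hom := MorphismProperty.pullback_snd X.hom i inferInstance
  obtain ⟨H1, H2⟩ := map_unit_laws i e m h₁ h₂
  haveI := isIso_shear (ε F ≫ F.map e) (μ F X X ≫ F.map m) H1 H2
  haveI : IsIso (μ F X X).left := ((Over.forget _).mapIso (Functor.Monoidal.μIso F X X)).isIso_hom
  have h : IsIso ((F.map (lift (fst X X) m)).left) := by
    have h3 := congrArg Over.Hom.left (map_shear i m)
    rw [Over.comp_left, Over.comp_left] at h3
    haveI : IsIso ((μ F X X).left ≫ (F.map (lift (fst X X) m)).left) := by rw [h3]; infer_instance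
    exact IsIso.of_isIso_comp_left (μ F X X).left _
  have hi : (@Surjective ⊓ @Flat ⊓ @QuasiCompact : MorphismProperty Scheme) (pullback.fst (X ⊗ X).hom i) := by
    haveI : Surjective i := ⟨fun x => ⟨Classical.arbitrary _, Subsingleton.elim _ _⟩⟩
    haveI : Flat i := H12AlgSp.flat_to_field _
    exact ⟨⟨inferInstance, inferInstance⟩, inferInstance⟩
  exact MorphismProperty.of_isPullback_of_descendsAlong (P := MorphismProperty.isomorphisms Scheme)
    (isPullback_map i (lift (fst X X) m)).flip hi h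

end Groth.Agent.H19Grp.UnitalMul

namespace Groth.Agent.H19Grp.UnitalMul

variable {S : Scheme.{u}} {X : Over S} [IsProper X.hom] [Flat X.hom] [LocallyOfFinitePresentation X.hom]
  [GeometricallyIntegral X.hom] (e : 𝟙_ (Over S) ⟶ X) (m : X ⊗ X ⟶ X)
  (h₁ : lift (𝟙 X) (toUnit X ≫ e) ≫ m = 𝟙 X) (h₂ : lift (toUnit X ≫ e) (𝟙 X) ≫ m = 𝟙 X)

include h₁ h₂ in
theorem isIso_shear_base : IsIso (lift (fst X X) m) := by
  let Φ := lift (fst X X) m
  haveI : Flat (fst X X).left := MorphismProperty.pullback_fst X.hom X.hom inferInstance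
  haveI : LocallyOfFinitePresentation (fst X X).left := MorphismProperty.pullback_fst X.hom X.hom inferInstance
  haveI : Flat (X ⊗ X).hom := by rw [← Over.w (fst X X)]; infer_instance
  haveI : LocallyOfFinitePresentation (X ⊗ X).hom := by rw [← Over.w (fst X X)]; infer_instance
  haveI : Flat (Φ.left ≫ (X ⊗ X).hom) := by rw [Over.w Φ]; infer_instance
  haveI : LocallyOfFinitePresentation (Φ.left ≫ (X ⊗ X).hom) := by rw [Over.w Φ]; infer_instance
  have h : IsIso Φ.left := by
    refine H8Props.FibreCriterion.isIso_of_snd Φ.left (X ⊗ X).hom fun s => ?_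
    let F := Over.pullback (S.fromSpecResidueField s)
    haveI : IsProper (F.obj X).hom := MorphismProperty.pullback_snd X.hom _ inferInstance
    haveI : GeometricallyIntegral (F.obj X).hom := MorphismProperty.pullback_snd X.hom _ inferInstance
    obtain ⟨H1, H2⟩ := map_unit_laws (S.fromSpecResidueField s) e m h₁ h₂
    haveI := isIso_shear_field (ε F ≫ F.map e) (μ F X X ≫ F.map m) H1 H2
    haveI : IsIso (μ F X X).left := ((Over.forget _).mapIso (Functor.Monoidal.μIso F X X)).isIso_hom
    refine fibre_snd_of_map Φ (P := MorphismProperty.isomorphisms Scheme) s ?_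
    have h3 := congrArg Over.Hom.left (map_shear (S.fromSpecResidueField s) m)
    rw [Over.comp_left, Over.comp_left] at h3
    haveI : IsIso ((μ F X X).left ≫ (F.map Φ).left) := by rw [h3]; infer_instance
    exact IsIso.of_isIso_comp_left (μ F X X).left _
  haveI : IsIso ((Over.forget S).map Φ) := h
  exact isIso_of_reflects_iso Φ (Over.forget S)

include h₁ h₂ in
theorem unit_mul {Z : Over S} (a : Z ⟶ X) : lift (toUnit Z ≫ e) a ≫ m = a := by
  have : lift (toUnit Z ≫ e) a = a ≫ lift (toUnit X ≫ e) (𝟙 X) := by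
    rw [comp_lift, Category.comp_id, ← Category.assoc, toUnit_unique (a ≫ toUnit X) (toUnit Z)]
  rw [this, Category.assoc, h₂, Category.comp_id]

include h₁ h₂ in
theorem mul_unit {Z : Over S} (a : Z ⟶ X) : lift a (toUnit Z ≫ e) ≫ m = a := by
  have : lift a (toUnit Z ≫ e) = a ≫ lift (𝟙 X) (toUnit X ≫ e) := by
    rw [comp_lift, Category.comp_id, ← Category.assoc, toUnit_unique (a ≫ toUnit X) (toUnit Z)]
  rw [this, Category.assoc, h₁, Category.comp_id]

omit [IsProper X.hom] [Flat X.hom] [LocallyOfFinitePresentation X.hom] [GeometricallyIntegral X.hom] in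
theorem lift_fst_inv_snd [IsIso (lift (fst X X) m)] {Z : Over S} (a b : Z ⟶ X) :
    lift a (lift a b ≫ inv (lift (fst X X) m) ≫ snd X X) ≫ m = b := by
  have hi : inv (lift (fst X X) m) ≫ fst X X = fst X X := by rw [IsIso.inv_comp_eq, lift_fst]
  have he : lift a (lift a b ≫ inv (lift (fst X X) m) ≫ snd X X) = lift a b ≫ inv (lift (fst X X) m) := by
    apply CartesianMonoidalCategory.hom_ext
    · rw [lift_fst, Category.assoc, hi, lift_fst]
    · rw [lift_snd, Category.assoc]
  have hm : inv (lift (fst X X) m) ≫ m = snd X X := by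
    rw [IsIso.inv_comp_eq, lift_snd]
  rw [he, Category.assoc, hm, lift_snd]

omit [IsProper X.hom] [Flat X.hom] [LocallyOfFinitePresentation X.hom] [GeometricallyIntegral X.hom] in
theorem left_cancel [IsIso (lift (fst X X) m)] {Z : Over S} (a b c : Z ⟶ X)
    (h : lift a b ≫ m = lift a c ≫ m) : b = c := by
  have : lift a b ≫ lift (fst X X) m = lift a c ≫ lift (fst X X) m := by
    simp only [comp_lift, lift_fst, h]
  simpa using congrArg (· ≫ snd X X) ((cancel_mono _).1 this)

include h₁ h₂ in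
/-- A unital multiplication on a proper flat scheme with geometrically integral fibres is associative. -/
theorem assoc_mul {Z : Over S} (a b c : Z ⟶ X) :
    lift (lift a b ≫ m) c ≫ m = lift a (lift b c ≫ m) ≫ m := by
  haveI := isIso_shear_base e m h₁ h₂
  let T := (X ⊗ X) ⊗ X
  let z : T ⟶ X := snd (X ⊗ X) X
  let x : T ⟶ X := fst (X ⊗ X) X ≫ fst X X
  let y : T ⟶ X := fst (X ⊗ X) X ≫ snd X X
  let Dv : T ⟶ X := lift (lift x y ≫ m) (lift x (lift y z ≫ m) ≫ m) ≫ inv (lift (fst X X) m) ≫ snd X X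
  have hD : lift (lift x y ≫ m) Dv ≫ m = lift x (lift y z ≫ m) ≫ m := lift_fst_inv_snd m _ _
  let G : T ⟶ X := lift z Dv ≫ inv (lift (fst X X) m) ≫ snd X X
  have hG : lift z G ≫ m = Dv := lift_fst_inv_snd m _ _
  -- on a slice
  let σ : X ⊗ X ⟶ T := lift (𝟙 (X ⊗ X)) (toUnit (X ⊗ X) ≫ e)
  have hσz : σ ≫ z = toUnit (X ⊗ X) ≫ e := lift_snd _ _
  have hσD : σ ≫ Dv = toUnit (X ⊗ X) ≫ e := by
    refine left_cancel m (σ ≫ (lift x y ≫ m)) _ _ ?_
    have := congrArg (σ ≫ ·) hD
    simp only [comp_lift_assoc, hσz, mul_unit e m h₁ h₂] at this ⊢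
    exact this
  have hσG : σ ≫ G = toUnit (X ⊗ X) ≫ e := by
    have := congrArg (σ ≫ ·) hG
    simp only [comp_lift_assoc, hσz, hσD, unit_mul e m h₁ h₂] at this
    exact this
  -- on the middle section
  let τ : X ⟶ T := lift (toUnit X ≫ lift e e) (𝟙 X)
  have hτz : τ ≫ z = 𝟙 X := lift_snd _ _
  have hτx : τ ≫ x = toUnit X ≫ e := by simp [τ, x]
  have hτy : τ ≫ y = toUnit X ≫ e := by simp [τ, y]
  have hτD : τ ≫ Dv = 𝟙 X := by
    have := congrArg (τ ≫ ·) hD
    simp only [comp_lift_assoc, hτx, hτy, hτz, unit_mul e m h₁ h₂] at this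
    exact this
  -- the fibres
  haveI : IsProper (fst (X ⊗ X) X).left := MorphismProperty.pullback_fst (X ⊗ X).hom X.hom inferInstance
  haveI : Flat (fst (X ⊗ X) X).left := MorphismProperty.pullback_fst (X ⊗ X).hom X.hom inferInstance
  haveI : LocallyOfFinitePresentation (fst (X ⊗ X) X).left :=
    MorphismProperty.pullback_fst (X ⊗ X).hom X.hom inferInstance
  haveI : GeometricallyIntegral (fst (X ⊗ X) X).left :=
    MorphismProperty.pullback_fst (X ⊗ X).hom X.hom inferInstance
  have hval : ∀ t : T.left, G.left t = e.left (T.hom t) := by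
    intro t
    obtain ⟨w, hw⟩ := exists_fibre_point T (rfl : T.hom t = _)
    let i := S.fromSpecResidueField (T.hom t)
    let F := Over.pullback i
    haveI : IsProper (F.obj X).hom := MorphismProperty.pullback_snd X.hom _ inferInstance
    haveI : GeometricallyIntegral (F.obj X).hom := MorphismProperty.pullback_snd X.hom _ inferInstance
    let A : Over (Spec (S.residueField (T.hom t))) := F.obj X ⊗ F.obj X
    haveI : IsProper A.hom := by
      haveI : IsProper (fst (F.obj X) (F.obj X)).left :=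
        MorphismProperty.pullback_fst (F.obj X).hom (F.obj X).hom inferInstance
      rw [← Over.w (fst (F.obj X) (F.obj X))]; infer_instance
    haveI : GeometricallyIntegral A.hom := H25Rig.geometricallyIntegral_tensor _ _
    let Θ : A ⊗ F.obj X ⟶ F.obj T := μ F X X ▷ F.obj X ≫ μ F (X ⊗ X) X
    haveI : IsIso (μ F X X) := (Functor.Monoidal.μIso F X X).isIso_hom
    haveI : IsIso (μ F (X ⊗ X) X) := (Functor.Monoidal.μIso F (X ⊗ X) X).isIso_hom
    have hΘz : Θ ≫ F.map z = snd A (F.obj X) := by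
      simp only [Θ, z, Category.assoc, Functor.Monoidal.μ_snd, whiskerRight_snd]
      rfl
    have hΘσ : lift (𝟙 A) (toUnit A ≫ ε F ≫ F.map e) ≫ Θ = μ F X X ≫ F.map σ := by
      simp only [Θ, σ, lift_whiskerRight_assoc, Category.id_comp]
      rw [← Functor.Monoidal.lift_μ, F.map_id, ← Category.assoc (μ F X X), comp_lift, Category.comp_id,
        ← toUnit_map i e, ← Category.assoc (μ F X X), toUnit_unique (μ F X X ≫ toUnit _) (toUnit A)]
    have hΘτ : lift (toUnit (F.obj X) ≫ lift (ε F ≫ F.map e) (ε F ≫ F.map e)) (𝟙 (F.obj X)) ≫ Θ =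
        F.map τ := by
      simp only [Θ, τ, lift_whiskerRight_assoc]
      rw [← Functor.Monoidal.lift_μ, F.map_id, Category.assoc (toUnit _)]
      congr 2
      rw [← toUnit_map i (lift e e)]
      congr 1
      rw [← Functor.Monoidal.lift_μ, ← Category.assoc, comp_lift]
    obtain ⟨g, hg⟩ := H25Rig.exists_factor_of_const (Θ ≫ F.map Dv) (ε F ≫ F.map e) (ε F ≫ F.map e) (by
      rw [← Category.assoc, hΘσ, Category.assoc, ← F.map_comp, hσD, ← toUnit_map i e, ← Category.assoc,
        toUnit_unique (μ F X X ≫ toUnit _) (toUnit A)])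
    have hg1 : g = 𝟙 _ := by
      have := congrArg (lift (toUnit (F.obj X) ≫ lift (ε F ≫ F.map e) (ε F ≫ F.map e)) (𝟙 (F.obj X)) ≫ ·) hg
      rw [← Category.assoc, hΘτ, ← F.map_comp, hτD, F.map_id] at this
      exact (this.trans ((lift_snd_assoc _ _ _).trans (Category.id_comp _))).symm
    have hDz : F.map Dv = F.map z := by
      haveI : IsIso Θ := by infer_instance
      rw [← cancel_epi Θ, hΘz, hg, hg1, Category.comp_id]
    obtain ⟨H1, H2⟩ := map_unit_laws i e m h₁ h₂
    haveI := isIso_shear_base (ε F ≫ F.map e) (μ F X X ≫ F.map m) H1 H2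
    have hGe : F.map G = F.map (toUnit T ≫ e) := by
      refine left_cancel (μ F X X ≫ F.map m) (F.map z) _ _ ?_
      rw [← Category.assoc, ← Category.assoc, Functor.Monoidal.lift_μ, Functor.Monoidal.lift_μ,
        ← F.map_comp, ← F.map_comp, hG, mul_unit e m h₁ h₂, hDz]
    rw [← hw, ← Scheme.Hom.comp_apply, (isPullback_map i G).w, hGe, ← (isPullback_map i _).w,
      Scheme.Hom.comp_apply]
    rfl
  have hGall : G = toUnit T ≫ e := by
    have := eq_of_const_fibre (fst (X ⊗ X) X).left σ.left (by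
      rw [← Over.comp_left, lift_fst]; rfl) G.left (fun t => by
      rw [hval, hval, ← Scheme.Hom.comp_apply, ← Scheme.Hom.comp_apply, Over.w σ,
        Over.w (fst (X ⊗ X) X)])
    apply Over.OverMorphism.ext
    rw [this, ← Over.comp_left, ← Over.comp_left, hσG]
    exact congrArg (fun w => (w ≫ e).left) (toUnit_unique (fst (X ⊗ X) X ≫ toUnit (X ⊗ X)) (toUnit T))
  have hDz : Dv = z := by
    rw [← hG, hGall, mul_unit e m h₁ h₂]
  have hmain : lift (lift x y ≫ m) z ≫ m = lift x (lift y z ≫ m) ≫ m := hDz ▸ hD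
  have := congrArg (lift (lift a b) c ≫ ·) hmain
  simpa only [x, y, z, T, comp_lift_assoc, comp_lift, lift_fst_assoc, lift_fst, lift_snd, lift_snd_assoc,
    Category.assoc] using this

end Groth.Agent.H19Grp.UnitalMul
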