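import Groth.Agent.H28Neron.UnitProduct
import Groth.Agent.H27SekSuwa.GmVal
import Groth.Agent.H06Red.Scheme
import Groth.Agent.H13AlgSp.EtaleLocally
import Mathlib

/-!
# Units on products of varieties and on connected group varieties (Rosenlicht)
-/

set_option autoImplicit false
set_option maxHeartbeats 1000000
set_option synthInstance.maxHeartbeats 100000
set_option linter.style.haveILetI false
set_option backward.isDefEq.respectTransparency false
set_option backward.isDefEq.respectTransparency.types false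

universe u

open CategoryTheory CategoryTheory.Limits MonoidalCategory CartesianMonoidalCategory MonObj AlgebraicGeometry

namespace Groth.Agent.H19Grp.UnitsProd

variable {k : Type u} [Field k]

/-- Pull back of functions. -/
noncomputable abbrev pb {X Y : Over (Spec (CommRingCat.of k))} (m : X ⟶ Y) : Γ(Y.left, ⊤) →+* Γ(X.left, ⊤) :=
  m.left.appTop.hom

theorem pb_comp {X Y Z : Over (Spec (CommRingCat.of k))} (a : X ⟶ Y) (b : Y ⟶ Z) (f : Γ(Z.left, ⊤)) :
    pb (a ≫ b) f = pb a (pb b f) := by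
  show (a.left ≫ b.left).appTop f = _
  rw [Scheme.Hom.comp_appTop]
  rfl

theorem pb_id {X : Over (Spec (CommRingCat.of k))} (f : Γ(X.left, ⊤)) : pb (𝟙 X) f = f := by
  show (Scheme.Hom.appTop (𝟙 X.left)) f = f
  rw [Scheme.Hom.id_appTop]
  rfl

theorem exists_point [IsAlgClosed k] (X : Over (Spec (CommRingCat.of k))) [LocallyOfFiniteType X.hom]
    [Nonempty X.left] : Nonempty (𝟙_ (Over (Spec (CommRingCat.of k))) ⟶ X) := by
  haveI : JacobsonSpace X.left := LocallyOfFiniteType.jacobsonSpace X.hom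
  obtain ⟨x, -, hx⟩ := nonempty_inter_closedPoints (Z := (Set.univ : Set X.left)) Set.univ_nonempty
    isClosed_univ.isLocallyClosed
  exact ⟨Over.homMk (pointOfClosedPoint X.hom x hx) (pointOfClosedPoint_comp _ _ _)⟩

theorem gvX_mul' {W : Over (Spec (CommRingCat.of k))} (h h' : W ⟶ Red.Gm (Spec (CommRingCat.of k))) :
    H27SekSuwa.gvX (R := ULift.{u} ℤ) (f := IsTerminal.from specULiftZIsTerminal _) (h * h') =
      H27SekSuwa.gvX (R := ULift.{u} ℤ) (f := IsTerminal.from specULiftZIsTerminal _) h *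
        H27SekSuwa.gvX (R := ULift.{u} ℤ) (f := IsTerminal.from specULiftZIsTerminal _) h' :=
  H27SekSuwa.gvX_mul h h'

theorem gvX_inj {W : Over (Spec (CommRingCat.of k))} (a b : W ⟶ Red.Gm (Spec (CommRingCat.of k)))
    (hh : H27SekSuwa.gvX (R := ULift.{u} ℤ) (f := IsTerminal.from specULiftZIsTerminal _) a = H27SekSuwa.gvX (R := ULift.{u} ℤ) (f := IsTerminal.from specULiftZIsTerminal _) b) : a = b :=
  H27SekSuwa.gvX_injective hh

theorem idem_one {C : Type*} [Category C] [CartesianMonoidalCategory C] {G : C} [GrpObj G] {W : C}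
    (h : W ⟶ G) (e : h * h = h) : h = 1 := mul_eq_left.mp e

theorem one_idem {C : Type*} [Category C] [CartesianMonoidalCategory C] {G : C} [GrpObj G] {W : C}
    (h : W ⟶ G) (e : h = 1) : h * h = h := by rw [e, _root_.one_mul]

/-- A unit on a product which is trivial on both axes is trivial. -/
theorem eq_one [IsAlgClosed k] {X Y : Over (Spec (CommRingCat.of k))} [LocallyOfFiniteType X.hom]
    [QuasiCompact X.hom] [ConnectedSpace X.left] [IsReduced X.left] [LocallyOfFiniteType Y.hom]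
    [QuasiCompact Y.hom] [ConnectedSpace Y.left] [IsReduced Y.left]
    (x : 𝟙_ (Over (Spec (CommRingCat.of k))) ⟶ X) (y : 𝟙_ (Over (Spec (CommRingCat.of k))) ⟶ Y)
    (v : Γ((X ⊗ Y).left, ⊤)) (hv : IsUnit v) (hX : pb (lift (𝟙 X) (toUnit X ≫ y)) v = 1)
    (hY : pb (lift (toUnit Y ≫ x) (𝟙 Y)) v = 1) : v = 1 := by
  haveI : GeometricallyReduced X.hom := H06Red.geometricallyReduced_of_perfectField X.hom
  haveI : GeometricallyReduced Y.hom := H06Red.geometricallyReduced_of_perfectField Y.hom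
  haveI : Flat X.hom := H12AlgSp.flat_to_field _
  haveI : Flat Y.hom := H12AlgSp.flat_to_field _
  haveI : IsLocallyNoetherian Y.left := LocallyOfFiniteType.isLocallyNoetherian Y.hom
  haveI : IsReduced (X ⊗ Y).left := inferInstanceAs (IsReduced (pullback X.hom Y.hom))
  haveI : LocallyOfFiniteType (Red.Gm (Spec (CommRingCat.of k))).hom := by
    show LocallyOfFiniteType (pullback.snd _ _)
    haveI : LocallyOfFiniteType (Red.diag (ULift.{u} ℤ) ℤ).hom := by
      show LocallyOfFiniteType (Spec.map _)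
      rw [HasRingHomProperty.Spec_iff (P := @LocallyOfFiniteType)]
      exact RingHom.finiteType_algebraMap.2 inferInstance
    infer_instance
  obtain ⟨u, hu⟩ := H27SekSuwa.exists_gvX (R := ULift.{u} ℤ) (f := IsTerminal.from specULiftZIsTerminal _)
    (Y := X ⊗ Y) hv
  have hidem : ∀ {W : Over (Spec (CommRingCat.of k))} (h : W ⟶ Red.Gm (Spec (CommRingCat.of k))),
      H27SekSuwa.gvX (R := ULift.{u} ℤ) (f := IsTerminal.from specULiftZIsTerminal _) h = 1 → h = 1 := by
    intro W h hh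
    have e1 : H27SekSuwa.gvX (R := ULift.{u} ℤ) (f := IsTerminal.from specULiftZIsTerminal _) (h * h) = H27SekSuwa.gvX (R := ULift.{u} ℤ) (f := IsTerminal.from specULiftZIsTerminal _) h := by rw [gvX_mul', hh, _root_.one_mul]
    exact idem_one h (gvX_inj _ _ e1)
  have h1 : u = 1 := H28Neron.UnitProduct.eq_one x y u
    (hidem _ (by rw [H27SekSuwa.gvX_comp, hu]; exact hX))
    (hidem _ (by rw [H27SekSuwa.gvX_comp, hu]; exact hY))
  have h3 : v * v = v := by rw [← hu, ← gvX_mul', one_idem u h1]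
  exact hv.mul_left_cancel (h3.trans (_root_.mul_one v).symm)

/-- A unit on a product of varieties is a product of units of the factors. -/
theorem exists_split [IsAlgClosed k] {X Y : Over (Spec (CommRingCat.of k))} [LocallyOfFiniteType X.hom]
    [QuasiCompact X.hom] [ConnectedSpace X.left] [IsReduced X.left] [LocallyOfFiniteType Y.hom]
    [QuasiCompact Y.hom] [ConnectedSpace Y.left] [IsReduced Y.left]
    (f : Γ((X ⊗ Y).left, ⊤)) (hf : IsUnit f) :
    ∃ (g : Γ(X.left, ⊤)) (h : Γ(Y.left, ⊤)), IsUnit g ∧ IsUnit h ∧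
      f = pb (fst X Y) g * pb (snd X Y) h := by
  obtain ⟨x⟩ := exists_point X
  obtain ⟨y⟩ := exists_point Y
  let g := pb (lift (𝟙 X) (toUnit X ≫ y)) f
  let c := pb (lift x y) f
  obtain ⟨c', hc'⟩ := isUnit_iff_exists_inv.1 (show IsUnit c from hf.map _)
  let h := pb (lift (toUnit Y ≫ x) (𝟙 Y)) f * pb (toUnit Y) c'
  have hg : IsUnit g := hf.map _
  have hh : IsUnit h := (hf.map _).mul ((IsUnit.of_mul_eq_one_right c hc').map _)
  refine ⟨g, h, hg, hh, ?_⟩
  have hw : IsUnit (pb (fst X Y) g * pb (snd X Y) h) := (hg.map _).mul (hh.map _)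
  obtain ⟨w', hw'⟩ := isUnit_iff_exists_inv.1 hw
  have hA : pb (lift (𝟙 X) (toUnit X ≫ y)) (pb (fst X Y) g * pb (snd X Y) h) = g := by
    rw [map_mul, ← pb_comp _ (fst X Y), ← pb_comp _ (snd X Y), lift_fst, lift_snd, pb_id, pb_comp (toUnit X) y,
      map_mul (pb y), ← pb_comp y, ← pb_comp y, comp_lift, Category.comp_id, ← Category.assoc, toUnit_unique (y ≫ toUnit Y) (𝟙 _),
      Category.id_comp, pb_id]
    show g * pb (toUnit X) (c * c') = g
    rw [hc', map_one, _root_.mul_one]
  have hB : pb (lift (toUnit Y ≫ x) (𝟙 Y)) (pb (fst X Y) g * pb (snd X Y) h) =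
      pb (lift (toUnit Y ≫ x) (𝟙 Y)) f := by
    rw [map_mul, ← pb_comp _ (fst X Y), ← pb_comp _ (snd X Y), lift_fst, lift_snd, pb_id, pb_comp (toUnit Y) x, ← pb_comp x,
      comp_lift, Category.comp_id, ← Category.assoc, toUnit_unique (x ≫ toUnit X) (𝟙 _), Category.id_comp]
    show pb (toUnit Y) c * (pb (lift (toUnit Y ≫ x) (𝟙 Y)) f * pb (toUnit Y) c') = _
    rw [mul_left_comm, ← map_mul, hc', map_one, _root_.mul_one]
  have hone := eq_one x y (f * w') (hf.mul (IsUnit.of_mul_eq_one_right _ hw')) ?_ ?_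
  · calc f = f * ((pb (fst X Y) g * pb (snd X Y) h) * w') := by rw [hw', _root_.mul_one]
      _ = (f * w') * (pb (fst X Y) g * pb (snd X Y) h) := by ring
      _ = _ := by rw [hone, _root_.one_mul]
  · rw [map_mul, show pb (lift (𝟙 X) (toUnit X ≫ y)) f = pb (lift (𝟙 X) (toUnit X ≫ y))
      (pb (fst X Y) g * pb (snd X Y) h) from hA.symm, ← map_mul, hw', map_one]
  · rw [map_mul, ← hB, ← map_mul, hw', map_one]

/-- A unit with value one at the origin of a connected group variety is a character. -/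
theorem isCharacter [IsAlgClosed k] {G : Over (Spec (CommRingCat.of k))} [GrpObj G] [LocallyOfFiniteType G.hom]
    [QuasiCompact G.hom] [ConnectedSpace G.left] [IsReduced G.left]
    (f : Γ(G.left, ⊤)) (hf : IsUnit f) (he : pb η[G] f = 1) :
    pb μ[G] f = pb (fst G G) f * pb (snd G G) f := by
  obtain ⟨w', hw'⟩ := isUnit_iff_exists_inv.1 ((hf.map (pb (fst G G))).mul (hf.map (pb (snd G G))))
  have h1 : ∀ W : Over (Spec (CommRingCat.of k)), pb (1 : W ⟶ G) f = 1 := fun W => by
    rw [Hom.one_def, pb_comp, he, map_one]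
  have hone := eq_one (η[G]) (η[G]) (pb μ[G] f * w') ((hf.map _).mul (IsUnit.of_mul_eq_one_right _ hw')) ?_ ?_
  · calc pb μ[G] f = pb μ[G] f * ((pb (fst G G) f * pb (snd G G) f) * w') := by rw [hw', _root_.mul_one]
      _ = (pb μ[G] f * w') * (pb (fst G G) f * pb (snd G G) f) := by ring
      _ = _ := by rw [hone, _root_.one_mul]
  · rw [map_mul, show pb (lift (𝟙 G) (toUnit G ≫ η[G])) (pb μ[G] f) =
      pb (lift (𝟙 G) (toUnit G ≫ η[G])) (pb (fst G G) f * pb (snd G G) f) from ?_, ← map_mul, hw', map_one]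
    rw [map_mul, ← pb_comp, ← pb_comp, ← pb_comp, lift_fst, lift_snd, ← Hom.one_def, ← Hom.mul_def,
      _root_.mul_one, h1, _root_.mul_one]
  · rw [map_mul, show pb (lift (toUnit G ≫ η[G]) (𝟙 G)) (pb μ[G] f) =
      pb (lift (toUnit G ≫ η[G]) (𝟙 G)) (pb (fst G G) f * pb (snd G G) f) from ?_, ← map_mul, hw', map_one]
    rw [map_mul, ← pb_comp, ← pb_comp, ← pb_comp, lift_fst, lift_snd, ← Hom.one_def, ← Hom.mul_def,
      _root_.one_mul, h1, _root_.one_mul]

/-- Units on `G × X` are characters times units of `X`. -/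
theorem exists_character_mul [IsAlgClosed k] {G X : Over (Spec (CommRingCat.of k))} [GrpObj G]
    [LocallyOfFiniteType G.hom] [QuasiCompact G.hom] [ConnectedSpace G.left] [IsReduced G.left]
    [LocallyOfFiniteType X.hom] [QuasiCompact X.hom] [ConnectedSpace X.left] [IsReduced X.left]
    (f : Γ((G ⊗ X).left, ⊤)) (hf : IsUnit f) :
    ∃ (χ : Γ(G.left, ⊤)) (v : Γ(X.left, ⊤)), IsUnit χ ∧ pb η[G] χ = 1 ∧
      pb μ[G] χ = pb (fst G G) χ * pb (snd G G) χ ∧ IsUnit v ∧
      f = pb (fst G X) χ * pb (snd G X) v := by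
  obtain ⟨g, h, hg, hh, rfl⟩ := exists_split f hf
  obtain ⟨c', hc'⟩ := isUnit_iff_exists_inv.1 (hg.map (pb η[G]))
  let χ := g * pb (toUnit G) c'
  have hχ : IsUnit χ := hg.mul ((IsUnit.of_mul_eq_one_right _ hc').map _)
  have hχe : pb η[G] χ = 1 := by
    rw [map_mul, ← pb_comp, toUnit_unique (η[G] ≫ toUnit G) (𝟙 _), pb_id, hc']
  refine ⟨χ, h * pb (toUnit X) (pb η[G] g), hχ, hχe, isCharacter χ hχ hχe,
    hh.mul ((hg.map _).map _), ?_⟩
  simp only [χ, map_mul, ← pb_comp (fst G X) (toUnit G), ← pb_comp (snd G X) (toUnit X),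
    toUnit_unique (fst G X ≫ toUnit G) (toUnit _), toUnit_unique (snd G X ≫ toUnit X) (toUnit _)]
  have e : pb (toUnit (G ⊗ X)) c' * pb (toUnit (G ⊗ X)) (pb η[G] g) = 1 := by
    rw [← map_mul, _root_.mul_comm c', hc', map_one]
  linear_combination (-(pb (fst G X) g * pb (snd G X) h)) * e

end Groth.Agent.H19Grp.UnitsProd
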